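import Cfsg.Agent.E8A.Fix.Bor_m3
import Cfsg.Agent.H597.E8Form
import Cfsg.Agent.H955.L64.Irr
import Cfsg.Agent.FP3.Aff.Scott
import Cfsg.Agent.H65.E6Ext_m3
import Cfsg.Agent.E8A.Reg5.ClsKac_m3
import Cfsg.Agent.BpExc.AsmN_m3
import Cfsg.Agent.R2.T1.Five.Lin_m3
import Cfsg.Agent.H897.T5Inn
import Cfsg.Agent.H795.TorSub
import Cfsg.Agent.S1093
import Cfsg.Agent.FastGrp
import Cfsg.Agent.Prune
set_option linter.all false

section
prune_inst 0x7ffffdfabbbcf9dfffff7e7ffedfdffdd9bb9fffe6dff97bffe0e3ff1b9f138009e5fbade9e090fe1ef6e21410b87853fbffffffe86bfc7ffffd5ff41ffbee0ff5f73508519488341f380fff83f0778e7f3fffffffffffffffffffffffffffaeffbfffffffff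

-- part: E8A/Inf/Form
section
prune_inst 0x5004200000000018001000000260060000020068000080800a060ec1ad4120010021b6700010109294c460380040000000200000000000000400011900a088824200a248000c460007800000000000000000000000000000000000000000000000000
set_option linter.all false
open scoped Cfsg.Agent.FastGrp

/-!
# S5772, S5930: the invariant form, duality, Scott's lemma, change of fields (helper41)

* `kf K` : the invariant symmetric form, `kf_comm`, `kf_nd`, `kf_act`; `finrank_L8`;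
* `irr` : irreducibility; `blue` : the stabilizer of a proper `H`-stable subspace is the maximal subgroup `H`;
* `NoFx φ` : no fixed vectors; `com_top`, `scott`, `scott'` : Scott's lemma on the adjoint module;
* `ev_em`, `ev_em_one`, `ext_inv`, `finrank_inv_em`, `NoFx.em` : change of the field.
-/

set_option autoImplicit false
set_option maxRecDepth 100000

namespace Cfsg.Agent.E8A.Inf

open Cfsg Cfsg.Lie Module
open Matrix hiding J J_transpose
open Cfsg.Agent.H597.E8Form (J J_transpose isUnit_det inv_gen)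
open Cfsg.Agent.FP3 (dfx fixSp comSp mem_fixSp mem_comSp sub_mem_comSp)
open Cfsg.Agent.H952.F4 (ev es)
open Cfsg.Agent.H65.E6Emb (ext)

universe u v

variable {K : Type u} [Field K]

theorem finrank_L8 : finrank K (L8 K) = 248 := by
  rw [Module.finrank_fintype_fun_eq_card, Fintype.card_sum, Fintype.card_fin, Fintype.card_fin]
  rfl

theorem LK_eq (g : G8 K) : LK K g = Matrix.toLin' (mx g) := LinearMap.ext fun _ => rfl

theorem ev_one_eq {V : Type*} [AddCommGroup V] [Module K V] (u : Module.End K V) : ev u 1 = dfx u := by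
  rw [ev, Module.End.eigenspace_def, one_smul]
  rfl

theorem J_inv (g : G8 K) : (mx g).transpose * J K * mx g = J K := by
  let P : Subgroup (G8 K) :=
    { carrier := {g | (mx g).transpose * J K * mx g = J K}
      one_mem' := by
        show (mx (1 : G8 K)).transpose * J K * mx 1 = J K
        rw [mx_one, Matrix.transpose_one, Matrix.one_mul, Matrix.mul_one]
      mul_mem' := fun {a b} ha hb => by
        show (mx (a * b)).transpose * J K * mx (a * b) = J K
        have ha' : (mx a).transpose * J K * mx a = J K := ha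
        have hb' : (mx b).transpose * J K * mx b = J K := hb
        rw [mx_mul, Matrix.transpose_mul]
        calc (mx b).transpose * (mx a).transpose * J K * (mx a * mx b)
            = (mx b).transpose * ((mx a).transpose * J K * mx a) * mx b := by simp only [Matrix.mul_assoc]
          _ = J K := by rw [ha', hb']
      inv_mem' := fun {a} ha => by
        show (mx a⁻¹).transpose * J K * mx a⁻¹ = J K
        have ha' : (mx a).transpose * J K * mx a = J K := ha
        calc (mx a⁻¹).transpose * J K * mx a⁻¹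
            = (mx a⁻¹).transpose * ((mx a).transpose * J K * mx a) * mx a⁻¹ := by rw [ha']
          _ = (mx a * mx a⁻¹).transpose * J K * (mx a * mx a⁻¹) := by
              simp only [Matrix.transpose_mul, Matrix.mul_assoc]
          _ = J K := by rw [mx_mul_inv, Matrix.transpose_one, Matrix.one_mul, Matrix.mul_one] }
  have h : P = ⊤ := eq_top_of_xr fun r t => by
    show (mx (xr r t)).transpose * J K * mx (xr r t) = J K
    have h1 : mx (xr r t) = chevE8.xMat K r t := by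
      rw [mx_xr]
      exact Cfsg.Agent.ChevalleyStructure.Elts.x_of_lt r.isLt _
    rw [h1]
    exact inv_gen r t
  have h2 : g ∈ P := h ▸ Subgroup.mem_top g
  exact h2

variable (K) in
/-- the invariant form -/
noncomputable def kf : L8 K →ₗ[K] L8 K →ₗ[K] K := Matrix.toLinearMap₂' K (J K)

theorem kf_apply (x y : L8 K) : kf K x y = x ⬝ᵥ (J K *ᵥ y) := by
  rw [kf, Matrix.toLinearMap₂'_apply']

theorem kf_comm (x y : L8 K) : kf K x y = kf K y x := by
  rw [kf_apply, kf_apply, Matrix.dotProduct_mulVec, ← Matrix.mulVec_transpose, J_transpose, dotProduct_comm]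

theorem kf_nd {x : L8 K} (h : ∀ y, kf K x y = 0) : x = 0 := by
  have h1 : J K *ᵥ x = 0 := by
    funext i
    have h2 := h (Pi.single i 1)
    rw [kf_comm, kf_apply, single_dotProduct, one_mul] at h2
    exact h2
  exact Matrix.eq_zero_of_mulVec_eq_zero isUnit_det.ne_zero h1

theorem kf_act (g : G8 K) (x y : L8 K) : kf K (act g x) (act g y) = kf K x y := by
  rw [kf_apply, kf_apply, act, act, Matrix.mulVec_mulVec, Matrix.dotProduct_mulVec, Matrix.vecMul_mulVec,
    ← Matrix.mul_assoc, J_inv, Matrix.dotProduct_mulVec]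

theorem kf_act' (g : G8 K) (x y : L8 K) : kf K (act g x) y = kf K x (act g⁻¹ y) := by
  conv_lhs => rw [← act_inv' g y]
  exact kf_act g x _

theorem kf_nondeg : LinearMap.BilinForm.Nondegenerate (kf K) :=
  ⟨fun _ h => kf_nd h, fun _ h => kf_nd fun y => (kf_comm _ _).trans (h y)⟩

/-- a subspace with zero orthogonal is everything -/
theorem eq_top_of_perp {W : Submodule K (L8 K)} (h : ∀ x, (∀ w ∈ W, kf K w x = 0) → x = 0) : W = ⊤ := by
  have h1 : LinearMap.BilinForm.orthogonal (kf K) W = ⊥ := by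
    rw [eq_bot_iff]
    intro x hx
    exact h x fun w hw => hx w hw
  have h2 := LinearMap.BilinForm.finrank_orthogonal (kf_nondeg (K := K)) W
  rw [h1, finrank_bot] at h2
  apply Submodule.eq_top_of_finrank_eq
  have h3 := Submodule.finrank_le W
  omega

theorem finrank_perp (W : Submodule K (L8 K)) :
    finrank K ↥(LinearMap.BilinForm.orthogonal (kf K) W) + finrank K ↥W = 248 := by
  have h2 := LinearMap.BilinForm.finrank_orthogonal (kf_nondeg (K := K)) W
  have h3 := Submodule.finrank_le W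
  rw [finrank_L8] at h2 h3
  omega

/-- irreducibility -/
theorem irr {W : Submodule K (L8 K)} (hW : ∀ g : G8 K, ∀ w ∈ W, act g w ∈ W) : W = ⊥ ∨ W = ⊤ := by
  refine Cfsg.Agent.H955.L64.irr_gen W fun r w hw => ?_
  have h1 : mx (xr r (1 : K)) = chevE8.xMat K r 1 := by
    rw [mx_xr]
    exact Cfsg.Agent.ChevalleyStructure.Elts.x_of_lt r.isLt _
  rw [← h1]
  exact hW _ w hw

/-! ### Scott's lemma -/

section scott

variable {A : Type v} [Group A]

/-- the restriction of the adjoint module -/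
noncomputable abbrev rp (φ : A →* G8 K) : Representation K A (L8 K) := (LK K).comp φ

theorem rp_apply (φ : A →* G8 K) (a : A) (v : L8 K) : rp φ a v = act (φ a) v := rfl

/-- no fixed vectors -/
def NoFx (φ : A →* G8 K) : Prop := ∀ v : L8 K, (∀ a, act (φ a) v = v) → v = 0

theorem perp_comSp (g : G8 K) (x : L8 K) : (∀ w ∈ comSp (LK K g), kf K w x = 0) ↔ act g x = x := by
  constructor
  · intro h
    have h1 : act g⁻¹ x - x = 0 := by
      refine kf_nd fun y => ?_
      have h2 := h _ (sub_mem_comSp (LK K g) y)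
      rw [LK_apply, map_sub, LinearMap.sub_apply, kf_act'] at h2
      rw [kf_comm, map_sub, h2]
    conv_lhs => rw [← sub_eq_zero.1 h1]
    exact act_inv' g x
  · intro h w hw
    obtain ⟨y, rfl⟩ := mem_comSp.1 hw
    rw [LK_apply, map_sub, LinearMap.sub_apply]
    conv_lhs => rw [← h]
    rw [kf_act, h, sub_self]

/-- the fixed space of two elements is the orthogonal of the sum of the commutator spaces -/
theorem perp_sup (x y : G8 K) : LinearMap.BilinForm.orthogonal (kf K) (comSp (LK K x) ⊔ comSp (LK K y)) =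
    fixSp (LK K x) ⊓ fixSp (LK K y) := by
  ext v
  rw [Submodule.mem_inf, mem_fixSp, mem_fixSp, LK_apply, LK_apply, ← perp_comSp, ← perp_comSp]
  constructor
  · intro h
    exact ⟨fun w hw => h w (Submodule.mem_sup_left hw), fun w hw => h w (Submodule.mem_sup_right hw)⟩
  · rintro ⟨h1, h2⟩ w hw
    obtain ⟨a, ha, b, hb, rfl⟩ := Submodule.mem_sup.1 hw
    show kf K (a + b) v = 0
    rw [map_add, LinearMap.add_apply, h1 a ha, h2 b hb, add_zero]

/-- **Scott's lemma** with the fixed vectors -/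
theorem scott' (x y : G8 K) : ev (LK K x) 1 + ev (LK K y) 1 + ev (LK K (x * y)) 1 ≤
    248 + 2 * finrank K ↥(fixSp (LK K x) ⊓ fixSp (LK K y)) := by
  have h1 := Cfsg.Agent.FP3.scott' (LK K x) (LK K y)
  have h2 := finrank_perp (comSp (LK K x) ⊔ comSp (LK K y))
  rw [perp_sup] at h2
  rw [finrank_L8, ← map_mul] at h1
  rw [ev_one_eq, ev_one_eq, ev_one_eq]
  omega

theorem fix_of_gen {φ : A →* G8 K} {S : Set A} (hS : Subgroup.closure S = ⊤) {v : L8 K}
    (h : ∀ a ∈ S, act (φ a) v = v) (a : A) : act (φ a) v = v := by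
  have h1 : Subgroup.closure S ≤ (stab v).comap φ := (Subgroup.closure_le _).2 fun b hb => h b hb
  exact h1 (hS ▸ Subgroup.mem_top a)

/-- **Scott's lemma** -/
theorem scott {φ : A →* G8 K} (hφ : NoFx φ) {x y : A} (hxy : Subgroup.closure ({x, y} : Set A) = ⊤) :
    ev (rp φ x) 1 + ev (rp φ y) 1 + ev (rp φ (x * y)) 1 ≤ 248 := by
  have h1 := scott' (φ x) (φ y)
  have h2 : fixSp (LK K (φ x)) ⊓ fixSp (LK K (φ y)) = ⊥ := by
    rw [eq_bot_iff]
    intro v hv
    refine hφ v (fix_of_gen hxy ?_)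
    rintro a (rfl | rfl)
    · exact mem_fixSp.1 hv.1
    · exact mem_fixSp.1 hv.2
  rw [h2, finrank_bot, ← map_mul] at h1
  exact h1

theorem com_top {φ : A →* G8 K} (hφ : NoFx φ) : ⨆ a, comSp (rp φ a) = ⊤ :=
  eq_top_of_perp fun x hx => hφ x fun a => (perp_comSp (φ a) x).1 fun w hw =>
    hx w (Submodule.mem_iSup_of_mem a hw)

theorem NoFx.inv {φ : A →* G8 K} (hφ : NoFx φ) : (rp φ).invariants = ⊥ := by
  rw [eq_bot_iff]
  intro v hv
  exact hφ v fun a => hv a

theorem noFx_of_inv {φ : A →* G8 K} (h : (rp φ).invariants = ⊥) : NoFx φ := fun v hv => by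
  have h1 : v ∈ (rp φ).invariants := fun a => hv a
  rwa [h] at h1

/-- invariant functionals -/
theorem NoFx.dual {φ : A →* G8 K} (hφ : NoFx φ) (f : L8 K →ₗ[K] K) (hf : ∀ a v, f (act (φ a) v) = f v) : f = 0 := by
  have h1 : (⊤ : Submodule K (L8 K)) ≤ LinearMap.ker f := by
    rw [← com_top hφ]
    refine iSup_le fun a w hw => ?_
    obtain ⟨y, rfl⟩ := mem_comSp.1 hw
    rw [LinearMap.mem_ker, map_sub, rp_apply, hf, sub_self]
  exact LinearMap.ext fun v => h1 Submodule.mem_top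

end scott

/-! ### change of the field -/

section chg

variable {F : Type v} [Field F] (f : F →+* K)

theorem ev_em (g : G8 F) (μ : F) : ev (LK K (em f g)) (f μ) = ev (LK F g) μ := by
  rw [LK_eq, LK_eq, mx_em]
  exact Cfsg.Agent.H815.F4Chg.ev_map f _ μ

theorem ev_em_one (g : G8 F) : ev (LK K (em f g)) 1 = ev (LK F g) 1 := by
  rw [← ev_em f g 1, map_one]

variable {A : Type*} [Group A]

theorem ext_inv (φ : A →* G8 F) : ext f (rp φ).invariants = (rp ((em f).comp φ)).invariants := by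
  apply le_antisymm
  · refine Cfsg.Agent.H65.E6Emb.ext_le fun x hx a => ?_
    have h1 : act (φ a) x = x := hx a
    have h2 := act_em f (φ a) x
    rw [h1] at h2
    exact h2
  · intro y hy
    exact Cfsg.Agent.H65.E6Emb.mem_ext_fixed (fun a => mx (φ a)) (rp φ).invariants
      (fun x hx => show ∀ a, rp φ a x = x from hx) fun a => hy a

theorem finrank_inv_em (φ : A →* G8 F) :
    finrank K ↥(rp ((em f).comp φ)).invariants = finrank F ↥(rp φ).invariants := by
  rw [← ext_inv, Cfsg.Agent.H65.E6Emb.finrank_ext]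

theorem NoFx.em {φ : A →* G8 F} (hφ : NoFx φ) : NoFx ((em f).comp φ) := by
  apply noFx_of_inv
  rw [← ext_inv, hφ.inv, Cfsg.Agent.H65.E6Emb.ext_bot]

end chg

end Cfsg.Agent.E8A.Inf

private theorem dce_008fd09e3446 : _root_.True := by
  try have : _root_.True := by simp only [_root_.Cfsg.Agent.E8A.Inf.kf.eq_1]
  try have : _root_.True := by simp only [_root_.Cfsg.Agent.E8A.act.eq_1]
  exact _root_.True.intro
end

-- part: E8A/Inf/Pat
section
prune_inst 0x5404206200000000001202000260420000920008000040800a060e812c2000002060b2300010908000842038004000000100400000000a000000011c0080000210041100a004200000000000000000000000000000000000000000010000000000000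
set_option linter.all false
open scoped Cfsg.Agent.FastGrp

/-!
# S5772, S5930: multiplicities of the eigenvalues of the semisimple elements on the adjoint module (helper41)

* `pk N y` : the multiplicities of `1, ζ, ζ², …` of the torus element with Kac coordinates `y`, as digits in base 256;
* `pw N n d k` : the multiplicity of `ζ ^ k` for the `d`-th power; `Cj.ev_pow`;
* `exists_pk` : over the algebraic closure; `patF` : over the finite field, with the rationality conditions `rat N n a`.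
-/

set_option autoImplicit false
set_option maxRecDepth 100000

namespace Cfsg.Agent.E8A.Inf

open Cfsg Cfsg.Lie Module
open Cfsg.Agent.H952.F4 (ev es)
open Cfsg.Agent.H288.E8L (Q8 wt wt_inl wt_inr)
open Cfsg.Agent.H944.Tab (dotN sumH allAlc hh sumH_eq sum_ms dotF dotN_eq allAlc_spec)
open Cfsg.Agent.H944.RootVals (ms)
open Cfsg.Agent.H942.E8Tab (R8 th8 tab8 len8)
open Cfsg.Agent.E8A.Reg5.Cls (ex dz Cj kac exists_prim)
open Cfsg.Agent.ChevalleyStructure.CoxeterGeomTypes Cfsg.Agent.ChevalleyStructure.RootVec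
  Cfsg.Agent.ChevalleyStructure.RootVecTab Cfsg.Agent.Nodes.RGDChev Cfsg.Agent.Nodes.Reps

universe u v

/-- the vector of a list -/
def toQ (y : List ℕ) : Q8 := fun i => ((y.getD i 0 : ℕ) : ℤ)

/-- the multiplicities as digits -/
def pk (N : ℕ) (y : List ℕ) : ℕ := 8 + sumH (hh N) R8 y

/-- digits -/
def dg (n k : ℕ) : ℕ := n / 256 ^ k % 256

/-- the sum of the digits `j < m` with `d j = k` modulo `N` -/
def pwA (N n d k : ℕ) : ℕ → ℕ
  | 0 => 0
  | m + 1 => (bif Nat.beq (d * m % N) k then dg n m else 0) + pwA N n d k m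

/-- the multiplicity of `ζ ^ k` for the `d`-th power -/
def pw (N n d k : ℕ) : ℕ := pwA N n d k N

/-- the `a`-th power has the same multiplicities -/
def rat (N n a : ℕ) : Bool := (List.range N).all fun k => Nat.beq (pw N n a k) (dg n k)

theorem pwA_eq (N n d k m : ℕ) : pwA N n d k m = ∑ j ∈ Finset.range m, if d * j % N = k then dg n j else 0 := by
  induction m with
  | zero => rfl
  | succ m ih =>
    rw [pwA, ih, Finset.sum_range_succ, add_comm]
    congr 1
    by_cases h : d * m % N = k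
    · rw [if_pos h, h, Nat.beq_refl, cond_true]
    · rw [if_neg h, Bool.eq_false_iff.2 fun h' => h (Nat.eq_of_beq_eq_true h'), cond_false]

theorem pw_one {N n k : ℕ} (hk : k < N) : pw N n 1 k = dg n k := by
  rw [pw, pwA_eq, Finset.sum_eq_single k]
  · rw [one_mul, Nat.mod_eq_of_lt hk, if_pos rfl]
  · intro j hj hjk
    rw [one_mul, Nat.mod_eq_of_lt (Finset.mem_range.1 hj), if_neg hjk]
  · intro h
    exact absurd (Finset.mem_range.2 hk) h

theorem dg_sum (c : ℕ → ℕ) (hc : ∀ k, c k < 256) : ∀ (N k : ℕ), k < N →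
    dg (∑ j ∈ Finset.range N, c j * 256 ^ j) k = c k := by
  intro N
  induction N generalizing c with
  | zero => intro k hk; omega
  | succ N ih =>
    intro k hk
    have h1 : ∑ j ∈ Finset.range (N + 1), c j * 256 ^ j =
        c 0 + 256 * ∑ j ∈ Finset.range N, c (j + 1) * 256 ^ j := by
      rw [Finset.sum_range_succ', Finset.mul_sum, add_comm, pow_zero, mul_one]
      congr 1
      exact Finset.sum_congr rfl fun j _ => by ring
    rw [h1]
    rcases k with _ | k
    · rw [dg, pow_zero, Nat.div_one, Nat.add_mul_mod_self_left, Nat.mod_eq_of_lt (hc 0)]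
    · have h2 := ih (fun j => c (j + 1)) (fun j => hc _) k (by omega)
      rw [dg] at h2 ⊢
      rw [pow_succ', ← Nat.div_div_eq_div_mul, Nat.add_mul_div_left _ _ (by norm_num), Nat.div_eq_of_lt (hc 0),
        zero_add, h2]

/-- the exponent modulo `N` -/
def exN (N : ℕ) (y : List ℕ) (j : chevE8.Idx) : ZMod N := ((ex (toQ y) (wt j) : ℤ) : ZMod N)

theorem sum_idx {N : ℕ} {A : Type*} [AddCommMonoid A] (y : List ℕ) (f : ZMod N → A) :
    ∑ j : chevE8.Idx, f (exN N y j) =
      8 • f 0 + (R8.map fun r => f ((dotN r y : ℕ) : ZMod N) + f (-((dotN r y : ℕ) : ZMod N))).sum := by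
  rw [Fintype.sum_sum_type]
  congr 1
  · have h1 : ∀ i : Fin chevE8.rank, f (exN N y (Sum.inl i)) = f 0 := fun i => by
      rw [exN, wt_inl, Reg5.Cls.ex_zero, Int.cast_zero]
    rw [Finset.sum_congr rfl fun i _ => h1 i, Finset.sum_const, Finset.card_univ, Fintype.card_fin]
    rfl
  · have h1 := sum_ms tab8 (fun i : Fin 8 => ((y.getD i 0 : ℕ) : ZMod N)) f
    rw [ms, Multiset.map_map] at h1
    have h2 : ∑ s : Fin chevE8.nroots, f (exN N y (Sum.inr s)) =
        ∑ s : Fin chevE8.nroots, f (∑ i, (vec chevE8 8 s i : ZMod N) * ((y.getD i 0 : ℕ) : ZMod N)) := by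
      refine Finset.sum_congr rfl fun s _ => ?_
      rw [exN, wt_inr, ex]
      congr 1
      simp only [toQ]
      push_cast
      rfl
    rw [h2]
    refine Eq.trans h1 (congrArg List.sum (List.map_congr_left fun r hr => ?_))
    have h3 : dotF (l := 8) r (fun i : Fin 8 => ((y.getD i 0 : ℕ) : ZMod N)) = ((dotN r y : ℕ) : ZMod N) := by
      rw [dotN_eq 8 r y (len8 r hr), dotF]
      push_cast
      rfl
    rw [h3]

/-- the number of weights with a given exponent -/
def cn (N : ℕ) (y : List ℕ) (k : ℕ) : ℕ := (Finset.univ.filter fun j : chevE8.Idx => (exN N y j).val = k).card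

theorem cn_lt (N : ℕ) (y : List ℕ) (k : ℕ) : cn N y k < 256 := by
  have h1 : cn N y k ≤ Fintype.card chevE8.Idx := Finset.card_le_univ _
  have h2 : Fintype.card chevE8.Idx = 248 := by
    rw [Fintype.card_sum, Fintype.card_fin, Fintype.card_fin]
    rfl
  omega

theorem sum_cn {N : ℕ} (hN : N ≠ 0) (y : List ℕ) (f : ℕ → ℕ) :
    ∑ j : chevE8.Idx, f (exN N y j).val = ∑ k ∈ Finset.range N, cn N y k * f k := by
  have : NeZero N := ⟨hN⟩
  rw [← Finset.sum_fiberwise_of_maps_to (s := Finset.univ) (t := Finset.range N) (g := fun j => (exN N y j).val)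
    fun j _ => Finset.mem_range.2 (ZMod.val_lt _)]
  refine Finset.sum_congr rfl fun k _ => ?_
  rw [Finset.sum_congr rfl fun j hj => by rw [(Finset.mem_filter.1 hj).2], Finset.sum_const, smul_eq_mul, cn]

theorem pk_eq {N : ℕ} (hN : N ≠ 0) (y : List ℕ) : pk N y = ∑ k ∈ Finset.range N, cn N y k * 256 ^ k := by
  have : NeZero N := ⟨hN⟩
  rw [← sum_cn hN, sum_idx y fun a => 256 ^ a.val, pk, sumH_eq, ZMod.val_zero, pow_zero]
  refine congrArg₂ (· + ·) rfl (congrArg List.sum (List.map_congr_left fun r _ => ?_))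
  rw [hh, ZMod.neg_val', ZMod.val_natCast]

theorem dg_pk {N : ℕ} (y : List ℕ) {k : ℕ} (hk : k < N) : dg (pk N y) k = cn N y k := by
  rw [pk_eq (by omega), dg_sum _ (cn_lt N y) N k hk]

theorem pw_pk {N : ℕ} (hN : N ≠ 0) (y : List ℕ) (d k : ℕ) :
    pw N (pk N y) d k = (Finset.univ.filter fun j : chevE8.Idx => d * (exN N y j).val % N = k).card := by
  rw [pw, pwA_eq, Finset.card_filter, sum_cn hN y fun a => if d * a % N = k then 1 else 0]
  refine Finset.sum_congr rfl fun j hj => ?_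
  rw [dg_pk y (Finset.mem_range.1 hj)]
  split_ifs <;> simp

section

variable {K : Type u} [Field K]

theorem ev_diagonal {n : Type*} [Fintype n] [DecidableEq n] [DecidableEq K] (c : n → K) (μ : K) :
    ev (Matrix.toLin' (Matrix.diagonal c)) μ = (Finset.univ.filter fun j => c j = μ).card := by
  have h1 := Cfsg.Agent.H815.F4Chg.ev_toLin (Matrix.diagonal c) μ
  have h2 : Matrix.diagonal c - μ • (1 : Matrix n n K) = Matrix.diagonal fun j => c j - μ := by
    rw [← Matrix.diagonal_one, ← Matrix.diagonal_smul, Matrix.diagonal_sub]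
    congr 1
    funext j
    simp
  rw [h2, Matrix.rank_diagonal, Fintype.card_subtype] at h1
  have h3 := Finset.card_filter_add_card_filter_not (s := (Finset.univ : Finset n)) fun j => c j = μ
  have h4 : (Finset.univ.filter fun j => c j - μ ≠ 0) = Finset.univ.filter fun j => ¬ c j = μ :=
    Finset.filter_congr fun j _ => by rw [Ne, sub_eq_zero]
  rw [Finset.card_univ] at h3
  rw [h4] at h1
  omega

theorem ev_le_of_semi {V : Type*} [AddCommGroup V] [Module K V] [FiniteDimensional K V] {u v e : Module.End K V}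
    (he : Function.Injective e) (h : u * e = e * v) (μ : K) : ev v μ ≤ ev u μ := by
  have h1 : ∀ w ∈ v.eigenspace μ, e w ∈ u.eigenspace μ := by
    intro w hw
    rw [Module.End.mem_eigenspace_iff] at hw ⊢
    rw [← Module.End.mul_apply, h, Module.End.mul_apply, hw, map_smul]
  refine LinearMap.finrank_le_finrank_of_injective (f := e.restrict h1) fun a b hab => ?_
  exact Subtype.ext (he (congrArg Subtype.val hab))

theorem ev_of_semi {g c : G8 K} {D : Matrix chevE8.Idx chevE8.Idx K} (hc : mx g * mx c = mx c * D) (μ : K) :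
    ev (LK K g) μ = ev (Matrix.toLin' D) μ := by
  have h1 : LK K g * LK K c = LK K c * Matrix.toLin' D := by
    rw [LK_eq, LK_eq, Module.End.mul_eq_comp, Module.End.mul_eq_comp, ← Matrix.toLin'_mul, ← Matrix.toLin'_mul, hc]
  have h2 : Matrix.toLin' D * LK K c⁻¹ = LK K c⁻¹ * LK K g := by
    calc Matrix.toLin' D * LK K c⁻¹ = LK K c⁻¹ * (LK K c * Matrix.toLin' D) * LK K c⁻¹ := by
          rw [← mul_assoc, ← map_mul, inv_mul_cancel, map_one, one_mul]
      _ = LK K c⁻¹ * LK K g := by rw [← h1, mul_assoc, mul_assoc, ← map_mul, mul_inv_cancel, map_one, mul_one]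
  exact le_antisymm (ev_le_of_semi (act_injective c⁻¹) h2 μ) (ev_le_of_semi (act_injective c) h1 μ)

theorem ev_conj (c g : G8 K) (μ : K) : ev (LK K (c * g * c⁻¹)) μ = ev (LK K g) μ := by
  rw [ev_of_semi (c := c) (D := mx g) (by rw [← mx_mul, ← mx_mul, inv_mul_cancel_right]), LK_eq]

theorem ev_isConj {g h : G8 K} (hc : IsConj g h) (μ : K) : ev (LK K h) μ = ev (LK K g) μ := by
  obtain ⟨c, rfl⟩ := isConj_iff.1 hc
  exact ev_conj c g μ

theorem mx_pow (g : G8 K) (d : ℕ) : mx (g ^ d) = mx g ^ d := by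
  induction d with
  | zero => rw [pow_zero, pow_zero, mx_one]
  | succ d ih => rw [pow_succ, pow_succ, mx_mul, ih]

theorem cj_ev_pow {ζ : K} {N : ℕ} (hζ : IsPrimitiveRoot ζ N) (hN : N ≠ 0) {g : G8 K} {y : List ℕ}
    (h : Cj g ζ (toQ y)) (d : ℕ) {k : ℕ} (hk : k < N) : ev (LK K (g ^ d)) (ζ ^ k) = pw N (pk N y) d k := by
  classical
  have : NeZero N := ⟨hN⟩
  obtain ⟨c, hc⟩ := h
  have h1 : mx (g ^ d) * mx c = mx c * dz ζ (toQ y) ^ d := by
    rw [mx_pow]
    exact (SemiconjBy.pow_right (a := mx c) (x := dz ζ (toQ y)) (y := mx g) hc.symm d).symm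
  rw [ev_of_semi h1, dz, Matrix.diagonal_pow, ev_diagonal, pw_pk hN]
  congr 1
  refine Finset.filter_congr fun j _ => ?_
  have h2 : ζ ^ ex (toQ y) (wt j) = ζ ^ (exN N y j).val := by
    have h3 : (N : ℤ) ∣ ex (toQ y) (wt j) - ((exN N y j).val : ℤ) := by
      rw [← ZMod.intCast_zmod_eq_zero_iff_dvd]
      push_cast
      rw [ZMod.natCast_zmod_val, exN, sub_self]
    have h4 := (hζ.zpow_eq_one_iff_dvd _).2 h3
    have h0 := hζ.ne_zero hN
    rwa [zpow_sub₀ h0, div_eq_one_iff_eq (zpow_ne_zero _ h0), zpow_natCast] at h4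
  rw [Pi.pow_apply, h2, ← pow_mul, mul_comm]
  constructor
  · intro h5
    refine hζ.pow_inj (Nat.mod_lt _ (Nat.pos_of_ne_zero hN)) hk ?_
    rw [← h5, ← pow_eq_pow_mod _ hζ.pow_eq_one]
  · intro h5
    rw [← h5, ← pow_eq_pow_mod _ hζ.pow_eq_one]

theorem cj_rat {ζ : K} {N : ℕ} (hζ : IsPrimitiveRoot ζ N) (hN : N ≠ 0) {g : G8 K} {y : List ℕ}
    (h : Cj g ζ (toQ y)) {a : ℕ} (ha : IsConj g (g ^ a)) : rat N (pk N y) a = true := by
  rw [rat, List.all_eq_true]
  intro k hk
  have hk' := List.mem_range.1 hk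
  rw [← cj_ev_pow hζ hN h a hk', ← pw_one hk', ← cj_ev_pow hζ hN h 1 hk', pow_one, ev_isConj ha, Nat.beq_refl]

end

section

variable {F : Type u} [Field F] [Finite F]

theorem exists_char' {N : ℕ} (hN : (N : F) ≠ 0) : ∃ p : ℕ, ∃ _ : Fact p.Prime, ∃ _ : CharP F p, N.Coprime p := by
  obtain ⟨p, hp, hF⟩ := exists_char F
  refine ⟨p, ⟨hp⟩, hF, (hp.coprime_iff_not_dvd.2 fun h => hN ?_).symm⟩
  exact (CharP.cast_eq_zero_iff F p N).2 h

theorem exists_root {N : ℕ} (hN : (N : F) ≠ 0) : ∃ ζ : Kb F, IsPrimitiveRoot ζ N := by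
  obtain ⟨p, _, _, hp⟩ := exists_char' hN
  exact exists_prim p hp

/-- **Kac coordinates** as a list -/
theorem exists_cj {N : ℕ} (hN : (N : F) ≠ 0) {ζ : Kb F} (hζ : IsPrimitiveRoot ζ N) {g : G8 (Kb F)} (hg : g ^ N = 1) :
    ∃ y : List ℕ, y.length = 8 ∧ dotN th8 y ≤ N ∧ Cj g ζ (toQ y) := by
  obtain ⟨p, _, _, hp⟩ := exists_char' hN
  have hN0 : N ≠ 0 := by
    rintro rfl
    exact hN Nat.cast_zero
  obtain ⟨y, hy, hc⟩ := kac p hN0 hp hζ hg
  refine ⟨[y 0, y 1, y 2, y 3, y 4, y 5, y 6, y 7], rfl, ?_, ?_⟩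
  · simp only [th8, dotN]
    omega
  · have h1 : toQ [y 0, y 1, y 2, y 3, y 4, y 5, y 6, y 7] = fun i => (y i : ℤ) := by
      funext i
      fin_cases i <;> rfl
    rwa [h1]

theorem of_allAlc {N : ℕ} {P : List ℕ → Bool} (hP : allAlc th8 N P = true) {y : List ℕ} (h1 : y.length = 8)
    (h2 : dotN th8 y ≤ N) : P y = true :=
  allAlc_spec th8 N P (by decide) hP y h1 h2

/-- the multiplicities over the algebraic closure -/
theorem exists_pk {N : ℕ} (hN : (N : F) ≠ 0) {ζ : Kb F} (hζ : IsPrimitiveRoot ζ N) {g : G8 (Kb F)} (hg : g ^ N = 1)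
    {P : ℕ → Bool} (hP : allAlc th8 N (fun y => P (pk N y)) = true) :
    ∃ n, P n = true ∧ (∀ d k, k < N → ev (LK (Kb F) (g ^ d)) (ζ ^ k) = pw N n d k) ∧
      ∀ a, IsConj g (g ^ a) → rat N n a = true := by
  have hN0 : N ≠ 0 := by
    rintro rfl
    exact hN Nat.cast_zero
  obtain ⟨y, h1, h2, h3⟩ := exists_cj hN hζ hg
  exact ⟨pk N y, of_allAlc hP h1 h2, fun d k hk => cj_ev_pow hζ hN0 h3 d hk, fun a ha => cj_rat hζ hN0 h3 ha⟩

/-- the dimensions of the fixed spaces of the powers, over the finite field -/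
theorem patF {N : ℕ} (hN : (N : F) ≠ 0) {x : G8 F} (hx : x ^ N = 1)
    {P : ℕ → Bool} (hP : allAlc th8 N (fun y => P (pk N y)) = true) :
    ∃ n, P n = true ∧ (∀ d, ev (LK F (x ^ d)) 1 = pw N n d 0) ∧ ∀ a, IsConj x (x ^ a) → rat N n a = true := by
  have hN0 : N ≠ 0 := by
    rintro rfl
    exact hN Nat.cast_zero
  obtain ⟨ζ, hζ⟩ := exists_root hN
  obtain ⟨n, h1, h2, h3⟩ := exists_pk hN hζ (g := emb0 x) (by rw [← map_pow, hx, map_one]) hP
  refine ⟨n, h1, fun d => ?_, fun a ha => h3 a ?_⟩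
  · rw [← h2 d 0 (Nat.pos_of_ne_zero hN0), pow_zero, ← map_pow, emb0, ev_em_one]
  · rw [← map_pow]
    exact emb0.map_isConj ha

omit [Finite F] in
theorem eq_one_of_ev {x : G8 F} (h : ev (LK F x) 1 = 248) : x = 1 := by
  have h1 : Module.End.eigenspace (LK F x) 1 = ⊤ :=
    Submodule.eq_top_of_finrank_eq (by rw [finrank_L8]; exact h)
  apply mx_injective
  rw [mx_one]
  ext i j
  have h2 : ee F j ∈ Module.End.eigenspace (LK F x) 1 := h1 ▸ Submodule.mem_top
  rw [Module.End.mem_eigenspace_iff, one_smul, LK_apply] at h2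
  rw [← act_ee, h2, ee_apply, Matrix.one_apply]

omit [Finite F] in
theorem ev_one : ev (LK F 1) 1 = 248 := by
  rw [map_one, ev, Module.End.eigenspace_def, one_smul, sub_self, LinearMap.ker_zero, finrank_top, finrank_L8]

end

end Cfsg.Agent.E8A.Inf

private theorem dce_1300702fc77d : _root_.True := by
  try have : _root_.True := by simp only [_root_.Cfsg.Agent.E8A.Inf.dg.eq_1]
  try have : _root_.True := by simp only [_root_.Cfsg.Agent.H944.RootVals.ms.eq_1]
  try have : _root_.True := by simp only [_root_.Cfsg.Agent.H944.Tab.dotF.eq_1]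
  try have : _root_.True := by simp only [_root_.Cfsg.Agent.E8A.Inf.pwA.eq_1]
  try have : _root_.True := by simp only [_root_.Cfsg.Agent.E8A.Inf.cn.eq_1]
  try have : _root_.True := by simp only [_root_.Cfsg.Agent.E8A.Inf.rat.eq_1]
  try have : _root_.True := by simp only [_root_.Cfsg.Agent.E8A.Inf.exN.eq_1]
  try have : _root_.True := by simp only [_root_.Cfsg.Agent.E8A.Inf.pwA.eq_def]
  try have : _root_.True := by simp only [_root_.Cfsg.Agent.E8A.Inf.pk.eq_1]
  try have : _root_.True := by simp only [_root_.Cfsg.Agent.E8A.Inf.toQ.eq_1]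
  try have : _root_.True := by simp only [_root_.Cfsg.Agent.E8A.Inf.pwA.eq_2]
  try have : _root_.True := by simp only [_root_.Cfsg.Agent.E8A.emb0.eq_1]
  try have : _root_.True := by simp only [_root_.Cfsg.Agent.E8A.Inf.pw.eq_1]
  exact _root_.True.intro
end

-- part: E8A/Inf/Tab
section
set_option linter.all false
open scoped Cfsg.Agent.FastGrp

/-!
# S5772, S5930: tables of the dimensions of the fixed spaces on the adjoint module (helper41)

* `chk N rs ds T`, `tab` : `x ^ N = 1`, `x` conjugate to `x ^ a` for `a ∈ rs`: the list of the `ev (LK F (x ^ d)) 1`, `d ∈ ds`,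
  is in `T`;
* `T2`, `T3`, … : the tables; `two`, `three`, `five`, `five_rat`, `seven_rat`, … ;
* `ge_p` : elements of order `p`.
-/

set_option autoImplicit false
set_option maxRecDepth 100000

namespace Cfsg.Agent.E8A.Inf

open Cfsg Cfsg.Lie Module
open Cfsg.Agent.H952.F4 (ev es)
open Cfsg.Agent.H944.Tab (allAlc)
open Cfsg.Agent.H942.E8Tab (th8)

universe u

/-- the test for one point of the alcove -/
def ok (N : ℕ) (rs ds : List ℕ) (T : List (List ℕ)) (n : ℕ) : Bool :=
  !(rs.all (rat N n)) || T.contains (ds.map fun d => pw N n d 0)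

/-- the test -/
def chk (N : ℕ) (rs ds : List ℕ) (T : List (List ℕ)) : Bool := allAlc th8 N fun y => ok N rs ds T (pk N y)

theorem tab {F : Type u} [Field F] [Finite F] {N : ℕ} {rs ds : List ℕ} {T : List (List ℕ)} (h : chk N rs ds T = true)
    (hN : (N : F) ≠ 0) {x : G8 F} (hx : x ^ N = 1) (hr : ∀ a ∈ rs, IsConj x (x ^ a)) :
    (ds.map fun d => ev (LK F (x ^ d)) 1) ∈ T := by
  obtain ⟨n, h1, h2, h3⟩ := patF hN hx (P := ok N rs ds T) h
  have h4 : rs.all (rat N n) = true := List.all_eq_true.2 fun a ha => h3 a (hr a ha)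
  rw [ok, h4, Bool.not_true, Bool.false_or, List.contains_iff_mem] at h1
  simpa only [h2] using h1

section
open Cfsg.Agent.H944.Tab (dotN sumH hh)

private noncomputable def fS (x : ℕ) (f : ℕ → ℕ) : ℕ := Nat.rec (f 0) (fun n _ => f (Nat.succ n)) x

private noncomputable def zpS (B : ℕ) (r : List ℕ) : List ℕ → List ℕ :=
  List.rec (fun c => c.map (Nat.mul B)) (fun a _ ih c => Nat.add a (Nat.mul B (c.headD 0)) :: ih c.tail) r

private noncomputable def colS (B : ℕ) (R : List (List ℕ)) : List ℕ := List.rec [] (fun r _ ih => zpS B r ih) R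

private noncomputable def pkS (B : ℕ) (y : List ℕ) (R : List (List ℕ)) : ℕ :=
  List.rec 0 (fun r _ ih => dotN r y + B * ih) R

private noncomputable def dgS (h : ℕ → ℕ) (R : List (List ℕ)) : ℕ → ℕ :=
  List.rec (fun _ => 0) (fun _ _ ih D => Nat.add (fS (Nat.mod D 1048576) h) (ih (Nat.div D 1048576))) R

private noncomputable def sumS (h : ℕ → ℕ) (R : List (List ℕ)) (y : List ℕ) : ℕ :=
  cond (Nat.blt (dotN (colS 1 R) y) 1048576) (dgS h R (dotN (colS 1048576 R) y)) (sumH h R y)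

private theorem zpS_dot (B : ℕ) (r : List ℕ) : ∀ c y : List ℕ, dotN (zpS B r c) y = dotN r y + B * dotN c y := by
  have d0 : ∀ y, dotN [] y = 0 := fun y => by cases y <;> rfl
  have d1 : ∀ y, dotN y [] = 0 := fun y => by cases y <;> rfl
  have h0 : ∀ (B : ℕ) (c y : List ℕ), dotN (c.map (Nat.mul B)) y = B * dotN c y := fun B c => by
    induction c with
    | nil => exact fun y => (d0 y).trans (by rw [d0]; rfl)
    | cons b c ih =>
      intro y
      cases y with
      | nil => exact (d1 _).trans (by rw [d1]; rfl)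
      | cons x y =>
        show B * b * x + dotN (c.map (Nat.mul B)) y = B * (b * x + dotN c y)
        rw [ih, Nat.mul_add, Nat.mul_assoc]
  induction r with
  | nil => exact fun c y => (h0 B c y).trans (by rw [d0, Nat.zero_add])
  | cons a r ih =>
    intro c y
    cases y with
    | nil => rw [d1, d1, d1]; rfl
    | cons x y =>
      show (a + B * c.headD 0) * x + dotN (zpS B r c.tail) y = a * x + dotN r y + B * dotN c (x :: y)
      rw [ih]
      cases c with
      | nil =>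
        show (a + B * 0) * x + (dotN r y + B * dotN [] y) = a * x + dotN r y + B * 0
        rw [d0, Nat.mul_zero, Nat.add_zero, Nat.add_zero, Nat.add_zero]
      | cons b c =>
        show (a + B * b) * x + (dotN r y + B * dotN c y) = a * x + dotN r y + B * (b * x + dotN c y)
        rw [Nat.add_mul, Nat.mul_add, Nat.mul_assoc, Nat.add_add_add_comm]

private theorem sumS_eq : sumH = sumS := by
  have h2 : ∀ (B : ℕ) (y : List ℕ) (R : List (List ℕ)), dotN (colS B R) y = pkS B y R := fun B y R => by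
    induction R with
    | nil => cases y <;> rfl
    | cons r R ih => exact (zpS_dot B r (colS B R) y).trans (congrArg (fun z => dotN r y + B * z) ih)
  have h3 : ∀ (h : ℕ → ℕ) (y : List ℕ) (R : List (List ℕ)), pkS 1 y R < 1048576 →
      sumH h R y = dgS h R (pkS 1048576 y R) := fun h y R => by
    induction R with
    | nil => exact fun _ => rfl
    | cons r R ih =>
      intro hl
      have e0 : dotN r y + 1 * pkS 1 y R < 1048576 := hl
      have e1 : (dotN r y + 1048576 * pkS 1048576 y R) % 1048576 = dotN r y := by omega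
      have e2 : (dotN r y + 1048576 * pkS 1048576 y R) / 1048576 = pkS 1048576 y R := by omega
      show h (dotN r y) + sumH h R y = fS ((dotN r y + 1048576 * pkS 1048576 y R) % 1048576) h +
        dgS h R ((dotN r y + 1048576 * pkS 1048576 y R) / 1048576)
      rw [e1, e2, ih (by omega)]
      cases dotN r y <;> rfl
  funext h R y
  delta sumS
  rw [h2, h2]
  cases e : Nat.blt (pkS 1 y R) 1048576 with
  | false => rfl
  | true => exact h3 h y R (Nat.blt_eq.mp e)

private noncomputable def pwS (N n d k : ℕ) : ℕ :=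
  Nat.rec 0 (fun m ih => Nat.add (Bool.rec 0 (Nat.mod (Nat.shiftRight n (Nat.mul 8 m)) 256)
    (Nat.beq (Nat.mod (Nat.mul d m) N) k)) ih) N

private theorem pwS_eq : pw = pwS := by
  funext N n d k
  have h : ∀ M, pwA N n d k M = Nat.rec 0 (fun m ih => Nat.add (Bool.rec 0 (Nat.mod (Nat.shiftRight n (Nat.mul 8 m)) 256)
      (Nat.beq (Nat.mod (Nat.mul d m) N) k)) ih) M := fun M => by
    induction M with
    | zero => rfl
    | succ M ih =>
      show (bif Nat.beq (d * M % N) k then n / 256 ^ M % 256 else 0) + pwA N n d k M =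
        Bool.rec 0 (n >>> (8 * M) % 256) (Nat.beq (d * M % N) k) + _
      rw [ih, Nat.shiftRight_eq_div_pow, pow_mul]
      cases Nat.beq (d * M % N) k <;> rfl
  exact h N

theorem chk_fast {N : ℕ} {rs ds : List ℕ} {T : List (List ℕ)} (h : (allAlc th8 N fun y =>
    (fun n => !(rs.all fun a => (List.range N).all fun k => Nat.beq (pwS N n a k) (dg n k)) ||
      T.contains (ds.map fun d => pwS N n d 0)) (8 + sumS (hh N) H942.E8Tab.R8 y)) = true) : chk N rs ds T = true := by
  rw [← sumS_eq, ← pwS_eq] at h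
  exact h

end

/-- `x ^ 2 = 1`: the dimensions of the fixed spaces of `x ^ d`, `d ∈ [1]` -/
def T2 : List (List ℕ) :=
  [[120], [136], [248]]

theorem chk_T2 : chk 2 [] [1] T2 = true := chk_fast (by decide +kernel)

/-- `x ^ 3 = 1`: the dimensions of the fixed spaces of `x ^ d`, `d ∈ [1]` -/
def T3 : List (List ℕ) :=
  [[80], [86], [92], [134], [248]]

theorem chk_T3 : chk 3 [] [1] T3 = true := chk_fast (by decide +kernel)

/-- `x ^ 4 = 1`: the dimensions of the fixed spaces of `x ^ d`, `d ∈ [1, 2]` -/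
def T4 : List (List ℕ) :=
  [[60, 120], [64, 120], [66, 136], [70, 136], [82, 136], [92, 120], [120, 248], [134, 136], [136, 248], [248, 248]]

theorem chk_T4 : chk 4 [] [1, 2] T4 = true := chk_fast (by decide +kernel)

/-- `x ^ 5 = 1`: the dimensions of the fixed spaces of `x ^ d`, `d ∈ [1]` -/
def T5 : List (List ℕ) :=
  [[48], [52], [54], [64], [68], [82], [92], [134], [248]]

theorem chk_T5 : chk 5 [] [1] T5 = true := chk_fast (by decide +kernel)

/-- `x ^ 6 = 1`: the dimensions of the fixed spaces of `x ^ d`, `d ∈ [1, 2, 3]` -/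
def T6 : List (List ℕ) :=
  [[40, 80, 120], [42, 86, 120], [44, 80, 136], [44, 92, 120], [46, 86, 136], [50, 86, 136], [50, 92, 120],
   [50, 92, 136], [52, 80, 136], [52, 92, 136], [54, 86, 120], [64, 80, 120], [64, 134, 120], [68, 92, 136],
   [70, 134, 120], [70, 134, 136], [80, 80, 248], [80, 134, 136], [82, 86, 136], [86, 86, 248], [92, 92, 120],
   [92, 92, 248], [120, 248, 120], [134, 134, 136], [134, 134, 248], [136, 248, 136], [248, 248, 248]]

theorem chk_T6 : chk 6 [] [1, 2, 3] T6 = true := chk_fast (by decide +kernel)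

/-- `x ^ 7 = 1`, `x` conjugate to `x ^ 2`: the dimensions of the fixed spaces of `x ^ d`, `d ∈ [1]` -/
def T7r2 : List (List ℕ) :=
  [[38], [80], [248]]

theorem chk_T7r2 : chk 7 [2] [1] T7r2 = true := chk_fast (by decide +kernel)

/-- `x ^ 9 = 1`, `x` conjugate to `x ^ 4`: the dimensions of the fixed spaces of `x ^ d`, `d ∈ [1, 3]` -/
def T9r4 : List (List ℕ) :=
  [[28, 86], [30, 86], [34, 86], [48, 86], [80, 248], [86, 248], [92, 248], [134, 248], [248, 248]]

theorem chk_T9r4 : chk 9 [4] [1, 3] T9r4 = true := chk_fast (by decide +kernel)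

/-- `x ^ 11 = 1`, `x` conjugate to `x ^ 3`: the dimensions of the fixed spaces of `x ^ d`, `d ∈ [1]` -/
def T11r3 : List (List ℕ) :=
  [[28], [248]]

theorem chk_T11r3 : chk 11 [3] [1] T11r3 = true := chk_fast (by decide +kernel)

section

variable {F : Type u} [Field F] [Finite F] {x : G8 F}

theorem two (h2 : (2 : F) ≠ 0) (hx : x ^ 2 = 1) (h1 : x ≠ 1) : ev (LK F x) 1 = 120 ∨ ev (LK F x) 1 = 136 := by
  have h := tab chk_T2 (by exact_mod_cast h2) hx (by simp)
  have h' : ev (LK F x) 1 ≠ 248 := fun e => h1 (eq_one_of_ev e)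
  simp only [T2, List.map, pow_one, List.mem_cons, List.cons.injEq, and_true, List.not_mem_nil, or_false] at h
  omega

theorem three (h3 : (3 : F) ≠ 0) (hx : x ^ 3 = 1) (h1 : x ≠ 1) :
    ev (LK F x) 1 = 80 ∨ ev (LK F x) 1 = 86 ∨ ev (LK F x) 1 = 92 ∨ ev (LK F x) 1 = 134 := by
  have h := tab chk_T3 (by exact_mod_cast h3) hx (by simp)
  have h' : ev (LK F x) 1 ≠ 248 := fun e => h1 (eq_one_of_ev e)
  simp only [T3, List.map, pow_one, List.mem_cons, List.cons.injEq, and_true, List.not_mem_nil, or_false] at h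
  omega

theorem five (h5 : (5 : F) ≠ 0) (hx : x ^ 5 = 1) (h1 : x ≠ 1) :
    ev (LK F x) 1 = 48 ∨ ev (LK F x) 1 = 52 ∨ ev (LK F x) 1 = 54 ∨ ev (LK F x) 1 = 64 ∨ ev (LK F x) 1 = 68 ∨
      ev (LK F x) 1 = 82 ∨ ev (LK F x) 1 = 92 ∨ ev (LK F x) 1 = 134 := by
  have h := tab chk_T5 (by exact_mod_cast h5) hx (by simp)
  have h' : ev (LK F x) 1 ≠ 248 := fun e => h1 (eq_one_of_ev e)
  simp only [T5, List.map, pow_one, List.mem_cons, List.cons.injEq, and_true, List.not_mem_nil, or_false] at h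
  omega

theorem seven_rat (h7 : (7 : F) ≠ 0) (hx : x ^ 7 = 1) (h1 : x ≠ 1) (hr : IsConj x (x ^ 2)) :
    ev (LK F x) 1 = 38 ∨ ev (LK F x) 1 = 80 := by
  have h := tab chk_T7r2 (by exact_mod_cast h7) hx (by simpa using hr)
  have h' : ev (LK F x) 1 ≠ 248 := fun e => h1 (eq_one_of_ev e)
  simp only [T7r2, List.map, pow_one, List.mem_cons, List.cons.injEq, and_true, List.not_mem_nil, or_false] at h
  omega

theorem eleven_rat (h11 : (11 : F) ≠ 0) (hx : x ^ 11 = 1) (h1 : x ≠ 1) (hr : IsConj x (x ^ 3)) :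
    ev (LK F x) 1 = 28 := by
  have h := tab chk_T11r3 (by exact_mod_cast h11) hx (by simpa using hr)
  have h' : ev (LK F x) 1 ≠ 248 := fun e => h1 (eq_one_of_ev e)
  simp only [T11r3, List.map, pow_one, List.mem_cons, List.cons.injEq, and_true, List.not_mem_nil, or_false] at h
  omega

omit [Finite F] in
/-- elements of order `p` -/
theorem ge_p {p : ℕ} [Fact p.Prime] [CharP F p] (hx : x ^ p = 1) : 248 ≤ p * ev (LK F x) 1 := by
  have h := Cfsg.Agent.R2.T1.Five.ev_ge (T := LK F x) (p := p) (by rw [← map_pow, hx, map_one])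
  rwa [finrank_L8] at h

end

end Cfsg.Agent.E8A.Inf

private theorem dce_d3ce3c661546 : _root_.True := by
  try have : _root_.True := by simp only [_root_.Cfsg.Agent.E8A.Inf.T2.eq_1]
  try have : _root_.True := by simp only [_root_.Cfsg.Agent.E8A.Inf.T3.eq_1]
  try have : _root_.True := by simp only [_root_.Cfsg.Agent.E8A.Inf.T7r2.eq_1]
  try have : _root_.True := by simp only [_root_.Cfsg.Agent.E8A.Inf.ok.eq_1]
  try have : _root_.True := by simp only [_root_.Cfsg.Agent.E8A.Inf.T11r3.eq_1]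
  try have : _root_.True := by simp only [_root_.Cfsg.Agent.E8A.Inf.T5.eq_1]
  exact _root_.True.intro
end

-- part: E8A/Two/Pair
section
set_option linter.all false
open scoped Cfsg.Agent.FastGrp

/-!
# PAIR: two commuting semisimple elements of `E₈(k)` lie in a common torus (helper44)

* `pair_TT` : `x ^ l = 1`, `y ^ l ^ n = 1`, `l` a prime different from the characteristic, `x`, `y` commuting;
* `Cj2 x y ζ a b` : simultaneous conjugation to `dz ζ a`, `dz ζ b`; `Cj2.left`, `Cj2.right`, `Cj2.mul`, `Cj2.mul_inv`,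
  `Cj2.refl`, `Cj2.alcove`;
* `pair` : the first element is in Kac normal form.
-/

set_option autoImplicit false
set_option maxRecDepth 100000

namespace Cfsg.Agent.E8A.Two

open CoxeterSystem Cfsg Cfsg.Lie Module
open Cfsg.Agent.ChevalleyStructure Cfsg.Agent.ChevalleyStructure.Elts Cfsg.Agent.ChevalleyStructure.CoxeterGeom
  Cfsg.Agent.ChevalleyStructure.CoxeterGeomTypes
open Cfsg.Agent.Tits.Roots Cfsg.Agent.Nodes.Reps Cfsg.Agent.Nodes.BNOf Cfsg.Agent.Nodes.RGDChev
open Cfsg.Agent.KFacts.RgdChevCoord Cfsg.Agent.H129.TorusChar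
open Cfsg.Agent.H942.E8Tab (e8T theta8 pos8)
open Cfsg.Agent.H942.CB (W8 cs8)
open Cfsg.Agent.H288.E8L (Q8 wt act8 wt_inl wt_inr)
open Cfsg.Agent.H944.Kac (srefl srefl_cast rv_srefl exists_alcove)
open Cfsg.Agent.E8A.Reg5.Cls (ex dz Cj ex_refl dz_congr zpow_sum')

universe u

theorem pgroup_pair {G : Type*} [Group G] {l n : ℕ} {x t : G} (hx : x ^ l ^ n = 1) (ht : t ^ l = 1)
    (h : Commute x t) : IsPGroup l ↥(Subgroup.closure ({x, t} : Set G)) := by
  have key : ∀ y ∈ Subgroup.closure ({x, t} : Set G), y ^ l ^ (n + 1) = 1 ∧ Commute y x ∧ Commute y t := by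
    intro y hy
    induction hy using Subgroup.closure_induction with
    | mem y hy =>
      rcases hy with rfl | rfl
      · exact ⟨by rw [pow_succ, pow_mul, hx, one_pow], Commute.refl _, h⟩
      · exact ⟨by rw [pow_succ', pow_mul, ht, one_pow], h.symm, Commute.refl _⟩
    | one => exact ⟨one_pow _, Commute.one_left _, Commute.one_left _⟩
    | mul a b ha hb iha ihb =>
      have hab : Commute a b := by
        have h1 : Subgroup.closure ({x, t} : Set G) ≤ Subgroup.centralizer {a} := by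
          rw [Subgroup.closure_le]
          rintro z (rfl | rfl)
          · exact Subgroup.mem_centralizer_singleton_iff.2 iha.2.1.symm
          · exact Subgroup.mem_centralizer_singleton_iff.2 iha.2.2.symm
        exact (Subgroup.mem_centralizer_singleton_iff.1 (h1 hb) : Commute b a).symm
      exact ⟨by rw [hab.mul_pow, iha.1, ihb.1, mul_one], iha.2.1.mul_left ihb.2.1, iha.2.2.mul_left ihb.2.2⟩
    | inv a _ iha => exact ⟨by rw [inv_pow, iha.1, inv_one], iha.2.1.inv_left, iha.2.2.inv_left⟩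
  rintro ⟨y, hy⟩
  exact ⟨n + 1, Subtype.ext (key y hy).1⟩

section

variable {F : Type u} [Field F] [Finite F]

/-- **two commuting `l`-elements, the first of order `l`, lie in a common torus** -/
theorem pair_TT {l n : ℕ} (hl : l.Prime) (hF : (l : F) ≠ 0) {x y : G8 (Kb F)} (hx : x ^ l = 1) (hy : y ^ l ^ n = 1)
    (hc : Commute x y) : ∃ z : G8 (Kb F), z * x * z⁻¹ ∈ TT chevE8 (Kb F) ∧ z * y * z⁻¹ ∈ TT chevE8 (Kb F) := by
  obtain ⟨p, _, _, hp⟩ := Inf.exists_char' hF
  have hpp : p.Prime := Fact.out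
  have : CharP (Kb F) p := charP_of_injective_algebraMap (algebraMap F (Kb F)).injective p
  have hlp : l ≠ p := (Nat.coprime_primes hl hpp).1 hp
  have hFinW : Finite CoxeterMatrix.E₈.Group := finite_W e8T CoxeterMatrix.E₈.toCoxeterSystem
  have hcard : Nat.card CoxeterMatrix.E₈.Group = 696729600 :=
    Cfsg.Agent.S1093.result (⟨8, CoxeterMatrix.E₈⟩, 696729600) (by simp)
  have hFrm := H897.T5UntwRow.par8.frm (CoxeterMatrix.E₈.toCoxeterSystem) e8T.isCartan
    (fun i j => (H897.T5UntwRow.n8 i j).1) (fun i j => (H897.T5UntwRow.n8 i j).2)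
  have hcon := H897.T5Cent.con_of_frm e8T CoxeterMatrix.E₈.toCoxeterSystem (locFinKb F) p hl hlp
    BpExc.FamInst.inv_E8 (Nat.coprime_one_left _) hFrm
  obtain ⟨g1, hg1⟩ := Cfsg.Agent.H944.TorAnyChev.exists_conj_mem_TT e8T p
    (Cfsg.Agent.H944.RootVals.hAlg_closure p F) hl.ne_zero hp hx
  obtain ⟨t1, ht1⟩ : ∃ t1, t1 = g1 * x * g1⁻¹ := ⟨_, rfl⟩
  obtain ⟨v, hv⟩ : ∃ v, v = g1 * y * g1⁻¹ := ⟨_, rfl⟩
  rw [← ht1] at hg1
  have ht3 : t1 ^ l = 1 := by rw [ht1, conj_pow, hx, mul_one, mul_inv_cancel]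
  have hv3 : v ^ l ^ n = 1 := by rw [hv, conj_pow, hy, mul_one, mul_inv_cancel]
  have hcm : v * t1 = t1 * v := by
    rw [hv, ht1]
    calc g1 * y * g1⁻¹ * (g1 * x * g1⁻¹) = g1 * (y * x) * g1⁻¹ := by group
      _ = g1 * (x * y) * g1⁻¹ := by rw [hc.eq]
      _ = _ := by group
  obtain ⟨m, hm, s, hs, hms⟩ := H897.T5Cent.cent_form e8T CoxeterMatrix.E₈.toCoxeterSystem (locFinKb F) p hcon hg1 ht3 hcm
  have hW : ¬ l ^ (30 + 1) ∣ Nat.card CoxeterMatrix.E₈.Group := by
    rw [hcard]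
    refine fun h => absurd (Nat.le_of_dvd (by norm_num) h) (not_le.2 ?_)
    exact lt_of_lt_of_le (by norm_num) (Nat.pow_le_pow_left hl.two_le 31)
  obtain ⟨g, hg⟩ := H795.TorSub.exists_toral_step e8T p (locFinKb F) hl hlp hW (Set.finite_singleton t1)
    (by rw [Set.singleton_subset_iff]; exact hg1) hms hm hs hv3
    (Q := Subgroup.closure ({v, t1} : Set _)) (pgroup_pair hv3 ht3 hcm) le_rfl
  have e3 : ∀ w : G8 (Kb F), g * g1 * w * (g * g1)⁻¹ = g * (g1 * w * g1⁻¹) * g⁻¹ := fun w => by group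
  refine ⟨g * g1, ?_, ?_⟩
  · rw [e3, ← ht1]
    exact hg _ (Subgroup.subset_closure (by simp))
  · rw [e3, ← hv]
    exact hg _ (Subgroup.subset_closure (by simp))

end

section

variable {K : Type u} [Field K]

/-- simultaneous conjugation -/
def Cj2 (x y : G8 K) (ζ : K) (a b : Q8) : Prop :=
  ∃ c : G8 K, mx x * mx c = mx c * dz ζ a ∧ mx y * mx c = mx c * dz ζ b

variable {x y : G8 K} {ζ : K} {a b : Q8}

theorem Cj2.left (h : Cj2 x y ζ a b) : Cj x ζ a := h.imp fun _ hc => hc.1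

theorem Cj2.right (h : Cj2 x y ζ a b) : Cj y ζ b := h.imp fun _ hc => hc.2

theorem Cj2.symm (h : Cj2 x y ζ a b) : Cj2 y x ζ b a := h.imp fun _ hc => hc.symm

theorem ex_add (a b w : Q8) : ex (a + b) w = ex a w + ex b w := by
  simp only [ex, Pi.add_apply, mul_add, Finset.sum_add_distrib]

theorem ex_neg (a w : Q8) : ex (-a) w = -ex a w := by
  simp only [ex, Pi.neg_apply, mul_neg, Finset.sum_neg_distrib]

theorem ex_sub (a b w : Q8) : ex (a - b) w = ex a w - ex b w := by
  rw [sub_eq_add_neg, ex_add, ex_neg, sub_eq_add_neg]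

theorem ex_smul (m : ℤ) (a w : Q8) : ex (m • a) w = m * ex a w := by
  simp only [ex, Pi.smul_apply, smul_eq_mul, Finset.mul_sum]
  exact Finset.sum_congr rfl fun i _ => by ring

theorem dz_add (hζ : ζ ≠ 0) (a b : Q8) : dz ζ (a + b) = dz ζ a * dz ζ b := by
  rw [dz, dz, dz, Matrix.diagonal_mul_diagonal]
  congr 1
  funext j
  rw [ex_add, zpow_add₀ hζ]

theorem dz_zero : dz ζ 0 = 1 := by
  rw [dz, ← Matrix.diagonal_one]
  congr 1
  funext j
  simp [ex]

theorem semi_mul (hζ : ζ ≠ 0) {c : G8 K} (h1 : mx x * mx c = mx c * dz ζ a) (h2 : mx y * mx c = mx c * dz ζ b) :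
    mx (x * y) * mx c = mx c * dz ζ (a + b) := by
  rw [mx_mul, Matrix.mul_assoc, h2, ← Matrix.mul_assoc, h1, Matrix.mul_assoc, dz_add hζ]

theorem semi_inv (hζ : ζ ≠ 0) {c : G8 K} (h1 : mx x * mx c = mx c * dz ζ a) : mx x⁻¹ * mx c = mx c * dz ζ (-a) := by
  calc mx x⁻¹ * mx c = mx x⁻¹ * (mx c * dz ζ a) * dz ζ (-a) := by
        rw [Matrix.mul_assoc, Matrix.mul_assoc, ← dz_add hζ, add_neg_cancel, dz_zero, Matrix.mul_one]
    _ = _ := by rw [← h1, ← Matrix.mul_assoc, mx_inv_mul, Matrix.one_mul]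

theorem Cj2.mul (hζ : ζ ≠ 0) (h : Cj2 x y ζ a b) : Cj (x * y) ζ (a + b) := h.imp fun _ hc => semi_mul hζ hc.1 hc.2

theorem Cj2.inv (hζ : ζ ≠ 0) (h : Cj2 x y ζ a b) : Cj2 x y⁻¹ ζ a (-b) := h.imp fun _ hc => ⟨hc.1, semi_inv hζ hc.2⟩

theorem Cj2.mul_inv (hζ : ζ ≠ 0) (h : Cj2 x y ζ a b) : Cj (x * y⁻¹) ζ (a - b) := by
  rw [sub_eq_add_neg]
  exact (h.inv hζ).mul hζ

theorem dz_nc (a : Q8) (i : Fin 8) : dz ζ a * mx (nc e8T K i) = mx (nc e8T K i) * dz ζ (srefl chevE8 8 i a) := by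
  ext s t
  rw [dz, dz, Matrix.diagonal_mul, Matrix.mul_diagonal]
  by_cases h0 : mx (nc e8T K i) s t = 0
  · rw [h0, mul_zero, zero_mul]
  · rw [nc_wt i h0, ex_refl, mul_comm]

theorem Cj2.refl (h : Cj2 x y ζ a b) (i : Fin 8) : Cj2 x y ζ (srefl chevE8 8 i a) (srefl chevE8 8 i b) := by
  obtain ⟨c, h1, h2⟩ := h
  refine ⟨c * nc e8T K i, ?_, ?_⟩
  · rw [mx_mul, ← Matrix.mul_assoc, h1, Matrix.mul_assoc, dz_nc, Matrix.mul_assoc]
  · rw [mx_mul, ← Matrix.mul_assoc, h2, Matrix.mul_assoc, dz_nc, Matrix.mul_assoc]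

theorem exists_dz {N : ℕ} (hζ : IsPrimitiveRoot ζ N) (hN : N ≠ 0) {t : G8 K} (ht : t ∈ TT chevE8 K) (hg : t ^ N = 1) :
    ∃ a, mx t = dz ζ a := by
  have : NeZero N := ⟨hN⟩
  have h1 : ∀ i, ∃ m : ℕ, ζ ^ m = cX e8T t (sr i) := by
    intro i
    have h2 : cX e8T t (sr i) ^ N = 1 := by rw [← cX_pow e8T ht, hg, cX_one]
    obtain ⟨m, -, hm⟩ := hζ.eq_pow_of_pow_eq_one h2
    exact ⟨m, hm⟩
  choose m hm using h1
  refine ⟨fun i => m i, ?_⟩
  rw [mx_TT ht, dz]
  congr 1
  funext j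
  rw [(isMC_cX e8T ht).eq_prod, ex, zpow_sum' (hζ.ne_zero hN)]
  refine Finset.prod_congr rfl fun i _ => ?_
  rw [← hm, ← _root_.zpow_natCast, ← _root_.zpow_mul, mul_comm]

theorem cj2_of_TT {N : ℕ} (hζ : IsPrimitiveRoot ζ N) (hN : N ≠ 0) {z : G8 K} (hx : x ^ N = 1) (hy : y ^ N = 1)
    (h1 : z * x * z⁻¹ ∈ TT chevE8 K) (h2 : z * y * z⁻¹ ∈ TT chevE8 K) : ∃ a b, Cj2 x y ζ a b := by
  obtain ⟨a, ha⟩ := exists_dz hζ hN h1 (by rw [conj_pow, hx, mul_one, mul_inv_cancel])
  obtain ⟨b, hb⟩ := exists_dz hζ hN h2 (by rw [conj_pow, hy, mul_one, mul_inv_cancel])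
  refine ⟨a, b, z⁻¹, ?_, ?_⟩
  · rw [← ha, ← mx_mul, ← mx_mul]
    congr 1
    group
  · rw [← hb, ← mx_mul, ← mx_mul]
    congr 1
    group

theorem Cj2.congr {N : ℕ} (hζ : IsPrimitiveRoot ζ N) (hN : N ≠ 0) {a' b' : Q8} (h : Cj2 x y ζ a b)
    (ha : ∀ i, ((a i : ℤ) : ZMod N) = ((a' i : ℤ) : ZMod N)) (hb : ∀ i, ((b i : ℤ) : ZMod N) = ((b' i : ℤ) : ZMod N)) :
    Cj2 x y ζ a' b' := by
  obtain ⟨c, h1, h2⟩ := h
  exact ⟨c, by rw [h1, dz_congr hζ hN ha], by rw [h2, dz_congr hζ hN hb]⟩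

/-- moving the coordinates of the first element into the alcove -/
theorem Cj2.alcove {N : ℕ} (hζ : IsPrimitiveRoot ζ N) (hN : N ≠ 0) (h : Cj2 x y ζ a b) :
    ∃ (s : Fin 8 → ℕ) (b' : Q8), 2 * s 0 + 3 * s 1 + 4 * s 2 + 6 * s 3 + 5 * s 4 + 4 * s 5 + 3 * s 6 + 2 * s 7 ≤ N ∧
      Cj2 x y ζ (fun i => s i) b' := by
  obtain ⟨s, ⟨a', ha', b', hc⟩, hθ⟩ := exists_alcove e8T (N := N) (Nat.pos_of_ne_zero hN) _ _ 60 (by norm_num) theta8
    (by decide) _ pos8 (fun v => ∃ a : Q8, (fun i => ((a i : ℤ) : ZMod N)) = v ∧ ∃ b, Cj2 x y ζ a b)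
    (by
      rintro _ j ⟨a, rfl, b, hy⟩
      exact ⟨_, (srefl_cast a j).symm, _, hy.refl j⟩) ⟨a, rfl, b, h⟩
  refine ⟨s, b', ?_, hc.congr hζ hN (fun i => by rw [congrFun ha' i, Int.cast_natCast]) fun _ => rfl⟩
  simp only [Fin.sum_univ_eight, Matrix.cons_val] at hθ
  omega

end

/-- **PAIR** -/
theorem pair {F : Type u} [Field F] [Finite F] {l n : ℕ} (hl : l.Prime) (hF : (l : F) ≠ 0) {ζ : Kb F}
    (hζ : IsPrimitiveRoot ζ (l ^ (n + 1))) {x y : G8 (Kb F)} (hx : x ^ l = 1) (hy : y ^ l ^ (n + 1) = 1)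
    (hc : Commute x y) : ∃ a b, Cj2 x y ζ a b := by
  obtain ⟨z, h1, h2⟩ := pair_TT hl hF hx hy hc
  exact cj2_of_TT hζ (pow_ne_zero _ hl.ne_zero) (by rw [pow_succ', pow_mul, hx, one_pow]) hy h1 h2

/-- **PAIR** for two elements of prime order, the first one in Kac normal form -/
theorem pair_kac {F : Type u} [Field F] [Finite F] {l : ℕ} (hl : l.Prime) (hF : (l : F) ≠ 0) {ζ : Kb F}
    (hζ : IsPrimitiveRoot ζ l) {x y : G8 (Kb F)} (hx : x ^ l = 1) (hy : y ^ l = 1) (hc : Commute x y) :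
    ∃ (s : Fin 8 → ℕ) (b : Q8), 2 * s 0 + 3 * s 1 + 4 * s 2 + 6 * s 3 + 5 * s 4 + 4 * s 5 + 3 * s 6 + 2 * s 7 ≤ l ∧
      Cj2 x y ζ (fun i => s i) b := by
  obtain ⟨a, b, h⟩ := pair (n := 0) hl hF (by rwa [zero_add, pow_one]) hx (by rwa [zero_add, pow_one]) hc
  exact h.alcove hζ hl.ne_zero

end Cfsg.Agent.E8A.Two
end

-- part: E8A/Two/Wcj
section
set_option linter.all false
open scoped Cfsg.Agent.FastGrp

/-!
# Conjugate elements of the torus of `E₈` are conjugate under the Weyl group; the norm invariant (helper44)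

* `conj_N`, `cj_ind` : two coordinate vectors of the same element are congruent modulo the Weyl group;
* `nm` : the norm of a coweight; `cj_nm` : it is an invariant modulo `N`;
* `q3`, `par3` : the parallelogram law for commuting elements of order 3; `t33`;
* `five_rat'` : a rational element of order 5 has a fixed space of dimension 48 or 68.
-/

set_option autoImplicit false
set_option maxRecDepth 100000

namespace Cfsg.Agent.E8A.Two

open CoxeterSystem Cfsg Cfsg.Lie Module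
open Cfsg.Agent.ChevalleyStructure Cfsg.Agent.ChevalleyStructure.Elts Cfsg.Agent.ChevalleyStructure.CoxeterGeom
  Cfsg.Agent.ChevalleyStructure.CoxeterGeomTypes Cfsg.Agent.ChevalleyStructure.RootVec
  Cfsg.Agent.ChevalleyStructure.RootVecTab
open Cfsg.Agent.Tits.Roots Cfsg.Agent.Nodes.Reps Cfsg.Agent.Nodes.BNOf Cfsg.Agent.Nodes.RGDChev
open Cfsg.Agent.H952.F4 (ev)
open Cfsg.Agent.H942.E8Tab (e8T)
open Cfsg.Agent.H942.CB (W8 cs8)
open Cfsg.Agent.H288.E8L (Q8 wt Rt act8 wt_inl wt_inr rt_vec vec_ne_zero exists_idx wt_inj)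
open Cfsg.Agent.H944.Kac (srefl)
open Cfsg.Agent.E8A.Reg5.Cls (ex dz Cj ex_refl tb exists_tb ev_eq_dfx)
open Cfsg.Agent.FP3 (dfx)

universe u

section

variable {K : Type u} [Field K]

theorem tri {u : G8 K} (hu : u ∈ U8 K) (d : chevE8.Idx → K) (r : Fin chevE8.nroots) :
    (mx u * Matrix.diagonal d * mx u⁻¹) (Sum.inr r) (Sum.inr r) = d (Sum.inr r) := by
  let A : Set Q8 := {a | vec chevE8 8 r ≤ a ∧ a ≠ vec chevE8 8 r}
  have hS : ∀ a ∈ Pos8, Rt a := fun a ha => ha.1
  have h1 : ∀ a, vec chevE8 8 r ≤ a → ∀ b ∈ Pos8, a + b ∈ A := by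
    intro a ha b hb
    refine ⟨le_add_of_le_of_nonneg ha hb.2, fun h => hb.1.ne_zero (le_antisymm ?_ hb.2)⟩
    rw [← h] at ha
    exact (add_le_iff_nonpos_right a).1 ha
  have h2 : ∀ a ∈ A, ∀ b ∈ Pos8, a + b ∈ A := fun a ha => h1 a ha.1
  have h3 : ∀ v ∈ U8 K, act v (ee K (Sum.inr r)) - ee K (Sum.inr r) ∈ LS K A := fun v hv =>
    sup_LS_sub (A := {vec chevE8 8 r}) hS (fun a ha => h1 a (le_of_eq (Set.mem_singleton_iff.1 ha).symm)) h2 hv
      (ee_mem_LS rfl)
  have h0 : wt (Sum.inr r) ∉ A := fun h => h.2 rfl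
  obtain ⟨v, hv, e⟩ : ∃ v ∈ LS K A, act u⁻¹ (ee K (Sum.inr r)) = ee K (Sum.inr r) + v :=
    ⟨_, h3 _ (inv_mem hu), by abel⟩
  have h4 : (Matrix.diagonal d).mulVec v ∈ LS K A := fun i hi => hv i fun h => hi (by
    rw [Matrix.mulVec_diagonal, h, mul_zero])
  have h5 : (Matrix.diagonal d).mulVec (ee K (Sum.inr r)) = d (Sum.inr r) • ee K (Sum.inr r) := by
    funext i
    rw [Matrix.mulVec_diagonal, Pi.smul_apply, smul_eq_mul]
    by_cases hi : i = Sum.inr r
    · rw [hi]
    · rw [ee_ne hi, mul_zero, mul_zero]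
  rw [← mulVec_ee (mx u * Matrix.diagonal d * mx u⁻¹), ← Matrix.mulVec_mulVec, ← Matrix.mulVec_mulVec]
  change act u ((Matrix.diagonal d).mulVec (act u⁻¹ (ee K (Sum.inr r)))) (Sum.inr r) = _
  rw [e, Matrix.mulVec_add, h5, act_add, act_smul, Pi.add_apply, Pi.smul_apply, LS_zero (sup_LS hS h2 hu h4) h0,
    add_zero, smul_eq_mul]
  have h6 := LS_zero (h3 u hu) h0
  rw [Pi.sub_apply, ee_self, sub_eq_zero] at h6
  rw [h6, mul_one]

theorem act8_inj (w : W8) {a b : Q8} (h : act8 w a = act8 w b) : a = b := by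
  rw [← act8_inv_act w a, h, act8_inv_act]

/-- **conjugate diagonal matrices are conjugate under the Weyl group** -/
theorem conj_N {c : G8 K} {d d' : chevE8.Idx → K} (h : mx c * Matrix.diagonal d = Matrix.diagonal d' * mx c) :
    ∃ w : W8, ∀ r s : Fin chevE8.nroots, vec chevE8 8 s = act8 w (vec chevE8 8 r) → d' (Sum.inr s) = d (Sum.inr r) := by
  obtain ⟨u, hu, w, n, hn, v, hv, rfl⟩ := bruhat c
  have hv' : v ∈ U8 K := RGD.Sup_mono (S' := Pos8) (fun x hx => ⟨hx.1, hx.2.1⟩) hv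
  refine ⟨w, fun r s hs => ?_⟩
  have h1 : mx n * (mx v * Matrix.diagonal d * mx v⁻¹) = (mx u⁻¹ * Matrix.diagonal d' * mx u⁻¹⁻¹) * mx n := by
    rw [inv_inv]
    calc mx n * (mx v * Matrix.diagonal d * mx v⁻¹)
        = mx u⁻¹ * (mx (u * n * v) * Matrix.diagonal d) * mx v⁻¹ := by
          rw [mx_mul, mx_mul]
          simp only [← Matrix.mul_assoc]
          rw [mx_inv_mul, Matrix.one_mul]
      _ = _ := by
          rw [h, mx_mul, mx_mul]
          simp only [Matrix.mul_assoc]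
          rw [mx_mul_inv, Matrix.mul_one]
  have h2 := congrFun (congrFun h1 (Sum.inr s)) (Sum.inr r)
  rw [Matrix.mul_apply, Matrix.mul_apply, Finset.sum_eq_single (Sum.inr r), Finset.sum_eq_single (Sum.inr s), tri hv',
    tri (inv_mem hu), mul_comm] at h2
  · obtain ⟨κ, hκ, e⟩ := RepK.ee hn hs
    have h3 := congrFun e (Sum.inr s)
    rw [act_ee, Pi.smul_apply, ee_self, smul_eq_mul, mul_one] at h3
    rw [h3] at h2
    exact (mul_right_cancel₀ hκ h2).symm
  · intro k _ hk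
    by_cases h0 : mx n k (Sum.inr r) = 0
    · rw [h0, mul_zero]
    · have h3 := RepK.wt hn h0
      rw [wt_inr, ← hs] at h3
      exact absurd (wt_inj (i := Sum.inr s) h3.symm (vec_ne_zero s)).symm hk
  · intro h0
    exact absurd (Finset.mem_univ _) h0
  · intro k _ hk
    by_cases h0 : mx n (Sum.inr s) k = 0
    · rw [h0, zero_mul]
    · have h3 := RepK.wt hn h0
      rw [wt_inr, hs] at h3
      exact absurd (wt_inj (i := Sum.inr r) (act8_inj w h3) (vec_ne_zero r)).symm hk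
  · intro h0
    exact absurd (Finset.mem_univ _) h0

/-- the action of the Weyl group on the coweights -/
noncomputable def wv (w : W8) (b : Q8) : Q8 := fun i => ex b (act8 w (sr i))

theorem ex_sr (b : Q8) (i : Fin 8) : ex b (sr i) = b i := by
  rw [ex, Finset.sum_eq_single i]
  · rw [sr_self, one_mul]
  · intro k _ hk
    rw [sr_ne hk, zero_mul]
  · intro h
    exact absurd (Finset.mem_univ _) h

theorem wv_ind {P : Q8 → Prop} (hP : ∀ y i, P y → P (srefl chevE8 8 i y)) (w : W8) : ∀ b, P b → P (wv w b) := by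
  induction w using cs8.simple_induction_left with
  | one =>
    intro b hb
    have h1 : wv 1 b = b := funext fun i => by rw [wv, act8_one, ex_sr]
    rwa [h1]
  | mul_simple_left w i ih =>
    intro b hb
    have h1 : wv (cs8.simple i * w) b = wv w (srefl chevE8 8 i b) := by
      funext j
      obtain ⟨s, hs⟩ := exists_idx ((isRoot_sr cs8 e8T.isCartan j).act w)
      have hs' : act8 w (sr j) = wt (Sum.inr s) := hs.symm
      rw [wv, wv, act8_mul, hs', ex_refl]
    rw [h1]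
    exact ih _ (hP b i hb)

variable {g : G8 K} {ζ : K} {a b : Q8}

/-- **the coordinates of an element are unique up to the Weyl group** -/
theorem cj_ind {N : ℕ} (hζ : IsPrimitiveRoot ζ N) (hN : N ≠ 0) (ha : Cj g ζ a) (hb : Cj g ζ b) {P : Q8 → Prop}
    (hP : ∀ y i, P y → P (srefl chevE8 8 i y)) (h : P b) :
    ∃ a', P a' ∧ ∀ i, ((a' i : ℤ) : ZMod N) = ((a i : ℤ) : ZMod N) := by
  obtain ⟨c, hc⟩ := ha
  obtain ⟨c', hc'⟩ := hb
  have h1 : mx (c'⁻¹ * c) * dz ζ a = dz ζ b * mx (c'⁻¹ * c) := by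
    calc mx (c'⁻¹ * c) * dz ζ a = mx c'⁻¹ * (mx g * mx c') * mx c'⁻¹ * mx c := by
          rw [mx_mul, Matrix.mul_assoc, ← hc]
          simp only [Matrix.mul_assoc]
          rw [← Matrix.mul_assoc (mx c'), mx_mul_inv, Matrix.one_mul]
      _ = _ := by rw [hc', ← Matrix.mul_assoc, mx_inv_mul, Matrix.one_mul, mx_mul, Matrix.mul_assoc]
  obtain ⟨w, hw⟩ := conj_N h1
  refine ⟨wv w b, wv_ind hP w b h, fun i => ?_⟩
  obtain ⟨r, hr⟩ := exists_idx (isRoot_sr cs8 e8T.isCartan i)
  obtain ⟨s, hs⟩ := exists_idx ((rt_vec r).act w)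
  have h2 : ζ ^ ex b (vec chevE8 8 s) = ζ ^ ex a (vec chevE8 8 r) := hw r s hs
  have h3 : vec chevE8 8 s = act8 w (sr i) := by rw [← hr]; exact hs
  rw [h3, hr, ex_sr, ← div_eq_one_iff_eq (zpow_ne_zero _ (hζ.ne_zero hN)), ← zpow_sub₀ (hζ.ne_zero hN),
    hζ.zpow_eq_one_iff_dvd, ← ZMod.intCast_zmod_eq_zero_iff_dvd, Int.cast_sub, sub_eq_zero] at h2
  exact h2

theorem cj_conj (h : Cj g ζ a) (k : G8 K) : Cj (k * g * k⁻¹) ζ a := by
  obtain ⟨c, hc⟩ := h
  refine ⟨k * c, ?_⟩
  rw [← mx_mul, show k * g * k⁻¹ * (k * c) = k * (g * c) by group, mx_mul, mx_mul, hc, mx_mul, Matrix.mul_assoc]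

theorem cj_isConj (h : Cj g ζ a) {g' : G8 K} (hc : IsConj g g') : Cj g' ζ a := by
  obtain ⟨k, rfl⟩ := isConj_iff.1 hc
  exact cj_conj h k

theorem cj_sq (hζ : ζ ≠ 0) (h : Cj g ζ a) : Cj (g ^ 2) ζ (a + a) := by
  rw [sq]
  exact h.imp fun _ hc => semi_mul hζ hc hc

end

/-! ### the norm -/

/-- the form on the coweights -/
def bw (a b : Q8) : ℤ := ∑ i, ∑ j, a i * B8 i j * b j

/-- the norm -/
def nm (a : Q8) : ℤ := bw a a

theorem B8_symm : ∀ i j, B8 i j = B8 j i := by decide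

theorem bw_comm (a b : Q8) : bw a b = bw b a := by
  rw [bw, bw, Finset.sum_comm]
  exact Finset.sum_congr rfl fun i _ => Finset.sum_congr rfl fun j _ => by rw [B8_symm]; ring

theorem bw_add (a b c : Q8) : bw (a + b) c = bw a c + bw b c := by
  simp only [bw, Pi.add_apply, add_mul, Finset.sum_add_distrib]

theorem bw_smul (m : ℤ) (a c : Q8) : bw (m • a) c = m * bw a c := by
  simp only [bw, Pi.smul_apply, smul_eq_mul, Finset.mul_sum, mul_assoc]

theorem bw_cartan (j : Fin 8) (y : Q8) : bw (cartanOf chevE8 8 j) y = y j := by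
  rw [bw, Finset.sum_comm]
  have h1 : ∀ k, ∑ i, cartanOf chevE8 8 j i * B8 i k * y k = if j = k then y k else 0 := by
    intro k
    rw [← Finset.sum_mul, B8_right]
    split_ifs <;> simp
  rw [Finset.sum_congr rfl fun k _ => h1 k, Finset.sum_ite_eq, if_pos (Finset.mem_univ _)]

theorem nm_add (a b : Q8) : nm (a + b) = nm a + 2 * bw a b + nm b := by
  rw [nm, bw_add, bw_comm a, bw_comm b, bw_add, bw_add, bw_comm b a, nm, nm]
  ring

theorem nm_smul (m : ℤ) (a : Q8) : nm (m • a) = m ^ 2 * nm a := by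
  rw [nm, bw_smul, bw_comm, bw_smul, nm]
  ring

theorem nm_sub (a b : Q8) : nm (a - b) = nm a - 2 * bw a b + nm b := by
  rw [sub_eq_add_neg, ← neg_one_smul ℤ b, nm_add, nm_smul, bw_comm, bw_smul, bw_comm]
  ring

theorem cartan_self : ∀ j : Fin 8, cartanOf chevE8 8 j j = 2 := by decide +kernel

theorem nm_srefl (y : Q8) (j : Fin 8) : nm (srefl chevE8 8 j y) = nm y := by
  have h1 : srefl chevE8 8 j y = y - y j • cartanOf chevE8 8 j := by
    funext i
    rw [srefl, Pi.sub_apply, Pi.smul_apply, smul_eq_mul, mul_comm, Int.cast_id]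
  rw [h1, nm_sub, nm_smul, bw_comm, bw_smul, bw_cartan, nm, nm, bw_cartan, cartan_self]
  ring

theorem nm_congr {N : ℕ} {a b : Q8} (h : ∀ i, ((a i : ℤ) : ZMod N) = ((b i : ℤ) : ZMod N)) :
    ((nm a : ℤ) : ZMod N) = ((nm b : ℤ) : ZMod N) := by
  unfold nm bw
  push_cast
  simp only [h]

/-- **the norm is an invariant** -/
theorem cj_nm {K : Type u} [Field K] {g : G8 K} {ζ : K} {a b : Q8} {N : ℕ} (hζ : IsPrimitiveRoot ζ N) (hN : N ≠ 0)
    (ha : Cj g ζ a) (hb : Cj g ζ b) : ((nm a : ℤ) : ZMod N) = ((nm b : ℤ) : ZMod N) := by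
  obtain ⟨a', h1, h2⟩ := cj_ind hζ hN ha hb (P := fun y => nm y = nm b) (fun y i hy => (nm_srefl y i).trans hy) rfl
  rw [← nm_congr h2, h1]

/-- the norm modulo 3 of the classes of elements of order 3 -/
def q3 (d : ℕ) : ZMod 3 := if d = 134 ∨ d = 80 then 2 else if d = 92 then 1 else 0

theorem tb_q3 : ∀ x ∈ tb 3, ((nm fun i => ((x.1.getD i 0 : ℕ) : ℤ) : ℤ) : ZMod 3) = q3 x.2 := by decide +kernel

theorem tb_q5 : ∀ x ∈ tb 5, ((nm fun i => ((x.1.getD i 0 : ℕ) : ℤ) : ℤ) : ZMod 5) = 0 →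
    x.2 = 48 ∨ x.2 = 68 ∨ x.2 = 248 := by decide +kernel

section

variable {F : Type u} [Field F] [Finite F]

omit [Finite F] in
theorem ev_emb0 (x : G8 F) : ev (LK (Kb F) (emb0 x)) 1 = ev (LK F x) 1 := Inf.ev_em_one _ x

theorem cj_q3 (h3 : (3 : F) ≠ 0) {ζ : Kb F} (hζ : IsPrimitiveRoot ζ 3) {g : G8 (Kb F)} (hg : g ^ 3 = 1) {a : Q8}
    (ha : Cj g ζ a) : ((nm a : ℤ) : ZMod 3) = q3 (ev (LK (Kb F) g) 1) := by
  obtain ⟨p, _, _, hp⟩ := Inf.exists_char' (F := F) (N := 3) (by exact_mod_cast h3)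
  obtain ⟨x, hx, h1, h2⟩ := exists_tb p (by decide) hp hζ hg
  rw [ev_eq_dfx, h2, cj_nm hζ (by norm_num) ha h1, tb_q3 x hx]

/-- **the parallelogram law** over the algebraic closure -/
theorem par3K (h3 : (3 : F) ≠ 0) {x y : G8 (Kb F)} (hx : x ^ 3 = 1) (hy : y ^ 3 = 1) (hc : Commute x y) :
    q3 (ev (LK (Kb F) (x * y)) 1) + q3 (ev (LK (Kb F) (x * y⁻¹)) 1) =
      2 * q3 (ev (LK (Kb F) x) 1) + 2 * q3 (ev (LK (Kb F) y) 1) := by
  obtain ⟨ζ, hζ⟩ := Inf.exists_root (F := F) (N := 3) (by exact_mod_cast h3)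
  obtain ⟨s, b, -, h⟩ := pair_kac Nat.prime_three (by exact_mod_cast h3) hζ hx hy hc
  have h0 := hζ.ne_zero (by norm_num)
  rw [← cj_q3 h3 hζ hx h.left, ← cj_q3 h3 hζ hy h.right,
    ← cj_q3 h3 hζ (by rw [hc.mul_pow, hx, hy, mul_one]) (h.mul h0),
    ← cj_q3 h3 hζ (by rw [hc.inv_right.mul_pow, hx, inv_pow, hy, inv_one, mul_one]) (h.mul_inv h0), nm_add, nm_sub]
  push_cast
  ring

/-- **the parallelogram law** -/
theorem par3 (h3 : (3 : F) ≠ 0) {x y : G8 F} (hx : x ^ 3 = 1) (hy : y ^ 3 = 1) (hc : Commute x y) :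
    q3 (ev (LK F (x * y)) 1) + q3 (ev (LK F (x * y⁻¹)) 1) = 2 * q3 (ev (LK F x) 1) + 2 * q3 (ev (LK F y) 1) := by
  have h := par3K h3 (x := emb0 x) (y := emb0 y) (by rw [← map_pow, hx, map_one]) (by rw [← map_pow, hy, map_one])
    (hc.map _)
  rwa [← map_inv, ← map_mul, ← map_mul, ev_emb0, ev_emb0, ev_emb0, ev_emb0] at h

/-- **T33** -/
theorem t33 (h3 : (3 : F) ≠ 0) {x y : G8 F} (hx : x ^ 3 = 1) (hy : y ^ 3 = 1) (hc : Commute x y) (h1 : x ≠ 1)
    (h2 : x * y ≠ 1) (e1 : ev (LK F y) 1 = ev (LK F x) 1) (e2 : ev (LK F (x * y⁻¹)) 1 = ev (LK F (x * y)) 1) :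
    (ev (LK F x) 1 = 92 ∧ ev (LK F (x * y)) 1 = 134) ∨ (ev (LK F x) 1 = 80 ∧ ev (LK F (x * y)) 1 = 92) ∨
    (ev (LK F x) 1 = 92 ∧ ev (LK F (x * y)) 1 = 80) ∨ (ev (LK F x) 1 = 134 ∧ ev (LK F (x * y)) 1 = 92) ∨
    (ev (LK F x) 1 = 86 ∧ ev (LK F (x * y)) 1 = 86) := by
  have h := par3 h3 hx hy hc
  have k1 := Inf.three h3 hx h1
  have k2 := Inf.three h3 (x := x * y) (by rw [hc.mul_pow, hx, hy, mul_one]) h2
  rw [e1, e2] at h
  generalize ev (LK F x) 1 = d at *
  generalize ev (LK F (x * y)) 1 = d' at *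
  rcases k1 with rfl | rfl | rfl | rfl <;> rcases k2 with rfl | rfl | rfl | rfl <;>
    first | exact absurd h (by decide) | decide

/-- **rational elements of order 5** -/
theorem five_rat' (h5 : (5 : F) ≠ 0) {x : G8 F} (hx : x ^ 5 = 1) (h1 : x ≠ 1) (hr : IsConj x (x ^ 2)) :
    ev (LK F x) 1 = 48 ∨ ev (LK F x) 1 = 68 := by
  obtain ⟨ζ, hζ⟩ := Inf.exists_root (F := F) (N := 5) (by exact_mod_cast h5)
  obtain ⟨p, _, _, hp⟩ := Inf.exists_char' (F := F) (N := 5) (by exact_mod_cast h5)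
  obtain ⟨t, ht, h2, h3⟩ := exists_tb p (by decide) hp hζ (g := emb0 x) (by rw [← map_pow, hx, map_one])
  have h4 := cj_sq (hζ.ne_zero (by norm_num)) h2
  rw [← map_pow] at h4
  have h6 := cj_nm hζ (by norm_num) (cj_isConj h4 (emb0.map_isConj hr).symm) h2
  rw [← two_zsmul, nm_smul] at h6
  push_cast at h6
  have h7 : ∀ q : ZMod 5, 2 ^ 2 * q = q → q = 0 := by decide
  have h8 := tb_q5 t ht (h7 _ h6)
  rw [← h3, ← ev_eq_dfx, ev_emb0] at h8
  have h9 : ev (LK F x) 1 ≠ 248 := fun e => h1 (Inf.eq_one_of_ev e)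
  omega

end

end Cfsg.Agent.E8A.Two

private theorem dce_db7df9e3d932 : _root_.True := by
  try have : _root_.True := by simp only [_root_.Cfsg.Agent.E8A.Two.bw.eq_1]
  try have : _root_.True := by simp only [_root_.Cfsg.Agent.H944.Kac.srefl.eq_1]
  try have : _root_.True := by simp only [_root_.Cfsg.Agent.E8A.Two.wv.eq_1]
  try have : _root_.True := by simp only [_root_.Cfsg.Agent.E8A.Two.nm.eq_1]
  exact _root_.True.intro
end
end
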