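import Cfsg.Agent.R2.T1.T2p.Msk
import Cfsg.Agent.E8A.TwoH.Lie_m3
import Cfsg.Agent.E8A.Two.Wcj
import Cfsg.Agent.R2.T1.T2p.GenA
import Cfsg.Agent.E8A.Fix.Main_m3
import Cfsg.Agent.StandardComponent.AltAut
import Cfsg.Agent.DS.Nt.P8
import Cfsg.Agent.Lib.FinFast
import Mathlib
import Cfsg.Agent.FastGrp
import Cfsg.Agent.Prune
set_option linter.all false

section
prune_inst 0x7ff0adf8abbcbbffffff7e7fae9cdffdbbb11fffe6dff9437fe063ff0b9f0b80cbc5fbad0be010fc1ed6e01410b87b43f97eefffea6bd87ffffd1ff41ffbee0ff5f7b508519488340f380ff683e0778e7f3fffffffffffffffffffffffffffaeffbfffffffff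

-- part: E8A/Two/El
section
prune_inst 0x10000000000000
set_option linter.all false
open scoped Cfsg.Agent.FastGrp

-- part: E8A/Two/Mk
section
/-!
# Certificates for inequalities between dimensions of fixed spaces in characteristic 2 (helper44)

* `Tr` : sums of words in Horner form, `Tr.ev` : the action on masks, `Tr.op` : the operator;
* `Dt`, `Dt.chk` : generators of a subgroup, elements of it, representatives of the cosets, the tables of the action;
* `le1` : `f(A) ≤ f(C)`; `le2` : `f(A) + f(B) ≤ f(C) + f(D)`.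
-/

set_option autoImplicit false
set_option maxRecDepth 100000

namespace Cfsg.Agent.E8A.Two.Mk

open Module Equiv Equiv.Perm
open Cfsg.Agent.R2.T1.Odd Cfsg.Agent.R2.T1.Msk

/-- lists of transpositions -/
abbrev SW : Type := List (ℕ × ℕ)

/-- sums of words -/
inductive Tr : Type
  | nil : Tr
  | one (s : Tr) : Tr
  | ap (i : ℕ) (c s : Tr) : Tr

/-- the action on masks -/
def Tr.ev (T : List SW) (a : ℕ) : Tr → ℕ
  | .nil => 0
  | .one s => Nat.xor a (Tr.ev T a s)
  | .ap i c s => Nat.xor (stp (T.getD i []) (Tr.ev T a c)) (Tr.ev T a s)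

/-- the letters are in the range -/
def Tr.ok (N : ℕ) : Tr → Bool
  | .nil => true
  | .one s => Tr.ok N s
  | .ap i c s => Nat.blt i N && Tr.ok N c && Tr.ok N s

/-- the data of a permutation module -/
structure Dt where
  gT : List SW
  zw : List (List ℕ)
  reps : List SW
  tab : List SW

/-- the check of the table of one generator -/
def Dt.row (m : ℕ) (D : Dt) (g t : SW) : Bool :=
  Nat.beq D.reps.length t.length && (D.reps.zip t).all fun y => Nat.blt y.2.1 D.reps.length &&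
    cd m (g ++ y.1) == cd m (D.reps.getD y.2.1 [] ++ wd D.gT (D.zw.getD y.2.2 []))

/-- the check of the data -/
def Dt.chk (m : ℕ) (gens : List SW) (D : Dt) : Bool :=
  gens.all (vl m) && D.gT.all (vl m) && D.reps.all (vl m) && Nat.beq gens.length D.tab.length &&
    D.reps.head? == some [] && (gens.zip D.tab).all fun x => D.row m x.1 x.2

/-- the mask is invariant under the elements of `gC`, which are the words `cw` -/
def okC (m : ℕ) (gens tab gC : List SW) (cw : List (List ℕ)) (a : ℕ) : Bool :=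
  Nat.beq gC.length cw.length && (gC.zip cw).all fun x => vl m x.1 && (x.2.all fun i => Nat.blt i gens.length) &&
    cd m x.1 == cd m (wd gens x.2) && Nat.beq (stps tab x.2 a) a

/-! ### the check with packed permutations -/

private def dg (C i : ℕ) : ℕ := C >>> (4 * i) % 16

private def sw (C : ℕ) (x : ℕ × ℕ) : ℕ :=
  (fun t => Nat.xor (Nat.xor C (Nat.shiftLeft t (Nat.mul 4 x.1))) (Nat.shiftLeft t (Nat.mul 4 x.2)))
    (Nat.mod (Nat.xor (Nat.shiftRight C (Nat.mul 4 x.1)) (Nat.shiftRight C (Nat.mul 4 x.2))) 16)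

private noncomputable def sws (l : SW) : ℕ → ℕ := List.rec (fun C => C) (fun x _ ih C => ih (sw C x)) l

private noncomputable def tb (l : List SW) : ℕ :=
  List.rec 0 (fun r _ ih => Nat.add (Nat.mod (sws r 0xfedcba9876543210) 0x10000000000000000) (Nat.shiftLeft ih 64)) l

private noncomputable def fc (x : ℕ) (f : ℕ → Bool) : Bool := Nat.rec (f 0) (fun n _ => f (Nat.succ n)) x

private noncomputable def rw2 (K N G : ℕ) (W : List SW) (l : List SW) : SW → Bool :=
  List.rec (fun _ => true) (fun r _ ih t => List.rec true (fun y t' _ => Nat.blt y.1 N &&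
    (Nat.beq (sws r G) (sws (W.getD y.2 []) (Nat.mod (Nat.shiftRight K (Nat.mul 64 y.1)) 0x10000000000000000)) && ih t')) t) l

/-- the check of the data, with packed permutations -/
noncomputable def Dt.qChk (m : ℕ) (gens : List SW) (D : Dt) : Bool :=
  Nat.ble m 16 && gens.all (vl m) && D.gT.all (vl m) && D.reps.all (vl m) && Nat.beq gens.length D.tab.length &&
    D.reps.head? == some [] && fc (tb D.reps) fun K => fc D.reps.length fun N => (gens.zip D.tab).all fun x =>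
      Nat.beq N x.2.length && fc (sws x.1 0xfedcba9876543210) fun G => rw2 K N G (D.zw.map (wd D.gT)) D.reps x.2

private theorem fc_eq (x : ℕ) (f : ℕ → Bool) : fc x f = f x := by cases x <;> rfl

private theorem dg_xor (X Y i : ℕ) : dg (X ^^^ Y) i = dg X i ^^^ dg Y i := by
  show (X ^^^ Y) >>> (4 * i) % 2 ^ 4 = X >>> (4 * i) % 2 ^ 4 ^^^ Y >>> (4 * i) % 2 ^ 4
  rw [Nat.shiftRight_xor_distrib, Nat.xor_mod_two_pow]

private theorem dg_sh {t : ℕ} (ht : t < 16) (a i : ℕ) : dg (t <<< (4 * a)) i = if i = a then t else 0 := by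
  refine Nat.eq_of_testBit_eq fun j => ?_
  show (t <<< (4 * a) >>> (4 * i) % 2 ^ 4).testBit j = _
  rw [Nat.testBit_mod_two_pow, Nat.testBit_shiftRight, Nat.testBit_shiftLeft]
  have h0 : ∀ k, 4 ≤ k → t.testBit k = false := fun k hk =>
    Nat.testBit_lt_two_pow (lt_of_lt_of_le ht (Nat.pow_le_pow_right (n := 2) (by decide) hk))
  split_ifs with h
  · subst h
    rw [Nat.add_sub_cancel_left, decide_eq_true (Nat.le_add_right (4 * i) j), Bool.true_and]
    by_cases hj : j < 4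
    · rw [decide_eq_true hj, Bool.true_and]
    · rw [decide_eq_false hj, Bool.false_and, h0 j (not_lt.1 hj)]
  · rw [Nat.zero_testBit]
    by_cases hj : j < 4
    · by_cases h1 : 4 * i + j ≥ 4 * a
      · rw [h0 _ (by omega), Bool.and_false, Bool.and_false]
      · rw [decide_eq_false h1, Bool.false_and, Bool.and_false]
    · rw [decide_eq_false hj, Bool.false_and]

private theorem dg_sw (C : ℕ) (x : ℕ × ℕ) (j : ℕ) :
    dg (sw C x) j = dg C (if Nat.beq j x.1 then x.2 else if Nat.beq j x.2 then x.1 else j) := by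
  have e : (C >>> (4 * x.1) ^^^ C >>> (4 * x.2)) % 16 = dg C x.1 ^^^ dg C x.2 := Nat.xor_mod_two_pow (n := 4)
  have ht : (C >>> (4 * x.1) ^^^ C >>> (4 * x.2)) % 16 < 16 := Nat.mod_lt _ (by decide)
  show dg ((C ^^^ ((C >>> (4 * x.1) ^^^ C >>> (4 * x.2)) % 16) <<< (4 * x.1)) ^^^
    ((C >>> (4 * x.1) ^^^ C >>> (4 * x.2)) % 16) <<< (4 * x.2)) j = _
  rw [dg_xor, dg_xor, dg_sh ht, dg_sh ht, e]
  by_cases h1 : j = x.1
  · rw [if_pos h1, if_pos (nb.2 h1), h1, Nat.xor_xor_cancel_left]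
    by_cases h2 : x.1 = x.2
    · rw [if_pos h2, h2, Nat.xor_self, Nat.xor_zero]
    · rw [if_neg h2, Nat.xor_zero]
  · rw [if_neg h1, if_neg (nb' h1), Nat.xor_zero]
    by_cases h2 : j = x.2
    · rw [if_pos h2, if_pos (nb.2 h2), h2, Nat.xor_comm (dg C x.1), Nat.xor_xor_cancel_left]
    · rw [if_neg h2, if_neg (nb' h2), Nat.xor_zero]

private theorem dg_sws : ∀ (l : SW) (C i : ℕ), dg (sws l C) i = dg C (ap l i)
  | [], _, _ => rfl
  | x :: l, C, i => (dg_sws l (sw C x) i).trans (dg_sw C x _)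

private theorem dg_mod (X : ℕ) {j : ℕ} (hj : j < 16) : dg (X % 0x10000000000000000) j = dg X j := by
  refine Nat.eq_of_testBit_eq fun k => ?_
  show ((X % 2 ^ 64) >>> (4 * j) % 2 ^ 4).testBit k = (X >>> (4 * j) % 2 ^ 4).testBit k
  rw [Nat.testBit_mod_two_pow, Nat.testBit_mod_two_pow, Nat.testBit_shiftRight, Nat.testBit_shiftRight, Nat.testBit_mod_two_pow]
  by_cases hk : k < 4
  · rw [decide_eq_true (show 4 * j + k < 64 by omega), Bool.true_and]
  · rw [decide_eq_false hk, Bool.false_and, Bool.false_and]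

private theorem tb_cons (r : SW) (l : List SW) :
    tb (r :: l) = sws r 0xfedcba9876543210 % 0x10000000000000000 + tb l <<< 64 := rfl

private theorem tb_get : ∀ (l : List SW) (y : ℕ), y < l.length →
    tb l >>> (64 * y) % 0x10000000000000000 = sws (l.getD y []) 0xfedcba9876543210 % 0x10000000000000000
  | r :: l, 0, _ => by
    rw [tb_cons, List.getD_cons_zero, Nat.mul_zero, Nat.shiftRight_zero, Nat.shiftLeft_eq]
    omega
  | r :: l, y + 1, h => by
    have e : ∀ a b : ℕ, (a % 0x10000000000000000 + b * 2 ^ 64) / 2 ^ 64 = b := fun a b => by omega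
    rw [tb_cons, List.getD_cons_succ, ← tb_get l y (Nat.lt_of_succ_lt_succ h), show 64 * (y + 1) = 64 + 64 * y by omega,
      Nat.shiftRight_add, Nat.shiftLeft_eq, Nat.shiftRight_eq_div_pow _ 64, e]

private theorem ap_app : ∀ (l l' : SW) (i : ℕ), ap (l ++ l') i = ap l (ap l' i)
  | [], _, _ => rfl
  | x :: l, l', i => congrArg (fun j => if Nat.beq j x.1 then x.2 else if Nat.beq j x.2 then x.1 else j) (ap_app l l' i)

private theorem rw2_spec {K N G : ℕ} {W : List SW} : ∀ (l : List SW) (t : SW), rw2 K N G W l t = true →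
    ∀ y ∈ l.zip t, y.2.1 < N ∧ sws y.1 G = sws (W.getD y.2.2 []) (K >>> (64 * y.2.1) % 0x10000000000000000)
  | [], _, _, _, hy => absurd hy List.not_mem_nil
  | _ :: _, [], _, _, hy => absurd hy List.not_mem_nil
  | r :: l, z :: t, h, y, hy => by
    obtain ⟨h1, h2⟩ := Bool.and_eq_true_iff.1 h
    obtain ⟨h2, h3⟩ := Bool.and_eq_true_iff.1 h2
    rcases List.mem_cons.1 hy with rfl | hy
    · exact ⟨Nat.blt_eq.mp h1, Nat.eq_of_beq_eq_true h2⟩
    · exact rw2_spec l t h3 y hy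

theorem Dt.chk_of_q {m : ℕ} {gens : List SW} {D : Dt} (h : D.qChk m gens = true) : D.chk m gens = true := by
  simp only [Dt.qChk, fc_eq, Bool.and_eq_true] at h
  obtain ⟨⟨⟨⟨⟨⟨h0, h1⟩, h2⟩, h3⟩, h4⟩, h5⟩, h6⟩ := h
  have hm := Nat.le_of_ble_eq_true h0
  have hI : ∀ j < 16, dg 0xfedcba9876543210 j = j := by decide +kernel
  refine Bool.and_eq_true_iff.2 ⟨Bool.and_eq_true_iff.2 ⟨Bool.and_eq_true_iff.2 ⟨Bool.and_eq_true_iff.2
    ⟨Bool.and_eq_true_iff.2 ⟨h1, h2⟩, h3⟩, h4⟩, h5⟩, List.all_eq_true.2 fun x hx => ?_⟩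
  obtain ⟨k1, k2⟩ := Bool.and_eq_true_iff.1 (List.all_eq_true.1 h6 x hx)
  refine Bool.and_eq_true_iff.2 ⟨k1, List.all_eq_true.2 fun y hy => ?_⟩
  obtain ⟨k3, k4⟩ := rw2_spec _ _ k2 y hy
  refine Bool.and_eq_true_iff.2 ⟨Nat.blt_eq.mpr k3, beq_iff_eq.2 (List.map_congr_left fun i hi => ?_)⟩
  have hi := List.mem_range.1 hi
  have e1 := (vl_iff.1 (vl_append (List.all_eq_true.1 h1 _ (List.of_mem_zip hx).1) (List.all_eq_true.1 h3 _ (List.of_mem_zip hy).1))).2
  have e2 := vl_wd h2 (D.zw.getD y.2.2 [])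
  have e3 := (vl_iff.1 (vl_append (vl_getD h3 y.2.1) e2)).2
  have e4 : (D.zw.map (wd D.gT)).getD y.2.2 [] = wd D.gT (D.zw.getD y.2.2 []) := List.getD_map (f := wd D.gT) (d := []) ..
  have k5 := congrArg (dg · i) k4
  simp only [dg_sws] at k5
  rwa [tb_get _ _ k3, e4, dg_mod _ (lt_of_lt_of_le (ap_lt (vl_iff.1 e2).2 hi) hm), dg_sws, ← ap_app, ← ap_app,
    hI _ (lt_of_lt_of_le (ap_lt e1 hi) hm), hI _ (lt_of_lt_of_le (ap_lt e3 hi) hm)] at k5

section act
variable {n m : ℕ} [NeZero n] {F : Type*} [Field F] {W : Type*} [AddCommGroup W] [Module F W]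
  (ρ : Representation F ↥(alternatingGroup (Fin n)) W)

/-- the operator -/
noncomputable def Tr.op (gens : List SW) : Tr → Module.End F W
  | .nil => 0
  | .one s => 1 + Tr.op gens s
  | .ap i c s => ρ (P n (gens.getD i [])) * Tr.op gens c + Tr.op gens s

/-- the translates -/
noncomputable def gw (D : Dt) (v : W) : List W := D.reps.map fun r => ρ (P n r) v

theorem sumM_lin (l : List SW) (a : ℕ) : ∃ f : Module.End F W, ∀ v, f v = sumM (l.map fun r => ρ (P n r) v) a := by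
  induction l generalizing a with
  | nil => exact ⟨0, fun _ => rfl⟩
  | cons r l ih =>
    obtain ⟨f, hf⟩ := ih (a / 2)
    refine ⟨(if a % 2 = 1 then ρ (P n r) else 0) + f, fun v => ?_⟩
    show _ = (if a % 2 = 1 then ρ (P n r) v else 0) + sumM (l.map fun r => ρ (P n r) v) (a / 2)
    rw [LinearMap.add_apply, hf]
    split_ifs <;> rfl

variable {ρ} {gens : List SW} {D : Dt}

theorem chk_spec (h : D.chk m gens = true) : gens.all (vl m) = true ∧ D.gT.all (vl m) = true ∧
    D.reps.all (vl m) = true ∧ gens.length = D.tab.length ∧ D.reps.head? = some [] ∧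
    ∀ x ∈ gens.zip D.tab, D.reps.length = x.2.length ∧ ∀ y ∈ D.reps.zip x.2, y.2.1 < D.reps.length ∧
      cd m (x.1 ++ y.1) = cd m (D.reps.getD y.2.1 [] ++ wd D.gT (D.zw.getD y.2.2 [])) := by
  unfold Dt.chk Dt.row at h
  simp only [Bool.and_eq_true, List.all_eq_true, beq_iff_eq, Nat.beq_eq, Nat.blt_eq] at h
  obtain ⟨⟨⟨⟨⟨h1, h2⟩, h3⟩, h4⟩, h5⟩, h6⟩ := h
  exact ⟨List.all_eq_true.2 h1, List.all_eq_true.2 h2, List.all_eq_true.2 h3, h4, h5, h6⟩

theorem gen_spec (hm : m ≤ n) (h2 : ∀ w : W, w + w = 0) (h : D.chk m gens = true) {v : W}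
    (hv : v ∈ inv ρ (Tg n D.gT)) {i : ℕ} (hi : i < gens.length) (a : ℕ) :
    ρ (P n (gens.getD i [])) (sumM (gw ρ D v) a) = sumM (gw ρ D v) (stp (D.tab.getD i []) a) := by
  obtain ⟨h1, hz, hr, hl, -, hx⟩ := chk_spec h
  have hi' : i < D.tab.length := hl ▸ hi
  have hmem : (gens.getD i [], D.tab.getD i []) ∈ gens.zip D.tab := by
    rw [List.getD_eq_getElem _ _ hi, List.getD_eq_getElem _ _ hi', ← List.getElem_zip (h := by
      rw [List.length_zip]; omega)]
    exact List.getElem_mem _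
  obtain ⟨k1, k2⟩ := hx _ hmem
  refine stp_spec h2 (gw ρ D v) (ρ (P n (gens.getD i []))).toAddMonoidHom (gw ρ D v) (D.tab.getD i [])
    (by rw [gw, List.length_map]; exact k1) ?_ a
  intro e he
  rw [gw, List.zip_map_left] at he
  obtain ⟨y, hy, rfl⟩ := List.mem_map.1 he
  obtain ⟨j1, j2⟩ := k2 y hy
  have hy1 : vl m y.1 = true := List.all_eq_true.1 hr _ (List.of_mem_zip hy).1
  have hgi : vl m (gens.getD i []) = true := vl_getD h1 i
  have hrj : vl m (D.reps.getD y.2.1 []) = true := vl_getD hr _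
  show ρ (P n (gens.getD i [])) (ρ (P n y.1) v) = (gw ρ D v).getD y.2.1 0
  have e1 : (gw ρ D v).getD y.2.1 0 = ρ (P n (D.reps.getD y.2.1 [])) v := by
    rw [gw, List.getD_eq_getElem _ _ (by rw [List.length_map]; exact j1), List.getElem_map, List.getD_eq_getElem _ _ j1]
  rw [e1, ← Module.End.mul_apply, ← map_mul, ← P_append hm hgi hy1,
    (P_eq_iff hm (vl_append hgi hy1) (vl_append hrj (vl_wd hz _))).2 j2, P_append hm hrj (vl_wd hz _), map_mul,
    Module.End.mul_apply, hv _ (P_wd_mem hm hz _)]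

theorem word_spec (hm : m ≤ n) (h2 : ∀ w : W, w + w = 0) (h : D.chk m gens = true) {v : W}
    (hv : v ∈ inv ρ (Tg n D.gT)) {w : List ℕ} (hw : (w.all fun i => Nat.blt i gens.length) = true) (a : ℕ) :
    ρ (P n (wd gens w)) (sumM (gw ρ D v) a) = sumM (gw ρ D v) (stps D.tab w a) := by
  have h1 := (chk_spec h).1
  induction w with
  | nil =>
    rw [wd_nil, P_nil, map_one]
    rfl
  | cons i w ih =>
    rw [List.all_cons, Bool.and_eq_true, Nat.blt_eq] at hw
    rw [wd_cons, P_append hm (vl_getD h1 i) (vl_wd h1 w), map_mul, Module.End.mul_apply, ih hw.2,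
      gen_spec hm h2 h hv hw.1]
    rfl

theorem ev_spec (hm : m ≤ n) (h2 : ∀ w : W, w + w = 0) (h : D.chk m gens = true) {v : W}
    (hv : v ∈ inv ρ (Tg n D.gT)) (a : ℕ) {t : Tr} (ht : t.ok gens.length = true) :
    t.op ρ gens (sumM (gw ρ D v) a) = sumM (gw ρ D v) (t.ev D.tab a) := by
  induction t with
  | nil => exact (sumM_zero _).symm
  | one s ih =>
    show (1 + s.op ρ gens) _ = sumM (gw ρ D v) (a ^^^ s.ev D.tab a)
    rw [sumM_xor h2, LinearMap.add_apply, ih ht]
    rfl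
  | ap i c s ihc ihs =>
    have ht' : (Nat.blt i gens.length && c.ok gens.length && s.ok gens.length) = true := ht
    rw [Bool.and_eq_true, Bool.and_eq_true, Nat.blt_eq] at ht'
    show (ρ (P n (gens.getD i [])) * c.op ρ gens + s.op ρ gens) _ =
      sumM (gw ρ D v) (stp (D.tab.getD i []) (c.ev D.tab a) ^^^ s.ev D.tab a)
    rw [sumM_xor h2, LinearMap.add_apply, Module.End.mul_apply, ihc ht'.1.2, ihs ht'.2, gen_spec hm h2 h hv ht'.1.1]

theorem sumM_one' (h : D.chk m gens = true) (v : W) : sumM (gw ρ D v) 1 = v := by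
  obtain ⟨r, hr⟩ := List.head?_eq_some_iff.1 (chk_spec h).2.2.2.2.1
  have h1 := sumM_pow (gw ρ D v) 0
  rw [pow_zero] at h1
  rw [h1, gw, hr, List.map_cons, List.getD_cons_zero, P_nil, map_one]
  rfl

theorem mem_okC (hm : m ≤ n) (h2 : ∀ w : W, w + w = 0) (h : D.chk m gens = true) {v : W}
    (hv : v ∈ inv ρ (Tg n D.gT)) {gC : List SW} {cw : List (List ℕ)} {a : ℕ} (hC : okC m gens D.tab gC cw a = true) :
    sumM (gw ρ D v) a ∈ inv ρ (Tg n gC) := by
  unfold okC at hC
  rw [Bool.and_eq_true, Nat.beq_eq] at hC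
  refine mem_inv_closure.2 ?_
  rintro _ ⟨g, hg, rfl⟩
  obtain ⟨i, hi, rfl⟩ := List.getElem_of_mem hg
  have hi' : i < cw.length := hC.1 ▸ hi
  have h3 := List.all_eq_true.1 hC.2 (gC[i], cw[i]) (by
    rw [← List.getElem_zip (h := by rw [List.length_zip]; omega)]
    exact List.getElem_mem _)
  simp only [Bool.and_eq_true, beq_iff_eq, Nat.beq_eq] at h3
  rw [(P_eq_iff hm h3.1.1.1 (vl_wd (chk_spec h).1 _)).2 h3.1.2, word_spec hm h2 h hv h3.1.1.2, h3.2]

variable (F) in
theorem add_self [CharP F 2] (w : W) : w + w = 0 := by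
  rw [← two_smul F w, show (2 : F) = 0 from CharP.cast_eq_zero F 2, zero_smul]

variable (ρ) [CharP F 2] [FiniteDimensional F W]

/-- **`f(A) ≤ f(C)`** -/
theorem le1 (hm : m ≤ n) {A : Dt} (hA : A.chk m gens = true) {gC : List SW} {cw : List (List ℕ)} {a : ℕ}
    (hC : okC m gens A.tab gC cw a = true) {t : Tr} (ht : t.ok gens.length = true) (h : t.ev A.tab a = 1) :
    finrank F ↥(inv ρ (Tg n A.gT)) ≤ finrank F ↥(inv ρ (Tg n gC)) := by
  obtain ⟨f, hf⟩ := sumM_lin ρ A.reps a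
  let Φ : ↥(inv ρ (Tg n A.gT)) →ₗ[F] ↥(inv ρ (Tg n gC)) :=
    LinearMap.codRestrict _ (f.domRestrict _) fun v => by
      rw [LinearMap.domRestrict_apply, hf]
      exact mem_okC hm (add_self F) hA v.2 hC
  refine LinearMap.finrank_le_finrank_of_injective (f := Φ) ((injective_iff_map_eq_zero Φ).2 fun v hv => ?_)
  have h1 : sumM (gw ρ A v) a = 0 := (hf v).symm.trans (congrArg Subtype.val hv)
  have h2 := ev_spec hm (add_self F) hA v.2 a ht
  rw [h1, map_zero, h, sumM_one' hA] at h2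
  exact Subtype.ext h2.symm

/-- **`f(A) + f(B) ≤ f(C) + f(D)`** -/
theorem le2 (hm : m ≤ n) {A B : Dt} (hA : A.chk m gens = true) (hB : B.chk m gens = true) {gC gD : List SW}
    {cw dw : List (List ℕ)} {a b e : ℕ} (hCA : okC m gens A.tab gC cw a = true) (hCB : okC m gens B.tab gC cw b = true)
    (hD : okC m gens B.tab gD dw e = true) {s t s' t' : Tr} (hs : s.ok gens.length = true) (ht : t.ok gens.length = true)
    (hs' : s'.ok gens.length = true) (ht' : t'.ok gens.length = true)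
    (h1 : s.ev A.tab (t.ev A.tab a) = 1) (h2 : s.ev B.tab (t.ev B.tab b) = 0)
    (h3 : s'.ev A.tab (t'.ev A.tab a) = 0) (h4 : Nat.xor (s'.ev B.tab (t'.ev B.tab b)) e = 1) :
    finrank F ↥(inv ρ (Tg n A.gT)) + finrank F ↥(inv ρ (Tg n B.gT)) ≤
      finrank F ↥(inv ρ (Tg n gC)) + finrank F ↥(inv ρ (Tg n gD)) := by
  obtain ⟨fa, ha⟩ := sumM_lin ρ A.reps a
  obtain ⟨fb, hb⟩ := sumM_lin ρ B.reps b
  obtain ⟨fe, he⟩ := sumM_lin ρ B.reps e
  let Φa : ↥(inv ρ (Tg n A.gT)) →ₗ[F] ↥(inv ρ (Tg n gC)) :=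
    LinearMap.codRestrict _ (fa.domRestrict _) fun v => by
      rw [LinearMap.domRestrict_apply, ha]
      exact mem_okC hm (add_self F) hA v.2 hCA
  let Φb : ↥(inv ρ (Tg n B.gT)) →ₗ[F] ↥(inv ρ (Tg n gC)) :=
    LinearMap.codRestrict _ (fb.domRestrict _) fun v => by
      rw [LinearMap.domRestrict_apply, hb]
      exact mem_okC hm (add_self F) hB v.2 hCB
  let Φe : ↥(inv ρ (Tg n B.gT)) →ₗ[F] ↥(inv ρ (Tg n gD)) :=
    LinearMap.codRestrict _ (fe.domRestrict _) fun v => by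
      rw [LinearMap.domRestrict_apply, he]
      exact mem_okC hm (add_self F) hB v.2 hD
  let Φ := (Φa.coprod Φb).prod (Φe.comp (LinearMap.snd F ↥(inv ρ (Tg n A.gT)) _))
  rw [← finrank_prod, ← finrank_prod]
  refine LinearMap.finrank_le_finrank_of_injective (f := Φ) ((injective_iff_map_eq_zero Φ).2 ?_)
  rintro ⟨v, w⟩ hv
  have k1 : sumM (gw ρ A v) a + sumM (gw ρ B w) b = 0 := by
    rw [gw, gw, ← ha, ← hb]
    exact congrArg Subtype.val (congrArg Prod.fst hv)
  have k2 : sumM (gw ρ B w) e = 0 := (he w).symm.trans (congrArg Subtype.val (congrArg Prod.snd hv))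
  have k3 := congrArg (fun u => s.op ρ gens (t.op ρ gens u)) k1
  have k4 := congrArg (fun u => s'.op ρ gens (t'.op ρ gens u)) k1
  simp only [map_add, map_zero] at k3 k4
  rw [ev_spec hm (add_self F) hA v.2 _ ht, ev_spec hm (add_self F) hA v.2 _ hs, ev_spec hm (add_self F) hB w.2 _ ht,
    ev_spec hm (add_self F) hB w.2 _ hs, h1, h2, sumM_zero, add_zero, sumM_one' hA] at k3
  rw [ev_spec hm (add_self F) hA v.2 _ ht', ev_spec hm (add_self F) hA v.2 _ hs', ev_spec hm (add_self F) hB w.2 _ ht',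
    ev_spec hm (add_self F) hB w.2 _ hs', h3, sumM_zero, zero_add] at k4
  have k5 := sumM_xor (add_self F) (gw ρ B w) (s'.ev B.tab (t'.ev B.tab b)) e
  have h4' : s'.ev B.tab (t'.ev B.tab b) ^^^ e = 1 := h4
  rw [h4', k4, k2, add_zero, sumM_one' hB] at k5
  exact Prod.ext (Subtype.ext k3) (Subtype.ext k5)

end act

end Cfsg.Agent.E8A.Two.Mk
end

-- part: E8A/Two/El
section
/-!
# Explicit even permutations, conjugacy, cyclic subgroups, cycle types (helper44)
-/

set_option autoImplicit false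
set_option maxRecDepth 100000

namespace Cfsg.Agent.E8A.Two.Mk

open Module Equiv Equiv.Perm
open Cfsg.Agent.R2.T1.Odd Cfsg.Agent.R2.T1.Msk
open Cfsg.Agent.H952.F4 (ev)

/-- a permutation -/
def x3 : SW := [(0, 1), (1, 2)]

/-- a permutation -/
def y3 : SW := [(3, 4), (4, 5)]

/-- a permutation -/
def x33 : SW := [(0, 1), (1, 2), (3, 4), (4, 5)]

/-- a permutation -/
def c5 : SW := [(0, 1), (1, 2), (2, 3), (3, 4)]

/-- a permutation -/
def z5 : SW := [(6, 7), (7, 8), (8, 9), (9, 10)]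

/-- a permutation -/
def s7 : SW := [(0, 1), (1, 2), (2, 3), (3, 4), (4, 5), (5, 6)]

/-- a permutation -/
def s7i : SW := [(5, 6), (4, 5), (3, 4), (2, 3), (1, 2), (0, 1)]

/-- a permutation -/
def x15 : SW := [(0, 1), (1, 2), (3, 4), (4, 5), (5, 6), (6, 7)]

/-- a permutation -/
def x333 : SW := [(0, 1), (1, 2), (3, 4), (4, 5), (6, 7), (7, 8)]

/-- a permutation -/
def n9 : SW := [(0, 1), (1, 2), (2, 3), (3, 4), (4, 5), (5, 6), (6, 7), (7, 8)]

/-- a permutation -/
def w11 : SW := [(0, 1), (1, 2), (2, 3), (3, 4), (4, 5), (5, 6), (6, 7), (7, 8), (8, 9), (9, 10)]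

/-- a permutation -/
def w11i : SW := [(9, 10), (8, 9), (7, 8), (6, 7), (5, 6), (4, 5), (3, 4), (2, 3), (1, 2), (0, 1)]

/-- a permutation -/
def c55 : SW := [(0, 1), (1, 2), (2, 3), (3, 4), (6, 7), (7, 8), (8, 9), (9, 10)]

/-- a permutation -/
def x335 : SW := [(0, 1), (1, 2), (3, 4), (4, 5), (6, 7), (7, 8), (8, 9), (9, 10)]

/-- `a b = c d` -/
def eqP (m : ℕ) (a b c d : SW) : Bool := vl m a && vl m b && vl m c && vl m d && cd m (a ++ b) == cd m (c ++ d)

section
variable {n m : ℕ} [NeZero n]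

theorem P_eqP (hm : m ≤ n) {a b c d : SW} (h : eqP m a b c d = true) : P n a * P n b = P n c * P n d := by
  simp only [eqP, Bool.and_eq_true, beq_iff_eq] at h
  obtain ⟨⟨⟨⟨h1, h2⟩, h3⟩, h4⟩, h5⟩ := h
  rw [← P_append hm h1 h2, ← P_append hm h3 h4, P_eq_iff hm (vl_append h1 h2) (vl_append h3 h4)]
  exact h5

theorem P_cj (hm : m ≤ n) {a r : SW} (c : SW) (h : eqP m a c c r = true) : P n c * P n r * (P n c)⁻¹ = P n a := by
  rw [← P_eqP hm h, mul_inv_cancel_right]

theorem P_mul (hm : m ≤ n) {a b c : SW} (h : eqP m a b c [] = true) : P n a * P n b = P n c := by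
  rw [P_eqP hm h, P_nil, mul_one]

theorem P_inv (hm : m ≤ n) {a b : SW} (h : eqP m a b [] [] = true) : (P n a)⁻¹ = P n b := by
  rw [inv_eq_iff_mul_eq_one, P_mul hm h, P_nil]

theorem P_rat (hm : m ≤ n) {r : SW} (k : ℕ) (c : SW) (h : eqP m (pwl r k) c c r = true) : IsConj (P n r) (P n r ^ k) := by
  have h1 : vl m r = true := by
    simp only [eqP, Bool.and_eq_true] at h
    exact h.1.2
  rw [← P_pwl hm h1]
  exact isConj_iff.2 ⟨_, P_cj hm c h⟩

theorem P_ne_one (hm : m ≤ n) {a : SW} (h : (vl m a && !(cd m a == cd m [])) = true) : P n a ≠ 1 := by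
  simp only [Bool.and_eq_true, Bool.not_eq_true', beq_eq_false_iff_ne] at h
  rw [← P_nil]
  exact P_ne hm h.1 rfl h.2

theorem card_supp (hm : m ≤ n) {a : SW} (h : vl m a = true) :
    ((P n a : ↥(alternatingGroup (Fin n))) : Perm (Fin n)).support.card = ((Finset.range m).filter fun i => ap a i ≠ i).card := by
  have h1 := (vl_iff.1 h).2
  rw [coe_P hm h]
  refine Finset.card_bij (fun i _ => i.val) (fun i hi => ?_) (fun i _ j _ e => Fin.ext e) fun k hk => ?_
  · have h2 : ap a i.val ≠ i.val := fun e => mem_support.1 hi (Fin.ext ((pm_apply (h1.mono hm) i).trans e))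
    refine Finset.mem_filter.2 ⟨Finset.mem_range.2 ?_, h2⟩
    by_contra h3
    exact h2 (ap_ge h1 (by omega))
  · obtain ⟨h2, h3⟩ := Finset.mem_filter.1 hk
    have h4 : k < n := (Finset.mem_range.1 h2).trans_le hm
    exact ⟨⟨k, h4⟩, mem_support.2 fun e => h3 ((pm_apply (h1.mono hm) ⟨k, h4⟩).symm.trans (congrArg Fin.val e)), rfl⟩

theorem type_P (hm : m ≤ n) {a : SW} {p k : ℕ} (hp : p.Prime) (h : chkO m a p = true)
    (hk : ((Finset.range m).filter fun i => ap a i ≠ i).card = k * p) :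
    ((P n a : ↥(alternatingGroup (Fin n))) : Perm (Fin n)).cycleType = Multiset.replicate k p := by
  have h1 : vl m a = true := by
    simp only [chkO, Bool.and_eq_true] at h
    exact h.1.1.1
  have h2 : orderOf ((P n a : ↥(alternatingGroup (Fin n))) : Perm (Fin n)) = p := by
    rw [Subgroup.orderOf_coe, orderOf_P hm h]
  obtain ⟨j, hj⟩ := cycleType_prime_order (σ := ((P n a : ↥(alternatingGroup (Fin n))) : Perm (Fin n))) (h2 ▸ hp)
  have h3 := sum_cycleType ((P n a : ↥(alternatingGroup (Fin n))) : Perm (Fin n))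
  rw [card_supp hm h1, hk, hj, h2, Multiset.sum_replicate, smul_eq_mul] at h3
  rw [hj, h2, Nat.eq_of_mul_eq_mul_right hp.pos h3]

omit [NeZero n] in
theorem conj_type {a b : ↥(alternatingGroup (Fin n))} (h : (a : Perm (Fin n)).cycleType = (b : Perm (Fin n)).cycleType)
    (h2 : (a : Perm (Fin n)).cycleType.sum + 2 ≤ n) : IsConj a b :=
  alternatingGroup.isConj_of (isConj_iff_cycleType_eq.2 h) (by rwa [← sum_cycleType, Fintype.card_fin])

theorem type_x3 (hn : 8 ≤ n) : ((P n x3 : ↥(alternatingGroup (Fin n))) : Perm (Fin n)).cycleType = {3} :=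
  type_P (k := 1) hn Nat.prime_three (by decide +kernel) (by decide +kernel)

theorem type_x33 (hn : 8 ≤ n) : ((P n x33 : ↥(alternatingGroup (Fin n))) : Perm (Fin n)).cycleType = {3, 3} :=
  type_P (k := 2) hn Nat.prime_three (by decide +kernel) (by decide +kernel)

theorem type_c5 (hn : 8 ≤ n) : ((P n c5 : ↥(alternatingGroup (Fin n))) : Perm (Fin n)).cycleType = {5} :=
  type_P (k := 1) hn Nat.prime_five (by decide +kernel) (by decide +kernel)

variable {F : Type*} [Field F] {W : Type*} [AddCommGroup W] [Module F W]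
  (ρ : Representation F ↥(alternatingGroup (Fin n)) W)

theorem evP (hm : m ≤ n) {a r : SW} (c : SW) (h : eqP m a c c r = true) : ev (ρ (P n a)) 1 = ev (ρ (P n r)) 1 := by
  rw [← P_cj hm c h, H944.E6T.ev_conj]

theorem mem_Tg {gens : List SW} {v : W} : v ∈ inv ρ (Tg n gens) ↔ ∀ g ∈ gens, ρ (P n g) v = v := by
  refine mem_inv_closure.trans ⟨fun h g hg => h _ ⟨g, hg, rfl⟩, ?_⟩
  rintro h _ ⟨g, hg, rfl⟩
  exact h g hg

theorem fr_one (g : SW) : finrank F ↥(inv ρ (Tg n [g])) = ev (ρ (P n g)) 1 := by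
  have h : inv ρ (Tg n [g]) = Module.End.eigenspace (ρ (P n g)) 1 := by
    ext v
    rw [mem_Tg, Module.End.mem_eigenspace_iff, one_smul, List.forall_mem_singleton]
  rw [h]
  rfl

theorem fr_two [FiniteDimensional F W] (g g' : SW) : finrank F ↥(inv ρ (Tg n [g, g'])) ≤ ev (ρ (P n g * P n g')) 1 := by
  refine Submodule.finrank_mono fun v hv => ?_
  rw [mem_Tg] at hv
  rw [Module.End.mem_eigenspace_iff, one_smul, map_mul, Module.End.mul_apply, hv g' (by simp), hv g (by simp)]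

omit [NeZero n] in
theorem ev_inv (x : ↥(alternatingGroup (Fin n))) : ev (ρ x⁻¹) 1 = ev (ρ x) 1 := by
  have h : ∀ y : ↥(alternatingGroup (Fin n)), Module.End.eigenspace (ρ y) 1 ≤ Module.End.eigenspace (ρ y⁻¹) 1 := by
    intro y v hv
    rw [Module.End.mem_eigenspace_iff, one_smul] at hv ⊢
    conv_lhs => rw [← hv]
    rw [← Module.End.mul_apply, ← map_mul, inv_mul_cancel, map_one]
    rfl
  have h1 := h x⁻¹
  rw [inv_inv] at h1
  unfold ev
  rw [le_antisymm h1 (h x)]

end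

end Cfsg.Agent.E8A.Two.Mk
end

private theorem dce_7a2606bdc804 : _root_.True := by
  try have : _root_.True := by simp only [_root_.Cfsg.Agent.E8A.Two.Mk.gw.congr_simp]
  try have : _root_.True := by simp only [_root_.Cfsg.Agent.E8A.Two.Mk.Tr.ev.eq_def]
  try have : _root_.True := by simp only [_root_.Cfsg.Agent.E8A.Two.Mk.eqP.eq_1]
  try have : _root_.True := by simp only [_root_.Cfsg.Agent.E8A.Two.Mk.Tr.ok.eq_def]
  try have : _root_.True := by simp only [_root_.Cfsg.Agent.E8A.Two.Mk.gw.eq_1]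
  try have : _root_.True := by simp only [_root_.Cfsg.Agent.E8A.Two.Mk.Tr.op.congr_simp]
  try have : _root_.True := by simp only [_root_.Cfsg.Agent.R2.T1.Odd.chkO.eq_1]
  try have : _root_.True := by simp only [_root_.Cfsg.Agent.E8A.Two.Mk.Tr.op.eq_def]
  exact _root_.True.intro
end

-- part: E8A/Two/C7
section
prune_inst 0xf5207544344000000818051632002444ee000192006bc801f9c00f460f47f343a0452f41fef03e1291febef4784bc06811000159427800002e00be00411f00a084af7ae6b77cbf0c7f0097c1f887180c00000000000000000000000000051004000000000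
set_option linter.all false
private noncomputable def lq26484ea4b8 {T : Sort _} (f :
    type_of% (@_root_.Prod.mk.{0, 0}) →
    type_of% (@_root_.List.cons.{0}) →
    type_of% (@_root_.List.cons.{0} (Prod Nat Nat)) →
    type_of% (@_root_.List.nil.{0}) →
    type_of% (@_root_.List.cons.{0} (List (Prod Nat Nat))) →
    type_of% (@_root_.Cfsg.Agent.E8A.Two.Mk.Tr.nil) →
    type_of% (@_root_.Cfsg.Agent.E8A.Two.Mk.Tr.ap) →
    type_of% (@_root_.Cfsg.Agent.E8A.Two.Mk.Tr.one) → T) : T :=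
  f (@_root_.Prod.mk.{0, 0}) (@_root_.List.cons.{0}) (@_root_.List.cons.{0} (Prod Nat Nat)) (@_root_.List.nil.{0}) (@_root_.List.cons.{0} (List (Prod Nat Nat))) (@_root_.Cfsg.Agent.E8A.Two.Mk.Tr.nil) (@_root_.Cfsg.Agent.E8A.Two.Mk.Tr.ap) (@_root_.Cfsg.Agent.E8A.Two.Mk.Tr.one)

/-!
# The certificate in `A₇`: `f(5) + f(7) ≤ f(3²) + f(7:3)` (helper44, generated by notes/E8A/two)
-/

set_option autoImplicit false
set_option maxRecDepth 100000

namespace Cfsg.Agent.E8A.Two.Mk

open Cfsg.Agent.R2.T1.Odd Cfsg.Agent.R2.T1.Msk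

/-- generators -/
def g7 : List SW := (beta% delta% lq26484ea4b8 fun a b _ e _ _ _ _ =>
 (b (b (a 0 1)<|b (a 1 2)<|b (a 2 3)<|b (a 3 4)<|b (a 4 5)<|b (a 5 6)<|e)<|b (b (a 1 2)<|b (a 2 4)<|b (a 3 6)<|b (a 6 5)<|e)<|b (b (a 0 1)<|b (a 1 2)<|b (a 2 3)<|b (a 3 4)<|e)<|e))

/-- cosets -/
def A7 : Dt where
  gT := [[(0, 1), (1, 2), (2, 3), (3, 4)]]
  zw := (beta% delta% lq26484ea4b8 fun _ b _ e _ _ _ _ =>
 (b e<|b (b 0<|e)<|b (b 0<|b 0<|e)<|b (b 0<|b 0<|b 0<|e)<|b (b 0<|b 0<|b 0<|b 0<|e)<|e))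
  reps := (beta% delta% lq26484ea4b8 fun a b _ e f _ _ _ =>
 (let d:=(let d:=(let d:=(let d:=(let d:=(let d:=(let d:=(f (b (a 1 3)<|b (a 3 6)<|b (a 6 4)<|b (a 4 5)<|e)<|f (b (a 0 2)<|b (a 1 5)<|e)<|
 f (b (a 1 6)<|b (a 6 3)<|b (a 3 2)<|b (a 2 5)<|e)<|f (b (a 1 4)<|b (a 2 3)<|e)<|e);
 (f (b (a 0 2)<|b (a 2 1)<|b (a 1 5)<|b (a 5 6)<|e)<|f (b (a 1 5)<|b (a 5 3)<|b (a 3 4)<|b (a 4 6)<|e)<|
 f (b (a 1 6)<|b (a 6 5)<|b (a 5 4)<|b (a 2 3)<|e)<|f (b (a 0 1)<|b (a 1 3)<|b (a 3 6)<|b (a 4 5)<|e)<|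
 d));
 (let d:=(f (b (a 1 3)<|b (a 2 4)<|b (a 4 5)<|b (a 5 6)<|e)<|f (b (a 0 6)<|b (a 6 3)<|e)<|
 f (b (a 1 4)<|b (a 2 6)<|b (a 6 5)<|b (a 5 3)<|e)<|f (b (a 0 1)<|b (a 1 6)<|b (a 2 4)<|b (a 3 5)<|e)<|
 d);
 (f (b (a 0 1)<|b (a 1 5)<|e)<|f (b (a 0 3)<|b (a 3 6)<|b (a 6 5)<|b (a 2 4)<|e)<|
 f (b (a 1 5)<|b (a 5 2)<|b (a 3 4)<|b (a 4 6)<|e)<|f (b (a 0 1)<|b (a 1 3)<|b (a 3 5)<|b (a 2 6)<|e)<|
 d)));
 (let d:=(let d:=(f (b (a 1 5)<|b (a 5 4)<|b (a 2 6)<|b (a 6 3)<|e)<|f (b (a 1 6)<|b (a 2 5)<|b (a 5 3)<|b (a 3 4)<|e)<|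
 f (b (a 0 4)<|b (a 3 6)<|e)<|f (b (a 2 6)<|b (a 6 5)<|b (a 5 3)<|b (a 3 4)<|e)<|
 d);
 (f (b (a 1 5)<|b (a 5 2)<|e)<|f (b (a 1 6)<|b (a 2 4)<|b (a 4 3)<|b (a 3 5)<|e)<|
 f (b (a 1 6)<|b (a 6 3)<|b (a 3 5)<|b (a 5 4)<|e)<|f (b (a 1 4)<|b (a 4 5)<|e)<|
 d));
 (let d:=(f (b (a 0 1)<|b (a 1 6)<|b (a 6 5)<|b (a 2 4)<|e)<|f (b (a 0 1)<|b (a 1 5)<|b (a 2 4)<|b (a 3 6)<|e)<|
 f (b (a 0 3)<|b (a 3 5)<|b (a 1 6)<|b (a 2 4)<|e)<|f (b (a 2 3)<|b (a 3 5)<|b (a 5 6)<|b (a 6 4)<|e)<|
 d);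
 (f (b (a 1 4)<|b (a 2 5)<|b (a 5 3)<|b (a 3 6)<|e)<|f (b (a 1 4)<|b (a 3 5)<|e)<|
 f (b (a 2 5)<|b (a 5 6)<|b (a 6 3)<|b (a 3 4)<|e)<|f (b (a 1 3)<|b (a 2 5)<|e)<|
 d))));
 (let d:=(let d:=(let d:=(f (b (a 1 3)<|b (a 3 6)<|b (a 6 2)<|b (a 4 5)<|e)<|f (b (a 1 2)<|b (a 3 6)<|b (a 6 4)<|b (a 4 5)<|e)<|
 f (b (a 3 6)<|b (a 6 4)<|e)<|f (b (a 1 2)<|b (a 2 5)<|b (a 5 6)<|b (a 6 3)<|e)<|
 d);
 (f (b (a 0 3)<|b (a 3 6)<|b (a 2 4)<|b (a 4 5)<|e)<|f (b (a 1 6)<|b (a 6 4)<|b (a 2 5)<|b (a 5 3)<|e)<|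
 f (b (a 1 2)<|b (a 3 5)<|b (a 5 4)<|b (a 4 6)<|e)<|f (b (a 1 2)<|b (a 3 5)<|e)<|
 d));
 (let d:=(f (b (a 0 1)<|b (a 2 5)<|e)<|f (b (a 1 2)<|b (a 2 3)<|e)<|
 f (b (a 0 4)<|b (a 3 5)<|e)<|f (b (a 0 1)<|b (a 1 3)<|b (a 3 6)<|b (a 2 5)<|e)<|
 d);
 (f (b (a 1 3)<|b (a 3 6)<|b (a 6 5)<|b (a 5 2)<|e)<|f (b (a 0 2)<|b (a 2 5)<|b (a 1 4)<|b (a 3 6)<|e)<|
 f (b (a 1 6)<|b (a 6 4)<|b (a 2 3)<|b (a 3 5)<|e)<|f (b (a 2 4)<|b (a 5 6)<|e)<|
 d)));
 (let d:=(let d:=(f (b (a 2 3)<|b (a 3 4)<|b (a 4 5)<|b (a 5 6)<|e)<|f (b (a 0 2)<|b (a 4 6)<|e)<|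
 f (b (a 1 5)<|b (a 2 4)<|e)<|f (b (a 0 2)<|b (a 2 3)<|b (a 3 5)<|b (a 4 6)<|e)<|
 d);
 (f (b (a 0 3)<|b (a 3 5)<|e)<|f (b (a 2 6)<|b (a 6 4)<|b (a 4 5)<|b (a 5 3)<|e)<|
 f (b (a 1 2)<|b (a 3 6)<|e)<|f (b (a 0 3)<|b (a 4 5)<|e)<|
 d));
 (f (b (a 1 3)<|b (a 2 6)<|b (a 6 5)<|b (a 5 4)<|e)<|
 f (b (a 0 1)<|b (a 1 4)<|b (a 4 6)<|b (a 2 5)<|e)<|f (b (a 0 1)<|b (a 1 3)<|b (a 3 2)<|b (a 2 5)<|e)<|
 f (b (a 1 2)<|b (a 2 5)<|b (a 5 6)<|b (a 3 4)<|e)<|f (b (a 0 4)<|b (a 1 6)<|e)<|
 f (b (a 0 2)<|b (a 2 1)<|b (a 1 5)<|b (a 3 6)<|e)<|f (b (a 2 6)<|b (a 4 5)<|e)<|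
 d))));
 (let d:=(let d:=(let d:=(let d:=(f (b (a 1 3)<|b (a 2 5)<|b (a 5 6)<|b (a 6 4)<|e)<|
 f (b (a 0 4)<|b (a 4 1)<|b (a 1 5)<|b (a 3 6)<|e)<|f (b (a 1 3)<|b (a 3 6)<|b (a 6 2)<|b (a 2 5)<|e)<|
 f (b (a 1 3)<|b (a 4 6)<|e)<|d);
 (f (b (a 1 6)<|b (a 2 5)<|e)<|
 f (b (a 1 5)<|b (a 2 3)<|b (a 3 6)<|b (a 6 4)<|e)<|f (b (a 1 3)<|b (a 3 6)<|b (a 6 4)<|b (a 4 2)<|e)<|
 f (b (a 0 2)<|b (a 2 6)<|b (a 1 3)<|b (a 3 5)<|e)<|d));
 (let d:=(f (b (a 1 4)<|b (a 4 6)<|b (a 2 3)<|b (a 3 5)<|e)<|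
 f (b (a 1 2)<|b (a 2 3)<|b (a 4 5)<|b (a 5 6)<|e)<|f (b (a 1 5)<|b (a 5 2)<|b (a 2 3)<|b (a 4 6)<|e)<|
 f (b (a 0 4)<|b (a 5 6)<|e)<|d);
 (f (b (a 1 6)<|b (a 6 5)<|b (a 5 3)<|b (a 3 2)<|e)<|
 f (b (a 0 2)<|b (a 2 6)<|b (a 1 4)<|b (a 4 5)<|e)<|f (b (a 0 2)<|b (a 2 5)<|b (a 1 4)<|b (a 4 6)<|e)<|
 f (b (a 0 4)<|b (a 4 3)<|b (a 3 6)<|b (a 1 5)<|e)<|d)));
 (let d:=(let d:=(f (b (a 1 6)<|b (a 6 2)<|b (a 2 4)<|b (a 3 5)<|e)<|
 f (b (a 1 2)<|b (a 2 6)<|b (a 6 4)<|b (a 4 5)<|e)<|f (b (a 0 1)<|b (a 1 6)<|b (a 2 5)<|b (a 3 4)<|e)<|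
 f (b (a 2 5)<|b (a 5 4)<|b (a 4 3)<|b (a 3 6)<|e)<|d);
 (f (b (a 0 1)<|b (a 5 6)<|e)<|
 f (b (a 0 2)<|b (a 2 6)<|b (a 6 5)<|b (a 1 4)<|e)<|f (b (a 1 6)<|b (a 6 3)<|b (a 3 4)<|b (a 4 2)<|e)<|
 f (b (a 1 3)<|b (a 3 4)<|b (a 4 5)<|b (a 2 6)<|e)<|d));
 (let d:=(f (b (a 1 2)<|b (a 2 4)<|b (a 3 5)<|b (a 5 6)<|e)<|
 f (b (a 0 1)<|b (a 1 6)<|e)<|f (b (a 2 6)<|b (a 6 3)<|e)<|
 f (b (a 0 1)<|b (a 1 5)<|b (a 3 4)<|b (a 4 6)<|e)<|d);
 (f (b (a 0 2)<|b (a 2 5)<|b (a 5 1)<|b (a 1 6)<|e)<|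
 f (b (a 1 4)<|b (a 4 6)<|b (a 6 3)<|b (a 3 5)<|e)<|f (b (a 1 6)<|b (a 6 2)<|b (a 2 5)<|b (a 5 3)<|e)<|
 f (b (a 0 2)<|b (a 2 6)<|b (a 6 1)<|b (a 1 5)<|e)<|d))));
 (let d:=(let d:=(let d:=(f (b (a 1 5)<|b (a 5 2)<|b (a 2 4)<|b (a 4 6)<|e)<|
 f (b (a 1 2)<|b (a 2 4)<|b (a 4 6)<|b (a 6 3)<|e)<|f (b (a 1 2)<|b (a 2 3)<|b (a 3 6)<|b (a 6 5)<|e)<|
 f (b (a 1 5)<|b (a 5 6)<|b (a 6 3)<|b (a 2 4)<|e)<|d);
 (f (b (a 1 4)<|b (a 4 6)<|b (a 6 5)<|b (a 2 3)<|e)<|
 f (b (a 0 1)<|b (a 1 2)<|b (a 2 5)<|b (a 5 6)<|e)<|f (b (a 0 4)<|b (a 4 6)<|e)<|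
 f (b (a 2 4)<|b (a 3 6)<|e)<|d));
 (let d:=(f (b (a 0 1)<|b (a 1 6)<|b (a 6 3)<|b (a 3 5)<|e)<|
 f (b (a 1 5)<|b (a 5 2)<|b (a 2 6)<|b (a 3 4)<|e)<|f (b (a 2 4)<|b (a 4 3)<|b (a 3 5)<|b (a 5 6)<|e)<|
 f (b (a 1 2)<|b (a 2 6)<|b (a 6 3)<|b (a 3 5)<|e)<|d);
 (f (b (a 1 3)<|b (a 3 2)<|b (a 2 6)<|b (a 6 5)<|e)<|
 f (b (a 1 5)<|b (a 5 6)<|b (a 6 4)<|b (a 2 3)<|e)<|f (b (a 1 4)<|b (a 2 3)<|b (a 3 5)<|b (a 5 6)<|e)<|
 f (b (a 1 2)<|b (a 2 4)<|b (a 4 6)<|b (a 3 5)<|e)<|d)));
 (let d:=(let d:=(f (b (a 1 5)<|b (a 5 4)<|b (a 4 6)<|b (a 6 3)<|e)<|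
 f (b (a 1 2)<|b (a 2 4)<|b (a 4 3)<|b (a 3 5)<|e)<|f (b (a 1 4)<|b (a 4 3)<|b (a 3 5)<|b (a 2 6)<|e)<|
 f (b (a 0 3)<|b (a 2 6)<|e)<|d);
 (f (b (a 1 6)<|b (a 6 3)<|b (a 3 5)<|b (a 2 4)<|e)<|
 f (b (a 0 4)<|b (a 4 2)<|b (a 2 6)<|b (a 1 5)<|e)<|f (b (a 0 2)<|b (a 2 6)<|b (a 6 3)<|b (a 3 5)<|e)<|
 f (b (a 2 3)<|b (a 3 6)<|b (a 6 4)<|b (a 4 5)<|e)<|d));
 (f (b (a 1 5)<|b (a 5 6)<|b (a 2 3)<|b (a 3 4)<|e)<|f (b (a 1 6)<|b (a 6 5)<|b (a 5 2)<|b (a 2 3)<|e)<|
 f (b (a 0 1)<|b (a 1 2)<|b (a 2 6)<|b (a 6 5)<|e)<|f (b (a 1 5)<|b (a 2 6)<|b (a 6 3)<|b (a 3 4)<|e)<|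
 f (b (a 0 4)<|b (a 4 3)<|b (a 3 5)<|b (a 1 6)<|e)<|f (b (a 1 6)<|b (a 6 4)<|b (a 4 5)<|b (a 5 3)<|e)<|
 f (b (a 0 6)<|b (a 2 4)<|e)<|d)))));
 (let d:=(let d:=(let d:=(let d:=(let d:=(f (b (a 1 6)<|b (a 6 5)<|b (a 2 4)<|b (a 4 3)<|e)<|f (b (a 1 2)<|b (a 2 6)<|e)<|
 f (b (a 1 6)<|b (a 6 3)<|b (a 3 4)<|b (a 2 5)<|e)<|f (b (a 1 6)<|b (a 2 3)<|b (a 3 4)<|b (a 4 5)<|e)<|
 d);
 (f (b (a 0 6)<|b (a 6 1)<|e)<|f (b (a 1 6)<|b (a 6 5)<|b (a 5 2)<|b (a 2 4)<|e)<|
 f (b (a 1 4)<|b (a 4 6)<|b (a 2 5)<|b (a 5 3)<|e)<|f (b (a 1 5)<|b (a 5 4)<|b (a 2 3)<|b (a 3 6)<|e)<|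
 d));
 (let d:=(f (b (a 1 5)<|b (a 5 4)<|b (a 4 6)<|b (a 6 2)<|e)<|f (b (a 0 2)<|b (a 2 5)<|b (a 1 6)<|b (a 3 4)<|e)<|
 f (b (a 1 4)<|b (a 4 5)<|b (a 5 6)<|b (a 6 2)<|e)<|f (b (a 0 6)<|b (a 6 4)<|e)<|
 d);
 (f (b (a 1 2)<|b (a 2 6)<|b (a 3 5)<|b (a 5 4)<|e)<|f (b (a 1 4)<|b (a 4 5)<|b (a 5 3)<|b (a 2 6)<|e)<|
 f (b (a 0 3)<|b (a 3 5)<|b (a 5 6)<|b (a 2 4)<|e)<|f (b (a 1 6)<|b (a 6 2)<|e)<|
 d)));
 (let d:=(let d:=(f (b (a 0 2)<|b (a 2 5)<|b (a 1 3)<|b (a 3 6)<|e)<|f (b (a 0 3)<|b (a 3 5)<|b (a 2 4)<|b (a 4 6)<|e)<|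
 f (b (a 1 3)<|b (a 3 5)<|b (a 5 2)<|b (a 2 6)<|e)<|f (b (a 0 5)<|b (a 2 4)<|e)<|
 d);
 (f (b (a 2 6)<|b (a 6 3)<|b (a 3 4)<|b (a 4 5)<|e)<|f (b (a 0 3)<|b (a 2 5)<|e)<|
 f (b (a 0 1)<|b (a 1 4)<|b (a 4 5)<|b (a 2 6)<|e)<|f (b (a 2 6)<|b (a 3 4)<|e)<|
 d));
 (let d:=(f (b (a 0 2)<|b (a 2 6)<|b (a 1 5)<|b (a 3 4)<|e)<|f (b (a 1 5)<|b (a 5 4)<|b (a 4 3)<|b (a 2 6)<|e)<|
 f (b (a 0 1)<|b (a 1 2)<|b (a 2 5)<|b (a 4 6)<|e)<|f (b (a 0 1)<|b (a 1 4)<|b (a 4 3)<|b (a 3 5)<|e)<|
 d);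
 (f (b (a 1 5)<|b (a 5 6)<|b (a 2 4)<|b (a 4 3)<|e)<|f (b (a 0 1)<|b (a 1 5)<|b (a 2 6)<|b (a 6 4)<|e)<|
 f (b (a 1 4)<|b (a 4 6)<|e)<|f (b (a 1 3)<|b (a 2 5)<|b (a 5 4)<|b (a 4 6)<|e)<|
 d))));
 (let d:=(let d:=(let d:=(f (b (a 0 4)<|b (a 4 6)<|b (a 1 5)<|b (a 2 3)<|e)<|f (b (a 0 2)<|b (a 1 6)<|e)<|
 f (b (a 0 4)<|b (a 4 6)<|b (a 1 5)<|b (a 5 2)<|e)<|f (b (a 0 1)<|b (a 1 5)<|b (a 2 4)<|b (a 4 6)<|e)<|
 d);
 (f (b (a 1 3)<|b (a 2 6)<|e)<|f (b (a 0 5)<|b (a 5 1)<|e)<|
 f (b (a 0 1)<|b (a 1 2)<|b (a 2 6)<|b (a 4 5)<|e)<|f (b (a 0 3)<|b (a 3 5)<|b (a 1 4)<|b (a 2 6)<|e)<|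
 d));
 (let d:=(f (b (a 1 2)<|b (a 2 4)<|b (a 4 3)<|b (a 5 6)<|e)<|f (b (a 0 1)<|b (a 1 5)<|b (a 2 3)<|b (a 4 6)<|e)<|
 f (b (a 0 5)<|b (a 5 4)<|e)<|f (b (a 0 5)<|b (a 1 4)<|e)<|
 d);
 (f (b (a 2 5)<|b (a 5 4)<|b (a 4 6)<|b (a 6 3)<|e)<|f (b (a 1 3)<|b (a 3 4)<|b (a 4 6)<|b (a 6 2)<|e)<|
 f (b (a 1 5)<|b (a 5 6)<|b (a 6 2)<|b (a 2 3)<|e)<|f (b (a 2 4)<|b (a 4 6)<|e)<|
 d)));
 (let d:=(let d:=(f (b (a 1 3)<|b (a 3 5)<|e)<|f (b (a 0 1)<|b (a 1 3)<|b (a 3 2)<|b (a 2 6)<|e)<|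
 f (b (a 1 5)<|b (a 5 2)<|b (a 2 4)<|b (a 3 6)<|e)<|f (b (a 1 3)<|b (a 3 4)<|b (a 4 2)<|b (a 2 5)<|e)<|
 d);
 (f (b (a 1 3)<|b (a 3 2)<|e)<|f (b (a 2 4)<|b (a 4 3)<|b (a 3 6)<|b (a 6 5)<|e)<|
 f (b (a 1 5)<|b (a 5 4)<|b (a 4 2)<|b (a 3 6)<|e)<|f (b (a 1 6)<|b (a 6 2)<|b (a 2 3)<|b (a 3 5)<|e)<|
 d));
 (f (b (a 0 6)<|b (a 3 5)<|e)<|
 f (b (a 1 5)<|b (a 5 6)<|b (a 6 2)<|b (a 3 4)<|e)<|f (b (a 3 5)<|b (a 5 4)<|e)<|
 f (b (a 2 4)<|b (a 4 3)<|e)<|f (b (a 1 4)<|b (a 2 3)<|b (a 3 6)<|b (a 6 5)<|e)<|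
 f (b (a 1 5)<|b (a 5 3)<|b (a 3 6)<|b (a 2 4)<|e)<|f (b (a 1 6)<|b (a 6 2)<|b (a 3 5)<|b (a 5 4)<|e)<|
 d))));
 (let d:=(let d:=(let d:=(let d:=(f (b (a 0 2)<|b (a 3 6)<|e)<|
 f (b (a 1 6)<|b (a 2 3)<|e)<|f (b (a 0 3)<|b (a 3 6)<|b (a 1 4)<|b (a 2 5)<|e)<|
 f (b (a 1 2)<|b (a 3 5)<|b (a 5 6)<|b (a 6 4)<|e)<|d);
 (f (b (a 0 2)<|b (a 2 3)<|b (a 3 5)<|b (a 1 6)<|e)<|
 f (b (a 1 3)<|b (a 3 5)<|b (a 5 4)<|b (a 4 2)<|e)<|f (b (a 1 5)<|b (a 5 4)<|b (a 4 2)<|b (a 2 6)<|e)<|
 f (b (a 0 2)<|b (a 2 1)<|b (a 1 5)<|b (a 4 6)<|e)<|d));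
 (let d:=(f (b (a 1 5)<|b (a 5 3)<|b (a 3 4)<|b (a 2 6)<|e)<|
 f (b (a 1 6)<|b (a 6 5)<|b (a 5 2)<|b (a 3 4)<|e)<|f (b (a 1 2)<|b (a 4 6)<|e)<|
 f (b (a 0 2)<|b (a 2 1)<|b (a 1 6)<|b (a 6 5)<|e)<|d);
 (f (b (a 0 5)<|b (a 1 2)<|e)<|
 f (b (a 1 5)<|b (a 5 6)<|b (a 6 2)<|b (a 2 4)<|e)<|f (b (a 1 2)<|b (a 2 5)<|b (a 3 4)<|b (a 4 6)<|e)<|
 f (b (a 0 2)<|b (a 2 5)<|b (a 5 4)<|b (a 4 6)<|e)<|d)));
 (let d:=(let d:=(f (b (a 0 3)<|b (a 3 5)<|b (a 2 6)<|b (a 6 4)<|e)<|
 f (b (a 1 4)<|b (a 2 6)<|b (a 6 3)<|b (a 3 5)<|e)<|f (b (a 1 3)<|b (a 4 5)<|e)<|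
 f (b (a 0 1)<|b (a 1 6)<|b (a 6 2)<|b (a 2 5)<|e)<|d);
 (f (b (a 0 3)<|b (a 3 4)<|b (a 4 5)<|b (a 2 6)<|e)<|
 f (b (a 0 1)<|b (a 1 4)<|b (a 4 5)<|b (a 5 6)<|e)<|f (b (a 1 6)<|b (a 6 2)<|b (a 2 5)<|b (a 5 4)<|e)<|
 f (b (a 1 3)<|b (a 3 6)<|b (a 6 5)<|b (a 5 4)<|e)<|d));
 (let d:=(f (b (a 0 6)<|b (a 1 4)<|e)<|
 f (b (a 1 3)<|b (a 3 5)<|b (a 2 6)<|b (a 6 4)<|e)<|f (b (a 1 4)<|b (a 4 6)<|b (a 6 2)<|b (a 2 5)<|e)<|
 f (b (a 2 5)<|b (a 5 6)<|b (a 6 4)<|b (a 4 3)<|e)<|d);
 (f (b (a 1 6)<|b (a 6 2)<|b (a 2 5)<|b (a 3 4)<|e)<|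
 f (b (a 0 6)<|b (a 1 5)<|e)<|f (b (a 1 2)<|b (a 2 4)<|b (a 4 5)<|b (a 5 3)<|e)<|
 f (b (a 3 4)<|b (a 4 5)<|e)<|d))));
 (let d:=(let d:=(let d:=(f (b (a 1 2)<|b (a 2 5)<|b (a 3 6)<|b (a 6 4)<|e)<|
 f (b (a 2 5)<|b (a 5 3)<|b (a 3 4)<|b (a 4 6)<|e)<|f (b (a 3 4)<|b (a 4 6)<|e)<|
 f (b (a 0 1)<|b (a 1 5)<|b (a 5 4)<|b (a 4 6)<|e)<|d);
 (f (b (a 0 2)<|b (a 2 5)<|b (a 1 6)<|b (a 6 4)<|e)<|
 f (b (a 2 3)<|b (a 5 6)<|e)<|f (b (a 0 6)<|b (a 2 5)<|e)<|
 f (b (a 0 2)<|b (a 2 1)<|b (a 1 6)<|b (a 4 5)<|e)<|d));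
 (let d:=(f (b (a 2 5)<|b (a 3 4)<|e)<|
 f (b (a 0 1)<|b (a 1 5)<|b (a 5 2)<|b (a 2 6)<|e)<|f (b (a 1 6)<|b (a 2 4)<|b (a 4 5)<|b (a 5 3)<|e)<|
 f (b (a 1 4)<|b (a 4 3)<|b (a 2 6)<|b (a 6 5)<|e)<|d);
 (f (b (a 3 6)<|b (a 4 5)<|e)<|
 f (b (a 0 6)<|b (a 4 5)<|e)<|f (b (a 1 6)<|b (a 6 2)<|b (a 3 4)<|b (a 4 5)<|e)<|
 f (b (a 1 6)<|b (a 6 4)<|b (a 4 2)<|b (a 2 5)<|e)<|d)));
 (let d:=(let d:=(f (b (a 1 2)<|b (a 2 5)<|b (a 5 3)<|b (a 3 6)<|e)<|
 f (b (a 0 1)<|b (a 1 5)<|b (a 5 6)<|b (a 2 4)<|e)<|f (b (a 1 6)<|b (a 6 2)<|b (a 2 4)<|b (a 4 3)<|e)<|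
 f (b (a 1 2)<|b (a 2 4)<|b (a 4 3)<|b (a 3 6)<|e)<|d);
 (f (b (a 0 2)<|b (a 2 1)<|b (a 1 6)<|b (a 3 5)<|e)<|
 f (b (a 1 4)<|b (a 4 5)<|b (a 5 2)<|b (a 2 6)<|e)<|f (b (a 1 3)<|b (a 2 4)<|e)<|
 f (b (a 1 2)<|b (a 2 3)<|b (a 3 6)<|b (a 4 5)<|e)<|d));
 (f (b (a 1 3)<|b (a 3 5)<|b (a 5 6)<|b (a 2 4)<|e)<|f (b (a 2 3)<|b (a 3 5)<|b (a 5 4)<|b (a 4 6)<|e)<|
 f (b (a 1 6)<|b (a 6 3)<|b (a 2 4)<|b (a 4 5)<|e)<|f (b (a 1 4)<|b (a 4 5)<|b (a 2 6)<|b (a 6 3)<|e)<|
 f (b (a 0 2)<|b (a 2 4)<|b (a 4 6)<|b (a 1 5)<|e)<|f (b (a 1 3)<|b (a 5 6)<|e)<|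
 f (b (a 0 4)<|b (a 1 5)<|e)<|d))))));
 (let d:=(let d:=(let d:=(let d:=(let d:=(let d:=(f (b (a 1 3)<|b (a 3 2)<|b (a 2 5)<|b (a 5 6)<|e)<|f (b (a 1 5)<|b (a 5 4)<|b (a 4 6)<|b (a 2 3)<|e)<|
 f (b (a 1 3)<|b (a 3 6)<|e)<|f (b (a 0 2)<|b (a 2 5)<|b (a 5 6)<|b (a 1 4)<|e)<|
 d);
 (f (b (a 1 3)<|b (a 3 4)<|b (a 4 2)<|b (a 5 6)<|e)<|f (b (a 1 5)<|b (a 2 3)<|b (a 3 4)<|b (a 4 6)<|e)<|
 f (b (a 1 4)<|b (a 4 2)<|b (a 2 6)<|b (a 6 5)<|e)<|f (b (a 1 6)<|b (a 6 3)<|b (a 3 2)<|b (a 4 5)<|e)<|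
 d));
 (let d:=(f (b (a 1 6)<|b (a 6 5)<|b (a 2 3)<|b (a 3 4)<|e)<|f (b (a 1 2)<|b (a 2 6)<|b (a 3 4)<|b (a 4 5)<|e)<|
 f (b (a 1 6)<|b (a 6 5)<|b (a 5 4)<|b (a 4 2)<|e)<|f (b (a 2 4)<|b (a 4 5)<|b (a 5 6)<|b (a 6 3)<|e)<|
 d);
 (f (b (a 0 2)<|b (a 2 6)<|b (a 1 5)<|b (a 5 4)<|e)<|f (b (a 1 5)<|b (a 5 3)<|b (a 3 2)<|b (a 2 6)<|e)<|
 f (b (a 0 5)<|b (a 1 3)<|e)<|f (b (a 1 2)<|b (a 2 5)<|b (a 5 4)<|b (a 3 6)<|e)<|
 d)));
 (let d:=(let d:=(f (b (a 0 2)<|b (a 5 6)<|e)<|f (b (a 1 2)<|b (a 2 6)<|b (a 6 4)<|b (a 3 5)<|e)<|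
 f (b (a 1 6)<|b (a 2 4)<|e)<|f (b (a 1 4)<|b (a 2 5)<|b (a 5 6)<|b (a 6 3)<|e)<|
 d);
 (f (b (a 1 4)<|b (a 4 5)<|b (a 5 6)<|b (a 2 3)<|e)<|f (b (a 0 4)<|b (a 4 5)<|e)<|
 f (b (a 1 3)<|b (a 3 5)<|b (a 5 4)<|b (a 2 6)<|e)<|f (b (a 0 3)<|b (a 3 6)<|e)<|
 d));
 (let d:=(f (b (a 1 3)<|b (a 3 6)<|b (a 6 5)<|b (a 2 4)<|e)<|f (b (a 1 2)<|b (a 2 5)<|e)<|
 f (b (a 1 4)<|b (a 3 6)<|e)<|f (b (a 1 3)<|b (a 3 6)<|b (a 2 4)<|b (a 4 5)<|e)<|
 d);
 (f (b (a 1 2)<|b (a 2 3)<|b (a 3 5)<|b (a 5 6)<|e)<|f (b (a 0 2)<|b (a 2 5)<|e)<|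
 f (b (a 0 3)<|b (a 3 6)<|b (a 2 5)<|b (a 5 4)<|e)<|f (b (a 1 4)<|b (a 4 5)<|b (a 5 2)<|b (a 3 6)<|e)<|
 d))));
 (let d:=(let d:=(let d:=(f (b (a 0 3)<|b (a 3 1)<|b (a 1 5)<|b (a 2 6)<|e)<|f (b (a 0 6)<|b (a 6 5)<|e)<|
 f (b (a 2 5)<|b (a 5 3)<|e)<|f (b (a 1 6)<|b (a 4 5)<|e)<|
 d);
 (f (b (a 3 6)<|b (a 6 5)<|e)<|f (b (a 0 1)<|b (a 1 5)<|b (a 5 6)<|b (a 3 4)<|e)<|
 f (b (a 0 3)<|b (a 5 6)<|e)<|f (b (a 1 3)<|b (a 3 2)<|b (a 2 6)<|b (a 4 5)<|e)<|
 d));
 (let d:=(f (b (a 1 2)<|b (a 2 6)<|b (a 6 4)<|b (a 4 3)<|e)<|f (b (a 1 4)<|b (a 4 5)<|b (a 5 6)<|b (a 6 3)<|e)<|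
 f (b (a 2 3)<|b (a 3 4)<|b (a 4 6)<|b (a 6 5)<|e)<|f (b (a 0 2)<|b (a 2 6)<|b (a 6 4)<|b (a 4 5)<|e)<|
 d);
 (f (b (a 1 5)<|b (a 5 6)<|b (a 6 4)<|b (a 4 3)<|e)<|f (b (a 2 3)<|b (a 3 4)<|e)<|
 f (b (a 1 3)<|b (a 3 4)<|b (a 4 2)<|b (a 2 6)<|e)<|f (b (a 1 3)<|b (a 3 5)<|b (a 5 4)<|b (a 4 6)<|e)<|
 d)));
 (let d:=(let d:=(f (b (a 1 4)<|b (a 4 6)<|b (a 6 2)<|b (a 3 5)<|e)<|f (b (a 2 4)<|b (a 4 5)<|e)<|
 f (b (a 0 2)<|b (a 2 5)<|b (a 5 3)<|b (a 3 6)<|e)<|f (b (a 1 3)<|b (a 3 6)<|b (a 2 5)<|b (a 5 4)<|e)<|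
 d);
 (f (b (a 1 6)<|b (a 6 5)<|b (a 5 3)<|b (a 3 4)<|e)<|f (b (a 0 2)<|b (a 2 3)<|b (a 3 6)<|b (a 4 5)<|e)<|
 f (b (a 0 1)<|b (a 1 6)<|b (a 6 5)<|b (a 3 4)<|e)<|f (b (a 1 2)<|b (a 3 6)<|b (a 6 5)<|b (a 5 4)<|e)<|
 d));
 (f (b (a 1 6)<|b (a 6 4)<|e)<|
 f (b (a 1 6)<|b (a 6 3)<|b (a 3 5)<|b (a 5 2)<|e)<|f (b (a 0 1)<|b (a 1 6)<|b (a 2 5)<|b (a 5 4)<|e)<|
 f (b (a 0 1)<|b (a 2 6)<|e)<|f (b (a 2 4)<|b (a 3 5)<|e)<|
 f (b (a 1 4)<|b (a 4 3)<|b (a 3 5)<|b (a 5 6)<|e)<|f (b (a 0 1)<|b (a 1 5)<|b (a 2 6)<|b (a 3 4)<|e)<|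
 d))));
 (let d:=(let d:=(let d:=(let d:=(f (b (a 0 6)<|b (a 1 3)<|e)<|
 f (b (a 3 4)<|b (a 5 6)<|e)<|f (b (a 1 6)<|b (a 3 5)<|e)<|
 f (b (a 2 5)<|b (a 5 4)<|e)<|d);
 (f (b (a 0 1)<|b (a 1 6)<|b (a 6 4)<|b (a 4 5)<|e)<|
 f (b (a 0 1)<|b (a 1 4)<|b (a 4 6)<|b (a 6 5)<|e)<|f (b (a 1 6)<|b (a 6 2)<|b (a 2 3)<|b (a 4 5)<|e)<|
 f (b (a 0 3)<|b (a 3 6)<|b (a 1 5)<|b (a 2 4)<|e)<|d));
 (let d:=(f (b (a 1 4)<|b (a 5 6)<|e)<|
 f (b (a 1 6)<|b (a 6 4)<|b (a 4 3)<|b (a 3 5)<|e)<|f (b (a 0 5)<|b (a 5 3)<|e)<|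
 f (b (a 1 5)<|b (a 2 4)<|b (a 4 3)<|b (a 3 6)<|e)<|d);
 (f (b (a 0 1)<|b (a 1 6)<|b (a 2 5)<|b (a 5 3)<|e)<|
 f (b (a 0 2)<|b (a 2 6)<|b (a 1 4)<|b (a 3 5)<|e)<|f (b (a 0 1)<|b (a 1 5)<|b (a 5 6)<|b (a 2 3)<|e)<|
 f (b (a 0 6)<|b (a 3 4)<|e)<|d)));
 (let d:=(let d:=(f (b (a 1 2)<|b (a 2 5)<|b (a 5 4)<|b (a 4 3)<|e)<|
 f (b (a 2 6)<|b (a 6 5)<|b (a 5 4)<|b (a 4 3)<|e)<|f (b (a 1 6)<|b (a 6 2)<|b (a 2 4)<|b (a 4 5)<|e)<|
 f (b (a 1 6)<|b (a 6 5)<|e)<|d);
 (f (b (a 1 4)<|b (a 4 2)<|b (a 3 6)<|b (a 6 5)<|e)<|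
 f (b (a 0 3)<|b (a 3 2)<|b (a 2 5)<|b (a 1 6)<|e)<|f (b (a 0 1)<|b (a 1 6)<|b (a 2 3)<|b (a 4 5)<|e)<|
 f (b (a 0 2)<|b (a 2 4)<|b (a 4 6)<|b (a 6 5)<|e)<|d));
 (let d:=(f (b (a 1 4)<|b (a 4 5)<|b (a 5 3)<|b (a 3 6)<|e)<|
 f (b (a 2 3)<|b (a 3 6)<|b (a 6 5)<|b (a 5 4)<|e)<|f (b (a 1 3)<|b (a 3 2)<|b (a 2 5)<|b (a 4 6)<|e)<|
 f (b (a 1 5)<|b (a 5 3)<|b (a 3 6)<|b (a 6 2)<|e)<|d);
 (f (b (a 1 3)<|b (a 3 2)<|b (a 4 6)<|b (a 6 5)<|e)<|
 f (b (a 2 4)<|b (a 4 5)<|b (a 5 3)<|b (a 3 6)<|e)<|f (b (a 1 6)<|b (a 6 4)<|b (a 4 5)<|b (a 2 3)<|e)<|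
 f (b (a 0 1)<|b (a 1 6)<|b (a 2 4)<|b (a 4 5)<|e)<|d))));
 (let d:=(let d:=(let d:=(f (b (a 1 3)<|b (a 3 4)<|b (a 4 5)<|b (a 5 6)<|e)<|
 f (b (a 4 5)<|b (a 5 6)<|e)<|f (b (a 1 4)<|b (a 4 6)<|b (a 6 5)<|b (a 5 2)<|e)<|
 f (b (a 2 4)<|b (a 4 6)<|b (a 6 5)<|b (a 5 3)<|e)<|d);
 (f (b (a 2 5)<|b (a 4 6)<|e)<|
 f (b (a 1 4)<|b (a 4 2)<|e)<|f (b (a 2 6)<|b (a 6 4)<|e)<|
 f (b (a 0 4)<|b (a 4 1)<|b (a 1 6)<|b (a 3 5)<|e)<|d));
 (let d:=(f (b (a 1 4)<|b (a 2 6)<|e)<|
 f (b (a 0 6)<|b (a 1 2)<|e)<|f (b (a 1 2)<|b (a 2 3)<|b (a 3 5)<|b (a 4 6)<|e)<|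
 f (b (a 1 5)<|b (a 5 6)<|b (a 6 3)<|b (a 3 4)<|e)<|d);
 (f (b (a 0 1)<|b (a 1 6)<|b (a 3 5)<|b (a 5 4)<|e)<|
 f (b (a 1 5)<|b (a 5 3)<|b (a 3 4)<|b (a 4 2)<|e)<|f (b (a 0 2)<|b (a 2 4)<|b (a 4 6)<|b (a 3 5)<|e)<|
 f (b (a 1 2)<|b (a 2 6)<|b (a 6 3)<|b (a 4 5)<|e)<|d)));
 (let d:=(let d:=(f (b (a 1 4)<|b (a 2 5)<|e)<|
 f (b (a 0 1)<|b (a 1 6)<|b (a 3 4)<|b (a 4 5)<|e)<|f (b (a 0 1)<|b (a 3 6)<|e)<|
 f (b (a 1 2)<|b (a 2 3)<|b (a 4 6)<|b (a 6 5)<|e)<|d);
 (f (b (a 0 1)<|b (a 1 2)<|b (a 2 6)<|b (a 3 5)<|e)<|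
 f (b (a 1 5)<|b (a 5 3)<|b (a 3 6)<|b (a 6 4)<|e)<|f (b (a 1 4)<|b (a 4 3)<|b (a 3 6)<|b (a 2 5)<|e)<|
 f (b (a 1 3)<|b (a 3 4)<|b (a 4 6)<|b (a 6 5)<|e)<|d));
 (f (b (a 1 5)<|b (a 5 3)<|b (a 2 6)<|b (a 6 4)<|e)<|f (b (a 1 5)<|b (a 5 2)<|b (a 2 6)<|b (a 6 4)<|e)<|
 f (b (a 1 4)<|b (a 4 2)<|b (a 2 5)<|b (a 5 6)<|e)<|f (b (a 1 6)<|b (a 6 4)<|b (a 4 3)<|b (a 2 5)<|e)<|
 f (b (a 0 1)<|b (a 3 5)<|e)<|f (b (a 0 1)<|b (a 1 5)<|b (a 2 3)<|b (a 3 6)<|e)<|
 f (b (a 1 5)<|b (a 5 6)<|b (a 6 4)<|b (a 4 2)<|e)<|d)))));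
 (let d:=(let d:=(let d:=(let d:=(let d:=(f (b (a 0 1)<|b (a 4 5)<|e)<|f (b (a 1 3)<|b (a 2 4)<|b (a 4 6)<|b (a 6 5)<|e)<|
 f (b (a 0 1)<|b (a 1 4)<|b (a 4 3)<|b (a 3 6)<|e)<|f (b (a 1 2)<|b (a 2 4)<|e)<|
 d);
 (f (b (a 1 6)<|b (a 6 3)<|b (a 2 5)<|b (a 5 4)<|e)<|f (b (a 1 4)<|b (a 4 5)<|b (a 2 3)<|b (a 3 6)<|e)<|
 f (b (a 0 2)<|b (a 3 5)<|e)<|f (b (a 1 6)<|b (a 2 5)<|b (a 5 4)<|b (a 4 3)<|e)<|
 d));
 (let d:=(f (b (a 2 3)<|b (a 4 6)<|e)<|f (b (a 0 3)<|b (a 3 1)<|b (a 1 6)<|b (a 2 5)<|e)<|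
 f (b (a 0 5)<|b (a 5 2)<|e)<|f (b (a 1 4)<|b (a 4 6)<|b (a 6 5)<|b (a 5 3)<|e)<|
 d);
 (f (b (a 2 6)<|b (a 3 5)<|e)<|f (b (a 1 4)<|b (a 4 2)<|b (a 2 6)<|b (a 3 5)<|e)<|
 f (b (a 0 5)<|b (a 3 4)<|e)<|f (b (a 0 2)<|b (a 4 5)<|e)<|
 d)));
 (let d:=(let d:=(f (b (a 0 2)<|b (a 2 4)<|b (a 4 5)<|b (a 1 6)<|e)<|f (b (a 1 5)<|b (a 5 6)<|b (a 6 3)<|b (a 3 2)<|e)<|
 f (b (a 1 6)<|b (a 2 3)<|b (a 3 5)<|b (a 5 4)<|e)<|f (b (a 1 3)<|b (a 3 2)<|b (a 4 5)<|b (a 5 6)<|e)<|
 d);
 (f (b (a 2 3)<|b (a 4 5)<|e)<|f (b (a 0 3)<|b (a 4 6)<|e)<|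
 f (b (a 0 1)<|b (a 1 4)<|b (a 4 5)<|b (a 3 6)<|e)<|f (b (a 2 6)<|b (a 6 5)<|e)<|
 d));
 (let d:=(f (b (a 2 3)<|b (a 3 5)<|e)<|f (b (a 0 2)<|b (a 2 6)<|e)<|
 f (b (a 4 6)<|b (a 6 5)<|e)<|f (b (a 1 4)<|b (a 4 3)<|e)<|
 d);
 (f (b (a 0 1)<|b (a 1 6)<|b (a 2 3)<|b (a 3 5)<|e)<|f (b (a 0 4)<|b (a 4 2)<|b (a 2 5)<|b (a 1 6)<|e)<|
 f (b (a 0 5)<|b (a 4 6)<|e)<|f (b (a 1 5)<|b (a 5 2)<|b (a 2 4)<|b (a 4 3)<|e)<|
 d))));
 (let d:=(let d:=(let d:=(f (b (a 2 3)<|b (a 3 6)<|e)<|f (b (a 1 3)<|b (a 3 5)<|b (a 5 6)<|b (a 6 4)<|e)<|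
 f (b (a 1 2)<|b (a 2 6)<|b (a 6 5)<|b (a 5 3)<|e)<|f (b (a 1 5)<|b (a 5 3)<|b (a 3 2)<|b (a 4 6)<|e)<|
 d);
 (f (b (a 1 5)<|b (a 5 2)<|b (a 2 3)<|b (a 3 6)<|e)<|f (b (a 1 5)<|b (a 5 2)<|b (a 3 6)<|b (a 6 4)<|e)<|
 f (b (a 0 1)<|b (a 1 3)<|b (a 3 5)<|b (a 5 6)<|e)<|f (b (a 1 5)<|b (a 5 3)<|e)<|
 d));
 (let d:=(f (b (a 1 2)<|b (a 5 6)<|e)<|f (b (a 1 5)<|b (a 4 6)<|e)<|
 f (b (a 1 2)<|b (a 2 5)<|b (a 5 3)<|b (a 4 6)<|e)<|f (b (a 0 1)<|b (a 1 5)<|b (a 2 6)<|b (a 6 3)<|e)<|
 d);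
 (f (b (a 0 1)<|b (a 1 4)<|b (a 4 6)<|b (a 3 5)<|e)<|f (b (a 1 2)<|b (a 3 4)<|b (a 4 6)<|b (a 6 5)<|e)<|
 f (b (a 2 6)<|b (a 6 3)<|b (a 3 5)<|b (a 5 4)<|e)<|f (b (a 1 3)<|b (a 3 5)<|b (a 5 6)<|b (a 6 2)<|e)<|
 d)));
 (let d:=(let d:=(f (b (a 0 3)<|b (a 3 4)<|b (a 4 6)<|b (a 2 5)<|e)<|f (b (a 1 2)<|b (a 2 4)<|b (a 4 6)<|b (a 6 5)<|e)<|
 f (b (a 1 5)<|b (a 5 4)<|e)<|f (b (a 1 2)<|b (a 2 6)<|b (a 6 5)<|b (a 5 4)<|e)<|
 d);
 (f (b (a 1 3)<|b (a 3 4)<|b (a 4 6)<|b (a 2 5)<|e)<|f (b (a 0 2)<|b (a 2 4)<|b (a 4 5)<|b (a 3 6)<|e)<|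
 f (b (a 1 5)<|b (a 2 3)<|e)<|f (b (a 1 5)<|b (a 2 6)<|b (a 6 4)<|b (a 4 3)<|e)<|
 d));
 (f (b (a 0 2)<|b (a 2 3)<|b (a 3 5)<|b (a 5 6)<|e)<|
 f (b (a 3 5)<|b (a 5 6)<|e)<|f (b (a 1 2)<|b (a 2 6)<|b (a 6 5)<|b (a 3 4)<|e)<|
 f (b (a 3 5)<|b (a 4 6)<|e)<|f (b (a 1 3)<|b (a 3 5)<|b (a 5 2)<|b (a 4 6)<|e)<|
 f (b (a 0 4)<|b (a 4 5)<|b (a 1 6)<|b (a 2 3)<|e)<|f (b (a 2 5)<|b (a 5 3)<|b (a 3 6)<|b (a 6 4)<|e)<|
 d))));
 (let d:=(let d:=(let d:=(let d:=(f (b (a 1 6)<|b (a 6 3)<|e)<|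
 f (b (a 1 3)<|b (a 2 6)<|b (a 6 4)<|b (a 4 5)<|e)<|f (b (a 2 5)<|b (a 3 6)<|e)<|
 f (b (a 1 5)<|b (a 3 4)<|e)<|d);
 (f (b (a 1 2)<|b (a 3 4)<|e)<|
 f (b (a 1 6)<|b (a 6 3)<|b (a 3 4)<|b (a 4 5)<|e)<|f (b (a 1 3)<|b (a 3 4)<|b (a 2 6)<|b (a 6 5)<|e)<|
 f (b (a 1 2)<|b (a 2 5)<|b (a 5 4)<|b (a 4 6)<|e)<|d));
 (let d:=(f (b (a 1 5)<|b (a 5 2)<|b (a 2 6)<|b (a 6 3)<|e)<|
 f (b (a 1 4)<|b (a 4 3)<|b (a 2 5)<|b (a 5 6)<|e)<|f (b (a 0 2)<|b (a 2 3)<|b (a 3 6)<|b (a 1 5)<|e)<|
 f (b (a 1 5)<|b (a 3 6)<|e)<|d);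
 (f (b (a 1 5)<|b (a 5 3)<|b (a 2 4)<|b (a 4 6)<|e)<|
 f (b (a 0 3)<|b (a 1 6)<|e)<|f (b (a 0 1)<|b (a 4 6)<|e)<|
 f (b (a 0 1)<|b (a 1 2)<|b (a 2 5)<|b (a 3 6)<|e)<|d)));
 (let d:=(let d:=(f (b (a 1 6)<|b (a 6 4)<|b (a 4 2)<|b (a 3 5)<|e)<|
 f (b (a 1 3)<|b (a 3 4)<|b (a 4 5)<|b (a 5 2)<|e)<|f (b (a 1 3)<|b (a 3 6)<|b (a 6 4)<|b (a 2 5)<|e)<|
 f (b (a 0 1)<|b (a 1 3)<|b (a 3 6)<|b (a 6 5)<|e)<|d);
 (f (b (a 1 6)<|b (a 6 4)<|b (a 4 5)<|b (a 5 2)<|e)<|
 f (b (a 0 4)<|b (a 2 6)<|e)<|f (b (a 0 1)<|b (a 1 3)<|b (a 3 5)<|b (a 4 6)<|e)<|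
 f (b (a 1 6)<|b (a 6 5)<|b (a 5 3)<|b (a 2 4)<|e)<|d));
 (let d:=(f (b (a 1 3)<|b (a 3 4)<|b (a 2 5)<|b (a 5 6)<|e)<|
 f (b (a 0 2)<|b (a 2 3)<|b (a 3 6)<|b (a 6 5)<|e)<|f (b (a 0 5)<|b (a 3 6)<|e)<|
 f (b (a 0 3)<|b (a 1 5)<|e)<|d);
 (f (b (a 1 2)<|b (a 3 4)<|b (a 4 5)<|b (a 5 6)<|e)<|
 f (b (a 2 6)<|b (a 6 4)<|b (a 4 3)<|b (a 3 5)<|e)<|f (b (a 1 4)<|b (a 4 6)<|b (a 6 3)<|b (a 2 5)<|e)<|
 f (b (a 0 3)<|b (a 3 2)<|b (a 2 6)<|b (a 1 5)<|e)<|d))));
 (let d:=(let d:=(let d:=(f (b (a 0 2)<|b (a 2 4)<|b (a 4 5)<|b (a 5 6)<|e)<|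
 f (b (a 1 2)<|b (a 2 4)<|b (a 4 5)<|b (a 3 6)<|e)<|f (b (a 0 4)<|b (a 2 5)<|e)<|
 f (b (a 1 5)<|b (a 5 4)<|b (a 4 3)<|b (a 3 6)<|e)<|d);
 (f (b (a 2 5)<|b (a 5 6)<|e)<|
 f (b (a 0 1)<|b (a 1 6)<|b (a 6 5)<|b (a 2 3)<|e)<|f (b (a 2 4)<|b (a 4 6)<|b (a 6 3)<|b (a 3 5)<|e)<|
 f (b (a 1 4)<|b (a 4 2)<|b (a 2 5)<|b (a 3 6)<|e)<|d));
 (let d:=(f (b (a 1 5)<|b (a 2 6)<|e)<|
 f (b (a 0 5)<|b (a 2 3)<|e)<|f (b (a 1 6)<|b (a 3 4)<|e)<|
 f (b (a 1 2)<|b (a 2 5)<|b (a 5 6)<|b (a 6 4)<|e)<|d);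
 (f (b (a 1 4)<|b (a 4 3)<|b (a 3 6)<|b (a 6 5)<|e)<|
 f (b (a 0 1)<|b (a 1 5)<|b (a 5 3)<|b (a 3 6)<|e)<|f (b (a 0 6)<|b (a 6 2)<|e)<|
 f (b (a 1 5)<|b (a 2 4)<|b (a 4 6)<|b (a 6 3)<|e)<|d)));
 (let d:=(let d:=(f (b (a 0 1)<|b (a 1 5)<|b (a 3 6)<|b (a 6 4)<|e)<|
 f (b (a 0 5)<|b (a 2 6)<|e)<|f (b (a 1 3)<|b (a 3 4)<|e)<|
 f (b (a 0 4)<|b (a 4 5)<|b (a 1 6)<|b (a 6 2)<|e)<|d);
 (f (b (a 1 5)<|b (a 5 6)<|e)<|
 f (b (a 1 6)<|b (a 6 5)<|b (a 5 4)<|b (a 4 3)<|e)<|f (b (a 1 3)<|b (a 3 5)<|b (a 2 4)<|b (a 4 6)<|e)<|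
 f (b (a 1 2)<|b (a 2 4)<|b (a 4 5)<|b (a 5 6)<|e)<|d));
 (b e<|b (b (a 0 5)<|b (a 5 6)<|e)<|
 b (b (a 1 2)<|b (a 2 4)<|b (a 3 6)<|b (a 6 5)<|e)<|b (b (a 0 5)<|b (a 1 6)<|e)<|
 b (b (a 1 2)<|b (a 4 5)<|e)<|b (b (a 0 6)<|b (a 2 3)<|e)<|
 b (b (a 1 4)<|b (a 4 2)<|b (a 3 5)<|b (a 5 6)<|e)<|d))))))))
  tab := (beta% delta% lq26484ea4b8 fun a b c e _ _ _ _ =>
 (b (let d:=(let d:=(let d:=(let d:=(let d:=(let d:=(let d:=(c (a 304 2)<|c (a 442 3)<|c (a 458 4)<|c (a 264 0)<|e);
 (c (a 427 3)<|c (a 447 1)<|c (a 503 4)<|c (a 21 2)<|d));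
 (let d:=(c (a 438 4)<|c (a 430 0)<|c (a 297 3)<|c (a 309 4)<|d);
 (c (a 428 2)<|c (a 501 4)<|c (a 449 1)<|c (a 502 3)<|
 d)));
 (let d:=(let d:=(c (a 440 3)<|c (a 293 4)<|c (a 290 2)<|c (a 451 1)<|d);
 (c (a 138 0)<|c (a 303 4)<|c (a 453 1)<|c (a 277 1)<|d));
 (let d:=(c (a 454 4)<|c (a 500 2)<|c (a 19 4)<|c (a 418 4)<|
 d);
 (c (a 466 2)<|c (a 302 1)<|c (a 275 4)<|c (a 152 4)<|d))));
 (let d:=(let d:=(let d:=(c (a 419 2)<|c (a 242 2)<|c (a 432 1)<|c (a 310 2)<|d);
 (c (a 273 2)<|c (a 498 4)<|c (a 114 1)<|c (a 499 0)<|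
 d));
 (let d:=(c (a 495 4)<|c (a 496 2)<|c (a 282 1)<|c (a 497 2)<|d);
 (c (a 142 2)<|c (a 147 2)<|c (a 494 4)<|c (a 448 1)<|d)));
 (let d:=(let d:=(c (a 457 4)<|c (a 257 1)<|c (a 423 0)<|c (a 136 1)<|
 d);
 (c (a 436 4)<|c (a 441 3)<|c (a 132 2)<|c (a 287 1)<|d));
 (c (a 461 3)<|c (a 263 1)<|c (a 426 0)<|
 c (a 491 0)<|c (a 492 4)<|c (a 434 2)<|c (a 493 1)<|d))));
 (let d:=(let d:=(let d:=(let d:=(c (a 489 1)<|c (a 279 2)<|c (a 490 2)<|c (a 459 1)<|d);
 (c (a 421 4)<|c (a 456 2)<|c (a 244 2)<|c (a 433 3)<|d));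
 (let d:=(c (a 280 1)<|c (a 306 2)<|c (a 487 1)<|
 c (a 488 1)<|d);
 (c (a 122 0)<|c (a 260 3)<|c (a 439 1)<|c (a 135 2)<|d)));
 (let d:=(let d:=(c (a 484 4)<|c (a 274 3)<|c (a 485 4)<|c (a 486 1)<|d);
 (c (a 299 1)<|c (a 483 3)<|c (a 22 4)<|
 c (a 51 3)<|d));
 (let d:=(c (a 455 1)<|c (a 252 4)<|c (a 437 3)<|c (a 422 1)<|d);
 (c (a 481 4)<|c (a 149 1)<|c (a 482 4)<|c (a 289 3)<|d))));
 (let d:=(let d:=(let d:=(c (a 110 1)<|c (a 479 1)<|c (a 480 2)<|
 c (a 295 1)<|d);
 (c (a 271 1)<|c (a 478 4)<|c (a 7 1)<|c (a 109 2)<|d));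
 (let d:=(c (a 288 4)<|c (a 47 3)<|c (a 50 0)<|c (a 129 3)<|d);
 (c (a 475 3)<|c (a 476 0)<|c (a 477 0)<|
 c (a 253 1)<|d)));
 (let d:=(let d:=(c (a 151 1)<|c (a 463 0)<|c (a 254 3)<|c (a 474 3)<|d);
 (c (a 127 4)<|c (a 429 3)<|c (a 270 3)<|c (a 425 2)<|d));
 (c (a 291 1)<|c (a 473 4)<|c (a 258 2)<|c (a 431 3)<|c (a 420 4)<|c (a 294 4)<|
 c (a 444 0)<|d)))));
 (let d:=(let d:=(let d:=(let d:=(let d:=(c (a 460 0)<|c (a 52 3)<|c (a 465 4)<|c (a 472 4)<|d);
 (c (a 452 0)<|c (a 120 1)<|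
 c (a 424 1)<|c (a 450 2)<|d));
 (let d:=(c (a 415 1)<|c (a 283 4)<|c (a 416 0)<|c (a 417 1)<|d);
 (c (a 265 3)<|c (a 144 3)<|c (a 412 4)<|c (a 413 4)<|d)));
 (let d:=(let d:=(c (a 245 2)<|c (a 410 1)<|
 c (a 411 3)<|c (a 256 4)<|d);
 (c (a 126 3)<|c (a 259 4)<|c (a 255 3)<|c (a 408 3)<|d));
 (let d:=(c (a 405 3)<|c (a 406 3)<|c (a 407 1)<|c (a 53 0)<|d);
 (c (a 298 0)<|c (a 401 3)<|
 c (a 23 1)<|c (a 404 1)<|d))));
 (let d:=(let d:=(let d:=(c (a 398 1)<|c (a 399 4)<|c (a 237 1)<|c (a 400 1)<|d);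
 (c (a 471 3)<|c (a 313 3)<|c (a 445 2)<|c (a 56 3)<|d));
 (let d:=(c (a 443 0)<|c (a 65 1)<|
 c (a 414 1)<|c (a 409 1)<|d);
 (c (a 470 1)<|c (a 243 1)<|c (a 446 2)<|c (a 64 1)<|d)));
 (let d:=(let d:=(c (a 115 3)<|c (a 248 3)<|c (a 469 2)<|c (a 464 1)<|d);
 (c (a 292 0)<|c (a 462 1)<|
 c (a 435 2)<|c (a 296 4)<|d));
 (c (a 262 0)<|c (a 397 0)<|c (a 403 1)<|c (a 402 0)<|c (a 467 2)<|c (a 468 2)<|c (a 139 0)<|d))));
 (let d:=(let d:=(let d:=(let d:=(c (a 394 2)<|
 c (a 395 4)<|c (a 396 2)<|c (a 46 0)<|d);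
 (c (a 391 4)<|c (a 124 0)<|c (a 392 1)<|c (a 393 1)<|d));
 (let d:=(c (a 389 3)<|c (a 130 0)<|c (a 276 1)<|c (a 390 4)<|d);
 (c (a 386 2)<|
 c (a 387 1)<|c (a 388 1)<|c (a 250 1)<|d)));
 (let d:=(let d:=(c (a 240 3)<|c (a 383 3)<|c (a 384 1)<|c (a 385 4)<|d);
 (c (a 381 3)<|c (a 382 2)<|c (a 311 1)<|c (a 55 2)<|d));
 (let d:=(c (a 378 0)<|
 c (a 379 3)<|c (a 61 1)<|c (a 380 0)<|d);
 (c (a 376 4)<|c (a 377 0)<|c (a 278 2)<|c (a 268 1)<|d))));
 (let d:=(let d:=(let d:=(c (a 155 2)<|c (a 267 1)<|c (a 154 1)<|c (a 375 1)<|d);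
 (c (a 374 4)<|
 c (a 112 1)<|c (a 241 0)<|c (a 266 4)<|d));
 (let d:=(c (a 133 0)<|c (a 372 3)<|c (a 373 4)<|c (a 285 3)<|d);
 (c (a 369 1)<|c (a 370 1)<|c (a 239 4)<|c (a 371 4)<|d)));
 (let d:=(let d:=(c (a 366 2)<|
 c (a 367 0)<|c (a 148 4)<|c (a 368 2)<|d);
 (c (a 362 4)<|c (a 363 3)<|c (a 364 1)<|c (a 365 2)<|d));
 (c (a 359 1)<|c (a 281 1)<|c (a 134 4)<|c (a 60 3)<|c (a 360 1)<|c (a 361 1)<|c (a 272 1)<|d))))));
 (let d:=(let d:=(let d:=(let d:=(let d:=(let d:=(c (a 356 0)<|c (a 357 1)<|c (a 316 2)<|c (a 358 1)<|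
 d);
 (c (a 353 0)<|c (a 354 1)<|c (a 355 1)<|c (a 49 0)<|d));
 (let d:=(c (a 137 4)<|c (a 351 3)<|c (a 125 4)<|c (a 352 0)<|d);
 (c (a 348 3)<|c (a 349 3)<|c (a 350 2)<|c (a 305 2)<|
 d)));
 (let d:=(let d:=(c (a 238 1)<|c (a 8 3)<|c (a 300 4)<|c (a 347 0)<|d);
 (c (a 345 0)<|c (a 284 1)<|c (a 59 3)<|c (a 346 2)<|d));
 (let d:=(c (a 44 2)<|c (a 344 2)<|c (a 314 2)<|c (a 269 2)<|
 d);
 (c (a 341 4)<|c (a 342 2)<|c (a 343 4)<|c (a 43 2)<|d))));
 (let d:=(let d:=(let d:=(c (a 301 3)<|c (a 339 1)<|c (a 340 0)<|c (a 17 1)<|d);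
 (c (a 336 1)<|c (a 307 0)<|c (a 337 1)<|c (a 338 3)<|
 d));
 (let d:=(c (a 334 3)<|c (a 335 0)<|c (a 286 1)<|c (a 246 3)<|d);
 (c (a 24 0)<|c (a 251 4)<|c (a 332 3)<|c (a 333 1)<|d)));
 (let d:=(let d:=(c (a 330 1)<|c (a 315 1)<|c (a 249 2)<|c (a 331 2)<|
 d);
 (c (a 113 1)<|c (a 312 2)<|c (a 329 4)<|c (a 150 2)<|d));
 (c (a 232 1)<|c (a 233 4)<|c (a 234 4)<|
 c (a 235 3)<|c (a 236 4)<|c (a 131 0)<|c (a 18 3)<|d))));
 (let d:=(let d:=(let d:=(let d:=(c (a 228 0)<|c (a 229 1)<|c (a 230 4)<|c (a 231 1)<|d);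
 (c (a 224 4)<|c (a 225 1)<|c (a 226 4)<|c (a 227 2)<|d));
 (let d:=(c (a 221 1)<|c (a 57 4)<|c (a 222 3)<|
 c (a 223 2)<|d);
 (c (a 108 4)<|c (a 219 3)<|c (a 106 0)<|c (a 220 0)<|d)));
 (let d:=(let d:=(c (a 327 0)<|c (a 261 3)<|c (a 328 4)<|c (a 116 1)<|d);
 (c (a 308 2)<|c (a 325 4)<|c (a 48 2)<|
 c (a 326 1)<|d));
 (let d:=(c (a 321 2)<|c (a 322 2)<|c (a 323 1)<|c (a 324 2)<|d);
 (c (a 318 1)<|c (a 247 2)<|c (a 319 4)<|c (a 320 4)<|d))));
 (let d:=(let d:=(let d:=(c (a 216 3)<|c (a 217 1)<|c (a 218 1)<|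
 c (a 317 1)<|d);
 (c (a 212 1)<|c (a 213 0)<|c (a 214 1)<|c (a 215 4)<|d));
 (let d:=(c (a 209 3)<|c (a 153 0)<|c (a 210 1)<|c (a 211 1)<|d);
 (c (a 206 4)<|c (a 141 0)<|c (a 207 1)<|
 c (a 208 3)<|d)));
 (let d:=(let d:=(c (a 202 1)<|c (a 203 4)<|c (a 204 2)<|c (a 205 1)<|d);
 (c (a 121 3)<|c (a 199 2)<|c (a 200 2)<|c (a 201 1)<|d));
 (c (a 140 3)<|c (a 117 3)<|c (a 195 0)<|c (a 196 4)<|c (a 197 0)<|c (a 54 2)<|
 c (a 198 0)<|d)))));
 (let d:=(let d:=(let d:=(let d:=(let d:=(c (a 146 1)<|c (a 193 1)<|c (a 194 2)<|c (a 63 1)<|d);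
 (c (a 189 4)<|c (a 190 2)<|
 c (a 191 3)<|c (a 192 0)<|d));
 (let d:=(c (a 186 1)<|c (a 187 4)<|c (a 143 4)<|c (a 188 1)<|d);
 (c (a 118 3)<|c (a 183 3)<|c (a 184 3)<|c (a 185 1)<|d)));
 (let d:=(let d:=(c (a 180 4)<|c (a 181 0)<|
 c (a 145 4)<|c (a 182 0)<|d);
 (c (a 176 1)<|c (a 177 1)<|c (a 178 2)<|c (a 179 1)<|d));
 (let d:=(c (a 174 4)<|c (a 128 3)<|c (a 0 1)<|c (a 175 0)<|d);
 (c (a 111 4)<|c (a 171 4)<|
 c (a 172 1)<|c (a 173 0)<|d))));
 (let d:=(let d:=(let d:=(c (a 107 2)<|c (a 168 1)<|c (a 169 3)<|c (a 170 1)<|d);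
 (c (a 164 2)<|c (a 165 2)<|c (a 166 3)<|c (a 167 0)<|d));
 (let d:=(c (a 20 1)<|c (a 105 1)<|
 c (a 162 1)<|c (a 163 3)<|d);
 (c (a 58 1)<|c (a 102 1)<|c (a 103 1)<|c (a 104 0)<|d)));
 (let d:=(let d:=(c (a 161 1)<|c (a 98 1)<|c (a 99 1)<|c (a 101 3)<|d);
 (c (a 158 1)<|c (a 159 2)<|
 c (a 160 0)<|c (a 123 3)<|d));
 (c (a 95 3)<|c (a 96 1)<|c (a 97 3)<|c (a 100 1)<|c (a 156 1)<|c (a 119 4)<|c (a 157 2)<|d))));
 (let d:=(let d:=(let d:=(let d:=(c (a 91 4)<|
 c (a 92 3)<|c (a 93 2)<|c (a 94 0)<|d);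
 (c (a 88 0)<|c (a 45 4)<|c (a 89 3)<|c (a 90 1)<|d));
 (let d:=(c (a 84 3)<|c (a 85 0)<|c (a 86 2)<|c (a 87 2)<|d);
 (c (a 80 1)<|
 c (a 81 4)<|c (a 82 1)<|c (a 83 2)<|d)));
 (let d:=(let d:=(c (a 77 4)<|c (a 78 0)<|c (a 79 2)<|c (a 62 2)<|d);
 (c (a 2 4)<|c (a 6 3)<|c (a 75 1)<|c (a 76 4)<|d));
 (let d:=(c (a 71 1)<|
 c (a 72 2)<|c (a 73 2)<|c (a 74 3)<|d);
 (c (a 41 0)<|c (a 42 3)<|c (a 69 1)<|c (a 70 3)<|d))));
 (let d:=(let d:=(let d:=(c (a 68 2)<|c (a 39 2)<|c (a 16 1)<|c (a 40 1)<|d);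
 (c (a 37 1)<|
 c (a 38 2)<|c (a 66 1)<|c (a 67 2)<|d));
 (let d:=(c (a 33 3)<|c (a 34 2)<|c (a 35 4)<|c (a 36 1)<|d);
 (c (a 29 1)<|c (a 30 2)<|c (a 31 0)<|c (a 32 1)<|d)));
 (let d:=(let d:=(c (a 15 2)<|
 c (a 26 3)<|c (a 27 1)<|c (a 28 4)<|d);
 (c (a 12 1)<|c (a 13 4)<|c (a 25 1)<|c (a 14 2)<|d));
 (b (a 1 1)<|b (a 3 1)<|b (a 4 2)<|b (a 9 4)<|b (a 5 1)<|b (a 10 0)<|b (a 11 0)<|d)))))))<|
 b (let d:=(let d:=(let d:=(let d:=(let d:=(let d:=(let d:=(c (a 481 0)<|c (a 304 3)<|c (a 460 1)<|c (a 487 0)<|e);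
 (c (a 384 2)<|c (a 492 0)<|c (a 381 0)<|c (a 342 3)<|d));
 (let d:=(c (a 369 4)<|c (a 218 2)<|c (a 474 0)<|c (a 496 0)<|d);
 (c (a 217 2)<|c (a 477 3)<|c (a 297 0)<|c (a 275 0)<|
 d)));
 (let d:=(let d:=(c (a 329 0)<|c (a 332 0)<|c (a 286 1)<|c (a 471 0)<|d);
 (c (a 294 0)<|c (a 366 0)<|c (a 454 0)<|c (a 323 0)<|d));
 (let d:=(c (a 446 0)<|c (a 337 2)<|c (a 341 2)<|c (a 375 0)<|
 d);
 (c (a 479 0)<|c (a 459 0)<|c (a 461 0)<|c (a 498 0)<|d))));
 (let d:=(let d:=(let d:=(c (a 178 0)<|c (a 194 0)<|c (a 396 0)<|c (a 503 0)<|d);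
 (c (a 302 4)<|c (a 378 0)<|c (a 483 0)<|c (a 177 0)<|
 d));
 (let d:=(c (a 441 4)<|c (a 494 0)<|c (a 186 1)<|c (a 340 1)<|d);
 (c (a 482 0)<|c (a 443 4)<|c (a 309 0)<|c (a 450 0)<|d)));
 (let d:=(let d:=(c (a 208 0)<|c (a 485 3)<|c (a 456 0)<|c (a 307 4)<|
 d);
 (c (a 198 1)<|c (a 444 0)<|c (a 473 0)<|c (a 393 2)<|d));
 (c (a 502 0)<|c (a 197 0)<|c (a 380 1)<|
 c (a 392 3)<|c (a 280 1)<|c (a 361 2)<|c (a 279 0)<|d))));
 (let d:=(let d:=(let d:=(let d:=(c (a 312 0)<|c (a 299 2)<|c (a 458 0)<|c (a 273 0)<|d);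
 (c (a 373 0)<|c (a 360 0)<|c (a 187 0)<|c (a 464 2)<|d));
 (let d:=(c (a 447 0)<|c (a 445 4)<|c (a 215 0)<|
 c (a 281 1)<|d);
 (c (a 148 0)<|c (a 272 4)<|c (a 491 4)<|c (a 313 4)<|d)));
 (let d:=(let d:=(c (a 132 0)<|c (a 135 0)<|c (a 141 2)<|c (a 147 0)<|d);
 (c (a 493 2)<|c (a 85 4)<|c (a 89 0)<|
 c (a 129 0)<|d));
 (let d:=(c (a 150 0)<|c (a 315 2)<|c (a 130 1)<|c (a 488 2)<|d);
 (c (a 442 1)<|c (a 201 0)<|c (a 394 0)<|c (a 216 4)<|d))));
 (let d:=(let d:=(let d:=(c (a 468 0)<|c (a 462 4)<|c (a 296 0)<|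
 c (a 322 0)<|d);
 (c (a 354 0)<|c (a 176 2)<|c (a 174 4)<|c (a 467 0)<|d));
 (let d:=(c (a 448 2)<|c (a 349 0)<|c (a 305 0)<|c (a 137 0)<|d);
 (c (a 376 0)<|c (a 206 0)<|c (a 151 0)<|
 c (a 368 0)<|d)));
 (let d:=(let d:=(c (a 501 2)<|c (a 155 0)<|c (a 149 0)<|c (a 449 2)<|d);
 (c (a 480 0)<|c (a 463 0)<|c (a 353 1)<|c (a 362 0)<|d));
 (c (a 338 0)<|c (a 484 0)<|c (a 457 0)<|c (a 475 0)<|c (a 345 0)<|c (a 346 0)<|
 c (a 495 3)<|d)))));
 (let d:=(let d:=(let d:=(let d:=(let d:=(c (a 490 0)<|c (a 472 0)<|c (a 451 3)<|c (a 351 0)<|d);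
 (c (a 363 4)<|c (a 324 0)<|
 c (a 452 0)<|c (a 288 0)<|d));
 (let d:=(c (a 500 0)<|c (a 291 3)<|c (a 470 0)<|c (a 497 1)<|d);
 (c (a 289 0)<|c (a 290 0)<|c (a 146 0)<|c (a 134 0)<|d)));
 (let d:=(let d:=(c (a 356 1)<|c (a 455 4)<|
 c (a 293 0)<|c (a 476 3)<|d);
 (c (a 169 0)<|c (a 170 2)<|c (a 347 4)<|c (a 84 0)<|d));
 (let d:=(c (a 160 2)<|c (a 163 0)<|c (a 166 3)<|c (a 168 0)<|d);
 (c (a 331 0)<|c (a 358 0)<|
 c (a 158 0)<|c (a 159 0)<|d))));
 (let d:=(let d:=(let d:=(c (a 344 2)<|c (a 269 3)<|c (a 499 0)<|c (a 295 4)<|d);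
 (c (a 465 0)<|c (a 274 4)<|c (a 386 4)<|c (a 335 4)<|d));
 (let d:=(c (a 486 4)<|c (a 478 4)<|
 c (a 136 1)<|c (a 489 0)<|d);
 (c (a 339 1)<|c (a 383 0)<|c (a 453 2)<|c (a 469 0)<|d)));
 (let d:=(let d:=(c (a 371 0)<|c (a 133 1)<|c (a 308 0)<|c (a 379 0)<|d);
 (c (a 196 0)<|c (a 466 0)<|
 c (a 326 0)<|c (a 127 0)<|d));
 (c (a 213 1)<|c (a 440 0)<|c (a 75 0)<|c (a 79 0)<|c (a 80 0)<|c (a 81 0)<|c (a 83 0)<|d))));
 (let d:=(let d:=(let d:=(let d:=(c (a 142 3)<|
 c (a 303 0)<|c (a 278 1)<|c (a 348 0)<|d);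
 (c (a 359 2)<|c (a 172 0)<|c (a 439 0)<|c (a 367 3)<|d));
 (let d:=(c (a 437 0)<|c (a 389 0)<|c (a 161 0)<|c (a 438 0)<|d);
 (c (a 306 3)<|
 c (a 435 0)<|c (a 355 3)<|c (a 436 4)<|d)));
 (let d:=(let d:=(c (a 382 1)<|c (a 188 0)<|c (a 374 0)<|c (a 352 1)<|d);
 (c (a 310 4)<|c (a 185 2)<|c (a 434 0)<|c (a 385 0)<|d));
 (let d:=(c (a 152 3)<|
 c (a 433 0)<|c (a 388 0)<|c (a 370 1)<|d);
 (c (a 431 0)<|c (a 277 2)<|c (a 432 4)<|c (a 334 0)<|d))));
 (let d:=(let d:=(let d:=(c (a 429 0)<|c (a 430 0)<|c (a 285 0)<|c (a 284 2)<|d);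
 (c (a 427 1)<|
 c (a 139 1)<|c (a 282 1)<|c (a 428 0)<|d));
 (let d:=(c (a 140 0)<|c (a 268 2)<|c (a 316 0)<|c (a 330 0)<|d);
 (c (a 390 0)<|c (a 426 4)<|c (a 204 0)<|c (a 86 0)<|d)));
 (let d:=(let d:=(c (a 395 0)<|
 c (a 287 2)<|c (a 93 0)<|c (a 200 0)<|d);
 (c (a 364 2)<|c (a 424 0)<|c (a 425 0)<|c (a 391 0)<|d));
 (c (a 365 0)<|c (a 422 0)<|c (a 336 4)<|c (a 271 0)<|c (a 423 3)<|c (a 311 2)<|c (a 210 1)<|d))))));
 (let d:=(let d:=(let d:=(let d:=(let d:=(let d:=(c (a 192 1)<|c (a 420 0)<|c (a 421 0)<|c (a 327 4)<|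
 d);
 (c (a 59 0)<|c (a 60 0)<|c (a 61 0)<|c (a 62 0)<|d));
 (let d:=(c (a 51 0)<|c (a 52 0)<|c (a 54 0)<|c (a 55 0)<|d);
 (c (a 34 4)<|c (a 35 0)<|c (a 36 2)<|c (a 38 3)<|
 d)));
 (let d:=(let d:=(c (a 419 3)<|c (a 128 0)<|c (a 164 0)<|c (a 205 0)<|d);
 (c (a 357 0)<|c (a 418 4)<|c (a 270 0)<|c (a 138 1)<|d));
 (let d:=(c (a 190 0)<|c (a 319 0)<|c (a 193 0)<|c (a 321 0)<|
 d);
 (c (a 145 0)<|c (a 182 1)<|c (a 184 3)<|c (a 317 0)<|d))));
 (let d:=(let d:=(let d:=(c (a 211 2)<|c (a 416 1)<|c (a 417 1)<|c (a 180 0)<|d);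
 (c (a 413 0)<|c (a 414 2)<|c (a 415 2)<|c (a 283 0)<|
 d));
 (let d:=(c (a 372 0)<|c (a 318 0)<|c (a 144 0)<|c (a 412 4)<|d);
 (c (a 343 2)<|c (a 92 0)<|c (a 411 0)<|c (a 171 0)<|d)));
 (let d:=(let d:=(c (a 154 0)<|c (a 199 0)<|c (a 292 1)<|c (a 325 0)<|
 d);
 (c (a 408 0)<|c (a 409 4)<|c (a 397 2)<|c (a 410 0)<|d));
 (c (a 320 0)<|c (a 76 0)<|c (a 53 0)<|
 c (a 126 4)<|c (a 82 0)<|c (a 333 0)<|c (a 181 2)<|d))));
 (let d:=(let d:=(let d:=(let d:=(c (a 202 2)<|c (a 406 0)<|c (a 300 0)<|c (a 407 0)<|d);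
 (c (a 68 3)<|c (a 71 0)<|c (a 73 0)<|c (a 74 4)<|d));
 (let d:=(c (a 404 0)<|c (a 405 0)<|c (a 276 2)<|
 c (a 67 0)<|d);
 (c (a 402 1)<|c (a 175 4)<|c (a 403 2)<|c (a 173 2)<|d)));
 (let d:=(let d:=(c (a 401 0)<|c (a 301 0)<|c (a 87 0)<|c (a 328 0)<|d);
 (c (a 64 0)<|c (a 298 1)<|c (a 350 0)<|
 c (a 387 4)<|d));
 (let d:=(c (a 399 0)<|c (a 400 0)<|c (a 377 0)<|c (a 91 0)<|d);
 (c (a 56 0)<|c (a 314 0)<|c (a 398 0)<|c (a 167 3)<|d))));
 (let d:=(let d:=(let d:=(c (a 265 0)<|c (a 266 0)<|c (a 267 0)<|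
 c (a 31 0)<|d);
 (c (a 262 0)<|c (a 212 0)<|c (a 263 0)<|c (a 264 0)<|d));
 (let d:=(c (a 69 0)<|c (a 259 3)<|c (a 260 0)<|c (a 261 0)<|d);
 (c (a 256 0)<|c (a 257 0)<|c (a 63 4)<|
 c (a 258 4)<|d)));
 (let d:=(let d:=(c (a 162 0)<|c (a 88 2)<|c (a 179 2)<|c (a 255 0)<|d);
 (c (a 251 0)<|c (a 252 0)<|c (a 253 0)<|c (a 254 0)<|d));
 (c (a 248 0)<|c (a 203 0)<|c (a 90 0)<|c (a 249 0)<|c (a 214 2)<|c (a 96 2)<|
 c (a 250 0)<|d)))));
 (let d:=(let d:=(let d:=(let d:=(let d:=(c (a 246 4)<|c (a 247 0)<|c (a 143 0)<|c (a 165 0)<|d);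
 (c (a 72 0)<|c (a 32 0)<|
 c (a 244 3)<|c (a 245 0)<|d));
 (let d:=(c (a 241 0)<|c (a 191 1)<|c (a 242 3)<|c (a 243 0)<|d);
 (c (a 22 0)<|c (a 23 0)<|c (a 24 2)<|c (a 240 3)<|d)));
 (let d:=(let d:=(c (a 12 4)<|c (a 13 0)<|
 c (a 19 0)<|c (a 21 0)<|d);
 (c (a 65 0)<|c (a 237 2)<|c (a 238 2)<|c (a 239 0)<|d));
 (let d:=(c (a 77 0)<|c (a 78 1)<|c (a 28 0)<|c (a 156 0)<|d);
 (c (a 236 0)<|c (a 131 0)<|
 c (a 95 3)<|c (a 157 0)<|d))));
 (let d:=(let d:=(let d:=(c (a 233 0)<|c (a 234 0)<|c (a 235 0)<|c (a 153 0)<|d);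
 (c (a 230 0)<|c (a 207 0)<|c (a 231 2)<|c (a 232 2)<|d));
 (let d:=(c (a 226 0)<|c (a 227 0)<|
 c (a 228 0)<|c (a 229 2)<|d);
 (c (a 27 0)<|c (a 209 0)<|c (a 225 0)<|c (a 189 0)<|d)));
 (let d:=(let d:=(c (a 222 3)<|c (a 223 0)<|c (a 224 0)<|c (a 26 0)<|d);
 (c (a 183 0)<|c (a 221 4)<|
 c (a 57 0)<|c (a 70 0)<|d));
 (c (a 124 1)<|c (a 125 0)<|c (a 33 0)<|c (a 10 0)<|c (a 219 0)<|c (a 195 0)<|c (a 220 0)<|d))));
 (let d:=(let d:=(let d:=(let d:=(c (a 120 2)<|
 c (a 121 0)<|c (a 122 1)<|c (a 123 0)<|d);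
 (c (a 117 0)<|c (a 97 0)<|c (a 118 0)<|c (a 119 0)<|d));
 (let d:=(c (a 113 2)<|c (a 114 0)<|c (a 115 4)<|c (a 116 2)<|d);
 (c (a 109 0)<|
 c (a 110 2)<|c (a 111 4)<|c (a 112 2)<|d)));
 (let d:=(let d:=(c (a 7 0)<|c (a 8 0)<|c (a 108 0)<|c (a 37 2)<|d);
 (c (a 30 0)<|c (a 66 1)<|c (a 106 0)<|c (a 107 0)<|d));
 (let d:=(c (a 103 3)<|
 c (a 104 1)<|c (a 20 2)<|c (a 105 2)<|d);
 (c (a 101 0)<|c (a 58 0)<|c (a 102 0)<|c (a 94 1)<|d))));
 (let d:=(let d:=(let d:=(c (a 99 4)<|c (a 29 4)<|c (a 100 1)<|c (a 9 0)<|d);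
 (c (a 49 1)<|
 c (a 50 1)<|c (a 4 0)<|c (a 98 0)<|d));
 (let d:=(c (a 45 0)<|c (a 46 1)<|c (a 47 0)<|c (a 48 3)<|d);
 (c (a 25 0)<|c (a 1 2)<|c (a 43 3)<|c (a 44 0)<|d)));
 (let d:=(let d:=(c (a 3 2)<|
 c (a 41 1)<|c (a 42 0)<|c (a 11 0)<|d);
 (c (a 17 2)<|c (a 18 0)<|c (a 39 0)<|c (a 40 4)<|d));
 (b (a 2 0)<|b (a 5 2)<|b (a 6 0)<|b (a 14 3)<|b (a 15 0)<|b (a 16 1)<|b (a 0 0)<|d)))))))<|
 b (let d:=(let d:=(let d:=(let d:=(let d:=(let d:=(let d:=(c (a 115 3)<|c (a 475 1)<|c (a 32 1)<|c (a 503 4)<|e);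
 (c (a 248 1)<|c (a 321 2)<|c (a 476 0)<|c (a 166 3)<|d));
 (let d:=(c (a 471 3)<|c (a 189 1)<|c (a 498 4)<|c (a 249 3)<|d);
 (c (a 225 1)<|c (a 240 3)<|c (a 43 2)<|c (a 28 1)<|
 d)));
 (let d:=(let d:=(c (a 347 0)<|c (a 468 2)<|c (a 49 1)<|c (a 157 2)<|d);
 (c (a 218 1)<|c (a 47 3)<|c (a 211 1)<|c (a 116 1)<|d));
 (let d:=(c (a 401 3)<|c (a 159 3)<|c (a 245 3)<|c (a 251 4)<|
 d);
 (c (a 484 4)<|c (a 113 1)<|c (a 109 2)<|c (a 193 1)<|d))));
 (let d:=(let d:=(let d:=(c (a 104 0)<|c (a 499 0)<|c (a 403 1)<|c (a 479 1)<|d);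
 (c (a 485 3)<|c (a 191 0)<|c (a 41 0)<|c (a 102 1)<|
 d));
 (let d:=(c (a 467 1)<|c (a 205 1)<|c (a 122 1)<|c (a 396 1)<|d);
 (c (a 156 1)<|c (a 73 4)<|c (a 495 0)<|c (a 214 1)<|d)));
 (let d:=(let d:=(c (a 107 2)<|c (a 185 1)<|c (a 355 1)<|c (a 386 3)<|
 d);
 (c (a 483 1)<|c (a 340 0)<|c (a 114 1)<|c (a 337 1)<|d));
 (c (a 489 1)<|c (a 320 4)<|c (a 390 1)<|
 c (a 368 2)<|c (a 192 1)<|c (a 163 1)<|c (a 37 1)<|d))));
 (let d:=(let d:=(let d:=(let d:=(c (a 364 1)<|c (a 434 0)<|c (a 25 1)<|c (a 384 1)<|d);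
 (c (a 110 1)<|c (a 74 1)<|c (a 124 0)<|c (a 227 1)<|d));
 (let d:=(c (a 472 4)<|c (a 496 2)<|c (a 259 2)<|
 c (a 417 1)<|d);
 (c (a 170 1)<|c (a 481 4)<|c (a 180 4)<|c (a 86 0)<|d)));
 (let d:=(let d:=(c (a 389 3)<|c (a 344 2)<|c (a 161 2)<|c (a 50 0)<|d);
 (c (a 82 1)<|c (a 374 4)<|c (a 435 2)<|
 c (a 490 2)<|d));
 (let d:=(c (a 204 3)<|c (a 375 1)<|c (a 470 1)<|c (a 178 2)<|d);
 (c (a 360 1)<|c (a 45 4)<|c (a 80 1)<|c (a 439 1)<|d))));
 (let d:=(let d:=(let d:=(c (a 363 3)<|c (a 208 3)<|c (a 210 1)<|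
 c (a 430 3)<|d);
 (c (a 319 4)<|c (a 220 1)<|c (a 370 1)<|c (a 103 1)<|d));
 (let d:=(c (a 422 1)<|c (a 200 2)<|c (a 408 3)<|c (a 388 1)<|d);
 (c (a 323 1)<|c (a 264 0)<|c (a 235 4)<|
 c (a 351 3)<|d)));
 (let d:=(let d:=(c (a 335 0)<|c (a 97 3)<|c (a 376 4)<|c (a 226 1)<|d);
 (c (a 431 3)<|c (a 398 0)<|c (a 500 1)<|c (a 174 4)<|d));
 (c (a 81 2)<|c (a 487 1)<|c (a 407 1)<|c (a 67 2)<|c (a 325 0)<|c (a 167 0)<|
 c (a 48 1)<|d)))));
 (let d:=(let d:=(let d:=(let d:=(let d:=(c (a 123 3)<|c (a 90 1)<|c (a 469 2)<|c (a 164 2)<|d);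
 (c (a 365 1)<|c (a 117 3)<|
 c (a 373 4)<|c (a 477 0)<|d));
 (let d:=(c (a 416 0)<|c (a 119 2)<|c (a 413 4)<|c (a 414 1)<|d);
 (c (a 491 0)<|c (a 482 4)<|c (a 378 3)<|c (a 415 1)<|d)));
 (let d:=(let d:=(c (a 9 1)<|c (a 381 3)<|
 c (a 158 1)<|c (a 38 1)<|d);
 (c (a 93 2)<|c (a 473 1)<|c (a 385 4)<|c (a 486 1)<|d));
 (let d:=(c (a 429 2)<|c (a 85 0)<|c (a 184 4)<|c (a 329 4)<|d);
 (c (a 492 3)<|c (a 350 0)<|
 c (a 17 1)<|c (a 438 4)<|d))));
 (let d:=(let d:=(let d:=(c (a 405 0)<|c (a 338 1)<|c (a 497 0)<|c (a 255 3)<|d);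
 (c (a 404 1)<|c (a 480 1)<|c (a 478 4)<|c (a 502 4)<|d));
 (let d:=(c (a 334 3)<|c (a 256 0)<|
 c (a 488 1)<|c (a 501 1)<|d);
 (c (a 352 0)<|c (a 419 2)<|c (a 474 1)<|c (a 493 1)<|d)));
 (let d:=(let d:=(c (a 201 1)<|c (a 266 1)<|c (a 383 3)<|c (a 44 2)<|d);
 (c (a 318 1)<|c (a 42 3)<|
 c (a 11 0)<|c (a 354 1)<|d));
 (c (a 219 1)<|c (a 6 2)<|c (a 229 1)<|c (a 261 3)<|c (a 494 4)<|c (a 183 3)<|c (a 397 0)<|d))));
 (let d:=(let d:=(let d:=(let d:=(c (a 440 1)<|
 c (a 357 1)<|c (a 237 4)<|c (a 88 0)<|d);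
 (c (a 420 1)<|c (a 353 0)<|c (a 195 0)<|c (a 426 3)<|d));
 (let d:=(c (a 466 2)<|c (a 165 2)<|c (a 5 1)<|c (a 393 1)<|d);
 (c (a 72 1)<|
 c (a 209 3)<|c (a 39 2)<|c (a 68 2)<|d)));
 (let d:=(let d:=(c (a 409 4)<|c (a 465 4)<|c (a 361 1)<|c (a 400 1)<|d);
 (c (a 18 2)<|c (a 252 4)<|c (a 387 1)<|c (a 168 1)<|d));
 (let d:=(c (a 343 1)<|
 c (a 464 1)<|c (a 328 4)<|c (a 402 0)<|d);
 (c (a 223 2)<|c (a 433 1)<|c (a 169 3)<|c (a 336 1)<|d))));
 (let d:=(let d:=(let d:=(c (a 463 0)<|c (a 247 2)<|c (a 369 1)<|c (a 382 2)<|d);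
 (c (a 436 1)<|
 c (a 186 1)<|c (a 187 1)<|c (a 427 3)<|d));
 (let d:=(c (a 462 1)<|c (a 263 1)<|c (a 349 3)<|c (a 196 4)<|d);
 (c (a 96 1)<|c (a 3 1)<|c (a 324 2)<|c (a 423 0)<|d)));
 (let d:=(let d:=(c (a 253 1)<|
 c (a 228 3)<|c (a 406 3)<|c (a 265 3)<|d);
 (c (a 215 1)<|c (a 421 4)<|c (a 461 3)<|c (a 341 4)<|d));
 (c (a 332 3)<|c (a 457 4)<|c (a 84 3)<|c (a 458 4)<|c (a 260 3)<|c (a 459 1)<|c (a 460 1)<|d))))));
 (let d:=(let d:=(let d:=(let d:=(let d:=(let d:=(c (a 399 1)<|c (a 345 0)<|c (a 333 1)<|c (a 346 4)<|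
 d);
 (c (a 244 2)<|c (a 190 2)<|c (a 371 4)<|c (a 181 0)<|d));
 (let d:=(c (a 456 2)<|c (a 366 2)<|c (a 198 0)<|c (a 437 3)<|d);
 (c (a 358 1)<|c (a 424 1)<|c (a 454 1)<|c (a 455 1)<|
 d)));
 (let d:=(let d:=(c (a 257 1)<|c (a 197 1)<|c (a 392 1)<|c (a 394 4)<|d);
 (c (a 395 4)<|c (a 339 1)<|c (a 71 1)<|c (a 348 1)<|d));
 (let d:=(c (a 379 3)<|c (a 98 1)<|c (a 453 1)<|c (a 411 3)<|
 d);
 (c (a 452 1)<|c (a 326 1)<|c (a 412 4)<|c (a 233 4)<|d))));
 (let d:=(let d:=(let d:=(c (a 26 1)<|c (a 172 1)<|c (a 317 1)<|c (a 12 1)<|d);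
 (c (a 100 1)<|c (a 194 2)<|c (a 177 1)<|c (a 356 0)<|
 d));
 (let d:=(c (a 327 0)<|c (a 91 4)<|c (a 425 2)<|c (a 342 2)<|d);
 (c (a 175 0)<|c (a 322 2)<|c (a 331 2)<|c (a 216 3)<|d)));
 (let d:=(let d:=(c (a 239 4)<|c (a 179 1)<|c (a 207 1)<|c (a 359 1)<|
 d);
 (c (a 199 2)<|c (a 95 3)<|c (a 15 2)<|c (a 46 0)<|d));
 (c (a 99 1)<|c (a 449 1)<|c (a 367 0)<|
 c (a 450 1)<|c (a 451 1)<|c (a 35 4)<|c (a 410 2)<|d))));
 (let d:=(let d:=(let d:=(let d:=(c (a 234 1)<|c (a 432 1)<|c (a 447 1)<|c (a 448 1)<|d);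
 (c (a 428 2)<|c (a 224 4)<|c (a 446 2)<|c (a 377 3)<|d));
 (let d:=(c (a 232 1)<|c (a 94 0)<|c (a 76 1)<|
 c (a 254 3)<|d);
 (c (a 362 1)<|c (a 121 4)<|c (a 444 1)<|c (a 445 1)<|d)));
 (let d:=(let d:=(c (a 443 0)<|c (a 380 0)<|c (a 33 3)<|c (a 105 1)<|d);
 (c (a 77 4)<|c (a 391 1)<|c (a 106 0)<|
 c (a 246 3)<|d));
 (let d:=(c (a 230 4)<|c (a 418 4)<|c (a 442 0)<|c (a 330 1)<|d);
 (c (a 182 0)<|c (a 118 3)<|c (a 160 0)<|c (a 372 3)<|d))));
 (let d:=(let d:=(let d:=(c (a 316 2)<|c (a 1 1)<|c (a 2 4)<|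
 c (a 441 3)<|d);
 (c (a 315 1)<|c (a 125 4)<|c (a 231 1)<|c (a 108 0)<|d));
 (let d:=(c (a 311 1)<|c (a 312 1)<|c (a 313 4)<|c (a 314 2)<|d);
 (c (a 307 0)<|c (a 308 2)<|c (a 309 3)<|
 c (a 310 2)<|d)));
 (let d:=(let d:=(c (a 120 1)<|c (a 30 2)<|c (a 305 1)<|c (a 306 2)<|d);
 (c (a 262 1)<|c (a 302 1)<|c (a 303 4)<|c (a 304 2)<|d));
 (c (a 222 1)<|c (a 202 1)<|c (a 300 4)<|c (a 173 0)<|c (a 4 1)<|c (a 301 1)<|
 c (a 213 0)<|d)))));
 (let d:=(let d:=(let d:=(let d:=(let d:=(c (a 299 1)<|c (a 92 3)<|c (a 206 4)<|c (a 101 3)<|d);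
 (c (a 295 1)<|c (a 296 4)<|
 c (a 297 1)<|c (a 298 0)<|d));
 (let d:=(c (a 176 1)<|c (a 111 1)<|c (a 89 1)<|c (a 294 4)<|d);
 (c (a 267 1)<|c (a 293 4)<|c (a 258 1)<|c (a 238 1)<|d)));
 (let d:=(let d:=(c (a 289 3)<|c (a 290 1)<|
 c (a 291 1)<|c (a 292 0)<|d);
 (c (a 112 1)<|c (a 287 1)<|c (a 288 4)<|c (a 212 1)<|d));
 (let d:=(c (a 286 1)<|c (a 250 1)<|c (a 217 1)<|c (a 13 4)<|d);
 (c (a 241 1)<|c (a 283 0)<|
 c (a 284 1)<|c (a 285 3)<|d))));
 (let d:=(let d:=(let d:=(c (a 281 1)<|c (a 27 1)<|c (a 162 1)<|c (a 282 0)<|d);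
 (c (a 280 1)<|c (a 16 0)<|c (a 10 1)<|c (a 188 1)<|d));
 (let d:=(c (a 276 1)<|c (a 277 1)<|
 c (a 278 2)<|c (a 279 1)<|d);
 (c (a 203 4)<|c (a 242 2)<|c (a 275 4)<|c (a 243 1)<|d)));
 (let d:=(let d:=(c (a 273 2)<|c (a 274 3)<|c (a 221 1)<|c (a 36 1)<|d);
 (c (a 269 2)<|c (a 270 3)<|
 c (a 271 1)<|c (a 272 0)<|d));
 (c (a 153 1)<|c (a 154 1)<|c (a 155 2)<|c (a 268 1)<|c (a 78 0)<|c (a 171 0)<|c (a 236 4)<|d))));
 (let d:=(let d:=(let d:=(let d:=(c (a 151 1)<|
 c (a 152 4)<|c (a 66 1)<|c (a 29 1)<|d);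
 (c (a 150 2)<|c (a 87 2)<|c (a 79 2)<|c (a 14 2)<|d));
 (let d:=(c (a 69 1)<|c (a 148 4)<|c (a 70 1)<|c (a 149 1)<|d);
 (c (a 144 3)<|
 c (a 145 1)<|c (a 146 1)<|c (a 147 1)<|d)));
 (let d:=(let d:=(c (a 141 0)<|c (a 142 2)<|c (a 143 1)<|c (a 75 1)<|d);
 (c (a 138 0)<|c (a 139 1)<|c (a 34 3)<|c (a 140 3)<|d));
 (let d:=(c (a 31 2)<|
 c (a 136 1)<|c (a 83 1)<|c (a 137 1)<|d);
 (c (a 132 2)<|c (a 133 0)<|c (a 134 4)<|c (a 135 1)<|d))));
 (let d:=(let d:=(let d:=(c (a 128 3)<|c (a 129 3)<|c (a 130 1)<|c (a 131 0)<|d);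
 (c (a 64 1)<|
 c (a 65 1)<|c (a 126 3)<|c (a 127 4)<|d));
 (let d:=(c (a 61 1)<|c (a 62 1)<|c (a 40 1)<|c (a 63 1)<|d);
 (c (a 57 4)<|c (a 58 1)<|c (a 59 1)<|c (a 60 3)<|d)));
 (let d:=(let d:=(c (a 53 0)<|
 c (a 54 1)<|c (a 55 2)<|c (a 56 0)<|d);
 (c (a 23 1)<|c (a 24 0)<|c (a 51 3)<|c (a 52 3)<|d));
 (b (a 0 1)<|b (a 7 1)<|b (a 8 3)<|b (a 19 1)<|b (a 20 1)<|b (a 21 1)<|b (a 22 4)<|d)))))))<|e))

/-- cosets -/
def B7 : Dt where
  gT := (beta% delta% lq26484ea4b8 fun a b _ e _ _ _ _ =>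
 (b (b (a 0 1)<|b (a 1 2)<|b (a 2 3)<|b (a 3 4)<|b (a 4 5)<|b (a 5 6)<|e)<|e))
  zw := (beta% delta% lq26484ea4b8 fun _ b _ e _ _ _ _ =>
 (b e<|b (b 0<|e)<|b (b 0<|b 0<|e)<|b (b 0<|b 0<|b 0<|e)<|b (b 0<|b 0<|b 0<|b 0<|e)<|b (b 0<|b 0<|b 0<|b 0<|b 0<|e)<|b (b 0<|b 0<|b 0<|b 0<|b 0<|b 0<|e)<|e))
  reps := (beta% delta% lq26484ea4b8 fun a b _ e f _ _ _ =>
 (let d:=(let d:=(let d:=(let d:=(let d:=(let d:=(f (b (a 1 2)<|b (a 3 5)<|b (a 5 6)<|b (a 6 4)<|e)<|f (b (a 0 1)<|b (a 2 6)<|e)<|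
 f (b (a 0 4)<|b (a 3 5)<|e)<|f (b (a 1 4)<|b (a 5 6)<|e)<|
 f (b (a 1 4)<|b (a 2 3)<|e)<|f (b (a 0 3)<|b (a 1 2)<|e)<|e);
 (f (b (a 1 2)<|b (a 2 6)<|b (a 6 3)<|b (a 4 5)<|e)<|f (b (a 0 3)<|b (a 4 5)<|e)<|
 f (b (a 1 3)<|b (a 3 6)<|b (a 6 5)<|b (a 2 4)<|e)<|f (b (a 1 2)<|b (a 3 6)<|b (a 6 4)<|b (a 4 5)<|e)<|
 f (b (a 1 5)<|b (a 5 4)<|e)<|f (b (a 1 4)<|b (a 4 6)<|b (a 6 5)<|b (a 5 2)<|e)<|
 d));
 (let d:=(f (b (a 2 3)<|b (a 3 5)<|b (a 5 4)<|b (a 4 6)<|e)<|f (b (a 0 4)<|b (a 1 3)<|e)<|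
 f (b (a 0 6)<|b (a 1 5)<|e)<|f (b (a 1 4)<|b (a 4 3)<|b (a 3 5)<|b (a 5 6)<|e)<|
 f (b (a 1 3)<|b (a 3 2)<|b (a 2 4)<|b (a 4 5)<|e)<|f (b (a 2 4)<|b (a 3 6)<|e)<|
 d);
 (f (b (a 1 2)<|b (a 2 6)<|b (a 6 4)<|b (a 4 5)<|e)<|
 f (b (a 1 6)<|b (a 3 5)<|e)<|f (b (a 1 2)<|b (a 3 6)<|e)<|
 f (b (a 2 6)<|b (a 6 5)<|b (a 5 3)<|b (a 3 4)<|e)<|f (b (a 1 5)<|b (a 5 6)<|b (a 6 2)<|b (a 2 3)<|e)<|
 d)));
 (let d:=(let d:=(f (b (a 1 5)<|b (a 2 4)<|e)<|
 f (b (a 0 4)<|b (a 4 3)<|e)<|f (b (a 1 3)<|b (a 3 6)<|b (a 6 5)<|b (a 5 2)<|e)<|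
 f (b (a 0 2)<|b (a 3 5)<|e)<|f (b (a 1 5)<|b (a 5 4)<|b (a 4 2)<|b (a 2 3)<|e)<|
 f (b (a 1 2)<|b (a 2 5)<|b (a 5 6)<|b (a 6 3)<|e)<|d);
 (f (b (a 1 3)<|b (a 2 6)<|b (a 6 4)<|b (a 4 5)<|e)<|f (b (a 2 4)<|b (a 4 3)<|b (a 3 5)<|b (a 5 6)<|e)<|
 f (b (a 1 4)<|b (a 4 3)<|b (a 3 2)<|b (a 2 6)<|e)<|f (b (a 1 5)<|b (a 5 6)<|b (a 2 4)<|b (a 4 3)<|e)<|
 f (b (a 1 3)<|b (a 3 6)<|b (a 6 5)<|b (a 5 4)<|e)<|d));
 (let d:=(f (b (a 1 3)<|b (a 4 6)<|e)<|f (b (a 1 6)<|b (a 6 2)<|b (a 2 5)<|b (a 5 4)<|e)<|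
 f (b (a 1 6)<|b (a 6 4)<|b (a 4 5)<|b (a 5 2)<|e)<|f (b (a 1 5)<|b (a 5 4)<|b (a 2 3)<|b (a 3 6)<|e)<|
 f (b (a 0 5)<|b (a 2 4)<|e)<|f (b (a 1 2)<|b (a 2 5)<|b (a 5 4)<|b (a 3 6)<|e)<|
 d);
 (f (b (a 0 3)<|b (a 2 4)<|e)<|
 f (b (a 2 6)<|b (a 3 4)<|e)<|f (b (a 1 2)<|b (a 2 4)<|b (a 4 3)<|b (a 5 6)<|e)<|
 f (b (a 1 4)<|b (a 2 5)<|e)<|f (b (a 1 6)<|b (a 6 5)<|b (a 5 2)<|b (a 2 4)<|e)<|
 d))));
 (let d:=(let d:=(let d:=(f (b (a 0 5)<|b (a 1 4)<|e)<|
 f (b (a 0 1)<|b (a 2 5)<|e)<|f (b (a 2 5)<|b (a 5 6)<|b (a 6 3)<|b (a 3 4)<|e)<|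
 f (b (a 1 3)<|b (a 2 5)<|e)<|f (b (a 0 1)<|b (a 5 6)<|e)<|
 f (b (a 1 4)<|b (a 4 6)<|b (a 6 5)<|b (a 2 3)<|e)<|d);
 (f (b (a 1 4)<|b (a 4 6)<|e)<|
 f (b (a 1 6)<|b (a 6 5)<|e)<|f (b (a 1 6)<|b (a 6 5)<|b (a 5 2)<|b (a 2 3)<|e)<|
 f (b (a 0 5)<|b (a 5 1)<|e)<|f (b (a 2 3)<|b (a 4 6)<|e)<|
 f (b (a 1 5)<|b (a 2 6)<|b (a 6 4)<|b (a 4 3)<|e)<|d));
 (let d:=(f (b (a 1 6)<|b (a 2 4)<|e)<|
 f (b (a 1 3)<|b (a 3 6)<|b (a 6 2)<|b (a 4 5)<|e)<|f (b (a 2 4)<|b (a 5 6)<|e)<|
 f (b (a 1 4)<|b (a 4 2)<|b (a 3 6)<|b (a 6 5)<|e)<|f (b (a 2 6)<|b (a 6 3)<|e)<|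
 f (b (a 1 4)<|b (a 4 2)<|b (a 2 3)<|b (a 3 5)<|e)<|d);
 (f (b (a 0 4)<|b (a 5 6)<|e)<|f (b (a 1 6)<|b (a 4 5)<|e)<|
 f (b (a 1 6)<|b (a 6 3)<|b (a 3 2)<|b (a 2 4)<|e)<|f (b (a 1 2)<|b (a 2 6)<|e)<|
 f (b (a 1 6)<|b (a 6 4)<|b (a 4 5)<|b (a 2 3)<|e)<|d)));
 (let d:=(let d:=(f (b (a 1 4)<|b (a 4 6)<|b (a 6 3)<|b (a 3 5)<|e)<|f (b (a 1 6)<|b (a 6 3)<|b (a 3 5)<|b (a 5 2)<|e)<|
 f (b (a 1 2)<|b (a 2 3)<|e)<|f (b (a 1 2)<|b (a 4 6)<|e)<|
 f (b (a 0 2)<|b (a 3 6)<|e)<|f (b (a 0 6)<|b (a 6 3)<|e)<|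
 d);
 (f (b (a 1 3)<|b (a 3 6)<|b (a 6 4)<|b (a 4 2)<|e)<|
 f (b (a 1 4)<|b (a 4 2)<|b (a 2 6)<|b (a 6 5)<|e)<|f (b (a 2 3)<|b (a 3 4)<|b (a 4 6)<|b (a 6 5)<|e)<|
 f (b (a 1 3)<|b (a 2 6)<|e)<|f (b (a 1 2)<|b (a 2 6)<|b (a 6 4)<|b (a 3 5)<|e)<|
 d));
 (let d:=(f (b (a 2 4)<|b (a 4 5)<|b (a 5 6)<|b (a 6 3)<|e)<|
 f (b (a 0 6)<|b (a 1 4)<|e)<|f (b (a 1 6)<|b (a 6 4)<|b (a 4 3)<|b (a 3 5)<|e)<|
 f (b (a 1 5)<|b (a 5 4)<|b (a 4 6)<|b (a 6 3)<|e)<|f (b (a 2 4)<|b (a 4 6)<|e)<|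
 f (b (a 0 6)<|b (a 4 5)<|e)<|d);
 (f (b (a 1 2)<|b (a 3 5)<|e)<|f (b (a 1 5)<|b (a 5 3)<|b (a 3 4)<|b (a 4 6)<|e)<|
 f (b (a 0 2)<|b (a 3 4)<|e)<|f (b (a 1 4)<|b (a 4 2)<|b (a 2 6)<|b (a 6 3)<|e)<|
 f (b (a 0 3)<|b (a 4 6)<|e)<|d)))));
 (let d:=(let d:=(let d:=(let d:=(f (b (a 1 2)<|b (a 2 5)<|b (a 3 4)<|b (a 4 6)<|e)<|f (b (a 2 4)<|b (a 4 5)<|e)<|
 f (b (a 0 4)<|b (a 1 5)<|e)<|f (b (a 1 4)<|b (a 4 5)<|b (a 5 2)<|b (a 2 3)<|e)<|
 f (b (a 1 6)<|b (a 6 4)<|b (a 2 3)<|b (a 3 5)<|e)<|f (b (a 0 5)<|b (a 5 4)<|e)<|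
 d);
 (f (b (a 0 6)<|b (a 6 4)<|e)<|f (b (a 1 5)<|b (a 2 3)<|e)<|
 f (b (a 1 2)<|b (a 2 4)<|b (a 4 3)<|b (a 3 5)<|e)<|f (b (a 1 3)<|b (a 3 4)<|b (a 4 6)<|b (a 6 2)<|e)<|
 f (b (a 1 5)<|b (a 5 3)<|b (a 3 2)<|b (a 4 6)<|e)<|f (b (a 1 3)<|b (a 3 4)<|b (a 4 5)<|b (a 2 6)<|e)<|
 d));
 (let d:=(f (b (a 0 6)<|b (a 2 4)<|e)<|f (b (a 1 3)<|b (a 2 5)<|b (a 5 4)<|b (a 4 6)<|e)<|
 f (b (a 0 3)<|b (a 1 4)<|e)<|f (b (a 1 3)<|b (a 3 2)<|b (a 2 5)<|b (a 4 6)<|e)<|
 f (b (a 1 5)<|b (a 5 3)<|b (a 3 6)<|b (a 6 2)<|e)<|f (b (a 1 5)<|b (a 5 4)<|b (a 4 3)<|b (a 3 6)<|e)<|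
 d);
 (f (b (a 0 4)<|b (a 4 5)<|e)<|
 f (b (a 1 4)<|b (a 3 5)<|e)<|f (b (a 1 3)<|b (a 3 5)<|b (a 5 6)<|b (a 6 2)<|e)<|
 f (b (a 2 4)<|b (a 4 5)<|b (a 5 3)<|b (a 3 6)<|e)<|f (b (a 0 2)<|b (a 1 4)<|e)<|
 d)));
 (let d:=(let d:=(f (b (a 1 5)<|b (a 5 2)<|e)<|
 f (b (a 2 5)<|b (a 5 3)<|b (a 3 4)<|b (a 4 6)<|e)<|f (b (a 1 6)<|b (a 6 3)<|b (a 3 5)<|b (a 5 4)<|e)<|
 f (b (a 1 5)<|b (a 5 4)<|b (a 4 2)<|b (a 2 6)<|e)<|f (b (a 0 3)<|b (a 3 5)<|e)<|
 f (b (a 1 3)<|b (a 2 6)<|b (a 6 5)<|b (a 5 4)<|e)<|d);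
 (f (b (a 1 3)<|b (a 4 5)<|e)<|f (b (a 0 6)<|b (a 3 5)<|e)<|
 f (b (a 0 1)<|b (a 1 3)<|e)<|f (b (a 0 2)<|b (a 2 5)<|e)<|
 f (b (a 1 5)<|b (a 5 6)<|b (a 6 3)<|b (a 3 2)<|e)<|d));
 (let d:=(f (b (a 1 3)<|b (a 3 5)<|b (a 2 6)<|b (a 6 4)<|e)<|f (b (a 0 5)<|b (a 1 3)<|e)<|
 f (b (a 1 6)<|b (a 6 3)<|b (a 3 5)<|b (a 2 4)<|e)<|f (b (a 1 5)<|b (a 5 6)<|b (a 6 2)<|b (a 2 4)<|e)<|
 f (b (a 0 4)<|b (a 4 1)<|e)<|f (b (a 1 6)<|b (a 2 3)<|b (a 3 5)<|b (a 5 4)<|e)<|
 d);
 (f (b (a 1 4)<|b (a 4 5)<|b (a 5 3)<|b (a 3 6)<|e)<|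
 f (b (a 1 2)<|b (a 2 4)<|b (a 4 5)<|b (a 5 3)<|e)<|f (b (a 0 1)<|b (a 1 5)<|e)<|
 f (b (a 1 2)<|b (a 2 6)<|b (a 3 5)<|b (a 5 4)<|e)<|f (b (a 1 3)<|b (a 3 2)<|b (a 2 6)<|b (a 4 5)<|e)<|
 d))));
 (let d:=(let d:=(let d:=(f (b (a 2 6)<|b (a 6 5)<|e)<|
 f (b (a 3 6)<|b (a 4 5)<|e)<|f (b (a 1 5)<|b (a 2 3)<|b (a 3 4)<|b (a 4 6)<|e)<|
 f (b (a 2 3)<|b (a 3 5)<|b (a 5 6)<|b (a 6 4)<|e)<|f (b (a 0 2)<|b (a 2 4)<|e)<|
 f (b (a 0 5)<|b (a 3 4)<|e)<|d);
 (f (b (a 1 4)<|b (a 4 5)<|b (a 5 3)<|b (a 2 6)<|e)<|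
 f (b (a 1 6)<|b (a 6 3)<|b (a 3 2)<|b (a 2 5)<|e)<|f (b (a 0 1)<|b (a 3 5)<|e)<|
 f (b (a 1 6)<|b (a 2 5)<|e)<|f (b (a 1 3)<|b (a 2 4)<|b (a 4 5)<|b (a 5 6)<|e)<|
 f (b (a 1 3)<|b (a 3 4)<|b (a 4 2)<|b (a 2 6)<|e)<|d));
 (let d:=(f (b (a 2 3)<|b (a 3 4)<|e)<|
 f (b (a 1 2)<|b (a 2 6)<|b (a 6 5)<|b (a 5 4)<|e)<|f (b (a 1 2)<|b (a 2 4)<|e)<|
 f (b (a 1 4)<|b (a 4 6)<|b (a 6 3)<|b (a 2 5)<|e)<|f (b (a 1 4)<|b (a 4 2)<|b (a 2 3)<|b (a 5 6)<|e)<|
 f (b (a 0 1)<|b (a 1 2)<|e)<|d);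
 (f (b (a 0 2)<|b (a 4 6)<|e)<|f (b (a 1 4)<|b (a 4 5)<|b (a 5 2)<|b (a 2 6)<|e)<|
 f (b (a 1 2)<|b (a 2 3)<|b (a 3 5)<|b (a 5 4)<|e)<|f (b (a 0 2)<|b (a 1 5)<|e)<|
 f (b (a 1 2)<|b (a 2 3)<|b (a 3 6)<|b (a 6 4)<|e)<|d)));
 (let d:=(let d:=(f (b (a 1 4)<|b (a 4 6)<|b (a 6 5)<|b (a 5 3)<|e)<|f (b (a 1 3)<|b (a 3 6)<|b (a 6 2)<|b (a 2 4)<|e)<|
 f (b (a 1 2)<|b (a 2 6)<|b (a 6 3)<|b (a 3 5)<|e)<|f (b (a 1 3)<|b (a 3 5)<|e)<|
 f (b (a 3 4)<|b (a 5 6)<|e)<|f (b (a 1 5)<|b (a 5 6)<|b (a 6 2)<|b (a 3 4)<|e)<|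
 d);
 (f (b (a 2 5)<|b (a 3 4)<|e)<|
 f (b (a 1 3)<|b (a 3 5)<|b (a 5 4)<|b (a 2 6)<|e)<|f (b (a 3 4)<|b (a 4 5)<|e)<|
 f (b (a 1 5)<|b (a 5 4)<|b (a 4 6)<|b (a 2 3)<|e)<|f (b (a 1 2)<|b (a 2 3)<|b (a 3 6)<|b (a 6 5)<|e)<|
 d));
 (let d:=(f (b (a 1 3)<|b (a 3 6)<|e)<|
 f (b (a 2 4)<|b (a 4 6)<|b (a 6 5)<|b (a 5 3)<|e)<|f (b (a 0 6)<|b (a 2 5)<|e)<|
 f (b (a 2 6)<|b (a 3 5)<|e)<|f (b (a 1 3)<|b (a 3 4)<|b (a 4 5)<|b (a 5 2)<|e)<|
 f (b (a 0 3)<|b (a 5 6)<|e)<|d);
 (f (b (a 4 6)<|b (a 6 5)<|e)<|f (b (a 0 1)<|b (a 2 4)<|e)<|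
 f (b (a 1 3)<|b (a 3 6)<|b (a 6 4)<|b (a 4 5)<|e)<|f (b (a 1 6)<|b (a 6 2)<|b (a 2 4)<|b (a 4 3)<|e)<|
 f (b (a 1 6)<|b (a 2 3)<|e)<|d))))));
 (let d:=(let d:=(let d:=(let d:=(let d:=(f (b (a 3 4)<|b (a 4 6)<|e)<|f (b (a 0 4)<|b (a 4 6)<|e)<|
 f (b (a 2 3)<|b (a 3 6)<|b (a 6 4)<|b (a 4 5)<|e)<|f (b (a 1 2)<|b (a 3 5)<|b (a 5 4)<|b (a 4 6)<|e)<|
 f (b (a 3 6)<|b (a 6 4)<|e)<|f (b (a 1 3)<|b (a 3 2)<|b (a 2 4)<|b (a 5 6)<|e)<|
 d);
 (f (b (a 1 2)<|b (a 2 6)<|b (a 6 5)<|b (a 5 3)<|e)<|f (b (a 1 2)<|b (a 2 5)<|b (a 5 4)<|b (a 4 3)<|e)<|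
 f (b (a 1 3)<|b (a 3 4)<|e)<|f (b (a 0 4)<|b (a 3 6)<|e)<|
 f (b (a 2 6)<|b (a 4 5)<|e)<|f (b (a 1 4)<|b (a 4 6)<|b (a 6 2)<|b (a 3 5)<|e)<|
 d));
 (let d:=(f (b (a 1 3)<|b (a 3 6)<|b (a 6 4)<|b (a 2 5)<|e)<|f (b (a 1 5)<|b (a 5 4)<|b (a 4 3)<|b (a 2 6)<|e)<|
 f (b (a 1 3)<|b (a 3 4)<|b (a 2 5)<|b (a 5 6)<|e)<|f (b (a 2 5)<|b (a 5 6)<|b (a 6 4)<|b (a 4 3)<|e)<|
 f (b (a 2 6)<|b (a 6 4)<|b (a 4 5)<|b (a 5 3)<|e)<|f (b (a 1 3)<|b (a 3 5)<|b (a 5 6)<|b (a 6 4)<|e)<|
 d);
 (f (b (a 1 6)<|b (a 6 3)<|b (a 2 4)<|b (a 4 5)<|e)<|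
 f (b (a 3 6)<|b (a 6 5)<|e)<|f (b (a 2 3)<|b (a 4 5)<|e)<|
 f (b (a 0 4)<|b (a 1 2)<|e)<|f (b (a 0 2)<|b (a 2 6)<|e)<|
 d)));
 (let d:=(let d:=(f (b (a 0 5)<|b (a 1 2)<|e)<|
 f (b (a 1 4)<|b (a 2 6)<|b (a 6 5)<|b (a 5 3)<|e)<|f (b (a 1 2)<|b (a 2 5)<|b (a 5 3)<|b (a 3 6)<|e)<|
 f (b (a 0 3)<|b (a 2 6)<|e)<|f (b (a 1 3)<|b (a 3 2)<|b (a 2 6)<|b (a 6 5)<|e)<|
 f (b (a 1 5)<|b (a 5 6)<|b (a 6 4)<|b (a 2 3)<|e)<|d);
 (f (b (a 0 3)<|b (a 3 2)<|e)<|f (b (a 1 6)<|b (a 6 3)<|b (a 3 4)<|b (a 4 2)<|e)<|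
 f (b (a 0 6)<|b (a 1 3)<|e)<|f (b (a 1 3)<|b (a 3 2)<|b (a 2 6)<|b (a 6 4)<|e)<|
 f (b (a 1 2)<|b (a 2 4)<|b (a 4 6)<|b (a 6 3)<|e)<|d));
 (let d:=(f (b (a 0 4)<|b (a 1 6)<|e)<|f (b (a 1 6)<|b (a 6 2)<|b (a 2 3)<|b (a 4 5)<|e)<|
 f (b (a 0 1)<|b (a 1 6)<|e)<|f (b (a 1 4)<|b (a 4 2)<|b (a 2 5)<|b (a 5 6)<|e)<|
 f (b (a 2 3)<|b (a 3 6)<|e)<|f (b (a 1 5)<|b (a 5 3)<|b (a 3 6)<|b (a 2 4)<|e)<|
 d);
 (f (b (a 1 3)<|b (a 3 4)<|b (a 4 2)<|b (a 2 5)<|e)<|
 f (b (a 2 5)<|b (a 5 3)<|e)<|f (b (a 0 3)<|b (a 1 6)<|e)<|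
 f (b (a 1 3)<|b (a 5 6)<|e)<|f (b (a 1 5)<|b (a 5 2)<|b (a 2 3)<|b (a 4 6)<|e)<|
 d))));
 (let d:=(let d:=(let d:=(f (b (a 1 2)<|b (a 2 5)<|b (a 5 3)<|b (a 3 4)<|e)<|
 f (b (a 3 5)<|b (a 5 4)<|e)<|f (b (a 1 4)<|b (a 2 3)<|b (a 3 6)<|b (a 6 5)<|e)<|
 f (b (a 1 3)<|b (a 3 5)<|b (a 5 4)<|b (a 4 2)<|e)<|f (b (a 1 4)<|b (a 2 3)<|b (a 3 5)<|b (a 5 6)<|e)<|
 f (b (a 2 6)<|b (a 6 4)<|e)<|d);
 (f (b (a 0 4)<|b (a 2 3)<|e)<|
 f (b (a 2 5)<|b (a 5 6)<|e)<|f (b (a 1 4)<|b (a 2 5)<|b (a 5 6)<|b (a 6 3)<|e)<|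
 f (b (a 2 3)<|b (a 3 5)<|e)<|f (b (a 3 5)<|b (a 5 6)<|e)<|
 f (b (a 1 2)<|b (a 2 6)<|b (a 6 5)<|b (a 3 4)<|e)<|d));
 (let d:=(f (b (a 1 5)<|b (a 2 3)<|b (a 3 6)<|b (a 6 4)<|e)<|
 f (b (a 1 3)<|b (a 3 4)<|b (a 4 6)<|b (a 6 5)<|e)<|f (b (a 1 2)<|b (a 2 3)<|b (a 3 5)<|b (a 4 6)<|e)<|
 f (b (a 0 2)<|b (a 2 3)<|e)<|f (b (a 2 5)<|b (a 3 6)<|e)<|
 f (b (a 1 5)<|b (a 3 4)<|e)<|d);
 (f (b (a 1 2)<|b (a 2 3)<|b (a 4 6)<|b (a 6 5)<|e)<|f (b (a 1 5)<|b (a 5 4)<|b (a 4 2)<|b (a 3 6)<|e)<|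
 f (b (a 1 4)<|b (a 4 5)<|b (a 5 3)<|b (a 3 2)<|e)<|f (b (a 1 5)<|b (a 5 3)<|b (a 3 4)<|b (a 4 2)<|e)<|
 f (b (a 1 6)<|b (a 2 4)<|b (a 4 5)<|b (a 5 3)<|e)<|d)));
 (let d:=(let d:=(f (b (a 0 5)<|b (a 2 3)<|e)<|f (b (a 2 5)<|b (a 5 4)<|e)<|
 f (b (a 1 2)<|b (a 3 4)<|e)<|f (b (a 0 1)<|b (a 3 6)<|e)<|
 f (b (a 1 5)<|b (a 5 6)<|e)<|f (b (a 2 3)<|b (a 3 6)<|b (a 6 5)<|b (a 5 4)<|e)<|
 d);
 (f (b (a 1 6)<|b (a 6 2)<|b (a 3 4)<|b (a 4 5)<|e)<|
 f (b (a 1 5)<|b (a 2 6)<|e)<|f (b (a 1 4)<|b (a 4 5)<|b (a 2 6)<|b (a 6 3)<|e)<|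
 f (b (a 1 5)<|b (a 5 2)<|b (a 2 3)<|b (a 3 6)<|e)<|f (b (a 1 4)<|b (a 4 6)<|b (a 6 3)<|b (a 3 2)<|e)<|
 d));
 (let d:=(f (b (a 0 2)<|b (a 5 6)<|e)<|
 f (b (a 1 4)<|b (a 4 2)<|b (a 2 3)<|b (a 3 6)<|e)<|f (b (a 1 5)<|b (a 2 4)<|b (a 4 6)<|b (a 6 3)<|e)<|
 f (b (a 0 1)<|b (a 4 6)<|e)<|f (b (a 1 3)<|b (a 3 2)<|b (a 4 5)<|b (a 5 6)<|e)<|
 f (b (a 1 2)<|b (a 2 4)<|b (a 4 3)<|b (a 3 6)<|e)<|d);
 (f (b (a 1 6)<|b (a 6 2)<|e)<|f (b (a 1 3)<|b (a 3 4)<|b (a 4 2)<|b (a 5 6)<|e)<|
 f (b (a 0 6)<|b (a 3 4)<|e)<|f (b (a 1 5)<|b (a 5 6)<|b (a 6 4)<|b (a 4 2)<|e)<|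
 f (b (a 1 4)<|b (a 4 3)<|e)<|d)))));
 (let d:=(let d:=(let d:=(let d:=(f (b (a 1 6)<|b (a 6 5)<|b (a 2 3)<|b (a 3 4)<|e)<|f (b (a 1 4)<|b (a 4 5)<|b (a 5 2)<|b (a 3 6)<|e)<|
 f (b (a 1 2)<|b (a 2 5)<|e)<|f (b (a 1 4)<|b (a 3 6)<|e)<|
 f (b (a 0 5)<|b (a 5 2)<|e)<|f (b (a 1 6)<|b (a 6 2)<|b (a 2 4)<|b (a 4 5)<|e)<|
 d);
 (f (b (a 0 5)<|b (a 3 6)<|e)<|f (b (a 2 3)<|b (a 5 6)<|e)<|
 f (b (a 1 4)<|b (a 4 6)<|b (a 6 2)<|b (a 2 3)<|e)<|f (b (a 1 5)<|b (a 3 6)<|e)<|
 f (b (a 0 5)<|b (a 5 6)<|e)<|f (b (a 1 6)<|b (a 6 5)<|b (a 5 3)<|b (a 3 4)<|e)<|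
 d));
 (let d:=(f (b (a 1 5)<|b (a 5 3)<|b (a 3 2)<|b (a 2 6)<|e)<|f (b (a 1 4)<|b (a 4 2)<|e)<|
 f (b (a 0 5)<|b (a 2 6)<|e)<|f (b (a 0 2)<|b (a 4 5)<|e)<|
 f (b (a 1 5)<|b (a 5 4)<|b (a 4 6)<|b (a 6 2)<|e)<|f (b (a 0 1)<|b (a 2 3)<|e)<|
 d);
 (f (b (a 0 3)<|b (a 2 5)<|e)<|
 f (b (a 1 6)<|b (a 6 4)<|e)<|f (b (a 2 6)<|b (a 6 4)<|b (a 4 3)<|b (a 3 5)<|e)<|
 f (b (a 2 4)<|b (a 3 5)<|e)<|f (b (a 1 4)<|b (a 4 5)<|e)<|
 d)));
 (let d:=(let d:=(f (b (a 1 5)<|b (a 5 3)<|e)<|
 f (b (a 1 2)<|b (a 2 4)<|b (a 4 5)<|b (a 3 6)<|e)<|f (b (a 1 4)<|b (a 4 3)<|b (a 3 5)<|b (a 5 2)<|e)<|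
 f (b (a 1 4)<|b (a 4 2)<|b (a 2 6)<|b (a 3 5)<|e)<|f (b (a 1 5)<|b (a 5 6)<|b (a 6 3)<|b (a 2 4)<|e)<|
 f (b (a 0 1)<|b (a 1 4)<|e)<|d);
 (f (b (a 4 5)<|b (a 5 6)<|e)<|f (b (a 2 4)<|b (a 4 3)<|e)<|
 f (b (a 2 4)<|b (a 4 3)<|b (a 3 6)<|b (a 6 5)<|e)<|f (b (a 1 4)<|b (a 4 5)<|b (a 5 6)<|b (a 6 2)<|e)<|
 f (b (a 1 5)<|b (a 5 2)<|b (a 3 6)<|b (a 6 4)<|e)<|d));
 (let d:=(f (b (a 1 2)<|b (a 2 5)<|b (a 5 6)<|b (a 6 4)<|e)<|f (b (a 0 6)<|b (a 1 2)<|e)<|
 f (b (a 2 5)<|b (a 4 6)<|e)<|f (b (a 1 2)<|b (a 4 5)<|e)<|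
 f (b (a 1 5)<|b (a 5 3)<|b (a 2 4)<|b (a 4 6)<|e)<|f (b (a 0 4)<|b (a 2 5)<|e)<|
 d);
 (f (b (a 0 3)<|b (a 3 4)<|e)<|
 f (b (a 1 6)<|b (a 6 2)<|b (a 2 4)<|b (a 3 5)<|e)<|f (b (a 0 3)<|b (a 3 1)<|e)<|
 f (b (a 1 5)<|b (a 4 6)<|e)<|f (b (a 1 6)<|b (a 3 4)<|e)<|
 d))));
 (let d:=(let d:=(let d:=(f (b (a 1 4)<|b (a 2 6)<|e)<|
 f (b (a 0 6)<|b (a 6 2)<|e)<|f (b (a 0 5)<|b (a 5 3)<|e)<|
 f (b (a 1 5)<|b (a 5 3)<|b (a 3 2)<|b (a 2 4)<|e)<|f (b (a 1 3)<|b (a 2 4)<|e)<|
 f (b (a 0 1)<|b (a 3 4)<|e)<|d);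
 (f (b (a 1 2)<|b (a 2 6)<|b (a 6 4)<|b (a 4 3)<|e)<|
 f (b (a 1 4)<|b (a 4 5)<|b (a 5 6)<|b (a 6 3)<|e)<|f (b (a 1 6)<|b (a 6 2)<|b (a 2 3)<|b (a 3 5)<|e)<|
 f (b (a 0 6)<|b (a 2 3)<|e)<|f (b (a 2 5)<|b (a 5 4)<|b (a 4 6)<|b (a 6 3)<|e)<|
 f (b (a 0 3)<|b (a 3 6)<|e)<|d));
 (let d:=(f (b (a 1 2)<|b (a 5 6)<|e)<|
 f (b (a 1 2)<|b (a 2 4)<|b (a 3 5)<|b (a 5 6)<|e)<|f (b (a 1 5)<|b (a 5 6)<|b (a 6 4)<|b (a 4 3)<|e)<|
 f (b (a 0 4)<|b (a 4 2)<|e)<|f (b (a 0 3)<|b (a 1 5)<|e)<|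
 f (b (a 0 5)<|b (a 4 6)<|e)<|d);
 (f (b (a 1 3)<|b (a 3 2)<|b (a 2 5)<|b (a 5 4)<|e)<|f (b (a 0 2)<|b (a 1 3)<|e)<|
 f (b (a 1 2)<|b (a 2 4)<|b (a 4 6)<|b (a 6 5)<|e)<|f (b (a 1 4)<|b (a 4 6)<|b (a 2 5)<|b (a 5 3)<|e)<|
 f (b (a 2 6)<|b (a 6 3)<|b (a 3 5)<|b (a 5 4)<|e)<|d)));
 (let d:=(let d:=(f (b (a 1 5)<|b (a 5 3)<|b (a 3 6)<|b (a 6 4)<|e)<|f (b (a 1 2)<|b (a 2 5)<|b (a 5 4)<|b (a 4 6)<|e)<|
 f (b (a 1 6)<|b (a 6 3)<|e)<|f (b (a 0 4)<|b (a 2 6)<|e)<|
 f (b (a 3 5)<|b (a 4 6)<|e)<|f (b (a 1 3)<|b (a 3 2)<|e)<|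
 d);
 (f (b (a 0 2)<|b (a 1 6)<|e)<|
 f (b (a 1 4)<|b (a 4 3)<|b (a 2 6)<|b (a 6 5)<|e)<|f (b (a 1 6)<|b (a 6 2)<|b (a 2 3)<|b (a 3 4)<|e)<|
 f (b (a 1 5)<|b (a 5 2)<|b (a 2 4)<|b (a 4 3)<|e)<|f (b (a 0 1)<|b (a 4 5)<|e)<|
 d));
 (let d:=(f (b (a 1 3)<|b (a 3 2)<|b (a 2 5)<|b (a 5 6)<|e)<|
 f (b (a 1 6)<|b (a 6 3)<|b (a 3 4)<|b (a 4 5)<|e)<|f (b (a 0 5)<|b (a 1 6)<|e)<|
 f (b (a 0 2)<|b (a 2 1)<|e)<|f (b (a 1 2)<|b (a 3 4)<|b (a 4 6)<|b (a 6 5)<|e)<|
 f (b (a 1 3)<|b (a 3 6)<|b (a 2 5)<|b (a 5 4)<|e)<|d);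
 (b e<|b (b (a 1 2)<|b (a 2 4)<|b (a 3 6)<|b (a 6 5)<|e)<|
 b (b (a 0 6)<|b (a 6 5)<|e)<|b (b (a 0 6)<|b (a 6 1)<|e)<|
 b (b (a 1 4)<|b (a 4 2)<|b (a 3 5)<|b (a 5 6)<|e)<|d))))))))
  tab := (beta% delta% lq26484ea4b8 fun a b c e _ _ _ _ =>
 (b (let d:=(let d:=(let d:=(let d:=(let d:=(let d:=(c (a 93 2)<|c (a 359 1)<|c (a 48 1)<|c (a 187 1)<|c (a 191 1)<|c (a 358 1)<|e);
 (c (a 198 5)<|c (a 357 1)<|c (a 330 4)<|c (a 46 4)<|c (a 219 1)<|c (a 326 3)<|d));
 (let d:=(c (a 335 3)<|c (a 331 1)<|c (a 355 1)<|c (a 354 2)<|c (a 327 1)<|c (a 356 1)<|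
 d);
 (c (a 103 5)<|c (a 202 1)<|c (a 123 1)<|c (a 221 5)<|c (a 333 2)<|d)));
 (let d:=(let d:=(c (a 188 1)<|c (a 352 1)<|c (a 323 4)<|c (a 320 1)<|c (a 340 1)<|
 c (a 353 2)<|d);
 (c (a 337 5)<|c (a 99 2)<|c (a 350 5)<|c (a 351 2)<|c (a 325 4)<|d));
 (let d:=(c (a 324 1)<|c (a 116 6)<|c (a 100 6)<|c (a 50 4)<|
 c (a 338 1)<|c (a 129 4)<|d);
 (c (a 248 1)<|c (a 349 1)<|c (a 322 2)<|c (a 121 1)<|c (a 329 6)<|d))));
 (let d:=(let d:=(let d:=(c (a 216 1)<|c (a 339 1)<|c (a 105 2)<|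
 c (a 347 1)<|c (a 51 1)<|c (a 348 3)<|d);
 (c (a 239 1)<|c (a 40 1)<|c (a 345 6)<|c (a 90 1)<|c (a 224 1)<|c (a 346 5)<|d));
 (let d:=(c (a 334 1)<|c (a 321 4)<|c (a 237 1)<|
 c (a 197 4)<|c (a 332 1)<|c (a 242 1)<|d);
 (c (a 344 1)<|c (a 95 1)<|c (a 194 6)<|c (a 120 1)<|c (a 96 6)<|d)));
 (let d:=(let d:=(c (a 226 3)<|c (a 228 6)<|
 c (a 207 1)<|c (a 106 1)<|c (a 343 1)<|c (a 234 1)<|d);
 (c (a 192 4)<|c (a 314 5)<|c (a 246 3)<|c (a 315 1)<|c (a 6 5)<|d));
 (let d:=(c (a 114 2)<|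
 c (a 310 1)<|c (a 218 6)<|c (a 54 3)<|c (a 245 1)<|c (a 313 1)<|d);
 (c (a 307 1)<|c (a 196 3)<|c (a 236 1)<|c (a 195 5)<|c (a 309 1)<|d)))));
 (let d:=(let d:=(let d:=(let d:=(c (a 317 3)<|c (a 127 1)<|c (a 102 1)<|c (a 311 1)<|c (a 328 6)<|c (a 304 1)<|d);
 (c (a 306 1)<|c (a 316 1)<|c (a 342 1)<|c (a 305 3)<|c (a 210 3)<|c (a 308 5)<|
 d));
 (let d:=(c (a 215 1)<|c (a 341 3)<|c (a 318 1)<|c (a 336 3)<|c (a 233 4)<|c (a 125 4)<|d);
 (c (a 110 1)<|c (a 52 1)<|c (a 91 2)<|c (a 319 4)<|c (a 312 1)<|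
 d)));
 (let d:=(let d:=(c (a 301 1)<|c (a 211 3)<|c (a 229 6)<|c (a 302 5)<|c (a 303 1)<|c (a 119 5)<|d);
 (c (a 299 1)<|c (a 98 1)<|c (a 209 1)<|c (a 185 1)<|
 c (a 300 2)<|d));
 (let d:=(c (a 296 5)<|c (a 297 1)<|c (a 244 6)<|c (a 298 2)<|c (a 241 1)<|c (a 203 6)<|d);
 (c (a 294 4)<|c (a 222 1)<|c (a 295 1)<|
 c (a 232 5)<|c (a 230 5)<|d))));
 (let d:=(let d:=(let d:=(c (a 291 1)<|c (a 292 1)<|c (a 112 3)<|c (a 240 2)<|c (a 199 1)<|c (a 293 1)<|d);
 (c (a 128 5)<|c (a 235 6)<|c (a 289 1)<|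
 c (a 290 1)<|c (a 189 2)<|c (a 117 5)<|d));
 (let d:=(c (a 193 1)<|c (a 286 5)<|c (a 126 1)<|c (a 217 3)<|c (a 287 2)<|c (a 288 1)<|d);
 (c (a 231 1)<|c (a 282 5)<|
 c (a 283 1)<|c (a 284 1)<|c (a 285 4)<|d)));
 (let d:=(let d:=(c (a 213 3)<|c (a 208 4)<|c (a 214 5)<|c (a 279 1)<|c (a 280 1)<|c (a 281 2)<|d);
 (c (a 220 1)<|
 c (a 277 5)<|c (a 56 1)<|c (a 278 3)<|c (a 16 4)<|d));
 (let d:=(c (a 223 1)<|c (a 273 3)<|c (a 109 1)<|c (a 274 1)<|c (a 275 1)<|c (a 276 1)<|d);
 (c (a 2 1)<|c (a 270 1)<|c (a 243 4)<|c (a 271 6)<|c (a 272 1)<|d))))));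
 (let d:=(let d:=(let d:=(let d:=(let d:=(c (a 247 1)<|c (a 227 1)<|c (a 268 4)<|c (a 14 3)<|c (a 269 1)<|c (a 101 2)<|
 d);
 (c (a 264 5)<|c (a 111 1)<|c (a 265 1)<|c (a 266 1)<|c (a 190 1)<|c (a 267 3)<|d));
 (let d:=(c (a 204 4)<|c (a 260 5)<|c (a 261 2)<|c (a 262 2)<|c (a 263 5)<|c (a 201 2)<|
 d);
 (c (a 257 6)<|c (a 258 1)<|c (a 200 1)<|c (a 259 1)<|c (a 238 1)<|d)));
 (let d:=(let d:=(c (a 184 1)<|c (a 118 5)<|c (a 42 4)<|c (a 254 1)<|c (a 255 5)<|
 c (a 256 2)<|d);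
 (c (a 94 1)<|c (a 17 6)<|c (a 181 1)<|c (a 182 5)<|c (a 183 3)<|d));
 (let d:=(c (a 205 1)<|c (a 225 6)<|c (a 212 1)<|c (a 177 2)<|
 c (a 45 1)<|c (a 179 4)<|d);
 (c (a 250 1)<|c (a 178 1)<|c (a 251 1)<|c (a 252 1)<|c (a 253 3)<|d))));
 (let d:=(let d:=(let d:=(c (a 176 1)<|c (a 180 1)<|c (a 206 4)<|
 c (a 186 1)<|c (a 249 2)<|c (a 41 1)<|d);
 (c (a 122 1)<|c (a 38 1)<|c (a 173 2)<|c (a 174 1)<|c (a 175 1)<|c (a 97 5)<|d));
 (let d:=(c (a 167 4)<|c (a 168 3)<|c (a 169 3)<|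
 c (a 170 1)<|c (a 171 1)<|c (a 172 1)<|d);
 (c (a 163 3)<|c (a 164 4)<|c (a 165 1)<|c (a 166 1)<|c (a 104 6)<|d)));
 (let d:=(let d:=(c (a 49 1)<|c (a 158 1)<|
 c (a 159 1)<|c (a 160 1)<|c (a 161 1)<|c (a 162 4)<|d);
 (c (a 153 6)<|c (a 154 1)<|c (a 155 5)<|c (a 156 4)<|c (a 157 3)<|d));
 (let d:=(c (a 148 1)<|
 c (a 149 4)<|c (a 150 3)<|c (a 151 1)<|c (a 115 2)<|c (a 152 4)<|d);
 (c (a 146 1)<|c (a 147 2)<|c (a 15 1)<|c (a 113 2)<|c (a 107 1)<|d)))));
 (let d:=(let d:=(let d:=(let d:=(c (a 143 6)<|c (a 13 4)<|c (a 144 1)<|c (a 55 1)<|c (a 18 1)<|c (a 145 6)<|d);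
 (c (a 140 1)<|c (a 92 1)<|c (a 141 3)<|c (a 19 1)<|c (a 142 1)<|c (a 5 6)<|
 d));
 (let d:=(c (a 135 5)<|c (a 136 1)<|c (a 137 1)<|c (a 138 1)<|c (a 139 3)<|c (a 108 1)<|d);
 (c (a 87 1)<|c (a 88 1)<|c (a 89 5)<|c (a 20 1)<|c (a 124 1)<|
 d)));
 (let d:=(let d:=(c (a 134 1)<|c (a 83 4)<|c (a 37 1)<|c (a 84 5)<|c (a 85 2)<|c (a 86 1)<|d);
 (c (a 82 1)<|c (a 130 1)<|c (a 131 4)<|c (a 132 2)<|
 c (a 133 4)<|d));
 (let d:=(c (a 76 2)<|c (a 77 1)<|c (a 78 1)<|c (a 79 1)<|c (a 80 3)<|c (a 81 1)<|d);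
 (c (a 71 1)<|c (a 72 6)<|c (a 73 1)<|
 c (a 74 1)<|c (a 75 1)<|d))));
 (let d:=(let d:=(let d:=(c (a 67 1)<|c (a 47 1)<|c (a 68 1)<|c (a 69 1)<|c (a 70 1)<|c (a 53 1)<|d);
 (c (a 62 5)<|c (a 63 2)<|c (a 64 6)<|
 c (a 44 1)<|c (a 65 3)<|c (a 66 1)<|d));
 (let d:=(c (a 36 1)<|c (a 59 2)<|c (a 60 2)<|c (a 61 1)<|c (a 39 1)<|c (a 7 1)<|d);
 (c (a 58 1)<|c (a 43 1)<|
 c (a 33 3)<|c (a 34 3)<|c (a 35 5)<|d)));
 (let d:=(let d:=(c (a 28 4)<|c (a 29 3)<|c (a 30 1)<|c (a 31 1)<|c (a 32 1)<|c (a 57 1)<|d);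
 (c (a 23 1)<|
 c (a 24 5)<|c (a 25 6)<|c (a 26 1)<|c (a 27 1)<|d));
 (let d:=(c (a 9 2)<|c (a 10 6)<|c (a 11 1)<|c (a 21 1)<|c (a 12 3)<|c (a 22 4)<|d);
 (b (a 0 1)<|b (a 1 4)<|b (a 3 1)<|b (a 8 1)<|b (a 4 2)<|d)))))))<|
 b (let d:=(let d:=(let d:=(let d:=(let d:=(let d:=(c (a 303 0)<|c (a 163 6)<|c (a 224 1)<|c (a 347 0)<|c (a 340 0)<|c (a 342 4)<|e);
 (c (a 154 3)<|c (a 251 6)<|c (a 287 0)<|c (a 345 0)<|c (a 350 0)<|c (a 220 0)<|d));
 (let d:=(c (a 337 0)<|c (a 253 3)<|c (a 221 1)<|c (a 279 0)<|c (a 252 6)<|c (a 270 0)<|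
 d);
 (c (a 359 3)<|c (a 233 0)<|c (a 248 0)<|c (a 336 0)<|c (a 149 0)<|d)));
 (let d:=(let d:=(c (a 333 0)<|c (a 268 4)<|c (a 243 0)<|c (a 298 5)<|c (a 155 0)<|
 c (a 358 0)<|d);
 (c (a 344 6)<|c (a 289 0)<|c (a 242 0)<|c (a 261 0)<|c (a 232 0)<|d));
 (let d:=(c (a 116 0)<|c (a 117 0)<|c (a 257 0)<|c (a 230 0)<|
 c (a 156 2)<|c (a 302 0)<|d);
 (c (a 272 6)<|c (a 74 5)<|c (a 105 0)<|c (a 111 0)<|c (a 113 0)<|d))));
 (let d:=(let d:=(let d:=(c (a 341 2)<|c (a 284 6)<|c (a 288 0)<|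
 c (a 148 6)<|c (a 213 6)<|c (a 266 4)<|d);
 (c (a 250 0)<|c (a 258 4)<|c (a 223 4)<|c (a 273 6)<|c (a 109 1)<|c (a 75 2)<|d));
 (let d:=(c (a 256 0)<|c (a 277 0)<|c (a 339 0)<|
 c (a 127 0)<|c (a 129 0)<|c (a 219 0)<|d);
 (c (a 335 3)<|c (a 349 3)<|c (a 115 0)<|c (a 238 3)<|c (a 343 4)<|d)));
 (let d:=(let d:=(c (a 265 0)<|c (a 352 0)<|
 c (a 152 0)<|c (a 225 0)<|c (a 76 5)<|c (a 176 4)<|d);
 (c (a 338 0)<|c (a 121 0)<|c (a 348 0)<|c (a 151 5)<|c (a 143 0)<|d));
 (let d:=(c (a 108 0)<|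
 c (a 140 5)<|c (a 334 2)<|c (a 346 0)<|c (a 351 0)<|c (a 271 1)<|d);
 (c (a 357 0)<|c (a 217 0)<|c (a 172 5)<|c (a 136 0)<|c (a 139 4)<|d)))));
 (let d:=(let d:=(let d:=(let d:=(c (a 267 0)<|c (a 161 6)<|c (a 169 3)<|c (a 142 6)<|c (a 244 0)<|c (a 107 3)<|d);
 (c (a 132 3)<|c (a 356 4)<|c (a 353 0)<|c (a 239 5)<|c (a 77 1)<|c (a 106 5)<|
 d));
 (let d:=(c (a 278 1)<|c (a 296 0)<|c (a 119 4)<|c (a 355 1)<|c (a 167 0)<|c (a 212 2)<|d);
 (c (a 240 2)<|c (a 299 0)<|c (a 68 0)<|c (a 354 0)<|c (a 293 5)<|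
 d)));
 (let d:=(let d:=(c (a 330 0)<|c (a 234 1)<|c (a 331 0)<|c (a 332 3)<|c (a 72 2)<|c (a 214 0)<|d);
 (c (a 276 6)<|c (a 122 1)<|c (a 222 4)<|c (a 329 2)<|
 c (a 170 0)<|d));
 (let d:=(c (a 216 0)<|c (a 104 2)<|c (a 241 0)<|c (a 281 0)<|c (a 328 6)<|c (a 102 0)<|d);
 (c (a 327 0)<|c (a 175 6)<|c (a 110 2)<|
 c (a 291 3)<|c (a 274 3)<|d))));
 (let d:=(let d:=(let d:=(c (a 325 0)<|c (a 260 0)<|c (a 326 0)<|c (a 295 0)<|c (a 135 3)<|c (a 259 2)<|d);
 (c (a 165 0)<|c (a 171 4)<|c (a 80 6)<|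
 c (a 323 0)<|c (a 280 6)<|c (a 324 5)<|d));
 (let d:=(c (a 168 0)<|c (a 120 3)<|c (a 300 0)<|c (a 159 0)<|c (a 301 0)<|c (a 322 5)<|d);
 (c (a 321 5)<|c (a 254 3)<|
 c (a 282 0)<|c (a 237 4)<|c (a 64 0)<|d)));
 (let d:=(let d:=(c (a 275 0)<|c (a 227 5)<|c (a 318 0)<|c (a 319 0)<|c (a 150 0)<|c (a 320 0)<|d);
 (c (a 112 0)<|
 c (a 231 5)<|c (a 317 0)<|c (a 263 0)<|c (a 269 4)<|d));
 (let d:=(c (a 46 0)<|c (a 47 1)<|c (a 48 1)<|c (a 50 0)<|c (a 51 6)<|c (a 52 4)<|d);
 (c (a 62 0)<|c (a 316 6)<|c (a 290 2)<|c (a 262 0)<|c (a 123 4)<|d))))));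
 (let d:=(let d:=(let d:=(let d:=(let d:=(c (a 226 0)<|c (a 174 1)<|c (a 228 0)<|c (a 71 0)<|c (a 146 2)<|c (a 147 0)<|
 d);
 (c (a 125 0)<|c (a 314 0)<|c (a 247 5)<|c (a 246 3)<|c (a 315 3)<|c (a 56 0)<|d));
 (let d:=(c (a 235 0)<|c (a 255 0)<|c (a 245 5)<|c (a 313 1)<|c (a 215 1)<|c (a 297 0)<|
 d);
 (c (a 82 6)<|c (a 28 0)<|c (a 128 0)<|c (a 312 3)<|c (a 286 1)<|d)));
 (let d:=(let d:=(c (a 310 3)<|c (a 311 0)<|c (a 133 0)<|c (a 283 4)<|c (a 292 4)<|
 c (a 218 0)<|d);
 (c (a 59 5)<|c (a 61 0)<|c (a 160 5)<|c (a 309 5)<|c (a 114 0)<|d));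
 (let d:=(c (a 236 3)<|c (a 308 0)<|c (a 264 1)<|c (a 144 0)<|
 c (a 285 0)<|c (a 249 0)<|d);
 (c (a 305 0)<|c (a 306 1)<|c (a 307 4)<|c (a 294 0)<|c (a 229 0)<|d))));
 (let d:=(let d:=(let d:=(c (a 211 0)<|c (a 24 0)<|c (a 26 0)<|
 c (a 304 0)<|c (a 134 0)<|c (a 153 0)<|d);
 (c (a 78 1)<|c (a 206 0)<|c (a 207 0)<|c (a 208 0)<|c (a 209 0)<|c (a 210 0)<|d));
 (let d:=(c (a 202 2)<|c (a 157 0)<|c (a 203 0)<|
 c (a 126 4)<|c (a 204 0)<|c (a 205 2)<|d);
 (c (a 103 0)<|c (a 199 0)<|c (a 200 0)<|c (a 138 0)<|c (a 201 0)<|d)));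
 (let d:=(let d:=(c (a 194 2)<|c (a 195 0)<|
 c (a 196 0)<|c (a 137 2)<|c (a 197 0)<|c (a 198 0)<|d);
 (c (a 29 0)<|c (a 162 0)<|c (a 191 0)<|c (a 192 0)<|c (a 193 0)<|d));
 (let d:=(c (a 187 4)<|
 c (a 188 0)<|c (a 189 0)<|c (a 190 2)<|c (a 49 0)<|c (a 173 0)<|d);
 (c (a 16 0)<|c (a 18 0)<|c (a 19 5)<|c (a 185 0)<|c (a 186 0)<|d)))));
 (let d:=(let d:=(let d:=(let d:=(c (a 66 4)<|c (a 130 0)<|c (a 131 0)<|c (a 70 0)<|c (a 101 5)<|c (a 60 0)<|d);
 (c (a 184 2)<|c (a 55 4)<|c (a 166 0)<|c (a 11 2)<|c (a 118 1)<|c (a 65 0)<|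
 d));
 (let d:=(c (a 164 0)<|c (a 158 0)<|c (a 181 3)<|c (a 141 5)<|c (a 182 0)<|c (a 183 6)<|d);
 (c (a 23 6)<|c (a 145 0)<|c (a 17 0)<|c (a 27 0)<|c (a 58 0)<|
 d)));
 (let d:=(let d:=(c (a 179 0)<|c (a 63 0)<|c (a 180 0)<|c (a 124 0)<|c (a 21 0)<|c (a 22 3)<|d);
 (c (a 100 0)<|c (a 9 0)<|c (a 177 0)<|c (a 178 0)<|
 c (a 30 2)<|d));
 (let d:=(c (a 96 0)<|c (a 97 1)<|c (a 98 1)<|c (a 67 3)<|c (a 99 0)<|c (a 32 1)<|d);
 (c (a 10 3)<|c (a 93 0)<|c (a 94 6)<|
 c (a 95 2)<|c (a 54 0)<|d))));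
 (let d:=(let d:=(let d:=(c (a 7 5)<|c (a 90 5)<|c (a 69 4)<|c (a 91 0)<|c (a 92 6)<|c (a 31 2)<|d);
 (c (a 25 0)<|c (a 57 0)<|c (a 45 4)<|
 c (a 81 1)<|c (a 3 1)<|c (a 6 1)<|d));
 (let d:=(c (a 87 0)<|c (a 73 0)<|c (a 88 2)<|c (a 89 5)<|c (a 20 4)<|c (a 79 2)<|d);
 (c (a 84 0)<|c (a 53 5)<|
 c (a 85 0)<|c (a 8 1)<|c (a 86 0)<|d)));
 (let d:=(let d:=(c (a 40 2)<|c (a 41 3)<|c (a 42 0)<|c (a 43 3)<|c (a 44 1)<|c (a 83 0)<|d);
 (c (a 36 4)<|
 c (a 37 0)<|c (a 2 5)<|c (a 38 6)<|c (a 39 6)<|d));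
 (let d:=(c (a 13 0)<|c (a 14 0)<|c (a 15 3)<|c (a 33 6)<|c (a 34 0)<|c (a 35 0)<|d);
 (b (a 1 0)<|b (a 4 0)<|b (a 5 2)<|b (a 12 6)<|b (a 0 0)<|d)))))))<|
 b (let d:=(let d:=(let d:=(let d:=(let d:=(let d:=(c (a 159 1)<|c (a 156 3)<|c (a 204 0)<|c (a 88 1)<|c (a 181 0)<|c (a 343 0)<|e);
 (c (a 353 2)<|c (a 276 1)<|c (a 296 5)<|c (a 307 1)<|c (a 187 1)<|c (a 100 6)<|d));
 (let d:=(c (a 21 2)<|c (a 358 0)<|c (a 351 3)<|c (a 75 1)<|c (a 255 5)<|c (a 35 5)<|
 d);
 (c (a 144 1)<|c (a 196 3)<|c (a 14 3)<|c (a 11 6)<|c (a 141 3)<|d)));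
 (let d:=(let d:=(c (a 314 5)<|c (a 288 0)<|c (a 312 3)<|c (a 282 3)<|c (a 287 2)<|
 c (a 183 3)<|d);
 (c (a 347 1)<|c (a 349 1)<|c (a 355 0)<|c (a 350 5)<|c (a 201 2)<|d));
 (let d:=(c (a 299 1)<|c (a 298 2)<|c (a 301 1)<|c (a 249 2)<|
 c (a 80 5)<|c (a 59 2)<|d);
 (c (a 342 5)<|c (a 318 4)<|c (a 62 5)<|c (a 329 6)<|c (a 71 5)<|d))));
 (let d:=(let d:=(let d:=(c (a 179 6)<|c (a 149 3)<|c (a 356 1)<|
 c (a 284 3)<|c (a 151 1)<|c (a 96 6)<|d);
 (c (a 95 1)<|c (a 74 1)<|c (a 253 3)<|c (a 285 3)<|c (a 200 1)<|c (a 254 4)<|d));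
 (let d:=(c (a 302 5)<|c (a 91 2)<|c (a 41 1)<|
 c (a 295 6)<|c (a 65 3)<|c (a 143 6)<|d);
 (c (a 306 1)<|c (a 161 1)<|c (a 199 5)<|c (a 29 3)<|c (a 316 1)<|d)));
 (let d:=(let d:=(c (a 10 6)<|c (a 205 5)<|
 c (a 163 3)<|c (a 79 1)<|c (a 331 3)<|c (a 145 3)<|d);
 (c (a 186 1)<|c (a 297 6)<|c (a 268 4)<|c (a 341 3)<|c (a 176 1)<|d));
 (let d:=(c (a 332 1)<|
 c (a 346 6)<|c (a 172 1)<|c (a 63 2)<|c (a 190 1)<|c (a 142 1)<|d);
 (c (a 12 3)<|c (a 294 4)<|c (a 359 0)<|c (a 293 6)<|c (a 357 1)<|d)))));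
 (let d:=(let d:=(let d:=(let d:=(c (a 83 4)<|c (a 291 1)<|c (a 171 4)<|c (a 345 6)<|c (a 266 5)<|c (a 344 1)<|d);
 (c (a 304 1)<|c (a 348 3)<|c (a 97 5)<|c (a 321 4)<|c (a 165 1)<|c (a 352 4)<|
 d));
 (let d:=(c (a 133 5)<|c (a 189 2)<|c (a 99 6)<|c (a 327 1)<|c (a 267 3)<|c (a 354 2)<|d);
 (c (a 3 1)<|c (a 5 6)<|c (a 305 3)<|c (a 274 1)<|c (a 275 6)<|
 d)));
 (let d:=(let d:=(c (a 326 3)<|c (a 319 4)<|c (a 31 5)<|c (a 177 2)<|c (a 340 3)<|c (a 140 6)<|d);
 (c (a 252 1)<|c (a 300 3)<|c (a 72 3)<|c (a 134 3)<|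
 c (a 157 3)<|d));
 (let d:=(c (a 250 1)<|c (a 188 3)<|c (a 259 5)<|c (a 67 1)<|c (a 207 0)<|c (a 339 2)<|d);
 (c (a 202 1)<|c (a 264 5)<|c (a 166 3)<|
 c (a 289 2)<|c (a 9 2)<|d))));
 (let d:=(let d:=(let d:=(c (a 78 1)<|c (a 175 1)<|c (a 68 4)<|c (a 193 1)<|c (a 173 5)<|c (a 85 4)<|d);
 (c (a 338 6)<|c (a 150 3)<|c (a 152 3)<|
 c (a 320 3)<|c (a 315 1)<|c (a 22 4)<|d));
 (let d:=(c (a 162 4)<|c (a 76 2)<|c (a 286 5)<|c (a 257 6)<|c (a 303 6)<|c (a 308 3)<|d);
 (c (a 138 1)<|c (a 290 1)<|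
 c (a 90 2)<|c (a 337 3)<|c (a 283 1)<|d)));
 (let d:=(let d:=(c (a 185 6)<|c (a 277 5)<|c (a 317 3)<|c (a 168 3)<|c (a 269 1)<|c (a 39 4)<|d);
 (c (a 131 4)<|
 c (a 261 2)<|c (a 258 1)<|c (a 270 2)<|c (a 169 3)<|d));
 (let d:=(c (a 61 3)<|c (a 263 5)<|c (a 281 3)<|c (a 211 3)<|c (a 323 4)<|c (a 309 1)<|d);
 (c (a 82 1)<|c (a 272 0)<|c (a 279 1)<|c (a 260 5)<|c (a 278 3)<|d))))));
 (let d:=(let d:=(let d:=(let d:=(let d:=(c (a 292 1)<|c (a 313 1)<|c (a 174 1)<|c (a 73 2)<|c (a 180 1)<|c (a 182 5)<|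
 d);
 (c (a 137 6)<|c (a 322 2)<|c (a 325 4)<|c (a 206 0)<|c (a 38 1)<|c (a 153 6)<|d));
 (let d:=(c (a 23 3)<|c (a 251 4)<|c (a 208 4)<|c (a 130 1)<|c (a 178 1)<|c (a 265 1)<|
 d);
 (c (a 86 5)<|c (a 32 1)<|c (a 92 1)<|c (a 170 0)<|c (a 93 3)<|d)));
 (let d:=(let d:=(c (a 69 3)<|c (a 184 6)<|c (a 94 3)<|c (a 310 4)<|c (a 336 3)<|
 c (a 191 1)<|d);
 (c (a 160 0)<|c (a 164 4)<|c (a 256 3)<|c (a 58 1)<|c (a 198 5)<|d));
 (let d:=(c (a 13 0)<|c (a 333 2)<|c (a 262 3)<|c (a 334 1)<|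
 c (a 335 3)<|c (a 84 5)<|d);
 (c (a 330 4)<|c (a 273 3)<|c (a 271 3)<|c (a 324 1)<|c (a 311 1)<|d))));
 (let d:=(let d:=(let d:=(c (a 1 4)<|c (a 280 1)<|c (a 328 6)<|
 c (a 147 2)<|c (a 25 6)<|c (a 158 1)<|d);
 (c (a 209 0)<|c (a 245 1)<|c (a 194 6)<|c (a 246 3)<|c (a 247 1)<|c (a 248 4)<|d));
 (let d:=(c (a 242 1)<|c (a 243 4)<|c (a 8 2)<|
 c (a 244 3)<|c (a 43 3)<|c (a 87 4)<|d);
 (c (a 241 2)<|c (a 4 2)<|c (a 15 0)<|c (a 197 4)<|c (a 135 5)<|d)));
 (let d:=(let d:=(c (a 26 3)<|c (a 237 1)<|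
 c (a 238 0)<|c (a 42 3)<|c (a 239 1)<|c (a 240 2)<|d);
 (c (a 233 4)<|c (a 234 4)<|c (a 235 6)<|c (a 236 3)<|c (a 98 0)<|d));
 (let d:=(c (a 231 1)<|
 c (a 203 6)<|c (a 155 5)<|c (a 27 1)<|c (a 57 1)<|c (a 232 5)<|d);
 (c (a 139 3)<|c (a 192 4)<|c (a 210 4)<|c (a 136 1)<|c (a 77 0)<|d)))));
 (let d:=(let d:=(let d:=(let d:=(c (a 167 4)<|c (a 228 6)<|c (a 33 3)<|c (a 229 6)<|c (a 230 3)<|c (a 154 1)<|d);
 (c (a 70 3)<|c (a 224 1)<|c (a 225 6)<|c (a 226 3)<|c (a 227 1)<|c (a 28 4)<|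
 d));
 (let d:=(c (a 34 3)<|c (a 44 0)<|c (a 222 3)<|c (a 148 1)<|c (a 132 2)<|c (a 223 0)<|d);
 (c (a 218 3)<|c (a 219 1)<|c (a 220 1)<|c (a 221 5)<|c (a 40 1)<|
 d)));
 (let d:=(let d:=(c (a 213 3)<|c (a 214 5)<|c (a 215 0)<|c (a 216 6)<|c (a 195 5)<|c (a 217 6)<|d);
 (c (a 0 1)<|c (a 212 0)<|c (a 89 5)<|c (a 146 1)<|
 c (a 37 1)<|d));
 (let d:=(c (a 126 1)<|c (a 60 3)<|c (a 127 1)<|c (a 36 1)<|c (a 128 5)<|c (a 129 0)<|d);
 (c (a 121 4)<|c (a 122 5)<|c (a 123 0)<|
 c (a 124 1)<|c (a 125 4)<|d))));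
 (let d:=(let d:=(let d:=(c (a 116 6)<|c (a 117 3)<|c (a 64 3)<|c (a 118 5)<|c (a 119 5)<|c (a 120 0)<|d);
 (c (a 111 1)<|c (a 30 1)<|c (a 112 3)<|
 c (a 113 3)<|c (a 114 2)<|c (a 115 3)<|d));
 (let d:=(c (a 106 1)<|c (a 81 5)<|c (a 107 1)<|c (a 108 0)<|c (a 109 4)<|c (a 110 1)<|d);
 (c (a 101 2)<|c (a 102 3)<|
 c (a 103 5)<|c (a 104 6)<|c (a 105 2)<|d)));
 (let d:=(let d:=(c (a 52 1)<|c (a 53 2)<|c (a 54 3)<|c (a 55 4)<|c (a 56 1)<|c (a 66 0)<|d);
 (c (a 48 3)<|
 c (a 49 6)<|c (a 50 4)<|c (a 24 5)<|c (a 51 1)<|d));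
 (let d:=(c (a 18 3)<|c (a 19 1)<|c (a 20 3)<|c (a 45 0)<|c (a 46 4)<|c (a 47 3)<|d);
 (b (a 2 1)<|b (a 6 5)<|b (a 7 1)<|b (a 16 3)<|b (a 17 6)<|d)))))))<|e))

/-- a mask -/
def mA7 : ℕ := 1524291284333980581729295522360019638591473948051217939167339276157347713763913663709649036594392336554720790333191574059542507715127628800000

/-- a mask -/
def mB7 : ℕ := 11467493084259878277757706862028357670351431474417615496860323479851623456518128503013720455951065561432064

/-- a mask -/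
def mE7 : ℕ := 19

/-- a sum of words -/
def tA7 : Tr :=
  ((beta% delta% lq26484ea4b8 fun _ _ _ _ _ g h i =>
 h 0 (i (h 0 (i (h 0 (i (h 1 (h 1 (h 2 (i g) g) (h 2 (i (h 0 (i (h 2
 (i (h 0 (i (h 2 (i (h 0 (i g) (h 2 (h 2 (i g) g) g))) g)) (h 1 (h 2
 (i (h 0 (i g) g)) g) (h 2 (i g) g)))) g)) g)) g)) (h 2 (i (h 0
 (i (h 0 (h 0 (i (h 2 (i (h 0 (i (h 0 (i g) g)) g)) g)) (h 2 (i (h 1
 (h 2 (i g) g) g)) g)) (h 2 (i (h 0 (i (h 0 (h 0 (i (h 0 (h 2 (i g)
 g) g)) g) g)) (h 2 (i (h 1 (h 2 (i g) g) g)) g))) g))) g)) g)))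
 (h 1 (h 2 (i (h 0 (i (h 0 (i (h 1 (h 2 (i (h 0 (i g) g)) g) (h 2 (i
 g) g))) g)) g)) g) (h 2 (i (h 0 (i (h 2 (i (h 2 (i (h 0 (i g) (h 1
 (h 2 (i g) g) (h 2 (i (h 0 (i (h 2 (i g) g)) (h 1 (h 2 (i (h 0 (i
 g) g)) g) g))) g)))) g)) g)) (h 2 (i (h 0 (i (h 0 (h 2 (i g) g)
 (h 2 (i (h 0 (i (h 0 (i (h 0 (i (h 1 (h 2 (i g) g) (h 2 (h 2 (i (h 2
 (i g) g)) g) g))) g)) (h 2 (i g) g))) (h 2 (i (h 2 (i (h 2 (i (h
 0 (h 0 (i (h 2 (i g) g)) g) g)) g)) g)) g))) g))) (h 2 (i (h 0 (h 2
 (i (h 2 (i g) g)) g) (h 2 (i (h 0 (i (h 2 (i (h 2 (i g) g)) g))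
 (h 1 (h 2 (i g) g) g))) g))) g))) g))) g)))) (h 1 (h 2 (i g) g) (h 2
 (i (h 0 (i (h 0 (i (h 1 (h 2 (i (h 0 (i (h 0 (i g) g)) g)) g) (h 2
 (i (h 0 (i (h 0 (h 2 (i g) g) (h 2 (h 2 (i g) g) g))) (h 1 (h 2 (i
 (h 0 (h 0 (i g) g) g)) g) g))) g))) (h 1 (h 2 (i g) g) (h 2 (i (h
 1 (h 2 (i g) g) g)) g)))) (h 1 (h 2 (i g) g) (h 2 (i (h 0 (i (h 0
 (h 2 (i g) g) (h 2 (h 0 (i g) g) g))) (h 1 (h 2 (i g) g) g)))
 g)))) g)))) g))

/-- a sum of words -/
def tB7 : Tr :=
  ((beta% delta% lq26484ea4b8 fun _ _ _ _ _ g h i =>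
 i (h 1 (h 2 (i (h 0 (i (h 0 (i (h 0 (i (h 2 (i (h 1 (h 2 (i (h 0 (h 2
 (i g) g) g)) g) (h 2 (h 2 (i g) g) g))) g)) (h 1 (h 0 (h 0 (i g)
 g) (h 2 (i (h 0 (i (h 0 (i (h 0 (i (h 0 (h 0 (i g) g) (h 2 (i (h 0
 (i (h 0 (h 0 (i (h 1 (h 2 (i g) g) g)) g) g)) (h 2 (h 2 (i g) g)
 g))) g))) (h 2 (h 0 (i (h 2 (i (h 0 (h 2 (i g) g) (h 2 (i g) g)))
 g)) g) g))) g)) (h 2 (h 2 (i (h 1 (h 2 (i g) g) g)) g) g))) g))
 (h 2 (h 2 (i (h 0 (i (h 0 (i (h 0 (i g) g)) (h 1 (h 2 (i (h 2 (h 0 (i
 (h 0 (i g) g)) g) g)) g) g))) (h 1 (h 2 (i g) g) (h 2 (i (h 1 (h 1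
 (h 2 (i (h 0 (h 2 (i g) g) g)) g) (h 2 (i (h 0 (i (h 0 (i g) (h 2
 (h 0 (i g) g) g))) g)) g)) g)) g)))) g) g)))) g)) (h 1 (h 1 (h 2 (i
 (h 2 (i (h 1 (h 2 (i g) g) g)) g)) g) (h 2 (i (h 0 (h 0 (i (h 0 (i
 g) g)) g) (h 2 (i (h 0 (h 0 (i (h 0 (i (h 0 (i (h 0 (i g) g)) g))
 g)) (h 2 (h 0 (i g) g) g)) (h 2 (i (h 0 (i (h 2 (h 0 (i (h 0 (h 0 (i
 g) g) g)) g) g)) (h 2 (i g) g))) g))) g))) g)) g))) g) g)))

/-- a sum of words -/
def sA7 : Tr :=
  ((beta% delta% lq26484ea4b8 fun _ _ _ _ _ g h i =>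
 i (h 2 (i (h 2 (i (h 2 (i (h 2 (i g) g)) g)) g)) g)))

/-- a sum of words -/
def sB7 : Tr :=
  ((beta% delta% lq26484ea4b8 fun _ _ _ _ _ g h i =>
 i (h 0 (i (h 0 (i (h 0 (i (h 0 (i (h 0 (i (h 0 (i g) g)) g)) g))
 g)) g)) g)))

theorem cA7 : A7.chk 7 g7 = true := Dt.chk_of_q (by decide +kernel)

theorem cB7 : B7.chk 7 g7 = true := Dt.chk_of_q (by decide +kernel)

theorem cCA7 : okC 7 g7 A7.tab [g7.getD 1 []] [[1]] mA7 = true := by decide +kernel

theorem cCB7 : okC 7 g7 B7.tab [g7.getD 1 []] [[1]] mB7 = true := by decide +kernel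

theorem cD7 : okC 7 g7 B7.tab [g7.getD 0 [], g7.getD 1 []] [[0], [1]] mE7 = true := by decide +kernel

theorem h17 : sA7.ev A7.tab (tA7.ev A7.tab mA7) = 1 := by decide +kernel

theorem h27 : sA7.ev B7.tab (tA7.ev B7.tab mB7) = 0 := by decide +kernel

theorem h37 : sB7.ev A7.tab (tB7.ev A7.tab mA7) = 0 := by decide +kernel

theorem h47 : Nat.xor (sB7.ev B7.tab (tB7.ev B7.tab mB7)) mE7 = 1 := by decide +kernel

end Cfsg.Agent.E8A.Two.Mk
end

-- part: E8A/Two/I7
section
set_option linter.all false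
open scoped Cfsg.Agent.FastGrp

/-!
# The inequality for `A₇`-modules in characteristic 2 (helper44)
-/

set_option autoImplicit false
set_option maxRecDepth 100000

namespace Cfsg.Agent.E8A.Two.Mk

open Module Equiv Equiv.Perm
open Cfsg.Agent.R2.T1.Odd Cfsg.Agent.R2.T1.Msk Cfsg.Agent.R2.T1.Art
open Cfsg.Agent.H952.F4 (ev)

/-- the elements -/
def e21 : List (List ℕ) := [[], [0], [1], [0, 0], [0, 1], [1, 0], [1, 1], [0, 0, 0], [0, 1, 0], [0, 1, 1], [1, 0, 0], [1, 0, 1], [1, 1, 0], [0, 0, 0, 0], [0, 1, 0, 0], [0, 1, 0, 1], [0, 1, 1, 0], [1, 0, 0, 0], [1, 0, 1, 0], [0, 0, 0, 0, 0], [1, 0, 1, 0, 1]]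

/-- the classes -/
def d21 : List (ℕ × SW) :=
  [(0, []),
   (1, []),
   (3, [(0, 4), (4, 6)]),
   (1, [(1, 2), (2, 4), (3, 6), (6, 5)]),
   (3, [(2, 3), (4, 5)]),
   (3, [(1, 2), (2, 6), (6, 5), (5, 3)]),
   (3, [(0, 1), (1, 4), (4, 5), (5, 6)]),
   (2, [(1, 4), (4, 2), (3, 5), (5, 6)]),
   (3, [(0, 6), (6, 4), (4, 3), (2, 5)]),
   (3, [(0, 4), (4, 1), (1, 3), (2, 6)]),
   (3, [(1, 4), (4, 6), (6, 3), (2, 5)]),
   (3, [(0, 5), (5, 3), (2, 6), (6, 4)]),
   (3, [(0, 3), (1, 2), (2, 5), (5, 6)]),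
   (1, [(1, 4), (4, 2), (3, 5), (5, 6)]),
   (3, [(0, 3), (3, 1), (1, 4), (2, 6)]),
   (3, [(1, 3), (3, 2)]),
   (3, [(1, 5), (5, 6), (6, 3), (2, 4)]),
   (3, [(0, 3), (1, 5), (5, 4), (4, 6)]),
   (3, [(1, 6), (6, 5)]),
   (2, [(1, 2), (2, 4), (3, 6), (6, 5)]),
   (2, [])]

theorem cG21 : chkG 7 [g7.getD 0 [], g7.getD 1 []] e21 = true := by decide +kernel

theorem cK21 : chkC 7 [g7.getD 0 [], g7.getD 1 []] e21 [] [[], s7, s7i, x33] d21 = true := by decide +kernel

theorem cn21 : (List.range 4).map (fun k => (d21.map Prod.fst).count k) = [1, 3, 3, 14] := by decide +kernel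

theorem odd_ne (F : Type*) [Field F] [CharP F 2] {k : ℕ} (h : ¬ 2 ∣ k) : (k : F) ≠ 0 := fun h0 =>
  h ((CharP.cast_eq_zero_iff F 2 k).1 h0)

variable {n : ℕ} [NeZero n] {F : Type*} [Field F] [Finite F] [CharP F 2] {W : Type*} [AddCommGroup W] [Module F W]
  [FiniteDimensional F W] (ρ : Representation F ↥(alternatingGroup (Fin n)) W)

/-- **the inequality for `A₇`** -/
theorem i7 (hn : 7 ≤ n) : 3 * ev (ρ (P n c5)) 1 + 2 * ev (ρ (P n s7)) 1 + finrank F W ≤ 6 * ev (ρ (P n x33)) 1 := by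
  have h1 := le2 ρ hn cA7 cB7 cCA7 cCB7 cD7 (by decide) (by decide +kernel) (by decide) (by decide +kernel) h17 h27 h37 h47
  have h2 := dimC hn cG21 cK21 (N := 21) (K := 4) rfl rfl (odd_ne F (by norm_num)) cn21 ρ
  simp only [Finset.sum_range_succ, Finset.sum_range_zero, List.getD_cons_zero, List.getD_cons_succ, P_nil] at h2
  rw [om_one, om_prime ρ (r := 7) (by norm_num) (orderOf_P (l := s7) hn (by decide +kernel)),
    om_prime ρ (r := 7) (by norm_num) (orderOf_P (l := s7i) hn (by decide +kernel)),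
    om_prime ρ Nat.prime_three (orderOf_P (l := x33) hn (by decide +kernel)),
    ← P_inv hn (a := s7) (b := s7i) (by decide), ev_inv] at h2
  rw [show A7.gT = [c5] from rfl, show B7.gT = [s7] from rfl, fr_one, fr_one, fr_one,
    evP ρ hn (a := g7.getD 1 []) (r := x33) [(0, 4), (4, 6)] (by decide)] at h1
  generalize finrank F ↥(inv ρ (Tg n [g7.getD 0 [], g7.getD 1 []])) = f at h1 h2
  have h3 : (3 * f + finrank F W : ℚ) = ev (ρ (P n s7)) 1 + 3 * ev (ρ (P n x33)) 1 := by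
    push_cast at h2
    linarith
  have h4 : 3 * f + finrank F W = ev (ρ (P n s7)) 1 + 3 * ev (ρ (P n x33)) 1 := by exact_mod_cast h3
  omega

end Cfsg.Agent.E8A.Two.Mk
end

-- part: E8A/Odd/Num
section
prune_inst 0x10000000000000
set_option linter.all false
open scoped Cfsg.Agent.FastGrp

/-!
# S5772 in odd characteristic: the box NUM (helper44)
-/

set_option autoImplicit false
set_option maxRecDepth 100000

namespace Cfsg.Agent.E8A.Odd.Nm

open Cfsg Cfsg.Lie Module
open Cfsg.Agent.H952.F4 (MaxAlt ev)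
open Cfsg.Agent.R2.T1.Odd Cfsg.Agent.R2.T1.Art Cfsg.Agent.E8A.Two.Mk

universe u

/-- the Sylow 2-subgroup -/
def gB : List SW := [[(0, 1), (2, 3)], [(0, 2), (1, 3)], [(4, 5), (6, 7)], [(4, 6), (5, 7)], [(0, 4), (1, 5), (2, 6), (3, 7)], [(0, 1), (4, 5)]]

/-- the elements -/
def eB : List (List ℕ) := [[], [0], [1], [2], [3], [4], [5], [0, 1], [0, 2], [0, 3], [0, 4], [0, 5], [1, 2], [1, 3], [1, 4], [1, 5], [2, 3], [2, 4], [2, 5], [3, 4], [3, 5], [4, 5], [5, 1], [5, 3], [0, 1, 2], [0, 1, 3], [0, 1, 4], [0, 2, 3], [0, 2, 4], [0, 2, 5], [0, 3, 4], [0, 3, 5], [0, 4, 5], [0, 5, 3], [1, 2, 3], [1, 2, 4], [1, 2, 5], [1, 3, 4], [1, 3, 5], [1, 4, 5], [1, 5, 3], [2, 3, 4], [2, 4, 5], [2, 5, 1], [3, 4, 5], [3, 5, 1], [4, 5, 1], [4, 5, 3], [5, 1, 3], [0, 1, 2, 3], [0, 1, 2, 4], [0, 1, 3, 4], [0, 2, 3, 4], [0, 2, 4, 5], [0, 3, 4, 5], [0, 4, 5, 1], [1, 2, 3, 4], [1, 2, 4, 5], [1, 3, 4, 5], [1, 4, 5, 1], [2, 4, 5, 3], [3, 4, 5, 3], [4, 5, 1, 3], [0, 1, 2,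 3, 4]]

/-- the classes -/
def dB : List (ℕ × SW) :=
  [(0, []),
   (1, []),
   (1, [(1, 2), (2, 3)]),
   (1, [(0, 4), (1, 5), (2, 6), (3, 7)]),
   (1, [(0, 4), (1, 6), (2, 5), (3, 7)]),
   (2, [(0, 5), (2, 7)]),
   (1, [(2, 4), (3, 5)]),
   (1, [(1, 3), (3, 2)]),
   (2, []),
   (2, [(5, 6), (6, 7)]),
   (4, [(1, 4), (4, 2), (3, 5), (5, 6)]),
   (1, [(0, 5), (1, 4)]),
   (2, [(0, 3), (4, 5)]),
   (2, [(1, 2), (5, 6)]),
   (4, [(1, 4), (3, 6)]),
   (3, [(1, 3), (3, 2)]),
   (1, [(0, 7), (1, 4), (2, 6), (3, 5)]),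
   (4, [(0, 3), (3, 7), (7, 4), (1, 6)]),
   (1, [(2, 6), (3, 7)]),
   (4, [(1, 6), (3, 4)]),
   (3, [(0, 4), (1, 7), (7, 3), (3, 6), (6, 2), (2, 5)]),
   (2, [(0, 4), (2, 7)]),
   (3, [(0, 2), (2, 3)]),
   (3, [(0, 5), (5, 1), (1, 7), (7, 2), (2, 4), (3, 6)]),
   (2, [(1, 3), (3, 2)]),
   (2, [(1, 3), (4, 7)]),
   (4, [(1, 4), (2, 3), (3, 7), (7, 6)]),
   (2, [(5, 7), (7, 6)]),
   (2, [(0, 4), (2, 6)]),
   (1, [(0, 6), (6, 5), (1, 7), (2, 3)]),
   (4, [(0, 5), (5, 1), (2, 6), (6, 7)]),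
   (3, [(0, 4), (4, 2), (2, 5), (5, 3), (3, 6), (1, 7)]),
   (4, [(0, 3), (3, 6), (6, 5), (1, 7)]),
   (3, [(0, 5), (5, 3), (3, 6), (6, 1), (1, 7), (2, 4)]),
   (2, [(1, 2), (5, 7)]),
   (4, [(1, 5), (5, 4), (2, 3), (3, 6)]),
   (3, [(1, 3), (3, 2), (4, 6), (5, 7)]),
   (2, [(0, 7), (3, 4)]),
   (4, [(0, 3), (4, 7)]),
   (4, [(0, 7), (7, 5), (5, 6), (2, 4)]),
   (4, [(0, 3), (5, 6)]),
   (4, [(0, 4), (4, 5), (5, 1), (2, 7)]),
   (4, [(0, 6), (1, 2), (2, 7), (7, 4)]),
   (3, [(0, 2), (2, 3), (4, 6), (5, 7)]),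
   (4, [(0, 6), (1, 2), (2, 4), (4, 3)]),
   (4, [(1, 2), (4, 7)]),
   (4, [(0, 7), (7, 6), (1, 3), (2, 4)]),
   (4, [(0, 6), (2, 4), (4, 3), (5, 7)]),
   (4, [(1, 2), (5, 6)]),
   (2, [(0, 2), (4, 6)]),
   (4, [(1, 5), (5, 4), (3, 7), (7, 6)]),
   (4, [(0, 3), (3, 4), (1, 5), (5, 6)]),
   (4, [(1, 7), (7, 4), (3, 5), (5, 6)]),
   (2, [(1, 4), (3, 7)]),
   (4, [(0, 6), (1, 3), (2, 5), (5, 4)]),
   (4, [(0, 4), (4, 1), (2, 6), (5, 7)]),
   (4, [(1, 7), (7, 4), (4, 2), (3, 6)]),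
   (4, [(0, 6), (6, 2), (2, 4), (4, 1)]),
   (4, [(0, 5), (5, 6), (1, 2), (2, 4)]),
   (2, [(0, 7), (3, 5)]),
   (4, [(0, 6), (2, 5), (5, 7), (7, 4)]),
   (2, [(0, 6), (2, 5)]),
   (4, [(0, 3), (3, 5), (1, 4), (4, 7)]),
   (2, [(0, 6), (2, 4)])]

theorem cGB : chkG 8 gB eB = true := _root_.Cfsg.Agent.R2.T1.Odd.Fq.chkG_of 419 (by decide +kernel)

theorem cKB : chkC 8 gB eB [] [[], lt, ls, l42, l44] dB = true := _root_.Cfsg.Agent.R2.T1.Odd.Fq.chkC_of (by decide +kernel)

theorem cnB : (List.range 5).map (fun k => (dB.map Prod.fst).count k) = [1, 10, 17, 8, 28] := by decide +kernel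

theorem gQ_le {n : ℕ} [NeZero n] : Tg n gQ ≤ Tg n gQs := by
  refine Subgroup.closure_mono ?_
  rintro x ⟨y, hy, rfl⟩
  exact ⟨y, (by decide : ∀ y ∈ gQ, y ∈ gQs) y hy, rfl⟩

end Cfsg.Agent.E8A.Odd.Nm

namespace Cfsg.Agent.E8A.Odd

open Cfsg Cfsg.Lie Module
open Cfsg.Agent.H952.F4 (MaxAlt ev)
open Cfsg.Agent.R2.T1.Odd Cfsg.Agent.R2.T1.Art Cfsg.Agent.E8A.Two.Mk Cfsg.Agent.E8A.Odd.Nm

universe u

/-- **NUM** -/
theorem num : NUM.{u} := by
  intro F _ _ h2 n _ hn φ hφ
  let ρ : Representation F (Alt n) (L8 F) := Inf.rp φ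
  have hρ : ∀ a, ρ a = LK F (φ a) := fun _ => rfl
  have h1 := dim_Q hn h2 ρ
  have h3 := dim_Qs hn h2 ρ
  have h4 := dim_Qj hn h2 ρ
  have h5 := dimC hn cGB cKB (N := 64) (K := 5) rfl rfl (by simpa only [_root_.Nat.cast_ofNat, _root_.ne_eq, _root_.Nat.reducePow] using two_pow_ne h2 6) cnB ρ
  simp only [Finset.sum_range_succ, Finset.sum_range_zero, List.getD_cons_zero, List.getD_cons_succ, P_nil] at h5
  have h6 : finrank F ↥(inv ρ (Tg n gQs)) ≤ finrank F ↥(inv ρ (Tg n gQ)) := Submodule.finrank_mono (inv_mono gQ_le)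
  have e1 : ev (ρ (P n l42 ^ 2)) 1 = ev (ρ (P n lt)) 1 := by
    rw [← P_pwl hn (by decide)]
    exact evP ρ hn [(1, 2), (2, 3)] (by decide)
  have e2 : ev (ρ (P n l44 ^ 2)) 1 = ev (ρ (P n ls)) 1 := by
    rw [← P_pwl hn (by decide)]
    exact evP ρ hn [(1, 2), (5, 6)] (by decide)
  have o1 := om_prime ρ Nat.prime_two (orderOf_P (l := lt) hn (by decide +kernel))
  have o2 := om_prime ρ Nat.prime_two (orderOf_P (l := ls) hn (by decide +kernel))
  have o3 := om_four ρ (orderOf_P (l := l42) hn (by decide +kernel))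
  have o4 := om_four ρ (orderOf_P (l := l44) hn (by decide +kernel))
  rw [e1] at o3
  rw [e2] at o4
  rw [Inf.finrank_L8] at o1 o2
  rw [om_one, Inf.finrank_L8, o1, o2] at h1
  rw [om_one, Inf.finrank_L8, o1, o2, o4] at h3
  rw [om_one, Inf.finrank_L8, o1, o2, o3, o4] at h4 h5
  have h4' : (4 : F) ≠ 0 := by
    rw [show (4 : F) = 2 * 2 by norm_num]
    exact mul_ne_zero h2 h2
  have ne : ∀ {a : SW}, (vl 8 a && !(cd 8 a == cd 8 [])) = true → φ (P n a) ≠ 1 := fun h e =>
    P_ne_one hn h (hφ (e.trans (map_one φ).symm))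
  have pw : ∀ {a : SW} {k : ℕ}, vl 8 a = true → cd 8 (pwl a k) = cd 8 [] → φ (P n a) ^ k = 1 := fun h hc => by
    rw [← map_pow, P_pow_one hn h hc, map_one]
  have t1 := Inf.two h2 (x := φ (P n lt)) (pw (by decide) (by decide)) (ne (by decide))
  have t2 := Inf.two h2 (x := φ (P n ls)) (pw (by decide) (by decide)) (ne (by decide))
  have t3 := Inf.tab Inf.chk_T4 (by exact_mod_cast h4') (x := φ (P n l42)) (pw (by decide) (by decide)) (by simp only [_root_.List.not_mem_nil, _root_.isConj_iff, _root_.Subtype.exists, _root_.IsEmpty.forall_iff, _root_.implies_true])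
  have t4 := Inf.tab Inf.chk_T4 (by exact_mod_cast h4') (x := φ (P n l44)) (pw (by decide) (by decide)) (by simp only [_root_.List.not_mem_nil, _root_.isConj_iff, _root_.Subtype.exists, _root_.IsEmpty.forall_iff, _root_.implies_true])
  simp only [Inf.T4, List.map, pow_one, ← map_pow, ← hρ, e1, e2, List.mem_cons, List.cons.injEq, and_true,
    List.not_mem_nil, or_false] at t3 t4
  rw [← hρ] at t1 t2
  show ev (ρ (P n ls)) 1 = 120 ∧ (ev (ρ (P n lt)) 1 = 120 ∨
    (ev (ρ (P n lt)) 1 = 136 ∧ finrank F ↥(inv ρ (Tg n gQs)) = 9))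
  generalize ev (ρ (P n lt)) 1 = dt at *
  generalize ev (ρ (P n ls)) 1 = ds at *
  generalize ev (ρ (P n l42)) 1 = d42 at *
  generalize ev (ρ (P n l44)) 1 = d44 at *
  generalize finrank F ↥(inv ρ (Tg n gQs)) = fQ at *
  generalize finrank F ↥(inv ρ (Tg n gQ)) = fD at *
  generalize finrank F ↥(inv ρ (Tg n gQj)) = fJ at *
  generalize finrank F ↥(inv ρ (Tg n gB)) = fB at *
  have k1 : 16 * fD + 3472 = 12 * dt + 18 * ds := by
    have : (16 * fD + 3472 : ℚ) = 12 * dt + 18 * ds := by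
      push_cast at h1
      linarith only [h1]
    exact_mod_cast this
  have k3 : 32 * fQ + 4464 = 12 * dt + 14 * ds + 24 * d44 := by
    have : (32 * fQ + 4464 : ℚ) = 12 * dt + 14 * ds + 24 * d44 := by
      push_cast at h3
      linarith only [h3]
    exact_mod_cast this
  have k4 : 32 * fJ + 4464 = 12 * dt + 14 * ds + 16 * d42 + 8 * d44 := by
    have : (32 * fJ + 4464 : ℚ) = 12 * dt + 14 * ds + 16 * d42 + 8 * d44 := by
      push_cast at h4
      linarith only [h4]
    exact_mod_cast this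
  have k5 : 64 * fB + 6448 = 12 * dt + 6 * ds + 16 * d42 + 56 * d44 := by
    have : (64 * fB + 6448 : ℚ) = 12 * dt + 6 * ds + 16 * d42 + 56 * d44 := by
      push_cast at h5
      linarith only [h5]
    exact_mod_cast this
  clear h1 h3 h4 h5 o1 o2 o3 o4 e1 e2
  rcases t1 with rfl | rfl <;> rcases t2 with rfl | rfl <;> (clear * - t4 k3 h6 t3 k1 k5; omega)

end Cfsg.Agent.E8A.Odd

private theorem dce_e7c4092d2ef5 : _root_.True := by
  try have : _root_.True := by simp only [_root_.Cfsg.Agent.E8A.Inf.T4.eq_1]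
  exact _root_.True.intro
end

-- part: E8A/Odd/Asm
section
prune_inst 0x10000000000000
set_option linter.all false
open scoped Cfsg.Agent.FastGrp

/-!
# S5772 in odd characteristic: the assembly of the boxes (helper44)

* `odd_all` : degree at least 8; `h3_of`, `h5_of`, `no14_of`.
-/

set_option autoImplicit false
set_option maxRecDepth 100000

namespace Cfsg.Agent.E8A.Odd

open Cfsg Cfsg.Lie Module Equiv Equiv.Perm
open Cfsg.Agent.H952.F4 (MaxAlt ev)
open Cfsg.Agent.R2.T1.Odd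

universe u v w

section

variable {F : Type u} [Field F] {K : Type v} [Field K] {n : ℕ} [NeZero n]

theorem all_P (hn : 2 ≤ n) (S : Subgroup (Alt n)) (h : ∀ l, vl n l = true → P n l ∈ S) (a : Alt n) : a ∈ S := by
  refine R2.T1.T2p.gen_alt S (fun _ => True) (p0 := Fin.ofNat n 0) (p1 := Fin.ofNat n 1)
    (fun e => zero_ne_one (ofNat_inj (by omega) (by omega) e)) trivial (fun k _ hk b hb => ?_) a
    fun i hi => absurd trivial hi
  have h3 : vl n [(0, 1), (0, k.val)] = true := vl_iff.2 ⟨by simp, by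
    intro x hx
    rcases List.mem_pair.1 hx with rfl | rfl
    · exact ⟨by omega, by omega, zero_ne_one⟩
    · exact ⟨by omega, k.2, fun e => hk (Fin.ext ((show 0 = k.val from e).symm.trans (val_ofNat' (by omega)).symm))⟩⟩
  have h4 : b = P n [(0, 1), (0, k.val)] := by
    apply Subtype.ext
    rw [coe_P le_rfl h3, pm_cons, pm_cons, pm_nil, mul_one, hb]
    congr 2
    exact Fin.ext (val_ofNat' k.2).symm
  rw [h4]
  exact h _ h3

theorem em_em {L : Type w} [Field L] (f : F →+* K) (g : K →+* L) (x : G8 F) : em g (em f x) = em (g.comp f) x := by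
  apply Subtype.ext
  apply Units.ext
  show mx (em g (em f x)) = mx (em (g.comp f) x)
  rw [mx_em, mx_em, mx_em, Matrix.map_map, RingHom.coe_comp]

theorem num_em (f : F →+* K) {φ : Alt n →* G8 F} (h : Num φ) : Num ((em f).comp φ) := by
  have h1 : finrank K ↥(inv (Inf.rp ((em f).comp φ)) (Tg n gQs)) = finrank F ↥(inv (Inf.rp φ) (Tg n gQs)) := by
    rw [inv_eq_invariants, inv_eq_invariants]
    exact Inf.finrank_inv_em f (φ.comp (Tg n gQs).subtype)
  unfold Num at h ⊢
  rwa [h1, MonoidHom.comp_apply, MonoidHom.comp_apply, Inf.ev_em_one, Inf.ev_em_one]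

theorem ell_em (f : F →+* K) {g : G8 F} {v : L8 F} (h : Ell g v) : Ell (em f g) (mp f v) := by
  unfold Ell at h ⊢
  rw [← map_inv, adm_mp, mx_em, mx_em, ← Matrix.map_sub _ (map_sub f), ← Matrix.map_add _ (map_add f), ← map_zero f,
    H815.F4Chg.ev_map]
  exact h

theorem so3_em (f : F →+* K) (hf : Function.Surjective f) {a x t : G8 F} (h : So3 a x t) :
    So3 (em f a) (em f x) (em f t) := by
  obtain ⟨A, g, h1, h2, h3, h4, h5, h6, h7, h8, h9⟩ := h
  have hs : ∀ v : L8 K, ∃ w, mp f w = v := fun v => ⟨fun i => (hf (v i)).choose, funext fun i => (hf (v i)).choose_spec⟩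
  refine ⟨mp f A, em f g, ?_, ?_, ?_, ?_, ?_, ?_, fun v hv => ?_, fun v hv => ?_, fun v hv hv' => ?_⟩
  · rw [act_em, act_em, ← mp_add, ← mp_add]
    exact ell_em f h1
  · rw [act_em, h2]
  · rw [act_em, act_em, h3, mp_neg]
  · rw [act_em, act_em, act_em, h4, mp_neg]
  · rw [act_em, act_em, br_mp, h5]
  · rw [← map_mul, h6]
  · obtain ⟨w, rfl⟩ := hs v
    rw [act_em, ← mp_neg] at hv
    rw [act_em, br_mp, h7 w (mp_injective f hv)]
  · obtain ⟨w, rfl⟩ := hs v
    rw [act_em] at hv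
    rw [act_em, br_mp, br_mp, h8 w (mp_injective f hv), mp_add, mp_smul, map_inv₀, map_ofNat]
  · obtain ⟨w, rfl⟩ := hs v
    rw [act_em] at hv
    rw [act_em, ← mp_neg] at hv'
    rw [br_mp, h9 w (mp_injective f hv) (mp_injective f hv'), mp_zero]

theorem exists_iso (F : Type u) [Field F] [Finite F] (p : ℕ) [Fact p.Prime] [CharP F p] :
    Nonempty (Kb F ≃+* Kb (ZMod p)) := by
  let _ := ZMod.algebra F p
  have : Algebra.IsAlgebraic (ZMod p) F := Algebra.IsAlgebraic.of_finite _ _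
  exact ⟨(IsAlgClosure.equivOfAlgebraic (ZMod p) F (Kb F) (Kb (ZMod p))).toRingEquiv⟩

end

/-- **odd characteristic, degree at least 8** -/
theorem odd_all (hA : THA) (h2 : PT2) (h3 : PT3.{u}) {F : Type u} [Field F] [Finite F] (p : ℕ) [Fact p.Prime] [CharP F p]
    (hp : p ≠ 2) {H : Subgroup (G8 F)} {n : ℕ} {φ : Alt n →* G8 F} (hM : MaxAlt H n φ) (h8 : 8 ≤ n) (h18 : n ≤ 18)
    (hfx : n = 8 → NoFx φ) : False := by
  have : NeZero n := ⟨by omega⟩
  have hF : (2 : F) ≠ 0 := fun h => hp ((Nat.prime_dvd_prime_iff_eq Fact.out Nat.prime_two).1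
    ((CharP.cast_eq_zero_iff F p 2).1 (by exact_mod_cast h)))
  obtain ⟨f⟩ := exists_iso F p
  let ι : F →+* Kb (ZMod p) := f.toRingHom.comp (algebraMap F (Kb F))
  have k1 : ∀ σ : MulAut (Alt n), Num ((em ι).comp (φ.comp σ.toMonoidHom)) := fun σ =>
    num_em ι (num F hF n h8 _ (hM.inj.comp σ.injective))
  have k2 : ∀ σ : MulAut (Alt n), Function.Injective ((em ι).comp (φ.comp σ.toMonoidHom)) := fun σ =>
    (em_injective ι).comp (hM.inj.comp σ.injective)
  have k3 : ∀ σ : MulAut (Alt n), ThA ((em ι).comp (φ.comp σ.toMonoidHom)) := fun σ =>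
    hA p hp n h8 _ (k2 σ) fun τ => k1 (σ * τ)
  by_cases hn : n = 8
  · have h4 := Inf.NoFx.em ι (hfx hn)
    subst hn
    obtain ⟨-, z, e, e', ⟨g, r, he, -⟩, h5⟩ := k3 1
    refine ee_ne_zero (K := Kb (ZMod p)) (Sum.inr r) (act_eq_zero (g := g) ?_)
    rw [← he]
    exact h4 e (all_P (by norm_num) ((stab e).comap ((em ι).comp φ)) fun l hl => (h5 l hl).1)
  · refine h3 F hF n (by omega) h18 H φ hM fun σ => ?_
    have h4 := so3_em f.symm.toRingHom f.symm.surjective (h2 p hp n (by omega) _ (k2 σ) (k1 σ).1 (k3 σ))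
    have h5 : ∀ y : G8 F, em f.symm.toRingHom (em ι y) = emb0 y := fun y => by
      rw [em_em]
      congr 2
      exact RingHom.ext fun c => f.symm_apply_apply _
    simp only [MonoidHom.comp_apply, h5] at h4
    exact h4

theorem h3_of (hA : THA) (h2 : PT2) (h3 : PT3.{u}) : ∀ n, 8 ≤ n → n ≤ 18 → CASE.{u} n fun p => p = 3 :=
  fun _ h8 h18 _ _ _ p _ _ hp _ _ hM hfx => odd_all hA h2 h3 p (by omega) hM h8 h18 fun _ => hfx

theorem h5_of (hA : THA) (h2 : PT2) (h3 : PT3.{u}) : ∀ n, 8 ≤ n → n ≤ 17 → CASE.{u} n fun p => 5 ≤ p :=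
  fun _ h8 h17 _ _ _ p _ _ hp _ _ hM hfx => odd_all hA h2 h3 p (by omega) hM h8 (by omega) fun _ => hfx

theorem no14_of (hA : THA) (h2 : PT2) (h3 : PT3.{u}) : NO14.{u} := by
  intro F _ _ hq H n φ hM h14 h18
  obtain ⟨p, hp, _⟩ := exists_char F
  have := Fact.mk hp
  have := Fintype.ofFinite F
  refine odd_all hA h2 h3 p ?_ hM (by omega) h18 fun h => by omega
  rintro rfl
  obtain ⟨k, -, hk⟩ := FiniteField.card F 2
  rw [Nat.card_eq_fintype_card, hk] at hq
  have h4 : 2 ∣ 2 ^ (k : ℕ) := dvd_pow_self 2 k.ne_zero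
  omega

end Cfsg.Agent.E8A.Odd
end

-- part: E8A/Two/Geo
section
prune_inst 0xf5003504244000000018051632000400a600009000088800c8c003460f41a042200128409a30200210a08cc410010068110000004060000004000400011c008000800200b1480104200096000000000000000000000000000000000000010000000000000
set_option linter.all false
open scoped Cfsg.Agent.FastGrp

/-!
# S5772 in characteristic 2: two cases with a fixed vector (helper44)

* `gen_top` : generation of the alternating group;
* `case_a` : 3-cycles of type 92, products of two of type 134;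
* `ef` : the root vectors of an element of type 134; `cen_all`, `case_d` : degree at least 11.
-/

set_option autoImplicit false
set_option maxRecDepth 100000

namespace Cfsg.Agent.E8A.Two

open Cfsg Cfsg.Lie Module Equiv Equiv.Perm
open Cfsg.Agent.H952.F4 (ev)
open Cfsg.Agent.H288.E8L (Q8 wt)
open Cfsg.Agent.E8A.Reg5.Cls (ex dz Cj)
open Cfsg.Agent.R2.T1.Odd Cfsg.Agent.E8A.Two.Mk

universe u

section perm

variable {n m : ℕ} [NeZero n]

theorem gen_top (hm : m ≤ n) (S : Subgroup (Alt n)) (T : List ℕ) (p q : ℕ)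
    (h0 : p < m ∧ q < m ∧ p ≠ q ∧ p ∉ T ∧ q ∉ T ∧ ∀ k ∈ T, k < m)
    (h1 : ∀ a : Alt n, (∀ i : Fin n, i.val ∈ T → (a : Perm (Fin n)) i = i) → a ∈ S)
    (h2 : ∀ k ∈ T, P n [(p, q), (p, k)] ∈ S) (a : Alt n) : a ∈ S := by
  obtain ⟨hp, hq, hpq, hpT, hqT, hT⟩ := h0
  refine R2.T1.T2p.gen_alt S (fun _ => True) (p0 := Fin.ofNat n p) (p1 := Fin.ofNat n q)
    (fun e => hpq (ofNat_inj (by omega) (by omega) e)) trivial (fun k _ _ b hb => ?_) a fun i hi => absurd trivial hi
  by_cases hk : k.val ∈ T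
  · have h3 : vl m [(p, q), (p, k.val)] = true := vl_iff.2 ⟨by simp, by
      intro x hx
      rcases List.mem_pair.1 hx with rfl | rfl
      · exact ⟨hp, hq, hpq⟩
      · exact ⟨hp, hT _ hk, fun e => hpT (by rw [show p = k.val from e]; exact hk)⟩⟩
    have h4 : b = P n [(p, q), (p, k.val)] := by
      apply Subtype.ext
      rw [coe_P hm h3, pm_cons, pm_cons, pm_nil, mul_one, hb]
      congr 2
      exact Fin.ext (val_ofNat' k.2).symm
    rw [h4]
    exact h2 _ hk
  · refine h1 b fun i hi => ?_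
    have h3 : i ≠ Fin.ofNat n p := fun e => hpT (by rwa [e, val_ofNat' (by omega)] at hi)
    have h4 : i ≠ Fin.ofNat n q := fun e => hqT (by rwa [e, val_ofNat' (by omega)] at hi)
    have h5 : i ≠ k := fun e => hk (e ▸ hi)
    rw [hb, Perm.mul_apply, swap_apply_of_ne_of_ne h3 h5, swap_apply_of_ne_of_ne h3 h4]

theorem comm_of_fix (hm : m ≤ n) {l : SW} {T : List ℕ} (h : vl m l = true ∧ ∀ i < m, i ∉ T → ap l i = i) {a : Alt n}
    (ha : ∀ i : Fin n, i.val ∈ T → (a : Perm (Fin n)) i = i) : Commute a (P n l) := by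
  apply Subtype.ext
  refine (Perm.Disjoint.commute fun i => ?_).eq
  by_cases hi : i.val ∈ T
  · exact Or.inl (ha i hi)
  · refine Or.inr (Fin.ext ?_)
    rw [coe_P hm h.1, pm_apply ((vl_iff.1 h.1).2.mono hm)]
    by_cases h1 : i.val < m
    · exact h.2 _ h1 hi
    · exact ap_ge (vl_iff.1 h.1).2 (by omega)

end perm

section

variable {K : Type u} [Field K] {x : G8 K} {h : L8 K} {ζ : K}

theorem wt_seven : ∀ j : chevE8.Idx, (2 ∣ wt j 7 → wt j 7 = 0 ∨ wt j 7 = 2 ∨ wt j 7 = -2) ∧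
    (wt j 7 = 2 ↔ j = Sum.inr ⟨239, by decide⟩) ∧ (wt j 7 = -2 ↔ j = Sum.inr ⟨0, by decide⟩) := by decide +kernel

theorem line_fix {g u : G8 K} {e : L8 K} (he : e ≠ 0) (hg : ∃ c : K, act g e = c • e) (hu : ∃ c : K, act u e = c • e)
    (hc : g * u = u * (g * g)) : act g e = e := by
  obtain ⟨a, ha⟩ := hg
  obtain ⟨b, hb⟩ := hu
  have h1 := congrArg (fun t => act t e) hc
  simp only [act_mul, ha, hb, act_smul, smul_smul] at h1
  have ha0 : a ≠ 0 := fun h0 => he (act_eq_zero (by rw [ha, h0, zero_smul]))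
  have hb0 : b ≠ 0 := fun h0 => he (act_eq_zero (by rw [hb, h0, zero_smul]))
  have h2 := smul_left_injective K he h1
  have h3 : a = 1 := by
    apply mul_left_cancel₀ (mul_ne_zero ha0 hb0)
    linear_combination -h2
  rw [ha, h3, one_smul]

variable [CharP K 2]

theorem ef_dz (hζ : IsPrimitiveRoot ζ 3) (ht : mx x = dz ζ (Pi.single 7 1)) (H : Hx x h) :
    (∀ k : ℤ, k = 2 ∨ k = -2 → ∃ e : L8 K, e ≠ 0 ∧ act x e = ζ ^ k • e ∧ br h e = 0 ∧
      ∀ v, act x v = ζ ^ k • v → br h v = 0 → ∃ c : K, v = c • e) ∧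
    ∀ v, br h v = 0 → adm (v + act x v) * adm (v + act x v) = adm (v + act x v) → act x v = v := by
  have h0 := hζ.ne_zero (by norm_num)
  obtain ⟨h', k1, k2⟩ := exists_hm (K := K) (Pi.single 7 1)
  obtain ⟨k3, k4⟩ := H.spec ht
  have k5 : h = h' := inT_ext k3 k1 fun j => by
    rw [k4, k2, ex_single]
    split_ifs with hj
    · rw [hj, Tits.Roots.sr_self, Int.cast_one]
    · rw [Tits.Roots.sr_ne (Ne.symm hj), Int.cast_zero]
  subst k5
  have k6 : ∀ v, br h v = 0 → ∀ j, v j ≠ 0 → 2 ∣ wt j 7 := fun v hv j hj => by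
    have h1 := congrFun hv j
    rw [br_T k1, k2, ex_single, Pi.zero_apply, mul_eq_zero, CharP.intCast_eq_zero_iff K 2] at h1
    exact h1.resolve_right hj
  refine ⟨fun k hk => ?_, fun v hv hd => ?_⟩
  · obtain ⟨r, hr⟩ : ∃ r, ∀ j, wt j 7 = k ↔ j = r := by
      rcases hk with rfl | rfl
      exacts [⟨_, fun j => (wt_seven j).2.1⟩, ⟨_, fun j => (wt_seven j).2.2⟩]
    refine ⟨ee K r, ee_ne_zero r, funext fun j => ?_, funext fun j => ?_, fun v h1 h2 => ⟨v r, funext fun j => ?_⟩⟩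
    · rw [act_dz ht, ex_single, Pi.smul_apply, smul_eq_mul]
      by_cases hj : j = r
      · rw [(hr j).2 hj]
      · rw [ee_ne hj, mul_zero, mul_zero]
    · rw [br_T k1, k2, ex_single, Pi.zero_apply]
      by_cases hj : j = r
      · rw [(hr j).2 hj, (CharP.intCast_eq_zero_iff K 2 k).2 (by omega), zero_mul]
      · rw [ee_ne hj, mul_zero]
    · rw [Pi.smul_apply, smul_eq_mul]
      by_cases hj : j = r
      · rw [hj, ee_self, mul_one]
      · rw [ee_ne hj, mul_zero]
        by_contra h3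
        have h4 := congrFun h1 j
        rw [act_dz ht, ex_single, Pi.smul_apply, smul_eq_mul, mul_left_inj' h3, ← div_eq_one_iff_eq (zpow_ne_zero _ h0),
          ← zpow_sub₀ h0, hζ.zpow_eq_one_iff_dvd] at h4
        have h5 := (wt_seven j).1 (k6 v h2 j h3)
        exact hj ((hr j).1 (by omega))
  · generalize hd' : v + act x v = d at hd
    have k7 : ∀ j, d j ≠ 0 → wt j 7 = 2 ∨ wt j 7 = -2 := fun j hj => by
      rw [← hd', Pi.add_apply, act_dz ht, ex_single] at hj
      have h1 : v j ≠ 0 := fun h1 => hj (by rw [h1, mul_zero, add_zero])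
      refine ((wt_seven j).1 (k6 v hv j h1)).resolve_left fun h2 => hj ?_
      rw [h2, zpow_zero, one_mul, CharTwo.add_self_eq_zero]
    have k8 : ∀ i j, adm d i j ≠ 0 → wt i 7 = wt j 7 + 2 ∨ wt i 7 = wt j 7 - 2 := fun i j hij => by
      obtain ⟨k, h1, h2⟩ := adm_wt hij
      have h3 := k7 k h1
      rw [h2, Pi.add_apply]
      omega
    have k9 : d = 0 := eq_zero_of_adm (Matrix.ext fun i j => by
      by_contra h1
      have h2 := k8 i j h1
      rw [← hd, Matrix.mul_apply] at h1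
      obtain ⟨k, -, h3⟩ := Finset.exists_ne_zero_of_sum_ne_zero h1
      have h4 := k8 i k (left_ne_zero_of_mul h3)
      have h5 := k8 k j (right_ne_zero_of_mul h3)
      omega)
    rw [← add_left_inj v, add_comm, hd', k9, add_self K]

/-- the root vectors -/
theorem ef (hζ : IsPrimitiveRoot ζ 3) (hc : Cj x ζ (Pi.single 7 1)) (H : Hx x h) :
    (∀ k : ℤ, k = 2 ∨ k = -2 → ∃ e : L8 K, e ≠ 0 ∧ act x e = ζ ^ k • e ∧ br h e = 0 ∧
      ∀ v, act x v = ζ ^ k • v → br h v = 0 → ∃ c : K, v = c • e) ∧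
    ∀ v, br h v = 0 → adm (v + act x v) * adm (v + act x v) = adm (v + act x v) → act x v = v := by
  obtain ⟨c, hc⟩ := hc
  have H' := H.conj c⁻¹
  rw [inv_inv] at H'
  obtain ⟨h1, h2⟩ := ef_dz hζ (mx_of_semi hc) H'
  have h3 : ∀ v, act (c⁻¹ * x * c) (act c⁻¹ v) = act c⁻¹ (act x v) := fun v => by
    rw [← act_mul, mul_inv_cancel_right, act_mul]
  refine ⟨fun k hk => ?_, fun v hv hd => ?_⟩
  · obtain ⟨e, e1, e2, e3, e4⟩ := h1 k hk
    refine ⟨act c e, fun h0 => e1 (act_eq_zero h0), act_injective c⁻¹ ?_, act_injective c⁻¹ ?_, fun v v1 v2 => ?_⟩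
    · rw [← h3, act_smul, act_inv, e2]
    · rw [act_br, act_inv, e3, act_zero]
    · obtain ⟨a, ha⟩ := e4 (act c⁻¹ v) (by rw [h3, v1, act_smul]) (by rw [← act_br, v2, act_zero])
      exact ⟨a, by rw [← act_smul, ← ha, act_inv']⟩
  · apply act_injective c⁻¹
    rw [← h3]
    refine h2 _ (by rw [← act_br, hv, act_zero]) ?_
    rw [h3, ← act_add, adm_act]
    calc mx c⁻¹ * adm (v + act x v) * mx c⁻¹⁻¹ * (mx c⁻¹ * adm (v + act x v) * mx c⁻¹⁻¹)
        = mx c⁻¹ * (adm (v + act x v) * (mx c⁻¹⁻¹ * mx c⁻¹) * adm (v + act x v)) * mx c⁻¹⁻¹ := by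
          simp only [Matrix.mul_assoc]
      _ = _ := by rw [mx_inv_mul, Matrix.mul_one, hd]

/-- the vectors which are fixed by `y` and `z` commute with `h` -/
theorem cen_all (hζ : IsPrimitiveRoot ζ 3) (hc : Cj x ζ (Pi.single 7 1)) (H : Hx x h) {y z u w : G8 K}
    (hcom : ∀ g ∈ [y, z, u, w], Commute g x ∧ act g h = h) (hy : y * u = u * (y * y)) (hz : z * w = w * (z * z))
    {U : Submodule K (L8 K)} (hU : ∀ v ∈ U, act x v = v ∧ act y v = v ∧ act z v = v)
    (hd : ev (LK K (y * z)) 1 ≤ finrank K ↥U + 2) {v : L8 K} (h1 : act y v = v) (h2 : act z v = v) : br h v = 0 := by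
  have hl := (ef hζ hc H).1
  have k1 : ∀ k : ℤ, k = 2 ∨ k = -2 → ∃ e : L8 K, e ≠ 0 ∧ act x e = ζ ^ k • e ∧ br h e = 0 ∧ act (y * z) e = e := by
    intro k hk
    obtain ⟨e, e1, e2, e3, e4⟩ := hl k hk
    have h3 : ∀ g ∈ [y, z, u, w], ∃ c : K, act g e = c • e := fun g hg =>
      e4 _ (by rw [← act_mul, ← (hcom g hg).1.eq, act_mul, e2, act_smul]) (by
        conv_lhs => rw [← (hcom g hg).2]
        rw [← act_br, e3, act_zero])
    refine ⟨e, e1, e2, e3, ?_⟩
    rw [act_mul, line_fix e1 (h3 z (by simp)) (h3 w (by simp)) hz, line_fix e1 (h3 y (by simp)) (h3 u (by simp)) hy]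
  obtain ⟨e, e1, e2, e3, e4⟩ := k1 2 (Or.inl rfl)
  obtain ⟨f, f1, f2, f3, f4⟩ := k1 (-2) (Or.inr rfl)
  have h0 := hζ.ne_zero (by norm_num)
  have z1 : ∀ a b : ℤ, ¬ 3 ∣ a - b → ζ ^ a - ζ ^ b ≠ 0 := fun a b hab h3 => hab (by
    rwa [sub_eq_zero, ← div_eq_one_iff_eq (zpow_ne_zero _ h0), ← zpow_sub₀ h0, hζ.zpow_eq_one_iff_dvd] at h3)
  let E : Submodule K (L8 K) := Module.End.eigenspace (LK K (y * z)) 1
  have mE : ∀ v, v ∈ E ↔ act (y * z) v = v := fun v => by
    rw [Module.End.mem_eigenspace_iff, one_smul, LK_apply]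
  let N : Submodule K (L8 K) := E ⊓ LinearMap.ker (Matrix.toLin' (adm h))
  have mN : ∀ v, v ∈ N ↔ act (y * z) v = v ∧ br h v = 0 := fun v => and_congr (mE v) Iff.rfl
  let M : Module.End K (L8 K) := (LK K x - ζ ^ (2 : ℤ) • 1) * (LK K x - ζ ^ (0 : ℤ) • 1)
  have mM : ∀ (k : ℤ) v, act x v = ζ ^ k • v → M v = ((ζ ^ k - ζ ^ (2 : ℤ)) * (ζ ^ k - ζ ^ (0 : ℤ))) • v := fun k v hv => by
    show act x (act x v - ζ ^ (0 : ℤ) • v) - ζ ^ (2 : ℤ) • (act x v - ζ ^ (0 : ℤ) • v) = _
    rw [hv, ← sub_smul, act_smul, hv, smul_smul, smul_smul, ← sub_smul]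
    congr 1
    ring
  have l1 : U < N ⊓ LinearMap.ker M := by
    refine lt_of_le_of_ne (fun v hv => ?_) fun h3 => ?_
    · obtain ⟨v1, v2, v3⟩ := hU v hv
      refine ⟨(mN v).2 ⟨by rw [act_mul, v3, v2], H.cen v v1⟩, ?_⟩
      show M v = 0
      rw [mM 0 v (by rw [zpow_zero, one_smul, v1]), sub_self, mul_zero, zero_smul]
    · have h4 : e ∈ U := by
        rw [h3]
        refine ⟨(mN e).2 ⟨e4, e3⟩, ?_⟩
        show M e = 0
        rw [mM 2 e e2, sub_self, zero_mul, zero_smul]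
      have h5 := (hU e h4).1
      rw [e2, ← sub_eq_zero] at h5
      nth_rewrite 2 [← one_smul K e] at h5
      rw [← sub_smul, smul_eq_zero, ← zpow_zero ζ] at h5
      exact h5.elim (z1 2 0 (by norm_num)) e1
  have l2 : N ⊓ LinearMap.ker M < N := by
    refine lt_of_le_of_ne inf_le_left fun h3 => ?_
    have h4 : f ∈ N ⊓ LinearMap.ker M := by
      rw [h3]
      exact (mN f).2 ⟨f4, f3⟩
    have h5 : M f = 0 := h4.2
    rw [mM (-2) f f2, smul_eq_zero, mul_eq_zero] at h5
    exact h5.elim (fun h6 => h6.elim (z1 _ _ (by norm_num)) (z1 _ _ (by norm_num))) f1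
  have l3 := Submodule.finrank_lt_finrank_of_lt l1
  have l4 := Submodule.finrank_lt_finrank_of_lt l2
  have l5 : N = E := Submodule.eq_of_le_of_finrank_le inf_le_left (hd.trans (by omega))
  have l6 : v ∈ N := by
    rw [l5, mE, act_mul, h2, h1]
  exact ((mN v).1 l6).2

theorem idem_add {a b : L8 K} (ha : adm a * adm a = adm a) (hb : adm b * adm b = adm b) (hab : br a b = 0) :
    adm (a + b) * adm (a + b) = adm (a + b) := by
  have h1 := adm_br a b
  rw [hab, adm_zero, eq_comm, sub_eq_zero] at h1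
  rw [adm_add, Matrix.add_mul, Matrix.mul_add, Matrix.mul_add, ha, hb, ← h1, add_assoc, ← add_assoc (adm a * adm b),
    add_self K, zero_add]

end

section

variable {F : Type u} [Field F] [Finite F] [CharP F 2] {n : ℕ} [NeZero n] {ψ : Alt n →* G8 (Kb F)}

theorem act_hx {x x' g : G8 (Kb F)} (hx : x' ^ 3 = 1) (hd : ev (LK (Kb F) x') 1 = 92 ∨ ev (LK (Kb F) x') 1 = 134)
    {h h' : L8 (Kb F)} (H : Hx x h) (H' : Hx x' h') (e : g * x = x' * g) : act g h = h' := by
  have h1 := H.conj g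
  rw [e, mul_inv_cancel_right] at h1
  exact hx_unique hx hd h1 H'

/-- **the case (92, 134)** -/
theorem case_a (hn : 8 ≤ n) (hψ : NoFx ψ) (h3 : ev (LK (Kb F) (ψ (P n x3))) 1 = 92)
    (h33 : ev (LK (Kb F) (ψ (P n x33))) 1 = 134) : False := by
  let ρ : Representation (Kb F) (Alt n) (L8 (Kb F)) := (LK (Kb F)).comp ψ
  have hx : ψ (P n x3) ^ 3 = 1 := by rw [← map_pow, P_pow_one hn (by decide) (by decide), map_one]
  have hy : ψ (P n y3) ^ 3 = 1 := by rw [← map_pow, P_pow_one hn (by decide) (by decide), map_one]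
  have hy' : ev (LK (Kb F) (ψ (P n y3))) 1 = 92 :=
    (evP ρ hn (a := y3) (r := x3) [(0, 4), (4, 1), (1, 5), (2, 3)] (by decide)).trans h3
  obtain ⟨h, H, H'⟩ := d7_pair hx hy (Commute.map (P_eqP hn (by decide)) ψ) h3
    (by rw [← map_mul, P_mul hn (c := x33) (by decide), h33]) (by
      rw [← map_inv, ← map_mul, P_inv hn (b := [(4, 5), (3, 4)]) (by decide),
        P_mul hn (c := [(0, 1), (1, 2), (4, 5), (3, 4)]) (by decide)]
      exact (evP ρ hn (r := x33) [(3, 4), (6, 7)] (by decide)).trans h33)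
  refine H.ne (hψ h (gen_top hn ((stab h).comap ψ) [0, 1, 2] 6 7 (by decide) (fun a ha => ?_) fun k hk => ?_))
  · exact act_hx hx (Or.inl h3) H H ((comm_of_fix hn (by decide) ha).map ψ).eq
  · refine act_hx hy (Or.inl hy') H' H' (Commute.map (P_eqP hn ?_) ψ).eq
    revert k
    decide

/-- **the case (134, 92) in degree at least 11** -/
theorem case_d (hn : 11 ≤ n) (hψ : NoFx ψ) (h3 : ev (LK (Kb F) (ψ (P n x3))) 1 = 134)
    (hd : ev (LK (Kb F) (ψ (P n x15))) 1 ≤ finrank (Kb F) ↥(inv ((LK (Kb F)).comp ψ) (Tg n [x3, y3, z5])) + 2) : False := by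
  have := charKb (F := F)
  let ρ : Representation (Kb F) (Alt n) (L8 (Kb F)) := (LK (Kb F)).comp ψ
  obtain ⟨ζ, hζ⟩ := Inf.exists_root (F := F) (N := 3) (by exact_mod_cast three_ne)
  have hx : ψ (P n x3) ^ 3 = 1 := by rw [← map_pow, P_pow_one hn (by decide) (by decide), map_one]
  have hx' : ψ (P n [(0, 1), (1, 3)]) ^ 3 = 1 := by rw [← map_pow, P_pow_one hn (by decide) (by decide), map_one]
  have h3' : ev (LK (Kb F) (ψ (P n [(0, 1), (1, 3)]))) 1 = 134 :=
    (evP ρ hn (r := x3) [(2, 3), (3, 4)] (by decide)).trans h3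
  have hc := cj_134 three_ne hζ hx h3
  obtain ⟨h, H⟩ := exists_hx hx (Or.inr h3)
  obtain ⟨h', H'⟩ := exists_hx hx' (Or.inr h3')
  have c1 : ∀ {g : SW}, eqP 11 g x3 x3 g = true → act (ψ (P n g)) h = h := fun hg =>
    act_hx hx (Or.inr h3) H H (Commute.map (P_eqP hn hg) ψ).eq
  have c2 : ∀ {g : SW}, eqP 11 g [(0, 1), (1, 3)] [(0, 1), (1, 3)] g = true → act (ψ (P n g)) h' = h' := fun hg =>
    act_hx hx' (Or.inr h3') H' H' (Commute.map (P_eqP hn hg) ψ).eq
  have c3 : ∀ {a b c d : SW}, eqP 11 a b c d = true → ∀ v, act (ψ (P n a)) (act (ψ (P n b)) v) =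
      act (ψ (P n c)) (act (ψ (P n d)) v) := fun e v => by
    rw [← act_mul, ← act_mul, ← map_mul, ← map_mul, P_eqP hn e]
  have c4 : ∀ v, act (ψ (P n [])) v = v := fun v => by rw [P_nil, map_one, act_one]
  have c5 : ∀ (a b c d : SW), eqP 11 a b c d = true → eqP 11 d [(0, 1), (1, 3)] [(0, 1), (1, 3)] d = true →
      act (ψ (P n a)) (act (ψ (P n b)) h') = act (ψ (P n c)) h' := fun a b c d e e' => by rw [c3 e, c2 e']
  have k1 : br h (h' + act (ψ (P n y3)) h' + act (ψ (P n [(4, 5), (3, 4)])) h') = 0 := by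
    refine cen_all hζ hc H (y := ψ (P n y3)) (z := ψ (P n z5)) (u := ψ (P n [(3, 4), (6, 7)]))
      (w := ψ (P n [(3, 4), (7, 9), (9, 10), (10, 8)])) (fun g hg => ?_) ?_ ?_ (U := inv ρ (Tg n [x3, y3, z5]))
      (fun v hv => ?_) ?_ ?_ ?_
    · simp only [List.mem_cons, List.not_mem_nil, or_false] at hg
      rcases hg with rfl | rfl | rfl | rfl <;> exact ⟨Commute.map (P_eqP hn (by decide)) ψ, c1 (by decide)⟩
    · rw [← map_mul, ← map_mul, ← map_mul, P_mul hn (a := y3) (b := y3) (c := y3 ++ y3) (by decide)]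
      exact congrArg ψ (P_eqP hn (by decide))
    · rw [← map_mul, ← map_mul, ← map_mul, P_mul hn (a := z5) (b := z5) (c := z5 ++ z5) (by decide)]
      exact congrArg ψ (P_eqP hn (by decide))
    · rw [mem_Tg] at hv
      exact ⟨hv x3 (by simp), hv y3 (by simp), hv z5 (by simp)⟩
    · rw [← map_mul, P_mul hn (c := y3 ++ z5) (by decide)]
      exact (evP ρ hn (r := x15) [(0, 4), (4, 9), (1, 5), (5, 10), (2, 3), (3, 8)] (by decide)).le.trans hd
    · rw [act_add, act_add, c5 y3 y3 [(4, 5), (3, 4)] [] (by decide) (by decide),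
        c5 y3 [(4, 5), (3, 4)] [] [] (by decide) (by decide), c4]
      abel
    · rw [act_add, act_add, c5 z5 y3 y3 z5 (by decide) (by decide),
        c5 z5 [(4, 5), (3, 4)] [(4, 5), (3, 4)] z5 (by decide) (by decide), c2 (g := z5) (by decide)]
  have k2 := congrArg (act (ψ (P n [(5, 6), (6, 7)]))) k1
  have k3 := congrArg (act (ψ (P n [(4, 6), (6, 7)]))) k1
  rw [act_br, c1 (by decide), act_zero, act_add, act_add, c2 (g := [(5, 6), (6, 7)]) (by decide),
    c5 _ y3 y3 [(4, 6), (6, 7)] (by decide) (by decide),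
    c5 _ [(4, 5), (3, 4)] [(3, 6), (6, 8)] [(4, 8), (8, 6), (6, 7), (7, 5)] (by decide) (by decide)] at k2
  rw [act_br, c1 (by decide), act_zero, act_add, act_add, c2 (g := [(4, 6), (6, 7)]) (by decide),
    c5 _ y3 [(3, 6), (6, 8)] [(4, 5), (5, 8), (8, 6), (6, 7)] (by decide) (by decide),
    c5 _ [(4, 5), (3, 4)] [(4, 5), (3, 4)] [(5, 6), (6, 7)] (by decide) (by decide)] at k3
  simp only [br_add_right] at k1 k2 k3
  have k4 : br h h' = 0 := by
    have h2 := add_self (Kb F) (W := L8 (Kb F))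
    linear_combination (exp := 1) k1 + k2 + k3 - h2 (br h h') - h2 (br h (act (ψ (P n y3)) h')) -
      h2 (br h (act (ψ (P n [(4, 5), (3, 4)])) h')) - h2 (br h (act (ψ (P n [(3, 6), (6, 8)])) h'))
  have k5 := congrArg (act (ψ (P n [(0, 3), (3, 2)]))) k4
  have k6 : act (ψ (P n [(0, 3), (3, 2)])) h' = act (ψ (P n x3)) h' := by
    rw [← c5 [(0, 3), (3, 2)] [] x3 [(0, 3), (3, 1)] (by decide) (by decide), c4]
  rw [act_br, act_zero, k6, act_hx hx' (Or.inr h3') H.inv H' (by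
      rw [← map_inv, P_inv hn (b := [(1, 2), (0, 1)]) (by decide), ← map_mul, ← map_mul]
      exact congrArg ψ (P_eqP hn (by decide)))] at k5
  have k7 := (ef hζ hc H).2 h' k4 (idem_add H'.idem (H'.conj _).idem k5)
  refine H'.ne (hψ h' (gen_top hn ((stab h').comap ψ) [0, 1, 3] 4 5 (by decide) (fun a ha => ?_) fun k hk => ?_))
  · exact act_hx hx' (Or.inr h3') H' H' ((comm_of_fix hn (by decide) ha).map ψ).eq
  · have k8 : ∀ c : SW, eqP 11 [(4, 5), (4, k)] c c [(4, 5), (4, 2)] = true → act (ψ (P n c)) h' = h' →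
        act (ψ (P n [(4, 5), (4, k)])) h' = h' := fun c e e' => by
      have h1 := c5 _ _ _ _ e (by decide)
      rwa [e'] at h1
    simp only [List.mem_cons, List.not_mem_nil, or_false] at hk
    rcases hk with rfl | rfl | rfl
    · exact k8 x3 (by decide) k7
    · refine k8 (x3 ++ x3) (by decide) ?_
      rw [← c5 x3 x3 _ [] (by decide) (by decide), k7, k7]
    · refine k8 [(0, 2), (2, 3)] (by decide) ?_
      have h1 := c5 [(0, 2), (2, 3)] x3 [] [(0, 1), (1, 3)] (by decide) (by decide)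
      rwa [k7, c4] at h1

end

end Cfsg.Agent.E8A.Two
end

-- part: E8A/Odd/ThaDec_mg
section
prune_inst 0xe12030040040000000180504320000008200000200488000004001000540c040a00008410820201210201c4400010020000000000060000004000000011c008000001000b0480008460090010000000000000000000000000000000000000000000000000
set_option linter.all false
open scoped Cfsg.Agent.FastGrp

-- part: E8A/Odd/ThaSl
section
/-!
# The box THA, part 1: triples of long root vectors (helper90)

* `Tri e f` : the relations of a pair of opposite long root vectors; `tri_of_rz`;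
* `sl e f` : the subalgebra they generate; `Tri.finrank`, `Tri.br_mem`, `Tri.nil_zero`, `Tri.fix_of_two`.
-/

set_option autoImplicit false
set_option maxRecDepth 100000

namespace Cfsg.Agent.E8A.Odd.Tha

open Cfsg Cfsg.Lie Module
open Cfsg.Agent.ChevalleyStructure.CoxeterGeomTypes
open Cfsg.Agent.E8A.Inf (kf kf_act)
open Cfsg.Agent.E8A.Par (op vec_op kf_ee act_xr)
open Cfsg.Agent.E8A.TwoH

universe u

variable {K : Type u} [Field K]

theorem op_op (r : Fin chevE8.nroots) : op (op r) = r := vec_injective (by rw [vec_op, vec_op, neg_neg])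

theorem op_ne' (r : Fin chevE8.nroots) : op r ≠ r := fun h => Par.op_ne r (congrArg Fin.val h)

theorem br_neg_left (x y : L8 K) : br (-x) y = -br x y := by rw [← neg_one_smul K x, br_smul_left, neg_one_smul]

theorem br_neg_right (x y : L8 K) : br x (-y) = -br x y := by rw [← neg_one_smul K y, br_smul_right, neg_one_smul]

theorem ext_ee (h2 : (2 : K) ≠ 0) (r : Fin chevE8.nroots) (v : L8 K) :
    br (ee K (Sum.inr r)) (br (ee K (Sum.inr r)) v) = (-2 * kf K (ee K (Sum.inr r)) v) • ee K (Sum.inr r) := by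
  have h0 : kf K (ee K (Sum.inr r)) (ee K (Sum.inr r)) = 0 := by
    rw [kf_ee, ee_ne fun h => op_ne' r (Sum.inr.inj h)]
  have h1 : ∀ s t : K, s + t = 0 → act (xr r s) (act (xr r t) v) = v := fun s t h => by
    rw [← act_mul, xr_add, h, xr_zero, act_one]
  have h3 := h1 1 (-1) (by ring)
  have h4 := h1 (-1) 1 (by ring)
  simp only [act_xr, br_add_right, br_sub_right, br_smul_right, br_self, map_add, map_sub, map_smul, h0] at h3 h4
  funext i
  have h5 := congrFun h3 i
  have h6 := congrFun h4 i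
  simp only [Pi.add_apply, Pi.sub_apply, Pi.smul_apply, smul_eq_mul, Pi.zero_apply] at h5 h6 ⊢
  refine mul_left_cancel₀ h2 ?_
  linear_combination -h5 - h6

/-- opposite long root vectors -/
structure Tri (e f : L8 K) : Prop where
  two : (2 : K) ≠ 0
  xe : ∀ v, ∃ c : K, br e (br e v) = c • e
  xf : ∀ v, ∃ c : K, br f (br f v) = c • f
  he : br (br e f) e = (2 : K) • e
  hf : br (br e f) f = (-2 : K) • f
  ne : e ≠ 0

theorem tri_ee (h2 : (2 : K) ≠ 0) (r : Fin chevE8.nroots) : Tri (ee K (Sum.inr r)) (ee K (Sum.inr (op r))) where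
  two := h2
  xe v := ⟨_, ext_ee h2 r v⟩
  xf v := ⟨_, ext_ee h2 _ v⟩
  he := by rw [br_anti, ext_ee h2, kf_ee, ee_self, mul_one, neg_smul, neg_neg]
  hf := by
    rw [br_anti, br_anti (ee K (Sum.inr r)), br_neg_right, neg_neg, ext_ee h2, kf_ee, op_op, ee_self, mul_one]
  ne := ee_ne_zero _

theorem Tri.act {e f : L8 K} (h : Tri e f) (g : G8 K) : Tri (act g e) (act g f) where
  two := h.two
  xe v := by
    obtain ⟨c, hc⟩ := h.xe (E8A.act g⁻¹ v)
    exact ⟨c, by rw [← act_smul, ← hc, act_br, act_br, act_inv']⟩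
  xf v := by
    obtain ⟨c, hc⟩ := h.xf (E8A.act g⁻¹ v)
    exact ⟨c, by rw [← act_smul, ← hc, act_br, act_br, act_inv']⟩
  he := by rw [← act_br, ← act_br, h.he, act_smul]
  hf := by rw [← act_br, ← act_br, h.hf, act_smul]
  ne h0 := h.ne (act_eq_zero h0)

theorem tri_of_rz (h2 : (2 : K) ≠ 0) {z : G8 K} {e f : L8 K} (h : Rz z e f) : Tri e f := by
  obtain ⟨g, r, rfl, rfl, -⟩ := h
  exact (tri_ee h2 r).act g

theorem rz_conj {z : G8 K} {e f : L8 K} (h : Rz z e f) (g : G8 K) : Rz (g * z * g⁻¹) (act g e) (act g f) := by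
  obtain ⟨c, r, rfl, rfl, h⟩ := h
  refine ⟨g * c, r, (act_mul _ _ _).symm, (act_mul _ _ _).symm, ?_⟩
  rw [← mx_mul, show g * z * g⁻¹ * (g * c) = g * (z * c) by group, mx_mul, mx_mul, h, mx_mul, Matrix.mul_assoc]

/-- the subalgebra generated by `e`, `f` -/
def sl (e f : L8 K) : Submodule K (L8 K) := Submodule.span K (Set.range ![e, br e f, f])

theorem mem_sl {e f v : L8 K} : v ∈ sl e f ↔ ∃ a b c : K, v = a • e + b • br e f + c • f := by
  rw [sl, Submodule.mem_span_range_iff_exists_fun]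
  constructor
  · rintro ⟨c, rfl⟩
    exact ⟨c 0, c 1, c 2, by rw [Fin.sum_univ_three]; rfl⟩
  · rintro ⟨a, b, c, rfl⟩
    exact ⟨![a, b, c], by rw [Fin.sum_univ_three]; rfl⟩

theorem e_mem (e f : L8 K) : e ∈ sl e f := Submodule.subset_span ⟨0, rfl⟩

theorem h_mem (e f : L8 K) : br e f ∈ sl e f := Submodule.subset_span ⟨1, rfl⟩

theorem f_mem (e f : L8 K) : f ∈ sl e f := Submodule.subset_span ⟨2, rfl⟩

theorem sl_le {e f : L8 K} {W : Submodule K (L8 K)} (h1 : e ∈ W) (h2 : f ∈ W) (h3 : br e f ∈ W) : sl e f ≤ W := by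
  intro v hv
  obtain ⟨a, b, c, rfl⟩ := mem_sl.1 hv
  exact add_mem (add_mem (W.smul_mem a h1) (W.smul_mem b h3)) (W.smul_mem c h2)

theorem fix_sl {e f : L8 K} {g : G8 K} (h1 : act g e = e) (h2 : act g f = f) {v : L8 K} (hv : v ∈ sl e f) :
    act g v = v := by
  obtain ⟨a, b, c, rfl⟩ := mem_sl.1 hv
  rw [act_add, act_add, act_smul, act_smul, act_smul, act_br, h1, h2]

theorem br_sl_zero {e f x : L8 K} (h1 : br x e = 0) (h2 : br x f = 0) {v : L8 K} (hv : v ∈ sl e f) : br x v = 0 := by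
  obtain ⟨a, b, c, rfl⟩ := mem_sl.1 hv
  rw [br_add_right, br_add_right, br_smul_right, br_smul_right, br_smul_right, h1, h2, br_br_zero h1 h2, smul_zero,
    smul_zero, smul_zero, add_zero, add_zero]

theorem act_sl {e f : L8 K} {g : G8 K} {W : Submodule K (L8 K)} (h1 : act g e ∈ W) (h2 : act g f ∈ W)
    (h3 : br (act g e) (act g f) ∈ W) {v : L8 K} (hv : v ∈ sl e f) : act g v ∈ W := by
  obtain ⟨a, b, c, rfl⟩ := mem_sl.1 hv
  rw [act_add, act_add, act_smul, act_smul, act_smul, act_br]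
  exact add_mem (add_mem (W.smul_mem a h1) (W.smul_mem b h3)) (W.smul_mem c h2)

namespace Tri

variable {e f : L8 K} (h : Tri e f)

include h

theorem br_e (a b c : K) : br (a • e + b • br e f + c • f) e = (2 * b) • e + (0 : K) • f + (-c) • br e f := by
  rw [br_add_left, br_add_left, br_smul_left, br_smul_left, br_smul_left, br_self, h.he, br_anti f e]
  module

theorem br_f (a b c : K) : br (a • e + b • br e f + c • f) f = (0 : K) • e + (-2 * b) • f + a • br e f := by
  rw [br_add_left, br_add_left, br_smul_left, br_smul_left, br_smul_left, br_self, h.hf]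
  module

theorem br_h (a b c : K) :
    br (a • e + b • br e f + c • f) (br e f) = (-2 * a) • e + (2 * c) • f + (0 : K) • br e f := by
  rw [br_add_left, br_add_left, br_smul_left, br_smul_left, br_smul_left, br_self, br_anti e (br e f),
    br_anti f (br e f), h.he, h.hf]
  module

theorem br_eq (a b c a' b' c' : K) : br (a • e + b • br e f + c • f) (a' • e + b' • br e f + c' • f) =
    (2 * (a' * b - a * b')) • e + (a * c' - a' * c) • br e f + (2 * (b' * c - b * c')) • f := by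
  rw [br_add_right, br_add_right, br_smul_right, br_smul_right, br_smul_right, h.br_e, h.br_f, h.br_h]
  module

theorem li {a b c : K} (h0 : a • e + b • br e f + c • f = 0) : a = 0 ∧ b = 0 ∧ c = 0 := by
  have h1 := h.br_e a b c
  rw [h0, br_zero_left, zero_smul, add_zero] at h1
  have h2 := h.br_e (2 * b) (-c) 0
  rw [zero_smul, add_zero, ← h1, br_zero_left, neg_zero, zero_smul, add_zero, add_zero, eq_comm,
    smul_eq_zero] at h2
  have hc : c = 0 := neg_eq_zero.1 ((mul_eq_zero.1 (h2.resolve_right h.ne)).resolve_left h.two)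
  rw [hc, neg_zero, zero_smul, add_zero, eq_comm, smul_eq_zero] at h1
  have hb : b = 0 := (mul_eq_zero.1 (h1.resolve_right h.ne)).resolve_left h.two
  rw [hb, hc, zero_smul, zero_smul, add_zero, add_zero, smul_eq_zero] at h0
  exact ⟨h0.resolve_right h.ne, hb, hc⟩

theorem h_ne : br e f ≠ 0 := fun h0 =>
  one_ne_zero (h.li (a := 0) (b := 1) (c := 0) (by rw [h0, zero_smul, zero_smul, smul_zero, add_zero, add_zero])).2.1

theorem f_ne : f ≠ 0 := fun h0 => h.h_ne (by rw [h0, br_zero_right])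

theorem finrank : finrank K (sl e f) = 3 := by
  rw [sl, finrank_span_eq_card, Fintype.card_fin]
  rw [Fintype.linearIndependent_iff]
  intro c hc i
  rw [Fin.sum_univ_three] at hc
  obtain ⟨h1, h2, h3⟩ := h.li hc
  fin_cases i
  exacts [h1, h2, h3]

theorem br_mem {x y : L8 K} (hx : x ∈ sl e f) (hy : y ∈ sl e f) : br x y ∈ sl e f := by
  obtain ⟨a, b, c, rfl⟩ := mem_sl.1 hx
  obtain ⟨a', b', c', rfl⟩ := mem_sl.1 hy
  exact mem_sl.2 ⟨_, _, _, h.br_eq ..⟩

theorem nil_zero {y : L8 K} (hy : y ∈ sl e f) (h0 : ∀ w ∈ sl e f, br y (br y w) = 0) : y = 0 := by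
  obtain ⟨a, b, c, rfl⟩ := mem_sl.1 hy
  have h1 := h0 _ (mem_sl.2 ⟨1, 0, 0, rfl⟩)
  have h2 := h0 _ (mem_sl.2 ⟨0, 0, 1, rfl⟩)
  rw [h.br_eq, h.br_eq] at h1 h2
  obtain ⟨h3, -, h4⟩ := h.li h1
  obtain ⟨h5, -, -⟩ := h.li h2
  have h6 := h.two
  have hc : c = 0 := by
    refine pow_eq_zero_iff two_ne_zero |>.1 (mul_left_cancel₀ h6 ?_)
    linear_combination -h4
  have ha : a = 0 := by
    refine pow_eq_zero_iff two_ne_zero |>.1 (mul_left_cancel₀ h6 ?_)
    linear_combination -h5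
  have hb : b = 0 := by
    refine pow_eq_zero_iff two_ne_zero |>.1 (mul_left_cancel₀ h6 (mul_left_cancel₀ h6 ?_))
    rw [hc] at h3
    linear_combination h3
  rw [ha, hb, hc, zero_smul, zero_smul, zero_smul, add_zero, add_zero]

/-- an involution which fixes a plane is trivial -/
theorem fix_of_two {W : Submodule K (L8 K)} (hW : W ≤ sl e f) (h2 : 2 ≤ Module.finrank K W) {g : G8 K} (hg : g * g = 1)
    (hs : ∀ v ∈ sl e f, E8A.act g v ∈ sl e f) (hf : ∀ v ∈ W, E8A.act g v = v) {x : L8 K} (hx : x ∈ sl e f) :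
    E8A.act g x = x := by
  have two : ∀ v : L8 K, v = -v → v = 0 := fun v hv => by
    rw [eq_neg_iff_add_eq_zero, ← two_smul K, smul_eq_zero] at hv
    exact hv.resolve_left h.two
  obtain ⟨y, hy⟩ : ∃ y, y = x - E8A.act g x := ⟨_, rfl⟩
  have h3 : y ∈ sl e f := hy ▸ sub_mem hx (hs x hx)
  have h4 : E8A.act g y = -y := by rw [hy, act_sub, ← act_mul, hg, act_one, neg_sub]
  refine (sub_eq_zero.1 (hy ▸ ?_ : x - E8A.act g x = 0)).symm
  by_contra h5
  have h6 : y ∉ W := fun h6 => h5 (two y ((hf y h6).symm.trans h4))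
  have h7 : W ⊔ K ∙ y = sl e f := by
    refine Submodule.eq_of_le_of_finrank_le (sup_le hW ((Submodule.span_singleton_le_iff_mem _ _).2 h3)) ?_
    have h8 : W < W ⊔ K ∙ y := lt_of_le_of_ne le_sup_left fun h8 =>
      h6 (h8 ▸ Submodule.mem_sup_right (Submodule.mem_span_singleton_self y))
    have h9 := Submodule.finrank_lt_finrank_of_lt h8
    rw [h.finrank]
    omega
  have h8 : ∀ v ∈ sl e f, ∃ w ∈ W, ∃ t : K, v = w + t • y := fun v hv => by
    rw [← h7, Submodule.mem_sup] at hv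
    obtain ⟨w, hw, u, hu, rfl⟩ := hv
    obtain ⟨t, rfl⟩ := Submodule.mem_span_singleton.1 hu
    exact ⟨w, hw, t, rfl⟩
  refine h5 (h.nil_zero h3 fun v hv => ?_)
  obtain ⟨w, hw, t, rfl⟩ := h8 v hv
  obtain ⟨w', hw', t', h9⟩ := h8 _ (h.br_mem h3 (hW hw))
  have h10 := act_br g y w
  rw [h4, hf w hw, br_neg_left, h9, act_add, act_smul, hf w' hw', h4, smul_neg, neg_add, add_left_inj] at h10
  rw [br_add_right, br_smul_right, br_self, smul_zero, add_zero, h9, two w' h10, zero_add, br_smul_right, br_self,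
    smul_zero]

end Tri

end Cfsg.Agent.E8A.Odd.Tha
end

-- part: E8A/Odd/ThaDec
section
/-!
# The box THA, part 2: the fixed space of a group `2³` of type `D₈` as a sum of eight algebras `sl₂` (helper90)

* `Dec ε Z s π` : `ε` lists the group, `s k` is the algebra of the involution `Z k`, `π k` the projection;
* `Mv Z s g α` : `g` permutes the indices by `α`;
* `Dec.pi_act`, `Dec.tri_eq`, `Dec.pi_br`; `os a b` : orbit sums.
-/

set_option autoImplicit false
set_option linter.unusedSectionVars false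

namespace Cfsg.Agent.E8A.Odd.Tha

open Cfsg Cfsg.Lie Module
open Cfsg.Agent.E8A.TwoH

universe u

variable {K : Type u} [Field K] {I : Type} [AddCommGroup I] [Fintype I] [DecidableEq I]

/-- the fixed vectors -/
def FE (ε : I → G8 K) (v : L8 K) : Prop := ∀ j, act (ε j) v = v

/-- the decomposition -/
structure Dec (ε Z : I → G8 K) (s : I → Submodule K (L8 K)) (π : I → L8 K →ₗ[K] L8 K) : Prop where
  two : (2 : K) ≠ 0
  add : ∀ j k, ε (j + k) = ε j * ε k
  inj : Function.Injective ε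
  rz : ∀ k, ∃ e f, Rz (Z k) e f ∧ s k = sl e f
  zk : ∀ j k, Z (j + k) = Z j * ε k
  cm : ∀ j k, ε j * Z k = Z k * ε j
  fix : ∀ k, ∀ v ∈ s k, FE ε v
  orth : ∀ j k, j ≠ k → ∀ u ∈ s j, ∀ v ∈ s k, br u v = 0
  mem : ∀ k v, π k v ∈ s k
  sum : ∀ v, FE ε v → ∑ k, π k v = v
  nor : ∀ g : G8 K, (∀ k, ∃ j, g * ε k = ε j * g) → ∀ k, ∃ j, g * Z k * g⁻¹ = Z j ∧ ∀ v ∈ s k, act g v ∈ s j

/-- `g` permutes the indices -/
def Mv (Z : I → G8 K) (s : I → Submodule K (L8 K)) (g : G8 K) (α : I → I) : Prop :=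
  ∀ k, g * Z k * g⁻¹ = Z (α k) ∧ ∀ v ∈ s k, act g v ∈ s (α k)

/-- the orbit sum -/
def os (a b : G8 K) (y : L8 K) : L8 K := y + act a y + act b y + act a (act b y)

theorem os_left {a b : G8 K} (ha : a * a = 1) (y : L8 K) : act a (os a b y) = os a b y := by
  have h : ∀ v, act a (act a v) = v := fun v => by rw [← act_mul, ha, act_one]
  rw [os, act_add, act_add, act_add, h, h]
  abel

theorem os_right {a b : G8 K} (hb : b * b = 1) (hab : a * b = b * a) (y : L8 K) : act b (os a b y) = os a b y := by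
  have h : ∀ v, act b (act b v) = v := fun v => by rw [← act_mul, hb, act_one]
  have h' : ∀ v, act b (act a v) = act a (act b v) := fun v => by rw [← act_mul, ← hab, act_mul]
  rw [os, act_add, act_add, act_add, h, h', h', h]
  abel

theorem FE.add {ε : I → G8 K} {u v : L8 K} (hu : FE ε u) (hv : FE ε v) : FE ε (u + v) := fun j => by
  rw [act_add, hu j, hv j]

variable {ε Z : I → G8 K} {s : I → Submodule K (L8 K)} {π : I → L8 K →ₗ[K] L8 K} {g g' : G8 K} {α β : I → I}

theorem Mv.mul (h : Mv Z s g α) (h' : Mv Z s g' β) : Mv Z s (g * g') fun k => α (β k) := fun k =>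
  ⟨by rw [← (h _).1, ← (h' _).1]; group, fun v hv => by rw [act_mul]; exact (h _).2 _ ((h' k).2 v hv)⟩

theorem Mv.shift (h : Mv Z s g α) (a : I) :
    Mv (fun k => Z (a + k)) (fun k => s (a + k)) g fun k => α (a + k) - a := fun k => by
  simp only [add_sub_cancel]
  exact h (a + k)

namespace Dec

variable (D : Dec ε Z s π)

include D

theorem shift (a : I) : Dec ε (fun k => Z (a + k)) (fun k => s (a + k)) fun k => π (a + k) where
  two := D.two
  add := D.add
  inj := D.inj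
  rz k := D.rz _
  zk j k := by rw [← add_assoc, D.zk]
  cm j k := D.cm _ _
  fix k := D.fix _
  orth j k h := D.orth _ _ fun e => h (add_left_cancel e)
  mem k := D.mem _
  sum v hv := (Equiv.sum_comp (Equiv.addLeft a) fun k => π k v).trans (D.sum v hv)
  nor g hg k := by
    obtain ⟨j, hj⟩ := D.nor g hg (a + k)
    exact ⟨j - a, by rwa [add_sub_cancel]⟩

theorem z_inj : Function.Injective Z := fun j k h => by
  rw [← zero_add j, ← zero_add k, D.zk, D.zk] at h
  exact D.inj (mul_left_cancel h)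

theorem tri (k : I) : ∃ e f, Tri e f ∧ s k = sl e f :=
  let ⟨e, f, h1, h2⟩ := D.rz k
  ⟨e, f, tri_of_rz D.two h1, h2⟩

theorem finrank (k : I) : finrank K (s k) = 3 := by
  obtain ⟨e, f, h1, h2⟩ := D.tri k
  rw [h2, h1.finrank]

theorem br_mem {k : I} {u v : L8 K} (hu : u ∈ s k) (hv : v ∈ s k) : br u v ∈ s k := by
  obtain ⟨e, f, h1, h2⟩ := D.tri k
  rw [h2] at hu hv ⊢
  exact h1.br_mem hu hv

theorem nil_zero {k : I} {y : L8 K} (hy : y ∈ s k) (h0 : ∀ w ∈ s k, br y (br y w) = 0) : y = 0 := by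
  obtain ⟨e, f, h1, h2⟩ := D.tri k
  rw [h2] at hy h0
  exact h1.nil_zero hy h0

theorem exists_mv {M : I → I} (hM : ∀ k, g * ε k = ε (M k) * g) : ∃ d, Mv Z s g fun k => d + M k := by
  obtain ⟨d, hd, -⟩ := D.nor g (fun k => ⟨_, hM k⟩) 0
  refine ⟨d, fun k => ?_⟩
  obtain ⟨j, h1, h2⟩ := D.nor g (fun k => ⟨_, hM k⟩) k
  obtain rfl : j = d + M k := D.z_inj (by
    rw [← h1, D.zk, ← hd, ← zero_add k, D.zk, zero_add, ← mul_assoc, mul_inv_eq_iff_eq_mul, mul_assoc _ _ g, ← hM,
      ← mul_assoc, inv_mul_cancel_right])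
  exact ⟨h1, h2⟩

theorem mv_eps (j : I) : Mv Z s (ε j) fun k => k := fun k =>
  ⟨by rw [D.cm, mul_inv_cancel_right], fun v hv => by rwa [D.fix k v hv j]⟩

theorem uniq (h : Mv Z s g α) (h' : Mv Z s g β) (k : I) : α k = β k := D.z_inj ((h k).1.symm.trans (h' k).1)

theorem mv_inj (h : Mv Z s g α) : Function.Injective α := fun j k e => D.z_inj (by
  have h1 := (h j).1
  rw [e, ← (h k).1] at h1
  exact mul_left_cancel (mul_right_cancel h1))

theorem br_sum {y : I → L8 K} (hy : ∀ j, y j ∈ s j) {k : I} {w : L8 K} (hw : w ∈ s k) :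
    br (∑ j, y j) w = br (y k) w := by
  have h1 : br (∑ j, y j) w = ∑ j, br (y j) w := map_sum ((brL K).flip w) y Finset.univ
  rw [h1, Finset.sum_eq_single k (fun j _ hj => D.orth j k hj _ (hy j) _ hw) fun h => absurd (Finset.mem_univ k) h]

theorem cmp_zero {y : I → L8 K} (hy : ∀ j, y j ∈ s j) (h0 : ∑ j, y j = 0) (k : I) : y k = 0 :=
  D.nil_zero (hy k) fun w hw => by rw [← D.br_sum hy hw, h0, br_zero_left, br_zero_right]

theorem fe_sum {y : I → L8 K} {α : I → I} (hy : ∀ j, y j ∈ s (α j)) : FE ε (∑ j, y j) := fun i => by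
  rw [act_sum]
  exact Finset.sum_congr rfl fun j _ => D.fix _ _ (hy j) i

theorem pi_eq {y : I → L8 K} (hy : ∀ j, y j ∈ s j) (k : I) : π k (∑ j, y j) = y k :=
  sub_eq_zero.1 (D.cmp_zero (y := fun k => π k (∑ j, y j) - y k) (fun k => sub_mem (D.mem k _) (hy k))
    (by rw [Finset.sum_sub_distrib, D.sum _ (D.fe_sum (α := fun k => k) hy), sub_self]) k)

theorem pi_mem {j : I} {v : L8 K} (hv : v ∈ s j) (k : I) : π k v = if k = j then v else 0 := by
  have h := D.pi_eq (y := fun k => if k = j then v else 0) (fun k => by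
    split_ifs with h
    · rwa [h]
    · exact zero_mem _) k
  rwa [Finset.sum_ite_eq' Finset.univ j, if_pos (Finset.mem_univ j)] at h

theorem pi_self {j : I} {v : L8 K} (hv : v ∈ s j) : π j v = v := by rw [D.pi_mem hv, if_pos rfl]

theorem pi_ne {j k : I} {v : L8 K} (hv : v ∈ s j) (h : k ≠ j) : π k v = 0 := by rw [D.pi_mem hv, if_neg h]

theorem idx_eq {j k : I} {v : L8 K} (hj : v ∈ s j) (hk : v ∈ s k) (h0 : v ≠ 0) : j = k := by
  by_contra h
  exact h0 ((D.pi_self hj).symm.trans (D.pi_ne hk h))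

theorem fe_act (h : Mv Z s g α) {v : L8 K} (hv : FE ε v) : FE ε (act g v) := by
  rw [← D.sum v hv, act_sum]
  exact D.fe_sum fun j => (h j).2 _ (D.mem j v)

theorem pi_act (h : Mv Z s g α) {v : L8 K} (hv : FE ε v) (k : I) : π (α k) (act g v) = act g (π k v) := by
  conv_lhs => rw [← D.sum v hv, act_sum, map_sum]
  rw [Finset.sum_eq_single k (fun j _ hj => D.pi_ne ((h j).2 _ (D.mem j v)) fun e => hj (D.mv_inj h e).symm)
    fun h => absurd (Finset.mem_univ k) h, D.pi_self ((h k).2 _ (D.mem k v))]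

theorem eq_zero {v : L8 K} (hv : FE ε v) (h : ∀ k, π k v = 0) : v = 0 := by
  rw [← D.sum v hv]
  exact Finset.sum_eq_zero fun k _ => h k

theorem pi_move (h : Mv Z s g α) {v : L8 K} (hv : FE ε v) (hg : act g v = v) {k : I} (h0 : π k v = 0) :
    π (α k) v = 0 := by rw [← hg, D.pi_act h hv, h0, act_zero]

theorem br_pi {u : L8 K} (hu : FE ε u) {k : I} {w : L8 K} (hw : w ∈ s k) : br u w = br (π k u) w := by
  conv_lhs => rw [← D.sum u hu]
  exact D.br_sum (fun j => D.mem j u) hw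

theorem pi_br {u v : L8 K} (hu : FE ε u) (hv : FE ε v) (h : br u v = 0) (k : I) : br (π k u) (π k v) = 0 := by
  refine D.cmp_zero (y := fun k => br (π k u) (π k v)) (fun k => D.br_mem (D.mem k u) (D.mem k v)) ?_ k
  have h1 : br u (∑ j, π j v) = ∑ j, br u (π j v) := map_sum (brL K u) _ Finset.univ
  rw [← h, ← D.sum v hv, h1, D.sum v hv]
  exact Finset.sum_congr rfl fun j _ => (D.br_pi hu (D.mem j v)).symm

theorem ext_mem {y : L8 K} (hy : FE ε y) (h0 : y ≠ 0) (hx : ∀ w, ∃ c : K, br y (br y w) = c • y) : ∃ k, y ∈ s k := by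
  by_contra h
  refine h0 (D.eq_zero hy fun k => D.nil_zero (D.mem k y) fun w hw => ?_)
  have h1 := D.br_mem (D.mem k y) hw
  obtain ⟨c, hc⟩ := hx w
  rw [D.br_pi hy hw, D.br_pi hy h1] at hc
  by_cases h2 : c = 0
  · rw [hc, h2, zero_smul]
  · exact absurd ⟨k, (Submodule.smul_mem_iff _ h2).1 (hc ▸ D.br_mem (D.mem k y) h1)⟩ h

theorem tri_eq {e f : L8 K} (h : Tri e f) (he : FE ε e) (hf : FE ε f) : ∃ k, sl e f = s k := by
  obtain ⟨j, hj⟩ := D.ext_mem he h.ne h.xe
  obtain ⟨k, hk⟩ := D.ext_mem hf h.f_ne h.xf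
  obtain rfl : j = k := by
    by_contra h1
    exact h.h_ne (D.orth j k h1 _ hj _ hk)
  exact ⟨j, Submodule.eq_of_le_of_finrank_eq (sl_le hj hk (D.br_mem hj hk)) (by rw [h.finrank, D.finrank])⟩

theorem fix_of_two {k : I} {W : Submodule K (L8 K)} (hW : W ≤ s k) (h2 : 2 ≤ Module.finrank K W) (hg : g * g = 1)
    (hs : ∀ v ∈ s k, act g v ∈ s k) (hf : ∀ v ∈ W, act g v = v) {x : L8 K} (hx : x ∈ s k) : act g x = x := by
  obtain ⟨e, f, h1, h3⟩ := D.tri k
  rw [h3] at hW hs hx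
  exact h1.fix_of_two hW h2 hg hs hf hx

variable {a b : G8 K} (ha : Mv Z s a α) (hb : Mv Z s b β)

include ha hb

theorem fe_os {r : I} {y : L8 K} (hy : y ∈ s r) : FE ε (os a b y) :=
  have h := D.fix r y hy
  ((h.add (D.fe_act ha h)).add (D.fe_act hb h)).add (D.fe_act ha (D.fe_act hb h))

theorem pi_os {r : I} {y : L8 K} (hy : y ∈ s r) {k : I} (h1 : k ≠ α r) (h2 : k ≠ β r) (h3 : k ≠ α (β r)) :
    π k (os a b y) = π k y := by
  rw [os, map_add, map_add, map_add, D.pi_ne ((ha r).2 y hy) h1, D.pi_ne ((hb r).2 y hy) h2,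
    D.pi_ne ((ha _).2 _ ((hb r).2 y hy)) h3, add_zero, add_zero, add_zero]

/-- a regular orbit gives non-commuting fixed vectors -/
theorem reg (h1 : a * a = 1) (h2 : b * b = 1) (h3 : a * b = b * a) {r : I} (h4 : r ≠ α r) (h5 : r ≠ β r)
    (h6 : r ≠ α (β r)) : ∃ u v, FE ε u ∧ act a u = u ∧ act b u = u ∧ FE ε v ∧ act a v = v ∧ act b v = v ∧ br u v ≠ 0 := by
  obtain ⟨e, f, h7, h8⟩ := D.tri r
  have he : e ∈ s r := h8 ▸ e_mem e f
  have hf : f ∈ s r := h8 ▸ f_mem e f
  refine ⟨os a b e, os a b f, D.fe_os ha hb he, os_left h1 e, os_right h2 h3 e, D.fe_os ha hb hf, os_left h1 f,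
    os_right h2 h3 f, fun h0 => h7.h_ne ?_⟩
  have h9 := D.pi_br (D.fe_os ha hb he) (D.fe_os ha hb hf) h0 r
  rwa [D.pi_os ha hb he h4 h5 h6, D.pi_os ha hb hf h4 h5 h6, D.pi_self he, D.pi_self hf] at h9

end Dec

end Cfsg.Agent.E8A.Odd.Tha
end

-- part: E8A/Odd/Pt3a
section
/-!
# Box PT3: the vector `ell g` with `ad v = g - g⁻¹` on a large subspace (helper8)

* `Ell.uniq`, `Ell.conj`, `Ell.inv`, `Ell.em`; `ell`, `ell_eq`, `ell_conj`, `ell_inv`, `ell_frq`;
* `span_sub`, `span_dim` : the span of a family `l i j k` with the relations of `so₃` is a small subalgebra.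
-/

set_option autoImplicit false
set_option maxRecDepth 100000

namespace Cfsg.Agent.E8A.Odd.Pt3

open Cfsg Cfsg.Lie Module Matrix
open Cfsg.Agent.KFacts.RgdChevCoord Cfsg.Agent.ChevalleyStructure.CoxeterGeomTypes
open Cfsg.Agent.Nodes.Reps Cfsg.Agent.Nodes.BNOf Cfsg.Agent.Nodes.RGDChev
open Cfsg.Agent.H952.F4 (ev)
open Cfsg.Agent.H288.E8L (Q8 wt wt_inr wt_inj vec_ne_zero)
open Cfsg.Agent.H897.T5Lat (bf_apply)
open Cfsg.Agent.E8A.Frm (B0 fm8 finW8)
open Cfsg.Agent.E8A.Par (op vec_op norm_wt)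
open Cfsg.Agent.E8A.Inf (finrank_L8)
open Cfsg.Agent.E8A.TwoH (br_anti br_self br_jac br_der brL br_ee_op br_of_norm B0_vec B0_add finrank_LS hq inT_hq rl_hq
  br_zero_right br_zero_left)

universe u v

variable {K : Type u} [Field K]

/-- the subspace of `Ell` -/
noncomputable def KE (g : G8 K) (v : L8 K) : Submodule K (L8 K) :=
  Module.End.eigenspace (Matrix.toLin' (adm v - mx g + mx g⁻¹)) 0

theorem mem_KE {g : G8 K} {v w : L8 K} : w ∈ KE g v ↔ br v w - act g w + act g⁻¹ w = 0 := by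
  unfold KE
  rw [Module.End.mem_eigenspace_iff, zero_smul, Matrix.toLin'_apply, Matrix.add_mulVec, Matrix.sub_mulVec]
  rfl

theorem ell_iff {g : G8 K} {v : L8 K} : Ell g v ↔ 240 ≤ finrank K ↥(KE g v) := Iff.rfl

theorem Ell_conj {g : G8 K} {v : L8 K} (h : Ell g v) (c : G8 K) : Ell (c * g * c⁻¹) (act c v) := by
  rw [ell_iff] at h ⊢
  have h1 : (KE g v).map (LK K c) ≤ KE (c * g * c⁻¹) (act c v) := by
    rintro _ ⟨w, hw, rfl⟩
    have h2 := congrArg (act c) (mem_KE.1 hw)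
    rw [act_add, act_sub, act_br, act_zero] at h2
    rw [mem_KE, LK_apply, ← act_mul, ← act_mul, inv_mul_cancel_right, show (c * g * c⁻¹)⁻¹ * c = c * g⁻¹ by group, act_mul,
      act_mul, h2]
  have h2 := Submodule.finrank_mono h1
  rw [← LinearEquiv.finrank_eq (Submodule.equivMapOfInjective (LK K c) (act_injective c) (KE g v))] at h2
  omega

theorem Ell_inv {g : G8 K} {v : L8 K} (h : Ell g v) : Ell g⁻¹ (-v) := by
  rw [ell_iff] at h ⊢
  refine h.trans (Submodule.finrank_mono fun w hw => ?_)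
  have h1 := mem_KE.1 hw
  rw [mem_KE, inv_inv, ← neg_one_smul K v, br_smul_left, neg_one_smul, ← neg_eq_zero, ← h1]
  abel

theorem Ell_em {L : Type v} [Field L] (f : K →+* L) {g : G8 K} {v : L8 K} (h : Ell g v) : Ell (em f g) (mp f v) := by
  have h1 := H815.F4Chg.ev_map f (adm v - mx g + mx g⁻¹) 0
  unfold Ell
  rw [adm_mp, ← map_inv, mx_em, mx_em, ← Matrix.map_sub _ (map_sub f), ← Matrix.map_add _ (map_add f), ← map_zero f, h1]
  exact h

/-- the highest root -/
def th : Fin chevE8.nroots := ⟨239, by decide⟩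

theorem B0_th (a : Q8) : B0 (vec chevE8 8 th) a = a 7 := by
  have h : ∀ j : Fin 8, ∑ i : Fin 8, vec chevE8 8 th i * cartanOf chevE8 8 i j = if j = 7 then 1 else 0 := by decide +kernel
  rw [bf_apply, Finset.sum_comm]
  have h1 : ∀ j ∈ (Finset.univ : Finset (Fin 8)), ∑ i : Fin 8, vec chevE8 8 th i * cartanOf chevE8 8 i j * a j =
      if j = 7 then a j else 0 := fun j _ => by
    rw [← Finset.sum_mul, h]
    split_ifs
    · rw [one_mul]
    · rw [zero_mul]
  rw [Finset.sum_congr rfl h1, Finset.sum_ite_eq', if_pos (Finset.mem_univ _)]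

theorem eq_zero_of_br {u w : L8 K} (hu : u (Sum.inr (op th)) ≠ 0) (hw : w ∈ LS K {a | a 7 = 1}) (h : br u w = 0) : w = 0 := by
  have := finW8
  obtain ⟨c, hc⟩ : ∃ c, c = u (Sum.inr (op th)) := ⟨_, rfl⟩
  have h1 : u - c • ee K (Sum.inr (op th)) ∈ LS K {a | -1 ≤ a 7} := by
    intro i hi
    by_contra hcon
    have h2 : wt i 7 ≤ -2 := by
      have h3 : ¬ -1 ≤ wt i 7 := hcon
      omega
    have h3 := B0_add (vec chevE8 8 th) (wt i)
    rw [B0_vec, B0_th] at h3
    have h4 := norm_wt i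
    have h5 : vec chevE8 8 th + wt i = 0 := fm8.eq_zero (by omega)
    have h6 : wt i = vec chevE8 8 (op th) := by rw [vec_op, eq_neg_iff_add_eq_zero, add_comm, h5]
    have h7 : i = Sum.inr (op th) := wt_inj (h6.trans (wt_inr _).symm) (by rw [h6]; exact vec_ne_zero _)
    apply hi
    rw [h7, Pi.sub_apply, Pi.smul_apply, ee_self, smul_eq_mul, mul_one, hc, sub_self]
  have h2 : br (u - c • ee K (Sum.inr (op th))) w ∈ LS K {a | 0 ≤ a 7} := br_LS (fun a ha b hb => by
    have ha' : -1 ≤ a 7 := ha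
    have hb' : b 7 = 1 := hb
    show 0 ≤ a 7 + b 7
    omega) h1 hw
  have h3 : br (ee K (Sum.inr (op th))) w ∈ LS K {a | a 7 = -1} := br_LS (A := {vec chevE8 8 (op th)}) (fun a ha b hb => by
    have hb' : b 7 = 1 := hb
    have h4 := B0_vec th
    rw [B0_th] at h4
    show a 7 + b 7 = -1
    rw [Set.mem_singleton_iff.1 ha, vec_op, Pi.neg_apply]
    omega) (ee_mem_LS rfl) hw
  rw [br_sub_left, h, zero_sub, br_smul_left] at h2
  have h4 : br (ee K (Sum.inr (op th))) w = 0 := by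
    have h5 := eq_zero_of_LS h2 (neg_mem (Submodule.smul_mem _ c h3)) fun a ha hb => by
      have ha' : 0 ≤ a 7 := ha
      have hb' : a 7 = -1 := hb
      omega
    exact (smul_eq_zero.1 (neg_eq_zero.1 h5)).resolve_left (hc ▸ hu)
  have h5 : br (ee K (Sum.inr th)) w = 0 := br_of_norm (A := {vec chevE8 8 th}) (fun a ha b hb => by
    have hb' : b 7 = 1 := hb
    have h6 := fm8.nonneg b
    rw [Set.mem_singleton_iff.1 ha, B0_add, B0_vec, B0_th]
    omega) (ee_mem_LS rfl) hw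
  have h6 := br_jac (ee K (Sum.inr th)) (ee K (Sum.inr (op th))) w
  rw [h4, h5, br_zero_right, br_zero_right, sub_zero, br_ee_op] at h6
  funext i
  by_contra hi
  have h7 := congrFun h6 i
  have h8 : wt i 7 = 1 := hw i hi
  rw [br_T (inT_hq _), rl_hq, B0_th, h8, Int.cast_one, one_mul] at h7
  exact hi h7

theorem exists_coef {u : L8 K} (hu : u ≠ 0) (j : chevE8.Idx) : ∃ c : G8 K, act c u j ≠ 0 := by
  by_contra hcon
  have h0 : ∀ c : G8 K, act c u j = 0 := fun c => by
    by_contra h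
    exact hcon ⟨c, h⟩
  let W : Submodule K (L8 K) :=
    { carrier := {w | ∀ c : G8 K, act c w j = 0}
      add_mem' := fun {a b} ha hb c => by rw [act_add, Pi.add_apply, ha c, hb c, add_zero]
      zero_mem' := fun c => by rw [act_zero]; rfl
      smul_mem' := fun t a ha c => by rw [act_smul, Pi.smul_apply, ha c, smul_zero] }
  rcases Inf.irr (W := W) (fun g w hw c => by rw [← act_mul]; exact hw _) with h | h
  · have h1 : u ∈ W := h0
    rw [h] at h1
    exact hu h1
  · have h1 : ee K j ∈ W := h ▸ Submodule.mem_top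
    have h2 := h1 1
    rw [act_one, ee_self] at h2
    exact one_ne_zero h2

/-- **(U)** -/
theorem Ell_uniq {g : G8 K} {v v' : L8 K} (h : Ell g v) (h' : Ell g v') : v = v' := by
  by_contra hne
  obtain ⟨c, hc⟩ := exists_coef (sub_ne_zero.2 hne) (Sum.inr (op th))
  have k := ell_iff.1 (Ell_conj h c)
  have k' := ell_iff.1 (Ell_conj h' c)
  have h1 : finrank K ↥(LS K {a | a 7 = 1}) = 56 := by
    rw [finrank_LS]
    decide +kernel
  have h2 : (KE (c * g * c⁻¹) (act c v) ⊓ KE (c * g * c⁻¹) (act c v')) ⊓ LS K {a | a 7 = 1} = ⊥ := by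
    rw [eq_bot_iff]
    rintro w ⟨⟨h3, h4⟩, h5⟩
    refine eq_zero_of_br hc h5 ?_
    have h6 := (mem_KE.1 h3).trans (mem_KE.1 h4).symm
    rw [act_sub, br_sub_left, sub_eq_zero]
    exact sub_left_injective (add_right_cancel h6)
  have h3 := Submodule.finrank_sup_add_finrank_inf_eq (KE (c * g * c⁻¹) (act c v)) (KE (c * g * c⁻¹) (act c v'))
  have h4 := Submodule.finrank_sup_add_finrank_inf_eq (KE (c * g * c⁻¹) (act c v) ⊓ KE (c * g * c⁻¹) (act c v'))
    (LS K {a | a 7 = 1})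
  have h5 := Submodule.finrank_le (KE (c * g * c⁻¹) (act c v) ⊔ KE (c * g * c⁻¹) (act c v'))
  have h6 := Submodule.finrank_le ((KE (c * g * c⁻¹) (act c v) ⊓ KE (c * g * c⁻¹) (act c v')) ⊔ LS K {a | a 7 = 1})
  rw [h2, finrank_bot, h1] at h4
  rw [finrank_L8] at h5 h6
  omega

open Classical in
/-- the vector of `g` -/
noncomputable def ell (g : G8 K) : L8 K := if h : ∃ v, Ell g v then h.choose else 0

theorem ell_eq {g : G8 K} {v : L8 K} (h : Ell g v) : ell g = v := by
  have h1 : ∃ v, Ell g v := ⟨v, h⟩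
  rw [ell, dif_pos h1]
  exact Ell_uniq h1.choose_spec h

theorem ell_conj (c g : G8 K) : ell (c * g * c⁻¹) = act c (ell g) := by
  by_cases h : ∃ v, Ell g v
  · obtain ⟨v, hv⟩ := h
    rw [ell_eq hv, ell_eq (Ell_conj hv c)]
  · have h1 : ¬ ∃ v, Ell (c * g * c⁻¹) v := fun ⟨v, hv⟩ => h ⟨_, by
      have h2 := Ell_conj hv c⁻¹
      rwa [show c⁻¹ * (c * g * c⁻¹) * c⁻¹⁻¹ = g by group] at h2⟩
    rw [ell, ell, dif_neg h, dif_neg h1, act_zero]

theorem ell_inv (g : G8 K) : ell g⁻¹ = -ell g := by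
  by_cases h : ∃ v, Ell g v
  · obtain ⟨v, hv⟩ := h
    rw [ell_eq hv, ell_eq (Ell_inv hv)]
  · have h1 : ¬ ∃ v, Ell g⁻¹ v := fun ⟨v, hv⟩ => h ⟨_, by
      have h2 := Ell_inv hv
      rwa [inv_inv] at h2⟩
    rw [ell, ell, dif_neg h, dif_neg h1, neg_zero]

theorem ell_frq {F : Type u} [Field F] [Finite F] (g : G8 F) : mp (fq F) (ell (emb0 g)) = ell (emb0 g) := by
  by_cases h : ∃ v, Ell (emb0 g) v
  · obtain ⟨v, hv⟩ := h
    have h1 := Ell_em (fq F) hv
    rw [show em (fq F) (emb0 g) = emb0 g from sg_emb0 g] at h1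
    rw [ell_eq hv]
    exact Ell_uniq h1 hv
  · rw [ell, dif_neg h, mp_zero]

/-! ### the span of the vectors -/

section span

variable {n : ℕ} (l : Fin n → Fin n → Fin n → L8 K)

/-- the relations -/
structure Rel : Prop where
  cyc : ∀ i j k, i ≠ j → i ≠ k → j ≠ k → l j k i = l i j k
  neg : ∀ i j k, i ≠ j → i ≠ k → j ≠ k → l i k j = -l i j k
  so : ∀ i j k m, i ≠ j → i ≠ k → i ≠ m → j ≠ k → j ≠ m → k ≠ m → l j k m = l i j k - l i j m + l i k m ∧
    br (l i j k) (l i j m) = (2 : K) • l i k m + l i j k - l i j m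

/-- the span -/
def WW : Submodule K (L8 K) := Submodule.span K {v | ∃ i j k, i ≠ j ∧ i ≠ k ∧ j ≠ k ∧ v = l i j k}

variable {l}

theorem mem_WW {i j k : Fin n} (h1 : i ≠ j) (h2 : i ≠ k) (h3 : j ≠ k) : l i j k ∈ WW l :=
  Submodule.subset_span ⟨i, j, k, h1, h2, h3, rfl⟩

theorem WW_le (hl : Rel l) (o : Fin n) {U : Submodule K (L8 K)} (h : ∀ j k, o ≠ j → o ≠ k → j < k → l o j k ∈ U) :
    WW l ≤ U := by
  have h' : ∀ j k, o ≠ j → o ≠ k → j ≠ k → l o j k ∈ U := fun j k h1 h2 h3 => by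
    rcases lt_or_gt_of_ne h3 with h4 | h4
    · exact h j k h1 h2 h4
    · rw [hl.neg o k j h2 h1 h3.symm]
      exact neg_mem (h k j h2 h1 h4)
  refine Submodule.span_le.2 ?_
  rintro _ ⟨i, j, k, h1, h2, h3, rfl⟩
  by_cases e1 : o = i
  · subst e1
    exact h' j k h1 h2 h3
  by_cases e2 : o = j
  · subst e2
    rw [← hl.cyc i o k h1 h2 h3]
    exact h' k i h3 h1.symm h2.symm
  by_cases e3 : o = k
  · subst e3
    rw [hl.cyc o i j e1 e2 h1]
    exact h' i j e1 e2 h1
  rw [(hl.so o i j k e1 e2 e3 h1 h2 h3).1]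
  exact add_mem (sub_mem (h' _ _ e1 e2 h1) (h' _ _ e1 e3 h2)) (h' _ _ e2 e3 h3)

theorem span_dim (hl : Rel l) (o : Fin n) (hn : n ≤ 18) : WW l ≠ ⊤ := by
  classical
  intro ht
  let s : Finset (Fin n × Fin n) := {x ∈ Finset.univ ×ˢ Finset.univ | x.1 < x.2}
  have h1 : WW l ≤ Submodule.span K ((s.image fun x => l o x.1 x.2 : Finset (L8 K)) : Set (L8 K)) :=
    WW_le hl o fun j k _ _ h => Submodule.subset_span (Finset.mem_coe.2 (Finset.mem_image.2
      ⟨(j, k), Finset.mem_filter.2 ⟨Finset.mem_product.2 ⟨Finset.mem_univ _, Finset.mem_univ _⟩, h⟩, rfl⟩))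
  have h2 := Submodule.finrank_mono h1
  have h3 := finrank_span_finset_le_card (R := K) (s.image fun x => l o x.1 x.2)
  have h4 : (s.image fun x => l o x.1 x.2).card ≤ s.card := Finset.card_image_le
  have h5 : s.card = n.choose 2 := by rw [Finset.card_product_filter_lt, Finset.card_univ, Fintype.card_fin]
  have h6 : n.choose 2 ≤ 153 := (Nat.choose_le_choose 2 hn).trans (by decide)
  rw [ht, finrank_top, finrank_L8] at h2
  unfold Set.finrank at h3
  omega

theorem br_neg_left (x y : L8 K) : br (-x) y = -br x y := by rw [← neg_one_smul K x, br_smul_left, neg_one_smul]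

theorem br_neg_right (x y : L8 K) : br x (-y) = -br x y := by rw [← neg_one_smul K y, br_smul_right, neg_one_smul]

theorem span_sub (h2 : (2 : K) ≠ 0) (hl : Rel l) (o : Fin n) {x y : L8 K} (hx : x ∈ WW l) (hy : y ∈ WW l) :
    br x y ∈ WW l := by
  have m1 : ∀ j k m, o ≠ j → o ≠ k → o ≠ m → j ≠ k → j ≠ m → br (l o j k) (l o j m) ∈ WW l := by
    intro j k m h1 h3 h4 h5 h6
    by_cases e : k = m
    · rw [e, br_self]
      exact zero_mem _
    rw [(hl.so o j k m h1 h3 h4 h5 h6 e).2]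
    exact sub_mem (add_mem (Submodule.smul_mem _ _ (mem_WW h3 h4 e)) (mem_WW h1 h3 h5)) (mem_WW h1 h4 h6)
  have m2 : ∀ j k m, o ≠ j → o ≠ k → o ≠ m → j ≠ k → m ≠ k → br (l o j k) (l o m k) ∈ WW l := by
    intro j k m h1 h3 h4 h5 h6
    rw [hl.neg o k j h3 h1 h5.symm, hl.neg o k m h3 h4 h6.symm, br_neg_left, br_neg_right, neg_neg]
    exact m1 k j m h3 h1 h4 h5.symm h6.symm
  have m3 : ∀ j k m r, o ≠ j → o ≠ k → o ≠ m → o ≠ r → j ≠ k → j ≠ m → j ≠ r → k ≠ m → k ≠ r → m ≠ r →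
      (2 : K) • br (l o j k) (l o m r) - (2 : K) • br (l o k m) (l o j r) - (2 : K) • br (l o j m) (l o k r) ∈ WW l := by
    intro j k m r h1 h3 h4 h5 h6 h7 h8 h9 h10 h11
    have e1 := (hl.so o j m r h1 h4 h5 h7 h8 h11).2
    have e2 := (hl.so o j k m h1 h3 h4 h6 h7 h9).2
    have e3 := (hl.so o j k r h1 h3 h5 h6 h8 h10).2
    have e4 := br_der (l o j k) (l o j m) (l o j r)
    rw [e1, e2, e3] at e4
    simp only [br_add_left, br_sub_left, br_smul_left, br_add_right, br_sub_right, br_smul_right] at e4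
    have e5 : (2 : K) • br (l o j k) (l o m r) - (2 : K) • br (l o k m) (l o j r) - (2 : K) • br (l o j m) (l o k r) =
        br (l o j k) (l o j r) - br (l o j k) (l o j m) + (br (l o j k) (l o j r) - br (l o j m) (l o j r)) +
          (br (l o j m) (l o j k) - br (l o j m) (l o j r)) := by
      rw [← sub_eq_zero] at e4 ⊢
      rw [← e4]
      abel
    rw [e5]
    exact add_mem (add_mem (sub_mem (m1 _ _ _ h1 h3 h5 h6 h8) (m1 _ _ _ h1 h3 h4 h6 h7))
      (sub_mem (m1 _ _ _ h1 h3 h5 h6 h8) (m1 _ _ _ h1 h4 h5 h7 h8)))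
      (sub_mem (m1 _ _ _ h1 h4 h3 h7 h6) (m1 _ _ _ h1 h4 h5 h7 h8))
  have m4 : ∀ j k m r, o ≠ j → o ≠ k → o ≠ m → o ≠ r → j ≠ k → m ≠ r → br (l o j k) (l o m r) ∈ WW l := by
    intro j k m r h1 h3 h4 h5 h6 h11
    by_cases e1 : j = m
    · subst e1
      exact m1 _ _ _ h1 h3 h5 h6 h11
    by_cases e2 : k = r
    · subst e2
      exact m2 _ _ _ h1 h3 h4 h6 h11
    by_cases e3 : j = r
    · subst e3
      rw [hl.neg o j m h1 h4 e1, br_neg_right]
      exact neg_mem (m1 _ _ _ h1 h3 h4 h6 e1)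
    by_cases e4 : k = m
    · subst e4
      rw [hl.neg o k j h3 h1 h6.symm, br_neg_left]
      exact neg_mem (m1 _ _ _ h3 h1 h5 h6.symm e2)
    have k1 := sub_mem (m3 j k m r h1 h3 h4 h5 h6 e1 e3 e4 e2 h11) (m3 k j m r h3 h1 h4 h5 h6.symm e4 e2 e1 e3 h11)
    rw [hl.neg o j k h1 h3 h6, br_neg_left] at k1
    have k2 := Submodule.smul_mem _ ((2 : K)⁻¹ * (2 : K)⁻¹) k1
    have e5 : ∀ X Y Z : L8 K, ((2 : K)⁻¹ * (2 : K)⁻¹) • ((2 : K) • X - (2 : K) • Y - (2 : K) • Z -
        ((2 : K) • -X - (2 : K) • Z - (2 : K) • Y)) = X := fun X Y Z => by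
      have e6 : (2 : K) • X - (2 : K) • Y - (2 : K) • Z - ((2 : K) • -X - (2 : K) • Z - (2 : K) • Y) =
          (2 : K) • ((2 : K) • X) := by
        rw [smul_neg, two_smul K ((2 : K) • X)]
        abel
      rw [e6, mul_smul, inv_smul_smul₀ h2, inv_smul_smul₀ h2]
    rwa [e5] at k2
  have m5 : ∀ j k, o ≠ j → o ≠ k → j ≠ k → WW l ≤ (WW l).comap (brL K (l o j k)) := fun j k h1 h3 h4 =>
    WW_le hl o fun m r h5 h6 h7 => m4 j k m r h1 h3 h5 h6 h4 h7.ne
  exact WW_le hl o (U := (WW l).comap ((brL K).flip y)) (fun j k h1 h3 h4 => m5 j k h1 h3 h4.ne hy) hx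

end span

end Cfsg.Agent.E8A.Odd.Pt3
end

private theorem dce_308e18070b3a : _root_.True := by
  try have : _root_.True := by simp only [_root_.Cfsg.Agent.E8A.Odd.Tha.os.eq_1]
  try have : _root_.True := by simp only [_root_.Cfsg.Agent.E8A.Odd.Tha.sl.eq_1]
  try have : _root_.True := by simp only [_root_.Cfsg.Agent.E8A.Odd.Pt3.ell.eq_1]
  exact _root_.True.intro
end

-- part: E8A/Odd/ThaAbs
section
prune_inst 0xf4205500044000000018050232000444ee000002006b8800e80003040f406143a0052f41bc30101200b88cc45009006811000010424800000e008400011d00a0848352063374ad0c760097810880000000000000000000000000000000010004000000000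
set_option linter.all false
open scoped Cfsg.Agent.FastGrp

/-!
# The box THA, part 4: the action of `2³ : L₃(2)` on the eight algebras (helper90)

* `Cfg ε a b w c g` : the relations between the elements; `FQ ε a b v` : the vectors fixed by the group of order 32;
* `Cfg.reg` : there are non-commuting fixed vectors; `Cfg.main` : the case of a fixed space of dimension 9.
-/

set_option autoImplicit false
set_option linter.unusedSectionVars false

namespace Cfsg.Agent.E8A.Odd.Tha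

open Cfsg Cfsg.Lie Module
open Cfsg.Agent.E8A.TwoH

universe u

variable {K : Type u} [Field K]

section Dim

variable {I : Type} [AddCommGroup I] [Fintype I] [DecidableEq I] {ε Z : I → G8 K} {s : I → Submodule K (L8 K)}
  {π : I → L8 K →ₗ[K] L8 K}

theorem bound (π : I → L8 K →ₗ[K] L8 K) (U : Submodule K (L8 K)) (R : Finset I) (m : I → ℕ)
    (h1 : ∀ v ∈ U, (∀ k ∈ R, π k v = 0) → v = 0) (h2 : ∀ k ∈ R, finrank K (U.map (π k)) ≤ m k) :
    finrank K U ≤ ∑ k ∈ R, m k := by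
  have h3 : Function.Injective (LinearMap.pi fun k : R => (π k).submoduleMap U) := by
    rw [injective_iff_map_eq_zero]
    exact fun v hv => Subtype.ext (h1 v v.2 fun k hk => congrArg Subtype.val (congrFun hv ⟨k, hk⟩))
  refine (LinearMap.finrank_le_finrank_of_injective h3).trans ?_
  rw [finrank_pi_fintype, Finset.sum_coe_sort R fun k => finrank K (U.map (π k))]
  exact Finset.sum_le_sum h2

theorem Dec.lower (D : Dec ε Z s π) (U : Submodule K (L8 K)) (R : Finset I)
    (h : ∀ k ∈ R, ∀ y ∈ s k, ∃ v ∈ U, ∀ j ∈ R, π j v = π j y) : 3 * R.card ≤ Module.finrank K U := by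
  have h3 : Function.Surjective (LinearMap.pi fun k : R =>
      LinearMap.codRestrict (s k) (π k ∘ₗ U.subtype) fun v => D.mem k v) := by
    intro y
    choose v hv1 hv2 using fun k : R => h k k.2 (y k) (y k).2
    refine ⟨∑ k, ⟨v k, hv1 k⟩, funext fun j => Subtype.ext ?_⟩
    show π j ((∑ k, (⟨v k, hv1 k⟩ : U) : U) : L8 K) = y j
    rw [Submodule.coe_sum, map_sum, Finset.sum_eq_single j (fun k _ hk => ?_) fun h => absurd (Finset.mem_univ j) h,
      hv2 j j j.2, D.pi_self (y j).2]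
    rw [hv2 k j j.2, D.pi_ne (y k).2 fun e => hk (Subtype.ext e.symm)]
  refine le_of_eq_of_le ?_ (LinearMap.finrank_le_finrank_of_surjective h3)
  rw [finrank_pi_fintype, Finset.sum_congr rfl fun (k : R) _ => D.finrank k, Finset.sum_const, Finset.card_univ,
    Fintype.card_coe, smul_eq_mul, mul_comm]

theorem Dec.map_le (D : Dec ε Z s π) (U : Submodule K (L8 K)) (k : I) : U.map (π k) ≤ s k := by
  rintro _ ⟨v, -, rfl⟩
  exact D.mem k v

theorem Dec.map_three (D : Dec ε Z s π) (U : Submodule K (L8 K)) (k : I) : Module.finrank K (U.map (π k)) ≤ 3 :=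
  (Submodule.finrank_mono (D.map_le U k)).trans (D.finrank k).le

theorem Dec.base (D : Dec ε Z s π) {g : G8 K} {M : I → I} (hM : ∀ k, g * ε k = ε (M k) * g) (h0 : M 0 = 0) {α : I → I}
    (h : Mv Z s g α) (h1 : α 0 = 0) : Mv Z s g M := by
  obtain ⟨d, hd⟩ := D.exists_mv hM
  have h2 := D.uniq hd h 0
  rw [h0, add_zero, h1] at h2
  simpa only [h2, zero_add] using hd

end Dim

/-- the index group -/
abbrev I8 : Type := ZMod 2 × ZMod 2 × ZMod 2

/-- the action on the index group -/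
def ma (k : I8) : I8 := (k.1 + k.2.2, k.2.1, k.2.2)

/-- the action on the index group -/
def mb (k : I8) : I8 := (k.1, k.2.1 + k.2.2, k.2.2)

/-- the action on the index group -/
def mw (k : I8) : I8 := (k.1 + k.2.1, k.1, k.2.2)

/-- the action on the index group -/
def mc (k : I8) : I8 := (k.1 + k.2.1, k.2.1, k.2.2)

/-- the action on the index group -/
def mg (k : I8) : I8 := (k.1, k.2.2, k.2.1 + k.2.2)

set_option synthInstance.maxSize 100000 in
theorem comb1 : ∀ x y z : I8, x + ma (x + ma 0) = 0 → y + mb (y + mb 0) = 0 →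
    z + mw (x + ma 0) = x + ma (y + mb (z + mw 0)) → z + mw (y + mb 0) = x + ma (z + mw 0) →
    z + mw (z + mw (z + mw 0)) = 0 →
    (∃ k, x + ma k = k ∧ y + mb k = k ∧ z + mw k = k) ∨
      ((0 ≠ x + ma 0 ∧ 0 ≠ y + mb 0 ∧ 0 ≠ x + ma (y + mb 0)) ∧ ∀ k, ∃ r ∈ ({0, (0, 0, 1)} : Finset I8),
        k = r ∨ k = x + ma r ∨ k = y + mb r ∨ k = x + ma (y + mb r)) := by decide +kernel

theorem comb2 : ∀ x : I8, x + mc (ma 0) = ma (x + mc 0) → x + mc (mb 0) = ma (mb (x + mc 0)) →
    mw (x + mc (mw 0)) = x + mc 0 → x + mc 0 = 0 := by decide +kernel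

theorem comb3 : ∀ x : I8, x + mg (ma 0) = mc (x + mg 0) → x + mg (mc 0) = ma (mc (x + mg 0)) →
    x + mg (x + mg (x + mg 0)) = 0 → x + mg 0 = 0 := by decide +kernel

/-- the relations -/
structure Cfg (ε : I8 → G8 K) (a b w c g : G8 K) : Prop where
  ha : ∀ k, a * ε k = ε (ma k) * a
  hb : ∀ k, b * ε k = ε (mb k) * b
  hw : ∀ k, w * ε k = ε (mw k) * w
  hc : ∀ k, c * ε k = ε (mc k) * c
  hg : ∀ k, g * ε k = ε (mg k) * g
  aa : a * a = 1
  bb : b * b = 1
  ab : a * b = b * a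
  wa : w * a = a * b * w
  wb : w * b = a * w
  bw : b * w = w * b * a
  www : w * w * w = 1
  ca : c * a = a * c
  cb : c * b = a * b * c
  wcw : w * c * w = c
  ga : g * a = c * g
  gc : g * c = a * c * ε (1, 0, 0) * g
  ggg : g * g * g = 1

/-- the fixed vectors -/
def FQ (ε : I8 → G8 K) (a b : G8 K) (v : L8 K) : Prop := FE ε v ∧ act a v = v ∧ act b v = v

variable {ε Z : I8 → G8 K} {s : I8 → Submodule K (L8 K)} {π : I8 → L8 K →ₗ[K] L8 K} {a b w c g : G8 K}

namespace Cfg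

variable (C : Cfg ε a b w c g) (D : Dec ε Z s π)

include C D

omit C in
theorem mv_one : Mv Z s 1 fun k => k := fun _ => ⟨by group, fun v hv => by rwa [act_one]⟩

theorem cases : (∃ Z s π, Dec ε Z s π ∧ Mv Z s a ma ∧ Mv Z s b mb ∧ Mv Z s w mw) ∨
    ∃ α β, Mv Z s a α ∧ Mv Z s b β ∧ (0 ≠ α 0 ∧ 0 ≠ β 0 ∧ 0 ≠ α (β 0)) ∧
      ∀ k, ∃ r ∈ ({0, (0, 0, 1)} : Finset I8), k = r ∨ k = α r ∨ k = β r ∨ k = α (β r) := by
  obtain ⟨x, hx⟩ := D.exists_mv C.ha
  obtain ⟨y, hy⟩ := D.exists_mv C.hb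
  obtain ⟨z, hz⟩ := D.exists_mv C.hw
  refine (comb1 x y z (D.uniq (hx.mul hx) (C.aa ▸ mv_one D) 0) (D.uniq (hy.mul hy) (C.bb ▸ mv_one D) 0)
    (D.uniq (hz.mul hx) (C.wa ▸ (hx.mul hy).mul hz) 0) (D.uniq (hz.mul hy) (C.wb ▸ hx.mul hz) 0)
    (D.uniq ((hz.mul hz).mul hz) (C.www ▸ mv_one D) 0)).imp ?_ fun h => ⟨_, _, hx, hy, h⟩
  rintro ⟨k, h1, h2, h3⟩
  exact ⟨_, _, _, D.shift k, (D.shift k).base C.ha rfl (hx.shift k) (by rw [add_zero, h1, sub_self]),
    (D.shift k).base C.hb rfl (hy.shift k) (by rw [add_zero, h2, sub_self]),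
    (D.shift k).base C.hw rfl (hz.shift k) (by rw [add_zero, h3, sub_self])⟩

/-- non-commuting fixed vectors -/
theorem reg : ∃ u v, FQ ε a b u ∧ FQ ε a b v ∧ br u v ≠ 0 := by
  rcases C.cases D with ⟨Z, s, π, D, ha, hb, -⟩ | ⟨α, β, ha, hb, ⟨h1, h2, h3⟩, -⟩
  · obtain ⟨u, v, h1, h2, h3, h4, h5, h6, h7⟩ := D.reg ha hb C.aa C.bb C.ab (r := (0, 0, 1)) (by decide) (by decide)
      (by decide)
    exact ⟨u, v, ⟨h1, h2, h3⟩, ⟨h4, h5, h6⟩, h7⟩
  · obtain ⟨u, v, h1, h2, h3, h4, h5, h6, h7⟩ := D.reg ha hb C.aa C.bb C.ab h1 h2 h3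
    exact ⟨u, v, ⟨h1, h2, h3⟩, ⟨h4, h5, h6⟩, h7⟩

variable {U : Submodule K (L8 K)} (hU : ∀ v, v ∈ U ↔ FQ ε a b v) (h9 : finrank K U = 9)

include hU

omit C in
theorem zero_of {α β : I8 → I8} (ha : Mv Z s a α) (hb : Mv Z s b β) {R : Finset I8}
    (hR : ∀ k, ∃ r ∈ R, k = r ∨ k = α r ∨ k = β r ∨ k = α (β r)) : ∀ v ∈ U, (∀ k ∈ R, π k v = 0) → v = 0 := by
  intro v hv h0
  obtain ⟨h1, h2, h3⟩ := (hU v).1 hv
  refine D.eq_zero h1 fun k => ?_
  obtain ⟨r, hr, rfl | rfl | rfl | rfl⟩ := hR k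
  · exact h0 _ hr
  · exact D.pi_move ha h1 h2 (h0 _ hr)
  · exact D.pi_move hb h1 h3 (h0 _ hr)
  · exact D.pi_move ha h1 h2 (D.pi_move hb h1 h3 (h0 _ hr))

variable (ha : Mv Z s a ma) (hb : Mv Z s b mb) (hw : Mv Z s w mw)

include ha hb hw

omit hU ha hb in
theorem fx_w {k : I8} (h : ∀ v ∈ s k, act a v = v ∧ act b v = v) : ∀ v ∈ s (mw k), act a v = v ∧ act b v = v := by
  intro v hv
  have h0 : act (w * w) v ∈ s (mw (mw (mw k))) := ((hw.mul hw) (mw k)).2 v hv
  rw [(by decide : ∀ k, mw (mw (mw k)) = k) k] at h0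
  have h1 := h _ h0
  have h2 : act w (act (w * w) v) = v := by rw [← act_mul, ← mul_assoc, C.www, act_one]
  constructor
  · rw [← h2, ← act_mul a, ← C.wb, act_mul w b, h1.2]
  · rw [← h2, ← act_mul b, C.bw, act_mul _ a, h1.1, act_mul w b, h1.2]

include h9

theorem not_fx : ¬ ∀ v ∈ s (1, 0, 0), act a v = v ∧ act b v = v := by
  intro h1
  have h2 := C.fx_w D hw h1
  have h3 := C.fx_w D hw h2
  have h4 := D.lower U {(1, 0, 0), mw (1, 0, 0), mw (mw (1, 0, 0)), (0, 0, 1)} (by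
    intro k hk y hy
    simp only [Finset.mem_insert, Finset.mem_singleton] at hk
    rcases hk with rfl | rfl | rfl | rfl
    · exact ⟨y, (hU y).2 ⟨D.fix _ y hy, h1 y hy⟩, fun _ _ => rfl⟩
    · exact ⟨y, (hU y).2 ⟨D.fix _ y hy, h2 y hy⟩, fun _ _ => rfl⟩
    · exact ⟨y, (hU y).2 ⟨D.fix _ y hy, h3 y hy⟩, fun _ _ => rfl⟩
    · refine ⟨os a b y, (hU _).2 ⟨D.fe_os ha hb hy, os_left C.aa y, os_right C.bb C.ab y⟩, fun j hj => ?_⟩
      have h5 := (by decide : ∀ j ∈ ({(1, 0, 0), mw (1, 0, 0), mw (mw (1, 0, 0)), (0, 0, 1)} : Finset I8),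
        j ≠ ma (0, 0, 1) ∧ j ≠ mb (0, 0, 1) ∧ j ≠ ma (mb (0, 0, 1))) j hj
      exact D.pi_os ha hb hy h5.1 h5.2.1 h5.2.2)
  rw [h9, show ({(1, 0, 0), mw (1, 0, 0), mw (mw (1, 0, 0)), (0, 0, 1)} : Finset I8).card = 4 by decide] at h4
  omega

theorem eq_zero_of_fx {k : I8} (hk : k.2.2 = 0) (h : ∀ v ∈ s k, act a v = v ∧ act b v = v) : k = 0 := by
  rcases (by decide : ∀ k : I8, k.2.2 = 0 → k = 0 ∨ k = (1, 0, 0) ∨ mw k = (1, 0, 0) ∨ mw (mw k) = (1, 0, 0)) k hk with
    e | e | e | e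
  · exact e
  · exact absurd (e ▸ h) (C.not_fx D hU h9 ha hb hw)
  · exact absurd (e ▸ C.fx_w D hw h) (C.not_fx D hU h9 ha hb hw)
  · exact absurd (e ▸ C.fx_w D hw (C.fx_w D hw h)) (C.not_fx D hU h9 ha hb hw)

omit hw h9 in
theorem one_of_not {k : I8} (hk : k.2.2 = 0) (h : ¬ ∀ v ∈ s k, act a v = v ∧ act b v = v) :
    finrank K (U.map (π k)) ≤ 1 := by
  by_contra h1
  obtain ⟨h2, h3⟩ := (by decide : ∀ k : I8, k.2.2 = 0 → ma k = k ∧ mb k = k) k hk
  refine h fun v hv => ⟨D.fix_of_two (D.map_le U k) (by omega) C.aa (fun v hv => h2 ▸ (ha k).2 v hv) ?_ hv,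
    D.fix_of_two (D.map_le U k) (by omega) C.bb (fun v hv => h3 ▸ (hb k).2 v hv) ?_ hv⟩
  · rintro _ ⟨v, hv, rfl⟩
    rw [← D.pi_act ha ((hU v).1 hv).1, h2, ((hU v).1 hv).2.1]
  · rintro _ ⟨v, hv, rfl⟩
    rw [← D.pi_act hb ((hU v).1 hv).1, h3, ((hU v).1 hv).2.2]

theorem fx_zero : ∀ v ∈ s 0, act a v = v ∧ act b v = v := by
  by_contra h
  have h1 := bound π U (Finset.univ.filter fun k : I8 => k.2.2 = 0 ∨ k = (0, 0, 1)) (fun k => if k.2.2 = 0 then 1 else 3)
    (zero_of D hU ha hb (by decide)) fun k _ => by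
      split_ifs with hk
      · exact C.one_of_not D hU ha hb hk fun h2 => h (C.eq_zero_of_fx D hU h9 ha hb hw hk h2 ▸ h2)
      · exact D.map_three U k
  rw [h9] at h1
  revert h1
  decide

omit hU h9 in
theorem mv_g : Mv Z s g mg := by
  obtain ⟨x, hx⟩ := D.exists_mv C.hc
  have hc := D.base C.hc rfl hx (comb2 x (D.uniq (hx.mul ha) (C.ca ▸ ha.mul hx) 0)
    (D.uniq (hx.mul hb) (C.cb ▸ (ha.mul hb).mul hx) 0) (D.uniq (C.wcw ▸ (hw.mul hx).mul hw) hx 0))
  obtain ⟨y, hy⟩ := D.exists_mv C.hg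
  exact D.base C.hg rfl hy (comb3 y (D.uniq (hy.mul ha) (C.ga ▸ hc.mul hy) 0)
    (D.uniq (hy.mul hc) (C.gc ▸ ((ha.mul hc).mul (D.mv_eps _)).mul hy) 0)
    (D.uniq ((hy.mul hy).mul hy) (C.ggg ▸ mv_one D) 0))

theorem fix_more {v : L8 K} (hv : v ∈ s 0) : act c v = v ∧ act (w * g * b * (w * g)⁻¹) v = v := by
  have hg := C.mv_g D ha hb hw
  have h1 := C.fx_zero D hU h9 ha hb hw
  have h2 : g⁻¹ = g * g := inv_eq_of_mul_eq_one_left C.ggg
  have h3 : (w * g)⁻¹ = g * g * (w * w) := by rw [mul_inv_rev, h2, inv_eq_of_mul_eq_one_left C.www]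
  constructor
  · rw [← mul_inv_cancel_right c g, ← C.ga, act_mul, act_mul, (h1 _ (h2 ▸ ((hg.mul hg) 0).2 v hv)).1, act_inv']
  · rw [act_mul, act_mul, (h1 _ (h3 ▸ (((hg.mul hg).mul (hw.mul hw)) 0).2 v hv)).2, act_inv']

omit ha hb hw in
/-- **The main lemma.** -/
theorem main : (∃ z e f, Rz z e f ∧ FQ ε a b e ∧ FQ ε a b f) ∧ ∀ e f, Tri e f → FQ ε a b e → FQ ε a b f →
    ∀ v ∈ sl e f, act c v = v ∧ act (w * g * b * (w * g)⁻¹) v = v := by
  rcases C.cases D with ⟨Z, s, π, D, ha, hb, hw⟩ | ⟨α, β, ha, hb, -, h⟩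
  · constructor
    · obtain ⟨e, f, h1, h2⟩ := D.rz 0
      have he : e ∈ s 0 := h2 ▸ e_mem e f
      have hf : f ∈ s 0 := h2 ▸ f_mem e f
      exact ⟨_, e, f, h1, ⟨D.fix _ e he, C.fx_zero D hU h9 ha hb hw e he⟩, D.fix _ f hf, C.fx_zero D hU h9 ha hb hw f hf⟩
    · intro e f h he hf v hv
      obtain ⟨k, hk⟩ := D.tri_eq h he.1 hf.1
      have h1 : e ∈ s k := hk ▸ e_mem e f
      have h2 := D.idx_eq (he.2.1 ▸ (ha k).2 e h1) h1 h.ne
      obtain rfl := C.eq_zero_of_fx D hU h9 ha hb hw ((by decide : ∀ k : I8, ma k = k → k.2.2 = 0) k h2)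
        fun v hv => ⟨fix_sl he.2.1 hf.2.1 (hk ▸ hv), fix_sl he.2.2 hf.2.2 (hk ▸ hv)⟩
      exact C.fix_more D hU h9 ha hb hw (hk ▸ hv)
  · have h1 := bound π U _ (fun _ => 3) (zero_of D hU ha hb h) fun k _ => D.map_three U k
    rw [h9] at h1
    exact absurd h1 (by decide)

end Cfg

end Cfsg.Agent.E8A.Odd.Tha
end

-- part: E8A/Odd/Pt3
section
prune_inst 0xe52074440040000000000504300004448e000092000b8800884002440e40c04200000e40b000301210288c046001006811000010426800002e000400011c008000835206b248a008660010010880000000000000000000000000000000010004000000000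
set_option linter.all false
open scoped Cfsg.Agent.FastGrp

/-!
# Box PT3 (helper8)

* `lc ψ i j k` : the vector of the 3-cycle `(i j k)`; `rel` : the relations; `key` : the relation which comes from the
  element `g` of order 4; `pt3 : PT3`.
-/

set_option autoImplicit false
set_option maxRecDepth 100000

namespace Cfsg.Agent.E8A.Odd.Pt3

open Cfsg Cfsg.Lie Module Equiv Equiv.Perm
open Cfsg.Agent.H952.F4 (MaxAlt)
open Cfsg.Agent.R2.T1.Odd (P lt l3 vl ap pm coe_P pm_cons pm_nil pm_apply vl_iff ofNat_inj val_ofNat' ap_lt P_pow_one P_ne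
  P_nil)
open Cfsg.Agent.E8A.Par (ext_act stab_box)
open Cfsg.Agent.E8A.TwoH (br_anti br_self br_zero_right br_zero_left)

universe u

section perm

variable {n : ℕ}

open Classical in
/-- the 3-cycle `(i j k)` -/
noncomputable def c3 (i j k : Fin n) : Alt n :=
  if h : swap i j * swap j k ∈ alternatingGroup (Fin n) then ⟨_, h⟩ else 1

theorem coe_c3 {i j k : Fin n} (h1 : i ≠ j) (h2 : j ≠ k) : (c3 i j k : Perm (Fin n)) = swap i j * swap j k := by
  rw [c3, dif_pos (by rw [mem_alternatingGroup, Perm.sign_mul, sign_swap h1, sign_swap h2]; decide)]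

theorem c3_conj (s : Perm (Fin n)) {i j k : Fin n} (h1 : i ≠ j) (h2 : j ≠ k) :
    (c3 (s i) (s j) (s k) : Perm (Fin n)) = s * c3 i j k * s⁻¹ := by
  rw [coe_c3 h1 h2, coe_c3 (s.injective.ne h1) (s.injective.ne h2), swap_apply_apply, swap_apply_apply]
  group

theorem c3_cyc {i j k : Fin n} (h1 : i ≠ j) (h2 : i ≠ k) (h3 : j ≠ k) : c3 j k i = c3 i j k := by
  apply Subtype.ext
  have h := swap_apply_apply (swap j k) i j
  rw [swap_apply_of_ne_of_ne h1 h2, swap_apply_left, swap_inv] at h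
  rw [coe_c3 h1 h3, coe_c3 h3 h2.symm, swap_comm k i, h, ← mul_assoc, ← mul_assoc, swap_mul_self, one_mul]

theorem c3_inv {i j k : Fin n} (h1 : i ≠ j) (h2 : i ≠ k) (h3 : j ≠ k) : c3 i k j = (c3 i j k)⁻¹ := by
  rw [← c3_cyc h2 h1 h3.symm]
  apply Subtype.ext
  rw [Subgroup.coe_inv, coe_c3 h1 h3, coe_c3 h3.symm h1.symm, mul_inv_rev, swap_inv, swap_inv, swap_comm k j, swap_comm j i]

theorem c3_fix {i j k z : Fin n} (h1 : i ≠ j) (h3 : j ≠ k) (hi : z ≠ i) (hj : z ≠ j) (hk : z ≠ k) :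
    (c3 i j k : Perm (Fin n)) z = z := by
  rw [coe_c3 h1 h3, Perm.mul_apply, swap_apply_of_ne_of_ne hj hk, swap_apply_of_ne_of_ne hi hj]

theorem c3_last {i j k : Fin n} (h1 : i ≠ j) (h3 : j ≠ k) : (c3 i j k : Perm (Fin n)) k = i := by
  rw [coe_c3 h1 h3, Perm.mul_apply, swap_apply_right, swap_apply_right]

theorem c3_first {i j k : Fin n} (h1 : i ≠ j) (h2 : i ≠ k) (h3 : j ≠ k) : (c3 i j k : Perm (Fin n)) i = j := by
  rw [coe_c3 h1 h3, Perm.mul_apply, swap_apply_of_ne_of_ne h1 h2, swap_apply_left]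

/-- conjugation by a permutation -/
def cj (s : Perm (Fin n)) : MulAut (Alt n) := MulAut.conjNormal s

theorem coe_cj (s : Perm (Fin n)) (a : Alt n) : (cj s a : Perm (Fin n)) = s * a * s⁻¹ := rfl

variable {G : Type*} [Group G] {H : Subgroup G} {φ : Alt n →* G}

theorem max_comp (hM : MaxAlt H n φ) (σ : MulAut (Alt n)) : MaxAlt H n (φ.comp σ.toMonoidHom) := by
  have hr : (φ.comp σ.toMonoidHom).range = φ.range := by
    ext x
    constructor
    · rintro ⟨a, rfl⟩
      exact ⟨σ a, rfl⟩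
    · rintro ⟨a, rfl⟩
      exact ⟨σ.symm a, congrArg φ (σ.apply_symm_apply a)⟩
  exact ⟨hM.coatom, hM.inj.comp σ.injective, hr ▸ hM.le, hr ▸ hM.norm, hr ▸ hM.sq, hr ▸ hM.min, hM.card, hr ▸ hM.five⟩

theorem exists_perm (hn : 7 ≤ n) (hM : MaxAlt H n φ) {h : G} (hh : h ∈ H) :
    ∃ s : Perm (Fin n), ∀ a b : Alt n, (b : Perm (Fin n)) = s * a * s⁻¹ → h * φ a * h⁻¹ = φ b := by
  have hex : ∀ a, ∃ b, φ b = h * φ a * h⁻¹ := fun a => hM.norm h hh _ ⟨a, rfl⟩
  choose f hf using hex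
  let e0 : Alt n →* Alt n := MonoidHom.mk' f fun a b => hM.inj (by
    rw [hf, map_mul, map_mul, hf, hf]; group)
  have he0 : ∀ a, φ (e0 a) = h * φ a * h⁻¹ := hf
  have hinj : Function.Injective e0 := by
    intro a b hab
    apply hM.inj
    have h1 : h * φ a * h⁻¹ = h * φ b * h⁻¹ := by rw [← he0, ← he0, hab]
    exact mul_left_cancel (mul_right_cancel h1)
  let e : MulAut (Alt n) := MulEquiv.ofBijective e0 (Finite.injective_iff_bijective.1 hinj)
  obtain ⟨ψ, hψ⟩ := Cfsg.Agent.StandardComponent.AltAut.exists_autHom n hn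
  refine ⟨ψ e, fun a b hb => ?_⟩
  have h1 : e a = b := Subtype.ext (by rw [hψ e a, hb])
  rw [← h1, ← he0]
  rfl

variable [NeZero n]

/-- the points -/
def pt (n : ℕ) [NeZero n] (k : ℕ) : Fin n := Fin.ofNat n k

theorem pt_ne (hn : 9 ≤ n) {i j : ℕ} (h : i < 9 ∧ j < 9 ∧ i ≠ j) : pt n i ≠ pt n j := fun e =>
  h.2.2 (ofNat_inj (by omega) (by omega) e)

theorem P_pt (hn : 9 ≤ n) {l : List (ℕ × ℕ)} {i j : ℕ} (h : vl 9 l = true ∧ i < 9 ∧ ap l i = j) :
    (P n l : Perm (Fin n)) (pt n i) = pt n j := by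
  have h1 := (vl_iff.1 h.1).2
  have h2 := ap_lt h1 h.2.1
  refine Fin.ext ?_
  rw [coe_P hn h.1, pm_apply (h1.mono hn), pt, pt, val_ofNat' (by omega), val_ofNat' (by omega), h.2.2]

theorem P_l3 (hn : 9 ≤ n) : P n l3 = c3 (pt n 0) (pt n 1) (pt n 2) := by
  apply Subtype.ext
  rw [coe_P hn (by decide), coe_c3 (pt_ne hn (by decide)) (pt_ne hn (by decide)), show l3 = [(0, 1), (1, 2)] from rfl,
    pm_cons, pm_cons, pm_nil, mul_one]
  rfl

theorem lt_fix (hn : 9 ≤ n) {z : Fin n} (h0 : z ≠ pt n 0) (h1 : z ≠ pt n 1) (h2 : z ≠ pt n 2) (h3 : z ≠ pt n 3) :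
    (P n lt : Perm (Fin n)) z = z := by
  rw [coe_P hn (by decide), show lt = [(0, 1), (2, 3)] from rfl, pm_cons, pm_cons, pm_nil, mul_one, Perm.mul_apply]
  exact (congrArg _ (swap_apply_of_ne_of_ne h2 h3)).trans (swap_apply_of_ne_of_ne h0 h1)

theorem exists_label (hn : 9 ≤ n) {m : ℕ} (hm : m ≤ 9) (k : Fin m → ℕ) (hk : ∀ a, k a < 9) (hk' : Function.Injective k)
    (f : Fin m → Fin n) (hf : Function.Injective f) : ∃ s : Perm (Fin n), ∀ a, s (pt n (k a)) = f a :=
  Perm.exists_extending_pair (fun a => pt n (k a)) f (fun a b e => by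
    have := hm
    by_contra h
    exact pt_ne hn ⟨hk a, hk b, fun e' => h (hk' e')⟩ e) hf

end perm

section vec

variable {K : Type u} [Field K] {n : ℕ}

/-- the vector of a 3-cycle -/
noncomputable def lc (ψ : Alt n →* G8 K) (i j k : Fin n) : L8 K := ell (ψ (c3 i j k))

variable {ψ : Alt n →* G8 K}

theorem lv_act {g : G8 K} {s : Perm (Fin n)} (hs : ∀ a b : Alt n, (b : Perm (Fin n)) = s * a * s⁻¹ → g * ψ a * g⁻¹ = ψ b)
    {i j k : Fin n} (h1 : i ≠ j) (h2 : j ≠ k) : act g (lc ψ i j k) = lc ψ (s i) (s j) (s k) := by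
  rw [lc, lc, ← hs _ _ (c3_conj s h1 h2), ell_conj]

theorem lv_alt (a : Alt n) {i j k : Fin n} (h1 : i ≠ j) (h2 : j ≠ k) :
    act (ψ a) (lc ψ i j k) = lc ψ ((a : Perm (Fin n)) i) ((a : Perm (Fin n)) j) ((a : Perm (Fin n)) k) :=
  lv_act (fun x y h => by rw [← map_inv, ← map_mul, ← map_mul, show y = a * x * a⁻¹ from Subtype.ext h]) h1 h2

theorem lv_comp (s : Perm (Fin n)) {i j k : Fin n} (h1 : i ≠ j) (h2 : j ≠ k) :
    lc (ψ.comp (cj s).toMonoidHom) i j k = lc ψ (s i) (s j) (s k) := by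
  have h : cj s (c3 i j k) = c3 (s i) (s j) (s k) := Subtype.ext (by rw [coe_cj, c3_conj s h1 h2])
  rw [lc, lc, ← h]
  rfl

theorem lv_cyc {i j k : Fin n} (h1 : i ≠ j) (h2 : i ≠ k) (h3 : j ≠ k) : lc ψ j k i = lc ψ i j k := by
  rw [lc, lc, c3_cyc h1 h2 h3]

theorem lv_neg {i j k : Fin n} (h1 : i ≠ j) (h2 : i ≠ k) (h3 : j ≠ k) : lc ψ i k j = -lc ψ i j k := by
  rw [lc, lc, c3_inv h1 h2 h3, map_inv, ell_inv]

variable [NeZero n]

theorem lv_P (hn : 9 ≤ n) {l : List (ℕ × ℕ)} {i j k i' j' k' : ℕ}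
    (h : vl 9 l = true ∧ i < 9 ∧ j < 9 ∧ k < 9 ∧ i ≠ j ∧ j ≠ k ∧ ap l i = i' ∧ ap l j = j' ∧ ap l k = k') :
    act (ψ (P n l)) (lc ψ (pt n i) (pt n j) (pt n k)) = lc ψ (pt n i') (pt n j') (pt n k') := by
  obtain ⟨h1, h2, h3, h4, h5, h6, h7, h8, h9⟩ := h
  rw [lv_alt _ (pt_ne hn ⟨h2, h3, h5⟩) (pt_ne hn ⟨h3, h4, h6⟩), P_pt hn ⟨h1, h2, h7⟩, P_pt hn ⟨h1, h3, h8⟩,
    P_pt hn ⟨h1, h4, h9⟩]

/-- the four vectors of `A₄` -/
theorem four (hn : 9 ≤ n) {A : L8 K} (h1 : Ell (ψ (P n l3)) (A + act (ψ (P n l3)) A + act (ψ (P n l3)) (act (ψ (P n l3)) A)))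
    (h2 : act (ψ (P n lt)) A = A) (h3 : act (ψ (P n lt)) (act (ψ (P n l3)) A) = -act (ψ (P n l3)) A)
    (h4 : act (ψ (P n lt)) (act (ψ (P n l3)) (act (ψ (P n l3)) A)) = -act (ψ (P n l3)) (act (ψ (P n l3)) A))
    (h5 : br A (act (ψ (P n l3)) A) = act (ψ (P n l3)) (act (ψ (P n l3)) A)) : ∃ B C : L8 K,
    lc ψ (pt n 0) (pt n 1) (pt n 2) = A + B + C ∧ lc ψ (pt n 0) (pt n 1) (pt n 3) = -A + B + C ∧
    lc ψ (pt n 1) (pt n 2) (pt n 3) = A - B + C ∧ lc ψ (pt n 0) (pt n 2) (pt n 3) = -A - B + C ∧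
    br A B = C ∧ br B C = A ∧ br C A = B := by
  obtain ⟨B, hB⟩ : ∃ B, B = act (ψ (P n l3)) A := ⟨_, rfl⟩
  rw [← hB] at h1 h3 h4 h5
  obtain ⟨C, hC⟩ : ∃ C, C = act (ψ (P n l3)) B := ⟨_, rfl⟩
  rw [← hC] at h1 h4 h5
  have hA : act (ψ (P n l3)) C = A := by
    rw [hC, hB, ← act_mul, ← act_mul, ← map_mul, ← map_mul, ← pow_three', P_pow_one hn (by decide) (by decide), map_one,
      act_one]
  have e1 : lc ψ (pt n 0) (pt n 1) (pt n 2) = A + B + C := by rw [lc, ← P_l3 hn, ell_eq h1]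
  have e2 : lc ψ (pt n 0) (pt n 1) (pt n 3) = -A + B + C := by
    have h := lv_P (ψ := ψ) hn (l := lt) (i := 0) (j := 1) (k := 2) (i' := 1) (j' := 0) (k' := 3) (by decide)
    rw [e1, act_add, act_add, h2, h3, h4, lv_neg (pt_ne hn (by decide)) (pt_ne hn (by decide)) (pt_ne hn (by decide)),
      lv_cyc (pt_ne hn (by decide)) (pt_ne hn (by decide)) (pt_ne hn (by decide)), eq_neg_iff_add_eq_zero] at h
    rw [← neg_eq_of_add_eq_zero_right h]
    abel
  have e3 : lc ψ (pt n 1) (pt n 2) (pt n 3) = A - B + C := by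
    rw [← lv_P (ψ := ψ) hn (l := l3) (i := 0) (j := 1) (k := 3) (by decide), e2, act_add, act_add, act_neg, ← hB, ← hC, hA]
    abel
  have e4 : lc ψ (pt n 0) (pt n 2) (pt n 3) = -A - B + C := by
    have h := lv_P (ψ := ψ) hn (l := l3) (i := 1) (j := 2) (k := 3) (i' := 2) (j' := 0) (k' := 3) (by decide)
    rw [e3, act_add, act_sub, ← hB, ← hC, hA, lv_neg (pt_ne hn (by decide)) (pt_ne hn (by decide)) (pt_ne hn (by decide)),
      lv_cyc (pt_ne hn (by decide)) (pt_ne hn (by decide)) (pt_ne hn (by decide)), eq_neg_iff_add_eq_zero] at h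
    rw [← neg_eq_of_add_eq_zero_right h]
    abel
  have e5 : br B C = A := by rw [← hA, ← h5, act_br, ← hB, h5, ← hC]
  exact ⟨B, C, e1, e2, e3, e4, h5, e5, by rw [hB, ← e5, act_br, ← hC, e5, hA]⟩

/-- the hypothesis of the box -/
def Hy (ψ : Alt n →* G8 K) : Prop :=
  ∀ σ : MulAut (Alt n), So3 (ψ (σ (P n lt))) (ψ (σ (P n l3))) (ψ (σ (P n [(4, 5), (6, 7)])))

theorem Hy.comp (h : Hy ψ) (σ : MulAut (Alt n)) : Hy (ψ.comp σ.toMonoidHom) := fun τ => h (σ * τ)

theorem Hy.one (h : Hy ψ) : So3 (ψ (P n lt)) (ψ (P n l3)) (ψ (P n [(4, 5), (6, 7)])) := h 1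

theorem rel (hn : 9 ≤ n) (h : Hy ψ) : Rel (lc ψ) := by
  refine ⟨fun i j k => lv_cyc, fun i j k => lv_neg, fun i j k m h1 h2 h3 h4 h5 h6 => ?_⟩
  obtain ⟨s, hs⟩ := exists_label hn (m := 4) (by norm_num) Fin.val (fun a => by omega) Fin.val_injective ![i, j, k, m] (by
    intro a b e
    fin_cases a <;> fin_cases b <;> first | rfl | exact absurd e (by assumption) | exact absurd e.symm (by assumption))
  obtain ⟨A, g, k1, k2, k3, k4, k5, -⟩ := h (cj s)
  obtain ⟨B, C, e1, e2, e3, e4, e5, e6, e7⟩ := four (ψ := ψ.comp (cj s).toMonoidHom) hn k1 k2 k3 k4 k5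
  rw [lv_comp s (pt_ne hn (by decide)) (pt_ne hn (by decide))] at e1 e2 e3 e4
  have s0 : s (pt n 0) = i := hs 0
  have s1 : s (pt n 1) = j := hs 1
  have s2 : s (pt n 2) = k := hs 2
  have s3 : s (pt n 3) = m := hs 3
  rw [s0, s1, s2] at e1
  rw [s0, s1, s3] at e2
  rw [s1, s2, s3] at e3
  rw [s0, s2, s3] at e4
  rw [e1, e2, e3, e4]
  refine ⟨by abel, ?_⟩
  simp only [br_add_left, br_add_right, br_neg_right, br_self]
  rw [br_anti B A, br_anti A C, br_anti C B, e5, e6, e7, two_smul]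
  abel

end vec

section main

variable {F : Type u} [Field F] [Finite F] {n : ℕ} [NeZero n] {H : Subgroup (G8 F)} {φ : Alt n →* G8 F}

omit [Finite F] in
theorem two_ne (h2 : (2 : F) ≠ 0) : (2 : Kb F) ≠ 0 := fun h => h2 ((algebraMap F (Kb F)).injective (by
  rw [map_ofNat, map_zero, h]))

theorem half {K : Type u} [Field K] (h2 : (2 : K) ≠ 0) (v : L8 K) : (2⁻¹ : K) • (v + v) = v := by
  rw [← two_smul K v, inv_smul_smul₀ h2]

/-- the formula for `g` -/
theorem g_form {K : Type u} [Field K] (h2 : (2 : K) ≠ 0) {a g : G8 K} {A : L8 K} (ha : a * a = 1)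
    (h1 : ∀ v, act a v = -v → act g v = br A v) (h3 : ∀ v, act a v = v → act g v = v + (2⁻¹ : K) • br A (br A v))
    (v : L8 K) : act g v = br A ((2⁻¹ : K) • (v - act a v)) + ((2⁻¹ : K) • (v + act a v) +
      (2⁻¹ : K) • br A (br A ((2⁻¹ : K) • (v + act a v)))) := by
  rw [← h1 _ (by rw [act_smul, act_sub, ← act_mul, ha, act_one, ← smul_neg, neg_sub]),
    ← h3 _ (by rw [act_smul, act_add, ← act_mul, ha, act_one, add_comm]), ← act_add, ← smul_add, sub_add_add_cancel,
    half h2]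

theorem g_comm {K : Type u} [Field K] {a g b : G8 K} {A : L8 K}
    (hg : ∀ v, act g v = br A ((2⁻¹ : K) • (v - act a v)) + ((2⁻¹ : K) • (v + act a v) +
      (2⁻¹ : K) • br A (br A ((2⁻¹ : K) • (v + act a v))))) (h1 : act b A = A) (h3 : b * a = a * b) : g * b = b * g := by
  have h4 : ∀ v, act b (act a v) = act a (act b v) := fun v => by rw [← act_mul, ← act_mul, h3]
  refine ext_act fun v => ?_
  rw [act_mul, act_mul, hg, hg]
  simp only [act_add, act_sub, act_smul, act_br, h1, h4]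

theorem g_em {K : Type u} [Field K] (f : K →+* K) {a g : G8 K} {A : L8 K}
    (hg : ∀ v, act g v = br A ((2⁻¹ : K) • (v - act a v)) + ((2⁻¹ : K) • (v + act a v) +
      (2⁻¹ : K) • br A (br A ((2⁻¹ : K) • (v + act a v))))) (h1 : mp f A = A) (h3 : em f a = a) : em f g = g := by
  have h2 : f 2⁻¹ = 2⁻¹ := by rw [map_inv₀, map_ofNat]
  have h4 : ∀ v, mp f (act a v) = act a (mp f v) := fun v => by rw [← act_em, h3]
  apply mx_injective
  ext i j
  have h5 : act (em f g) (mp f (ee _ j)) = act g (mp f (ee _ j)) := by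
    rw [act_em, hg, hg]
    simp only [mp_add, mp_sub, mp_smul, ← br_mp, h1, h2, h4]
  rw [mp_ee] at h5
  rw [← act_ee, ← act_ee, h5]

theorem key (h2 : (2 : F) ≠ 0) (hn : 9 ≤ n) (hn' : n ≤ 18) (hM : MaxAlt H n φ) (hy : Hy (emb0.comp φ)) :
    lc (emb0.comp φ) (pt n 0) (pt n 4) (pt n 5) + lc (emb0.comp φ) (pt n 1) (pt n 4) (pt n 5) =
      lc (emb0.comp φ) (pt n 2) (pt n 4) (pt n 5) + lc (emb0.comp φ) (pt n 3) (pt n 4) (pt n 5) := by
  have h2' := two_ne h2
  have hr := rel hn hy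
  have hψ : ∀ a, (emb0.comp φ) a = emb0 (φ a) := fun _ => rfl
  have hq : ∀ i j k, mp (fq F) (lc ((emb0.comp φ :)) i j k) = lc ((emb0.comp φ :)) i j k := fun i j k => ell_frq _
  have hH : ∀ h ∈ H, ∃ s : Perm (Fin n), ∀ a b : Alt n, (b : Perm (Fin n)) = s * a * s⁻¹ →
      emb0 h * (emb0.comp φ) a * (emb0 h)⁻¹ = (emb0.comp φ) b := fun h hh => by
    obtain ⟨s, hs⟩ := exists_perm (by omega) hM hh
    exact ⟨s, fun a b e => by rw [hψ, hψ, ← hs a b e, map_mul, map_mul, map_inv]⟩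
  have hi : Function.Injective (emb0.comp φ) := emb0_injective.comp hM.inj
  have hsg : ∀ a, sg ((emb0.comp φ) a) = (emb0.comp φ) a := fun a => sg_emb0 _
  generalize emb0.comp φ = ψ at *
  have ne : ∀ {i j : ℕ}, i < 9 ∧ j < 9 ∧ i ≠ j → pt n i ≠ pt n j := pt_ne hn
  by_cases h0 : WW (lc ψ) = ⊥
  · have h1 : ∀ i, i < 4 → lc ψ (pt n i) (pt n 4) (pt n 5) = 0 := fun i hi =>
      (Submodule.mem_bot _).1 (h0 ▸ mem_WW (ne (by omega)) (ne (by omega)) (ne (by omega)))
    rw [h1 0 (by norm_num), h1 1 (by norm_num), h1 2 (by norm_num), h1 3 (by norm_num)]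
  obtain ⟨A, g, k1, k2, k3, k4, k5, k6, k7, k8, k9⟩ := hy.one
  obtain ⟨B, C, e1, e2, -⟩ := four hn k1 k2 k3 k4 k5
  have hA : A = (2⁻¹ : Kb F) • (lc ψ (pt n 0) (pt n 1) (pt n 2) - lc ψ (pt n 0) (pt n 1) (pt n 3)) := by
    rw [e1, e2, ← half h2' A]
    congr 1
    rw [half h2']
    abel
  have ha : ψ (P n lt) * ψ (P n lt) = 1 := by rw [← map_mul, ← pow_two, P_pow_one hn (by decide) (by decide), map_one]
  have hg := g_form h2' ha k7 k8
  have st : ∀ (x : G8 (Kb F)) (s : Perm (Fin n)), (∀ a b : Alt n, (b : Perm (Fin n)) = s * a * s⁻¹ → x * ψ a * x⁻¹ = ψ b) →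
      ∀ w ∈ WW (lc ψ), act x w ∈ WW (lc ψ) := fun x s hs =>
    WW_le hr (pt n 0) (U := (WW (lc ψ)).comap (LK _ x)) fun j k h1 h3 h4 => by
      rw [Submodule.mem_comap, LK_apply, lv_act hs h1 h4.ne]
      exact mem_WW (s.injective.ne h1) (s.injective.ne h3) (s.injective.ne h4.ne)
  have hAW : A ∈ WW (lc ψ) := by
    rw [hA]
    exact Submodule.smul_mem _ _ (sub_mem (mem_WW (ne (by decide)) (ne (by decide)) (ne (by decide)))
      (mem_WW (ne (by decide)) (ne (by decide)) (ne (by decide))))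
  have hgW : ∀ w ∈ WW (lc ψ), act g w ∈ WW (lc ψ) := fun w hw => by
    have h1 := st (ψ (P n lt)) (P n lt) (fun x y h => by
      rw [← map_inv, ← map_mul, ← map_mul, show y = P n lt * x * (P n lt)⁻¹ from Subtype.ext h]) w hw
    have h3 := Submodule.smul_mem _ (2⁻¹ : Kb F) (add_mem hw h1)
    rw [hg]
    exact add_mem (span_sub h2' hr (pt n 0) hAW (Submodule.smul_mem _ _ (sub_mem hw h1))) (add_mem h3
      (Submodule.smul_mem _ _ (span_sub h2' hr (pt n 0) hAW (span_sub h2' hr (pt n 0) hAW h3))))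
  have hq2 : fq F 2⁻¹ = 2⁻¹ := by rw [map_inv₀, map_ofNat]
  have hqA : mp (fq F) A = A := by rw [hA, mp_smul, mp_sub, hq, hq, hq2]
  have hsgg : sg g = g := g_em (fq F) hg hqA (hsg _)
  obtain ⟨g0, rfl⟩ := fix_G hsgg
  obtain ⟨s, hs⟩ := hH g0 (stab_box F H hM.coatom _ h0 (span_dim hr (pt n 0) hn') (fun h hh => by
    obtain ⟨s, hs⟩ := hH h hh
    exact st _ s hs) g0 hgW)
  generalize emb0 g0 = g at *
  -- the permutation `s`
  have cm : ∀ i j k : Fin n, i ≠ j → j ≠ k → (∀ m < 4, pt n m ≠ i ∧ pt n m ≠ j ∧ pt n m ≠ k) →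
      ∀ z, (c3 i j k : Perm (Fin n)) (s z) = s ((c3 i j k : Perm (Fin n)) z) := by
    intro i j k h1 h3 h4 z
    have h5 : ∀ m < 4, (c3 i j k : Perm (Fin n)) (pt n m) = pt n m := fun m hm =>
      c3_fix h1 h3 (h4 m hm).1 (h4 m hm).2.1 (h4 m hm).2.2
    have h6 : act (ψ (c3 i j k)) A = A := by
      rw [hA, act_smul, act_sub, lv_alt _ (ne (by decide)) (ne (by decide)), lv_alt _ (ne (by decide)) (ne (by decide)),
        h5 0 (by norm_num), h5 1 (by norm_num), h5 2 (by norm_num), h5 3 (by norm_num)]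
    have h7 : P n lt * c3 i j k * (P n lt)⁻¹ = c3 i j k := Subtype.ext (by
      have h8 : ∀ z : Fin n, (∀ m < 4, pt n m ≠ z) → (P n lt : Perm (Fin n)) z = z := fun z hz =>
        lt_fix hn (hz 0 (by norm_num)).symm (hz 1 (by norm_num)).symm (hz 2 (by norm_num)).symm (hz 3 (by norm_num)).symm
      have h9 := c3_conj (P n lt : Perm (Fin n)) h1 h3
      rw [h8 i fun m hm => (h4 m hm).1, h8 j fun m hm => (h4 m hm).2.1, h8 k fun m hm => (h4 m hm).2.2] at h9
      exact h9.symm)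
    have h9 : g * ψ (c3 i j k) = ψ (c3 i j k) * g :=
      g_comm hg h6 (by rw [← map_mul, ← map_mul, mul_inv_eq_iff_eq_mul.1 h7])
    have h10 := hs (c3 i j k) (cj s (c3 i j k)) (coe_cj _ _)
    rw [h9, mul_inv_cancel_right] at h10
    have h11 := congrArg (fun x : Alt n => (x : Perm (Fin n)) (s z)) (hi h10)
    simp only [coe_cj, Perm.mul_apply] at h11
    rwa [show s⁻¹ (s z) = z from s.symm_apply_apply z] at h11
  have lit : ∀ i j k : ℕ, 4 ≤ i ∧ i < 9 ∧ 4 ≤ j ∧ j < 9 ∧ 4 ≤ k ∧ k < 9 → ∀ m < 4,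
      pt n m ≠ pt n i ∧ pt n m ≠ pt n j ∧ pt n m ≠ pt n k := fun i j k h m hm =>
    ⟨ne (by omega), ne (by omega), ne (by omega)⟩
  have mov : ∀ j k : ℕ, 4 < j ∧ j < 9 ∧ 4 < k ∧ k < 9 ∧ j ≠ k →
      s (pt n 4) = pt n 4 ∨ s (pt n 4) = pt n j ∨ s (pt n 4) = pt n k := fun j k h => by
    by_contra hcon
    rw [not_or, not_or] at hcon
    have h1 := cm (pt n 4) (pt n j) (pt n k) (ne (by omega)) (ne (by omega)) (lit _ _ _ (by omega)) (pt n 4)
    rw [c3_fix (ne (by omega)) (ne (by omega)) hcon.1 hcon.2.1 hcon.2.2,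
      c3_first (ne (by omega)) (ne (by omega)) (ne (by omega))] at h1
    exact ne (i := 4) (j := j) (by omega) (s.injective h1)
  have s4 : s (pt n 4) = pt n 4 := by
    rcases mov 5 6 (by decide) with h | h | h
    · exact h
    · rcases mov 7 8 (by decide) with h' | h' | h'
      exacts [h', absurd (h.symm.trans h') (ne (by decide)), absurd (h.symm.trans h') (ne (by decide))]
    · rcases mov 7 8 (by decide) with h' | h' | h'
      exacts [h', absurd (h.symm.trans h') (ne (by decide)), absurd (h.symm.trans h') (ne (by decide))]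
  have s5 : s (pt n 5) = pt n 5 := by
    have h1 := cm (pt n 4) (pt n 5) (pt n 6) (ne (by decide)) (ne (by decide)) (lit _ _ _ (by decide)) (pt n 4)
    rw [s4, c3_first (ne (by decide)) (ne (by decide)) (ne (by decide))] at h1
    exact h1.symm
  have ss : ∀ i j : ℕ, i < 4 ∧ ap lt i = j → s (s (pt n i)) = pt n j := fun i j h => by
    have n1 : pt n i ≠ pt n 4 := ne (by omega)
    have n2 : pt n 4 ≠ pt n 5 := ne (by decide)
    have h1 := hs _ _ (c3_conj s n1 n2)
    have h3 := hs _ _ (c3_conj s (s.injective.ne n1) (s.injective.ne n2))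
    have h4 : ψ (P n lt * c3 (pt n i) (pt n 4) (pt n 5) * (P n lt)⁻¹) = ψ (c3 (s (s (pt n i))) (s (s (pt n 4))) (s (s (pt n 5)))) := by
      rw [← h3, ← h1, map_mul, map_mul, map_inv, ← k6]
      group
    have h5 : ((P n lt : Perm (Fin n)) * (c3 (pt n i) (pt n 4) (pt n 5) : Perm (Fin n)) * (P n lt : Perm (Fin n))⁻¹)
        (pt n 5) = (c3 (s (s (pt n i))) (s (s (pt n 4))) (s (s (pt n 5))) : Perm (Fin n)) (pt n 5) :=
      congrArg (fun x : Alt n => (x : Perm (Fin n)) (pt n 5)) (hi h4)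
    have h6 := c3_conj (P n lt : Perm (Fin n)) n1 n2
    rw [P_pt hn (j := j) ⟨by decide, by omega, h.2⟩, P_pt hn (i := 4) (j := 4) (by decide),
      P_pt hn (i := 5) (j := 5) (by decide)] at h6
    have n3 : s (s (pt n i)) ≠ pt n 4 := fun e => n1 (s.injective (s.injective (by rw [e, s4, s4])))
    have n4 : pt n j ≠ pt n 4 := ne (by
      have h7 : ∀ i < 4, ap lt i < 4 := by decide
      have h8 := h7 i h.1
      omega)
    rw [← h6, s4, s4, s5, s5, c3_last n4 n2, c3_last n3 n2] at h5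
    exact h5.symm
  have s00 := ss 0 1 (by decide)
  have s11 := ss 1 0 (by decide)
  have s22 := ss 2 3 (by decide)
  have s33 := ss 3 2 (by decide)
  have s0 : s (pt n 0) = pt n 2 ∨ s (pt n 0) = pt n 3 := by
    by_contra hcon
    rw [not_or] at hcon
    have n0 : s (pt n 0) ≠ pt n 0 := fun e => by
      rw [e, e] at s00
      exact ne (by decide) s00
    have n1 : s (pt n 0) ≠ pt n 1 := fun e => by
      rw [e] at s00
      exact ne (by decide) (s.injective (e.trans s00.symm))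
    have n4 : s (pt n 0) ≠ pt n 4 := fun e => ne (by decide) (s.injective (e.trans s4.symm))
    have n5 : s (pt n 0) ≠ pt n 5 := fun e => ne (by decide) (s.injective (e.trans s5.symm))
    have h1 := cm (s (pt n 0)) (pt n 4) (pt n 5) n4 (ne (by decide)) (fun m hm => ⟨by
      interval_cases m
      exacts [n0.symm, n1.symm, Ne.symm hcon.1, Ne.symm hcon.2], ne (by omega), ne (by omega)⟩) (pt n 0)
    rw [c3_first n4 n5 (ne (by decide)), c3_fix n4 (ne (by decide)) n0.symm (ne (by decide)) (ne (by decide))] at h1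
    exact n4 h1.symm
  -- the vector `u`
  have ga : ∀ i < 4, act g (lc ψ (pt n i) (pt n 4) (pt n 5)) = lc ψ (s (pt n i)) (pt n 4) (pt n 5) := fun i hi => by
    rw [lv_act hs (ne (by omega)) (ne (by decide)), s4, s5]
  have aa : ∀ i j : ℕ, i < 4 ∧ ap lt i = j → act (ψ (P n lt)) (lc ψ (pt n i) (pt n 4) (pt n 5)) =
      lc ψ (pt n j) (pt n 4) (pt n 5) := fun i j h =>
    lv_P hn ⟨by decide, by omega, by decide, by decide, by omega, by decide, h.2, by decide, by decide⟩
  have ta : ∀ i < 4, act (ψ (P n [(4, 5), (6, 7)])) (lc ψ (pt n i) (pt n 4) (pt n 5)) = -lc ψ (pt n i) (pt n 4) (pt n 5) :=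
    fun i hi => by
      have h1 : ∀ i < 4, ap [(4, 5), (6, 7)] i = i := by decide
      rw [← lv_neg (ne (by omega)) (ne (by omega)) (ne (by decide))]
      exact lv_P hn ⟨by decide, by omega, by decide, by decide, by omega, by decide, h1 i hi, by decide, by decide⟩
  obtain ⟨u, hu⟩ : ∃ u, u = lc ψ (pt n 0) (pt n 4) (pt n 5) + lc ψ (pt n 1) (pt n 4) (pt n 5) -
    (lc ψ (pt n 2) (pt n 4) (pt n 5) + lc ψ (pt n 3) (pt n 4) (pt n 5)) := ⟨_, rfl⟩
  have u1 : act (ψ (P n lt)) u = u := by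
    rw [hu, act_sub, act_add, act_add, aa 0 1 (by decide), aa 1 0 (by decide), aa 2 3 (by decide), aa 3 2 (by decide)]
    abel
  have u2 : act (ψ (P n [(4, 5), (6, 7)])) u = -u := by
    rw [hu, act_sub, act_add, act_add, ta 0 (by norm_num), ta 1 (by norm_num), ta 2 (by norm_num), ta 3 (by norm_num)]
    abel
  have u3 : act g u = u := by rw [k8 u u1, k9 u u1 u2, br_zero_right, smul_zero, add_zero]
  have u4 : act g u = -u := by
    rw [hu, act_sub, act_add, act_add, ga 0 (by norm_num), ga 1 (by norm_num), ga 2 (by norm_num), ga 3 (by norm_num)]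
    rcases s0 with h | h
    · rw [h] at s00
      rw [s00] at s22
      rw [s22] at s11
      rw [h, s00, s22, s11]
      abel
    · rw [h] at s00
      rw [s00] at s33
      rw [s33] at s11
      rw [h, s00, s33, s11]
      abel
  rw [u3, eq_neg_iff_add_eq_zero] at u4
  rw [← sub_eq_zero, ← hu, ← half h2' u, u4, smul_zero]

end main

end Cfsg.Agent.E8A.Odd.Pt3

namespace Cfsg.Agent.E8A.Odd

open Cfsg.Agent.E8A.Odd.Pt3
open Cfsg.Agent.R2.T1.Odd (P lt P_pow_one P_ne P_nil)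

universe u

/-- **PT3** -/
theorem pt3 : PT3.{u} := by
  intro F _ _ h2 n _ hn hn' H φ hM hy
  have h2' := two_ne h2
  have ne : ∀ {i j : ℕ}, i < 9 ∧ j < 9 ∧ i ≠ j → pt n i ≠ pt n j := pt_ne hn
  have hy' : Hy (emb0.comp φ) := hy
  have k1 : ∀ s : Equiv.Perm (Fin n), lc (emb0.comp φ) (s (pt n 0)) (s (pt n 4)) (s (pt n 5)) +
      lc (emb0.comp φ) (s (pt n 1)) (s (pt n 4)) (s (pt n 5)) = lc (emb0.comp φ) (s (pt n 2)) (s (pt n 4)) (s (pt n 5)) +
      lc (emb0.comp φ) (s (pt n 3)) (s (pt n 4)) (s (pt n 5)) := fun s => by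
    have h := key h2 hn hn' (max_comp hM (cj s)) (by rw [← MonoidHom.comp_assoc]; exact hy'.comp (cj s))
    rw [← MonoidHom.comp_assoc] at h
    rwa [lv_comp s (ne (by decide)) (ne (by decide)), lv_comp s (ne (by decide)) (ne (by decide)),
      lv_comp s (ne (by decide)) (ne (by decide)), lv_comp s (ne (by decide)) (ne (by decide))] at h
  have k2 : ∀ f : Fin 6 → ℕ, (∀ a, f a < 9) → Function.Injective f →
      lc ((emb0.comp φ :)) (pt n (f 0)) (pt n (f 4)) (pt n (f 5)) + lc ((emb0.comp φ :)) (pt n (f 1)) (pt n (f 4)) (pt n (f 5)) =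
      lc ((emb0.comp φ :)) (pt n (f 2)) (pt n (f 4)) (pt n (f 5)) +
        lc ((emb0.comp φ :)) (pt n (f 3)) (pt n (f 4)) (pt n (f 5)) := fun f hf hf' => by
    obtain ⟨s, hs⟩ := exists_label hn (m := 6) (by norm_num) Fin.val (fun a => by omega) Fin.val_injective
      (fun a => pt n (f a)) fun a b e => by
        by_contra h
        exact ne ⟨hf a, hf b, fun e' => h (hf' e')⟩ e
    rw [← hs 0, ← hs 1, ← hs 2, ← hs 3, ← hs 4, ← hs 5]
    exact k1 s
  have k3 : lc (emb0.comp φ) (pt n 4) (pt n 0) (pt n 1) + lc (emb0.comp φ) (pt n 2) (pt n 0) (pt n 1) =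
      lc (emb0.comp φ) (pt n 3) (pt n 0) (pt n 1) + lc (emb0.comp φ) (pt n 5) (pt n 0) (pt n 1) :=
    k2 ![4, 2, 3, 5, 0, 1] (by decide) (by decide)
  have k4 : lc (emb0.comp φ) (pt n 4) (pt n 0) (pt n 1) + lc (emb0.comp φ) (pt n 3) (pt n 0) (pt n 1) =
      lc (emb0.comp φ) (pt n 2) (pt n 0) (pt n 1) + lc (emb0.comp φ) (pt n 5) (pt n 0) (pt n 1) :=
    k2 ![4, 3, 2, 5, 0, 1] (by decide) (by decide)
  obtain ⟨A, g, j1, j2, j3, j4, j5, -, j7, -⟩ := hy'.one
  obtain ⟨B, C, e1, e2, -⟩ := four hn j1 j2 j3 j4 j5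
  rw [lv_cyc (ne (by decide)) (ne (by decide)) (ne (by decide))] at e1 e2
  rw [e1, e2] at k3 k4
  have hA : A = 0 := by
    have h1 := congrArg₂ (· - ·) k3 k4
    have h3 : A + A + (A + A) = 0 := by
      rw [← sub_eq_zero] at h1
      rw [← h1]
      abel
    rw [← half h2' A, ← half h2' (A + A), h3, smul_zero, smul_zero]
  have ha : (emb0.comp φ) (P n lt) * (emb0.comp φ) (P n lt) = 1 := by
    rw [← map_mul, ← pow_two, P_pow_one hn (by decide) (by decide), map_one]
  have h1 : (emb0.comp φ) (P n lt) = 1 := Par.ext_act fun v => by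
    have h3 := j7 (v - act ((emb0.comp φ) (P n lt)) v) (by rw [act_sub, ← act_mul, ha, act_one, neg_sub])
    rw [hA, TwoH.br_zero_left] at h3
    rw [act_one, ← sub_eq_zero.1 (act_eq_zero h3)]
  rw [← map_one ((emb0.comp φ :)), ← P_nil] at h1
  exact P_ne hn (by decide) (by decide) (by decide) ((emb0_injective.comp hM.inj) h1)

end Cfsg.Agent.E8A.Odd

private theorem dce_9f90315498a6 : _root_.True := by
  try have : _root_.True := by simp only [_root_.Cfsg.Agent.E8A.Odd.Pt3.c3.eq_1]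
  try have : _root_.True := by simp only [_root_.Cfsg.Agent.E8A.Odd.Pt3.lc.eq_1]
  try have : _root_.True := by simp only [_root_.Cfsg.Agent.E8A.Odd.Pt3.pt.congr_simp]
  try have : _root_.True := by simp only [_root_.Cfsg.Agent.E8A.Odd.Pt3.pt.eq_1]
  exact _root_.True.intro
end

-- part: E8A/Odd/ThaEx
section
prune_inst 0x210044000040000000000506320004008400000000430000004001040040e042800026000800200000080c100009006000000000404000000e0004000005000000800004b1480108600096018000000000000000000000000000000000010004000000000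
set_option linter.all false
open scoped Cfsg.Agent.FastGrp

/-!
# The box THA, part 3: existence of the decomposition (helper90)

* `rg ε h`, `pu_rg` : pure groups given by lists; `tor8`, `ab16`;
* `dec_of_roots` : the decomposition from eight orthogonal roots; `exists_dec`.
-/

set_option autoImplicit false
set_option maxRecDepth 100000
set_option linter.unusedSectionVars false

namespace Cfsg.Agent.E8A.Odd.Tha

open CoxeterSystem Cfsg Cfsg.Lie Cfsg.Lie.ChevalleyDatum Module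
open Cfsg.Agent.ChevalleyStructure Cfsg.Agent.ChevalleyStructure.Elts Cfsg.Agent.ChevalleyStructure.CoxeterGeom
  Cfsg.Agent.ChevalleyStructure.CoxeterGeomTypes
open Cfsg.Agent.Tits.Roots Cfsg.Agent.Tits.Core Cfsg.Agent.Nodes Cfsg.Agent.Nodes.RGDChev Cfsg.Agent.Nodes.Coroot
open Cfsg.Agent.KFacts.RgdField Cfsg.Agent.KFacts.RgdChevCoord Cfsg.Agent.BpExc.TowChev
open Cfsg.Agent.H129.TorusChar
open Cfsg.Agent.H469.Exc (KK locFin)
open Cfsg.Agent.H167.KKL (sg_add sg_eq_one exists_sgn)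
open Cfsg.Agent.H942.E8Tab (e8T)
open Cfsg.Agent.H942.CB (W8 cs8)
open Cfsg.Agent.H288.E8L (wt Rt act8 wt_inl wt_inr rt_vec vec_ne_zero exists_idx)
open Cfsg.Agent.H952.F4 (ev)
open Cfsg.Agent.DS.Nt (ad dd Fx Ps Mz RP form₂ comm_Mz Mz_le mem_Ps finrank_Fx dd_tor)
open Cfsg.Agent.DS.Nt.P8
open Cfsg.Agent.E8A.Frm (B0 fm8 finW8 invB8)
open Cfsg.Agent.E8A.Inf (kf finrank_L8)
open Cfsg.Agent.E8A.Par (op vec_op kf_ee act_xr kf_eq_zero_of_br)
open Cfsg.Agent.E8A.Reg5.Cls (ex dz)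
open Cfsg.Agent.E8A.TwoH

universe u

/-! ### pure groups -/

/-- the group listed by `ε` -/
def rg {G A : Type*} [Group G] [AddCommGroup A] (ε : A → G) (h : ∀ j k, ε (j + k) = ε j * ε k) : Subgroup G :=
  (MonoidHom.mk' (fun k : Multiplicative A => ε k.toAdd) fun _ _ => h _ _).range

theorem mem_rg {G A : Type*} [Group G] [AddCommGroup A] {ε : A → G} {h : ∀ j k, ε (j + k) = ε j * ε k} {x : G} :
    x ∈ rg ε h ↔ ∃ k, ε k = x := ⟨fun ⟨k, e⟩ => ⟨k.toAdd, e⟩, fun ⟨k, e⟩ => ⟨Multiplicative.ofAdd k, e⟩⟩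

theorem eps_zero {G A : Type*} [Group G] [AddCommGroup A] {ε : A → G} (h : ∀ j k, ε (j + k) = ε j * ε k) : ε 0 = 1 := by
  have h1 := h 0 0
  rwa [add_zero, left_eq_mul] at h1

theorem card_rg {G A : Type*} [Group G] [AddCommGroup A] {ε : A → G} {h : ∀ j k, ε (j + k) = ε j * ε k}
    (hi : Function.Injective ε) : Nat.card (rg ε h) = Nat.card A :=
  (Nat.card_congr (MonoidHom.ofInjective (f := MonoidHom.mk' (fun k : Multiplicative A => ε k.toAdd) fun _ _ => h _ _)
    fun _ _ e => Multiplicative.toAdd.injective (hi e)).toEquiv).symm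

theorem ev_one {K : Type u} [Field K] : ev (LK K (1 : G8 K)) 1 = 248 := by
  have h : End.eigenspace (1 : End K (L8 K)) 1 = ⊤ :=
    eq_top_iff.2 fun v _ => End.mem_eigenspace_iff.2 (one_smul K v).symm
  rw [map_one, ev, h, finrank_top, finrank_L8]

theorem act_TT_ee {K : Type u} [Field K] {t : G8 K} (ht : t ∈ TT chevE8 K) {r : Fin chevE8.nroots}
    (h : cX e8T t (vec chevE8 8 r) = 1) : act t (ee K (Sum.inr r)) = ee K (Sum.inr r) := by
  funext i
  rw [act_TT ht]
  by_cases e : i = Sum.inr r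
  · rw [e, wt_inr, h, one_mul]
  · rw [ee_ne e, mul_zero]

theorem cX_of_fix {K : Type u} [Field K] {t : G8 K} (ht : t ∈ TT chevE8 K) {v : L8 K} (hv : act t v = v)
    {r : Fin chevE8.nroots} (h : v (Sum.inr r) ≠ 0) : cX e8T t (vec chevE8 8 r) = 1 := by
  have h1 := act_TT ht v (Sum.inr r)
  rw [hv, wt_inr] at h1
  exact mul_right_cancel₀ h (h1.symm.trans (one_mul _).symm)

variable {p : ℕ} [Fact p.Prime]

section Pure

variable {A : Type} [AddCommGroup A] [Finite A] (hp : p ≠ 2) (h2 : ∀ a : A, a + a = 0) {ε : A → G8 (KK p)}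
  (h : ∀ j k, ε (j + k) = ε j * ε k) (hd : ∀ a, a ≠ 0 → ev (LK (KK p) (ε a)) 1 = 120)

include h hd in
theorem eps_inj : Function.Injective ε := by
  intro a b e
  by_contra h1
  have h3 := hd (a - b) (sub_ne_zero.2 h1)
  have h4 := h (a - b) b
  rw [sub_add_cancel, e, right_eq_mul] at h4
  rw [h4, ev_one] at h3
  omega

include hp h2 hd in
theorem pu_rg : Pu (rg ε h) := by
  have h3 : ∀ x ∈ rg ε h, ∀ y ∈ rg ε h, x * y = y * x := by
    intro x hx y hy
    obtain ⟨a, rfl⟩ := mem_rg.1 hx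
    obtain ⟨b, rfl⟩ := mem_rg.1 hy
    rw [← h, add_comm, h]
  have h4 : ∀ x ∈ rg ε h, x ^ 2 = 1 := by
    intro x hx
    obtain ⟨a, rfl⟩ := mem_rg.1 hx
    rw [pow_two, ← h, h2, eps_zero h]
  refine ⟨⟨Nat.prime_two, hp.symm, Finite.of_surjective _ (MonoidHom.rangeRestrict_surjective _), h3, h4,
    fun x hx y hy => Two.pair_TT (F := ZMod p) (n := 1) Nat.prime_two ?_ (h4 x hx) (h4 y hy) (h3 x hx y hy)⟩, ?_⟩
  · exact_mod_cast H167.KKL.two_ne (k := ZMod p) p hp
  · intro x hx h1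
    obtain ⟨a, rfl⟩ := mem_rg.1 hx
    exact hd a fun h5 => h1 (by rw [h5, eps_zero h])

include hp h2 h hd in
theorem tor8 (h8 : Nat.card A = 8) : ∃ g : G8 (KK p), ∀ a, g * ε a * g⁻¹ ∈ TT chevE8 (KK p) :=
  let ⟨g, hg⟩ := toral8 (pu_rg hp h2 h hd) ((card_rg (eps_inj h hd)).trans h8)
  ⟨g, fun a => hg _ (mem_rg.2 ⟨a, rfl⟩)⟩

include hp h2 h hd in
/-- the fixed space of a pure group of order 16 is abelian -/
theorem ab16 (h16 : Nat.card A = 16) {u v : L8 (KK p)} (hu : ∀ a, act (ε a) u = u) (hv : ∀ a, act (ε a) v = v) :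
    br u v = 0 := by
  classical
  have H := pu_rg hp h2 h hd
  have hc := (card_rg (h := h) (eps_inj h hd)).trans h16
  obtain ⟨g, hg⟩ := toral16 H hc
  have hZ : (((rg ε h).map (MulAut.conj g).toMonoidHom : Subgroup _) : Set (G8 (KK p))) ⊆ TT chevE8 (KK p) := by
    rintro _ ⟨a, ha, rfl⟩
    exact hg a ha
  have h3 := (H.conj g).fx
  rw [card_conj, hc, finrank_Fx e8T hZ] at h3
  have h4 : ∀ w : L8 (KK p), (∀ a, act (ε a) w = w) → InT (act g w) := by
    intro w hw r
    by_contra h5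
    rw [show 256 = 16 * (8 + 0) + 8 * 16 from rfl, add_left_inj, mul_right_inj' (by norm_num), add_right_inj,
      Finset.card_eq_zero, Finset.filter_eq_empty_iff] at h3
    refine h3 (Finset.mem_univ r) ((mem_Ps (hp := e8T) hZ).2 ⟨rt_vec r, ?_⟩)
    rintro _ ⟨x, hx, rfl⟩
    obtain ⟨a, rfl⟩ := mem_rg.1 hx
    refine cX_of_fix (hg _ hx) ?_ h5
    rw [← act_mul, inv_mul_cancel_right, act_mul, hw]
  refine act_eq_zero (g := g) (funext fun i => ?_)
  rw [act_br, br_T (h4 u hu)]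
  rcases i with i | r
  · rw [wt_inl, map_zero, zero_mul]
    rfl
  · rw [h4 v hv r, mul_zero]
    rfl

end Pure

/-! ### eight orthogonal roots -/

section Roots

variable {K : Type u} [Field K] {I : Type} [AddCommGroup I] [Fintype I] [DecidableEq I]

variable (K) in
/-- the Cartan subalgebra -/
def inT : (Fin chevE8.rank → K) →ₗ[K] L8 K where
  toFun x := Sum.elim x fun _ => 0
  map_add' x y := funext fun i => by
    rcases i with i | i
    · rfl
    · exact (add_zero (0 : K)).symm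
  map_smul' c x := funext fun i => by
    rcases i with i | i
    · rfl
    · exact (mul_zero c).symm

theorem tor_zero (h2 : (2 : K) ≠ 0) (h8 : Fintype.card I = 8) {c : I → Q8}
    (hc : ∀ j k, B0 (c j) (c k) = if j = k then 2 else 0) {u : L8 K} (hu : InT u) (h0 : ∀ k, rl u (c k) = 0) : u = 0 := by
  have h1 : ∀ v : L8 K, InT v → inT K (fun i => v (Sum.inl i)) = v := fun v hv => tp_of_inT hv
  let ρ : (Fin chevE8.rank → K) →ₗ[K] I → K := LinearMap.pi (fun k => kf K (hq K (c k))) ∘ₗ inT K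
  have hρ : ∀ x k, ρ x k = rl (inT K x) (c k) := fun x k => kf_hq _ _
  have h3 : Function.Surjective ρ := by
    rw [← LinearMap.range_eq_top, eq_top_iff, ← (Pi.basisFun K I).span_eq, Submodule.span_le]
    rintro _ ⟨j, rfl⟩
    refine ⟨fun i => ((2 : K)⁻¹ • hq K (c j)) (Sum.inl i), funext fun k => ?_⟩
    rw [hρ, h1 _ fun r => mul_zero _, rl_smul, rl_hq, hc, Pi.basisFun_apply, Pi.single_apply]
    by_cases e : j = k
    · rw [if_pos e, if_pos e.symm, Int.cast_ofNat, inv_mul_cancel₀ h2]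
    · rw [if_neg e, if_neg fun e' => e e'.symm, Int.cast_zero, mul_zero]
  rw [← LinearMap.injective_iff_surjective_of_finrank_eq_finrank (by
    rw [finrank_fintype_fun_eq_card, finrank_fintype_fun_eq_card, h8]; rfl), injective_iff_map_eq_zero] at h3
  rw [← h1 u hu, h3 (fun i => u (Sum.inl i)) (funext fun k => by rw [hρ, h1 u hu, h0]; rfl), map_zero]

variable (K) in
/-- the algebra of a root -/
def sr8 (r : Fin chevE8.nroots) : Submodule K (L8 K) := sl (ee K (Sum.inr r)) (ee K (Sum.inr (op r)))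

variable (K) in
/-- the projection -/
noncomputable def pr8 (r : Fin chevE8.nroots) : L8 K →ₗ[K] L8 K :=
  (LinearMap.proj (Sum.inr r)).smulRight (ee K (Sum.inr r)) +
    (2 : K)⁻¹ • (kf K (hq K (vec chevE8 8 r))).smulRight (hq K (vec chevE8 8 r)) +
    (LinearMap.proj (Sum.inr (op r))).smulRight (ee K (Sum.inr (op r)))

theorem pr8_apply (r : Fin chevE8.nroots) (v : L8 K) : pr8 K r v = v (Sum.inr r) • ee K (Sum.inr r) +
    ((2 : K)⁻¹ * rl v (vec chevE8 8 r)) • hq K (vec chevE8 8 r) + v (Sum.inr (op r)) • ee K (Sum.inr (op r)) := by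
  rw [← kf_hq, mul_smul]
  rfl

theorem pr8_mem (r : Fin chevE8.nroots) (v : L8 K) : pr8 K r v ∈ sr8 K r :=
  mem_sl.2 ⟨_, _, _, by rw [pr8_apply, br_ee_op]⟩

theorem pr8_inr (r t : Fin chevE8.nroots) (v : L8 K) :
    pr8 K r v (Sum.inr t) = if t = r ∨ t = op r then v (Sum.inr t) else 0 := by
  rw [pr8_apply, Pi.add_apply, Pi.add_apply, Pi.smul_apply, Pi.smul_apply, Pi.smul_apply, inT_hq, smul_zero, add_zero]
  by_cases h1 : t = r
  · rw [if_pos (Or.inl h1), h1, ee_self, ee_ne fun e => op_ne' r (Sum.inr.inj e).symm, smul_zero, add_zero, smul_eq_mul,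
      mul_one]
  · rw [ee_ne fun e => h1 (Sum.inr.inj e), smul_zero, zero_add]
    by_cases h2 : t = op r
    · rw [if_pos (Or.inr h2), h2, ee_self, smul_eq_mul, mul_one]
    · rw [if_neg (not_or.2 ⟨h1, h2⟩), ee_ne fun e => h2 (Sum.inr.inj e), smul_zero]

theorem rl_ee (r : Fin chevE8.nroots) (a : Q8) : rl (ee K (Sum.inr r)) a = 0 := by
  rw [rl_congr (w := 0) fun i => ee_ne (by simp), rl_zero]

theorem rl_pr8 (r : Fin chevE8.nroots) (v : L8 K) (a : Q8) :
    rl (pr8 K r v) a = (2 : K)⁻¹ * rl v (vec chevE8 8 r) * ((B0 (vec chevE8 8 r) a : ℤ) : K) := by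
  rw [pr8_apply, rl_add, rl_add, rl_smul, rl_smul, rl_smul, rl_ee, rl_ee, rl_hq, mul_zero, mul_zero, zero_add, add_zero]

theorem ee_mem_sr8 {r t : Fin chevE8.nroots} (h : t = r ∨ t = op r) :
    ee K (Sum.inr t) ∈ sr8 K r ∧ ee K (Sum.inr (op t)) ∈ sr8 K r := by
  rcases h with rfl | rfl
  · exact ⟨e_mem _ _, f_mem _ _⟩
  · exact ⟨f_mem _ _, by rw [op_op]; exact e_mem _ _⟩

theorem orth_sr8 {r t : Fin chevE8.nroots} (h : B0 (vec chevE8 8 r) (vec chevE8 8 t) = 0) {u v : L8 K}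
    (hu : u ∈ sr8 K r) (hv : v ∈ sr8 K t) : br u v = 0 := by
  refine br_comm_zero (br_sl_zero (br_comm_zero (br_sl_zero (br_ee_zero h.ge) (br_ee_zero ?_) hv))
    (br_comm_zero (br_sl_zero (br_ee_zero ?_) (br_ee_zero ?_) hv)) hu)
  all_goals simp only [vec_op, map_neg, LinearMap.neg_apply, h, neg_zero, le_refl]

theorem sum_pr8 (h2 : (2 : K) ≠ 0) (h8 : Fintype.card I = 8) {r : I → Fin chevE8.nroots}
    (hc : ∀ j k, B0 (vec chevE8 8 (r j)) (vec chevE8 8 (r k)) = if j = k then 2 else 0) {v : L8 K}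
    (hv : ∀ t, v (Sum.inr t) ≠ 0 → ∃ k, t = r k ∨ t = op (r k)) : ∑ k, pr8 K (r k) v = v := by
  refine sub_eq_zero.1 (tor_zero h2 h8 hc (fun t => ?_) fun j => ?_)
  · rw [Pi.sub_apply, Finset.sum_apply, sub_eq_zero]
    by_cases h : v (Sum.inr t) = 0
    · rw [h]
      exact Finset.sum_eq_zero fun k _ => by rw [pr8_inr, h, ite_self]
    · obtain ⟨k, hk⟩ := hv t h
      rw [Finset.sum_eq_single k (fun j _ hj => ?_) fun h => absurd (Finset.mem_univ k) h, pr8_inr, if_pos hk]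
      rw [pr8_inr, if_neg fun h3 => ?_]
      have h4 := hc j k
      have h5 := B0_vec t
      rw [if_neg hj] at h4
      have h6 : ∀ l, t = r l ∨ t = op (r l) →
          vec chevE8 8 (r l) = vec chevE8 8 t ∨ vec chevE8 8 (r l) = -vec chevE8 8 t := fun l hl =>
        hl.imp (fun e => by rw [e]) fun e => by rw [e, vec_op, neg_neg]
      rcases h6 j h3 with e | e <;> rcases h6 k hk with e' | e' <;> rw [e, e'] at h4 <;>
        simp only [map_neg, LinearMap.neg_apply, h5] at h4 <;> omega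
  · rw [rl_sub, ← kf_hq, map_sum, Finset.sum_eq_single j (fun k _ hk => ?_) fun h => absurd (Finset.mem_univ j) h,
      kf_hq, rl_pr8, hc, if_pos rfl, Int.cast_ofNat, mul_right_comm, inv_mul_cancel₀ h2, one_mul, sub_self]
    rw [kf_hq, rl_pr8, hc, if_neg hk, Int.cast_zero, mul_zero]

theorem xr_mem (h2 : (2 : K) ≠ 0) {r t : Fin chevE8.nroots}
    (h : (t = r ∨ t = op r) ∨ B0 (vec chevE8 8 t) (vec chevE8 8 r) = 0) (c : K) {v : L8 K} (hv : v ∈ sr8 K r) :
    act (xr t c) v ∈ sr8 K r := by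
  rw [act_xr]
  rcases h with h | h
  · exact sub_mem (add_mem hv (Submodule.smul_mem _ _ ((tri_ee h2 r).br_mem (ee_mem_sr8 h).1 hv)))
      (Submodule.smul_mem _ _ (ee_mem_sr8 h).1)
  · have h1 := orth_sr8 h (e_mem _ _) hv
    rwa [h1, kf_eq_zero_of_br h1, smul_zero, mul_zero, zero_smul, add_zero, sub_zero]

theorem isMC_sg (f : Fn) : IsMC fun x => (H167.KKL.sg (f x) : K) where
  zero := by
    show (H167.KKL.sg (f 0) : K) = 1
    rw [map_zero]
    rfl
  add x y := by
    show (H167.KKL.sg (f (x + y)) : K) = _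
    rw [map_add, sg_add]

theorem sg_int (m : ℤ) : (H167.KKL.sg (m : ZMod 2) : K) = (-1) ^ m := by
  unfold H167.KKL.sg
  split_ifs with h
  · exact (((ZMod.intCast_eq_zero_iff_even).1 h).neg_one_zpow).symm
  · exact ((Int.not_even_iff_odd.1 fun h1 => h ((ZMod.intCast_eq_zero_iff_even).2 h1)).neg_one_zpow).symm

theorem gr_B0 (x : Q8) (r : Fin chevE8.nroots) : gr (vec chevE8 8 r) x = ((B0 x (vec chevE8 8 r) : ℤ) : ZMod 2) := by
  rw [gr_apply e8T x (rt_vec r), fm8.cpr x _ (rt_vec r)]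

theorem exists_z (r : Fin chevE8.nroots) : ∃ z ∈ TT chevE8 K, (∀ x, cX e8T z x = H167.KKL.sg (gr (vec chevE8 8 r) x)) ∧
    Rz z (ee K (Sum.inr r)) (ee K (Sum.inr (op r))) := by
  obtain ⟨z, hz, h⟩ := exists_cX e8T invB8 one_ne_zero (isMC_sg (K := K) (gr (vec chevE8 8 r))) fun i => ⟨_, pow_one _⟩
  refine ⟨z, hz, h, 1, r, (act_one _).symm, (act_one _).symm, ?_⟩
  rw [mx_one, Matrix.mul_one, Matrix.one_mul, mx_TT hz, dz]
  congr 1
  funext i
  rw [h, ← sg_int]
  congr 1
  show ((∑ k, wt i k * pairing (cartanOf chevE8 8) k (vec chevE8 8 r) : ℤ) : ZMod 2) = _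
  congr 1
  exact Finset.sum_congr rfl fun k _ => by rw [pairing_vec e8T k r.2]; rfl

end Roots

/-- the roots annihilated by a pure group of order eight -/
structure RD {I : Type} [AddCommGroup I] [DecidableEq I] (ε : I → G8 (KK p)) (f : I → Fn) (r : I → Fin chevE8.nroots) :
    Prop where
  ch : ∀ a x, cX e8T (ε a) x = H167.KKL.sg (f a x)
  zero : ∀ k j, f j (vec chevE8 8 (r k)) = 0
  all : ∀ t : Fin chevE8.nroots, (∀ j, f j (vec chevE8 8 t) = 0) → ∃ k, t = r k ∨ t = op (r k)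
  add : ∀ j k, gr (vec chevE8 8 (r (j + k))) = gr (vec chevE8 8 (r j)) + f k
  orth : ∀ j k, B0 (vec chevE8 8 (r j)) (vec chevE8 8 (r k)) = if j = k then 2 else 0

section Ex

variable {I : Type} [AddCommGroup I] [Fintype I] [DecidableEq I] (hp : p ≠ 2) (h2 : ∀ a : I, a + a = 0)
  (h8 : Fintype.card I = 8) {ε : I → G8 (KK p)} (h : ∀ j k, ε (j + k) = ε j * ε k)
  (hd : ∀ a, a ≠ 0 → ev (LK (KK p) (ε a)) 1 = 120) (hT : ∀ a, ε a ∈ TT chevE8 (KK p))

include hp h2 h8 h hd hT

theorem exists_rd : ∃ f r, RD ε f r := by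
  classical
  have H := pu_rg hp h2 h hd
  have hi := eps_inj h hd
  have two := H.two
  have hZ : (rg ε h : Set (G8 (KK p))) ⊆ TT chevE8 (KK p) := fun x hx => by
    obtain ⟨a, rfl⟩ := mem_rg.1 hx
    exact hT a
  have h1 := H.fx
  rw [card_rg hi, Nat.card_eq_fintype_card, h8] at h1
  choose f hf0 using fun a => exists_sgn e8T p (locFin p) (hT a) (H.sq (mem_rg.2 ⟨a, rfl⟩))
  have hf : ∀ a x, cX e8T (ε a) x = H167.KKL.sg (f a x) := fun a =>
    (isMC_cX e8T (hT a)).ext (isMC_sg (f a)) fun i => by rw [cX_sr, hf0 _ _ (isRoot_sr cs8 e8T.isCartan i)]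
  have hsg : ∀ x y : ZMod 2, (H167.KKL.sg x : KK p) = H167.KKL.sg y → x = y := fun x y h => by
    have h3 := sg_eq_one (k := KK p) two x
    rw [h, sg_eq_one two] at h3
    exact (by decide : ∀ x y : ZMod 2, (y = 0 ↔ x = 0) → x = y) x y h3
  have hz : ∀ a b, cX e8T (ε a) b = 1 ↔ f a b = 0 := fun a b => by rw [hf, sg_eq_one two]
  have h16 : (Finset.univ.filter fun s : Fin chevE8.nroots => ∀ a, f a (vec chevE8 8 s) = 0).card = 16 := by
    have h3 := finrank_Fx e8T hZ
    rw [Finset.filter_congr (q := fun s : Fin chevE8.nroots => ∀ a, f a (vec chevE8 8 s) = 0) fun s _ => by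
      rw [mem_Ps hZ, and_iff_right (rt_vec s)]
      exact ⟨fun h3 a => (hz a _).1 (h3 _ (mem_rg.2 ⟨a, rfl⟩)), fun h3 x hx => by
        obtain ⟨a, rfl⟩ := mem_rg.1 hx
        exact (hz a _).2 (h3 a)⟩] at h3
    omega
  have hadd : ∀ a b, f (a + b) = f a + f b := fun a b => AddMonoidHom.ext fun x => hsg _ _ (by
    rw [AddMonoidHom.add_apply, sg_add, ← hf, ← hf, ← hf, h, cX_mul e8T (hT a) (hT b)])
  have hinj : Function.Injective f := fun a b e => hi (cX_inj e8T (hT a) (hT b) fun i => by rw [hf, hf, e])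
  have hS : ∀ a, f a ≠ 0 → Sing (f a) := by
    intro a ha
    have h3 : dd p (ε a) = 120 := hd a fun e => ha (AddMonoidHom.ext fun x => (hz a x).1 (by rw [e, eps_zero h, cX_one]))
    rw [dd_tor e8T (hT a), Finset.filter_congr (q := fun s : Fin chevE8.nroots => f a (vec chevE8 8 s) = 0)
      fun s _ => hz a _] at h3
    unfold Sing
    omega
  obtain ⟨r0, hr0⟩ := Finset.card_pos.1 (by rw [h16]; norm_num :
    0 < (Finset.univ.filter fun s : Fin chevE8.nroots => ∀ a, f a (vec chevE8 8 s) = 0).card)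
  have hr0' := (Finset.mem_filter.1 hr0).2
  have hadd' : ∀ a b, ∃ c, f c = f a + f b := fun a b => ⟨_, hadd a b⟩
  choose r hr1 hr2 using fun k => (show ∃ r : Fin chevE8.nroots, (∀ j, f j (vec chevE8 8 r) = 0) ∧
      gr (vec chevE8 8 r) = gr (vec chevE8 8 r0) + f k from by
    obtain ⟨c, hc, h3⟩ := exists_shift e8T hadd' hS (rt_vec r0) hr0' k
    obtain ⟨r, rfl⟩ := exists_idx hc
    exact ⟨r, h3⟩)
  refine ⟨f, r, hf, hr1, fun t ht => ?_, fun j k => by rw [hr2, hr2, hadd, add_assoc], fun j k => ?_⟩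
  · obtain ⟨k, hk⟩ := coset e8T hadd' hS h8 hinj h16 (rt_vec r0) hr0' (rt_vec t) ht
    exact ⟨k, (eq_of_gr e8T (rt_vec (r k)) (rt_vec t) (hk.trans (hr2 k).symm)).imp vec_injective
      fun e => vec_injective (e.trans (vec_op _).symm)⟩
  · have hev : gr (vec chevE8 8 (r k)) (vec chevE8 8 (r j)) = 0 := by
      have h3 := gr_B0 (vec chevE8 8 (r j)) (r j)
      rw [B0_vec, hr2, AddMonoidHom.add_apply, hr1, add_zero] at h3
      rw [hr2, AddMonoidHom.add_apply, hr1, add_zero, h3]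
      rfl
    split_ifs with e
    · rw [e, B0_vec]
    · have h3 : gr (vec chevE8 8 (r j)) ≠ gr (vec chevE8 8 (r k)) := fun h3 => e (hinj (by
        rw [hr2, hr2] at h3
        exact add_left_cancel h3))
      have h4 := fm8.sl _ _ (rt_vec (r j)) (rt_vec (r k)) (fun h4 => h3 (by rw [h4]))
        fun h4 => h3 (by rw [h4, gr_neg e8T (rt_vec _)])
      rw [gr_B0, ZMod.intCast_zmod_eq_zero_iff_dvd] at hev
      rw [← fm8.cpr _ _ (rt_vec (r k)), abs_le] at h4
      omega

end Ex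

namespace RD

variable {I : Type} [AddCommGroup I] [Fintype I] [DecidableEq I] {ε : I → G8 (KK p)} {f : I → Fn}
  {r : I → Fin chevE8.nroots} (R : RD ε f r) (two : (2 : KK p) ≠ 0)

include R two

theorem one_iff (a : I) (b : Q8) : cX e8T (ε a) b = 1 ↔ f a b = 0 := by rw [R.ch, sg_eq_one two]

omit two in
theorem gr_zero {t : Fin chevE8.nroots} {j : I} (h : t = r j ∨ t = op (r j)) (k : I) :
    gr (vec chevE8 8 (r k)) (vec chevE8 8 t) = 0 := by
  have h1 : gr (vec chevE8 8 (r k)) (vec chevE8 8 (r j)) = 0 := by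
    rw [gr_B0, R.orth]
    split_ifs <;> rfl
  rcases h with e | e
  · rw [e, h1]
  · rw [e, vec_op, map_neg, h1, neg_zero]

theorem xr_stab {t : Fin chevE8.nroots} {j : I} (h : t = r j ∨ t = op (r j)) (l : I) (c : KK p) :
    xr t c ∈ stabL (sr8 (KK p) (r l)) := by
  have h1 : (t = r l ∨ t = op (r l)) ∨ B0 (vec chevE8 8 t) (vec chevE8 8 (r l)) = 0 := by
    by_cases e : j = l
    · exact Or.inl (e ▸ h)
    · right
      rcases h with e' | e'
      · rw [e', R.orth, if_neg e]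
      · rw [e', vec_op, map_neg, LinearMap.neg_apply, R.orth, if_neg e, neg_zero]
  exact ⟨fun v hv => xr_mem two h1 c hv, fun v hv => by rw [xr_inv]; exact xr_mem two h1 _ hv⟩

theorem nor (hi : Function.Injective ε) (hT : ∀ a, ε a ∈ TT chevE8 (KK p)) {Z : I → G8 (KK p)}
    (hZ1 : ∀ k, Z k ∈ TT chevE8 (KK p)) (hZ2 : ∀ k x, cX e8T (Z k) x = H167.KKL.sg (gr (vec chevE8 8 (r k)) x))
    {g : G8 (KK p)} (hg : ∀ k, ∃ j, g * ε k = ε j * g) (k : I) :
    ∃ l, g * Z k * g⁻¹ = Z l ∧ ∀ v ∈ sr8 (KK p) (r k), act g v ∈ sr8 (KK p) (r l) := by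
  choose j hj using hg
  have hj' : Function.Surjective j := Finite.surjective_of_injective fun a b e =>
    hi (mul_left_cancel (a := g) (by rw [hj, hj, e]))
  obtain ⟨m, hm, w, n, hn, hnε, e0⟩ := form₂ e8T (s := ε) (t := fun a => ε (j a)) hT (fun a => hT _) hj
  have hZ' : (Set.range fun a => ε (j a)) ⊆ TT chevE8 (KK p) := by
    rintro _ ⟨a, rfl⟩
    exact hT _
  have hPs : ∀ a ∈ Ps e8T p (Set.range fun a => ε (j a)), ∃ (t : Fin chevE8.nroots) (l : I),
      vec chevE8 8 t = a ∧ (t = r l ∨ t = op (r l)) := by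
    intro a ha
    obtain ⟨h3, h4⟩ := (mem_Ps hZ').1 ha
    obtain ⟨t, rfl⟩ := exists_idx h3
    obtain ⟨l, hl⟩ := R.all t fun b => by
      obtain ⟨a, rfl⟩ := hj' b
      exact (R.one_iff two _ _).1 (h4 _ ⟨a, rfl⟩)
    exact ⟨t, l, rfl, hl⟩
  obtain ⟨t, ht⟩ := exists_idx ((rt_vec (r k)).act w)
  obtain ⟨l, hl⟩ := R.all t fun b => by
    obtain ⟨a, rfl⟩ := hj' b
    have h3 := hn.cX (hT a) (vec chevE8 8 (r k))
    rw [hnε, mul_inv_cancel_right, ← ht, (R.one_iff two _ _).2 (R.zero k a)] at h3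
    exact (R.one_iff two _ _).1 h3
  have h3 : n * Z k * n⁻¹ = Z l := by
    have h4 : gr (vec chevE8 8 (r l)) = gr (vec chevE8 8 t) := by
      rcases hl with e | e
      · rw [e]
      · rw [e, vec_op, gr_neg e8T (rt_vec _)]
    refine cX_inj e8T (hn.conj_mem (hZ1 k)) (hZ1 l) fun i => ?_
    rw [← rep_apply_inv cs8 e8T.isCartan w (sr i), hn.cX (hZ1 k), hZ2, hZ2, h4, ht, gr_rep e8T w (rt_vec _)]
  have h4 : Z l * m = m * Z l := comm_Mz (hZ1 l) (fun a ha => by
    obtain ⟨t', l', e, h4⟩ := hPs a ha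
    rw [hZ2, sg_eq_one two, ← e, R.gr_zero h4]) hm
  have h6 : m ∈ stabL (sr8 (KK p) (r l)) := Mz_le (K := stabL (sr8 (KK p) (r l))) (fun a ha x hx => by
    obtain ⟨t', l', e, h6⟩ := hPs a ha
    rw [← e] at hx
    obtain ⟨c, e'⟩ := mem_XX_iff.1 hx
    rw [e']
    exact R.xr_stab two h6 l c) hm
  refine ⟨l, ?_, fun v hv => ?_⟩
  · rw [e0, show m * n * Z k * (m * n)⁻¹ = m * (n * Z k * n⁻¹) * m⁻¹ by group, h3, ← h4, mul_inv_cancel_right]
  · rw [e0, act_mul]
    obtain ⟨c, -, e⟩ := RepK.ee hn.toT ht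
    obtain ⟨c', -, e'⟩ := RepK.ee hn.toT (r := op (r k)) (s := op t) (by rw [vec_op, vec_op, act8_neg, ht])
    have h7 : act n (ee (KK p) (Sum.inr (r k))) ∈ sr8 (KK p) (r l) := by
      rw [e]
      exact Submodule.smul_mem _ _ (ee_mem_sr8 hl).1
    have h8 : act n (ee (KK p) (Sum.inr (op (r k)))) ∈ sr8 (KK p) (r l) := by
      rw [e']
      exact Submodule.smul_mem _ _ (ee_mem_sr8 hl).2
    exact h6.1 _ (act_sl h7 h8 ((tri_ee two (r l)).br_mem h7 h8) hv)

end RD

/-- **The decomposition.** -/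
theorem exists_dec {I : Type} [AddCommGroup I] [Fintype I] [DecidableEq I] (hp : p ≠ 2) (h2 : ∀ a : I, a + a = 0)
    (h8 : Fintype.card I = 8) {ε : I → G8 (KK p)} (h : ∀ j k, ε (j + k) = ε j * ε k)
    (hd : ∀ a, a ≠ 0 → ev (LK (KK p) (ε a)) 1 = 120) (hT : ∀ a, ε a ∈ TT chevE8 (KK p)) :
    ∃ Z s π, Dec ε Z s π := by
  obtain ⟨f, r, R⟩ := exists_rd hp h2 h8 h hd hT
  have hi := eps_inj h hd
  have two := (pu_rg hp h2 h hd).two
  choose Z hZ1 hZ2 hZ3 using fun k => exists_z (K := KK p) (r k)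
  refine ⟨Z, fun k => sr8 _ (r k), fun k => pr8 _ (r k), two, h, hi, fun k => ⟨_, _, hZ3 k, rfl⟩, fun j k => ?_,
    fun j k => BpExc.TorChev.TT_comm e8T _ (hT j) _ (hZ1 k), fun k v hv j => ?_,
    fun j k e u hu v hv => orth_sr8 (by rw [R.orth, if_neg e]) hu hv, fun k v => pr8_mem _ v,
    fun v hv => sum_pr8 two h8 R.orth fun t ht => R.all t fun j => (R.one_iff two _ _).1 (cX_of_fix (hT j) (hv j) ht),
    fun g hg => R.nor two hi hT hZ1 hZ2 hg⟩
  · refine cX_inj e8T (hZ1 _) (mul_mem (hZ1 j) (hT k)) fun i => ?_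
    rw [cX_mul e8T (hZ1 j) (hT k), hZ2, hZ2, R.ch, ← sg_add, R.add, AddMonoidHom.add_apply]
  · exact fix_sl (act_TT_ee (hT j) ((R.one_iff two _ _).2 (R.zero k j)))
      (act_TT_ee (hT j) ((R.one_iff two _ _).2 (by rw [vec_op, map_neg, R.zero, neg_zero]))) hv

end Cfsg.Agent.E8A.Odd.Tha
end

-- part: E8A/Odd/Tha
section
prune_inst 0xd5207544044000000018050232000404ee000090002b8801d9400b440e46f34320012f41fc701a0080faaec46009406811000110427000000e008400411d00a084835226b358ad0c760097819886000000000000000000000000000000051004000000000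
set_option linter.all false
open scoped Cfsg.Agent.FastGrp

/-!
# The box THA: the group `A₈` centralizes a long root `SL₂` (helper90)

* `eps ψ` : the regular group `2³`; `cfg` : the relations; `gen8` : generators of `A₈`;
* `key` : the conclusion for the group `2³ : L₃(2)`; `tha : THA`.
-/

set_option autoImplicit false
set_option maxRecDepth 100000

namespace Cfsg.Agent.E8A.Odd

namespace Tha

open Cfsg Cfsg.Lie Module Equiv
open Cfsg.Agent.KFacts.RgdChevCoord
open Cfsg.Agent.H952.F4 (ev)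
open Cfsg.Agent.H469.Exc (KK)
open Cfsg.Agent.R2.T1.Odd
open Cfsg.Agent.E8A.Two.Mk (eqP P_eqP P_mul evP mem_Tg)

universe u

/-- the elements of the group of order 8 -/
def eW (k : I8) : List (ℕ × ℕ) :=
  wd gQs ((if k.1 = 0 then [] else [0, 2]) ++ (if k.2.1 = 0 then [] else [1, 3]) ++ if k.2.2 = 0 then [] else [4])

/-- the elements of the group of order 16 -/
def dW (k : ZMod 2 × I8) : List (ℕ × ℕ) := wd gQs ((if k.1 = 0 then [] else [0]) ++ (if k.2.1 = 0 then [] else [1]) ++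
  (if k.2.2.1 = 0 then [] else [2]) ++ if k.2.2.2 = 0 then [] else [3])

/-- conjugating elements -/
def cW : List (List (ℕ × ℕ)) := [[], [(0, 3), (4, 7)], [(0, 2), (4, 6)], [(0, 5), (2, 7)], [(0, 4), (2, 6)],
  [(0, 7), (2, 5)], [(0, 6), (2, 4)], [(0, 1), (0, 2)], [(0, 1), (0, 3)], [(0, 4), (1, 5), (2, 6), (3, 7)],
  [(0, 4), (1, 6), (2, 5), (3, 7)], [(0, 1), (4, 7)], [(0, 2), (4, 7)], [(0, 4), (1, 7), (2, 5), (3, 6)],
  [(0, 1), (4, 6)], [(0, 3), (4, 6)]]

/-- a permutation -/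
def lb : List (ℕ × ℕ) := [(0, 2), (1, 3)]

/-- a permutation -/
def lc : List (ℕ × ℕ) := [(0, 1), (4, 5)]

/-- a permutation -/
def lg : List (ℕ × ℕ) := [(2, 4), (4, 6), (3, 5), (5, 7)]

/-- a permutation -/
def lu : List (ℕ × ℕ) := [(1, 5), (2, 6)]

/-- generators of `A₈` -/
def gA : List (List (ℕ × ℕ)) := [lt, lb, [(0, 4), (1, 5), (2, 6), (3, 7)], lc, lu, [(0, 5), (2, 6)]]

/-- the words for `(0 1)(a b)` -/
def tA : List (List (List ℕ)) :=
  [[[], [], [5, 0, 1, 4, 5, 1, 4, 1], [4, 0, 1, 4, 5, 1, 5], [4, 3, 5], [5, 4], [0, 1, 4, 5, 4, 1], [1, 5, 2, 4, 5, 1, 3]],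
  [[], [], [1, 4, 0, 1, 4, 5, 1, 5], [5, 0, 1, 4, 5, 1, 4], [5, 3, 4], [4, 5], [0, 1, 4, 0, 5, 1], [2, 1, 3, 4, 5, 1, 2]],
  [[5, 0, 1, 4, 5, 1, 4, 1], [1, 4, 0, 1, 4, 5, 1, 5], [], [0], [0, 1, 4, 3, 5, 1], [0, 1, 5, 4, 1], [4, 5, 4],
    [2, 3, 4, 0, 5, 2]],
  [[4, 0, 1, 4, 5, 1, 5], [5, 0, 1, 4, 5, 1, 4], [0], [], [0, 1, 5, 3, 4, 1], [0, 1, 4, 5, 1], [4, 0, 5], [2, 4, 5, 3, 4]],
  [[4, 3, 5], [5, 3, 4], [0, 1, 4, 3, 5, 1], [0, 1, 5, 3, 4, 1], [], [3], [4, 0, 1, 4, 3, 5, 1, 5],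
    [2, 3, 4, 0, 1, 4, 5, 1, 5, 2]],
  [[5, 4], [4, 5], [0, 1, 5, 4, 1], [0, 1, 4, 5, 1], [3], [], [4, 1, 5, 1, 4, 1, 5, 1, 4], [2, 4, 1, 5, 4, 3, 1, 2, 5]],
  [[0, 1, 4, 5, 4, 1], [0, 1, 4, 0, 5, 1], [4, 5, 4], [4, 0, 5], [4, 0, 1, 4, 3, 5, 1, 5], [4, 1, 5, 1, 4, 1, 5, 1, 4], [],
    [2, 0, 2, 3]],
  [[1, 5, 2, 4, 5, 1, 3], [2, 1, 3, 4, 5, 1, 2], [2, 3, 4, 0, 5, 2], [2, 4, 5, 3, 4], [2, 3, 4, 0, 1, 4, 5, 1, 5, 2],
    [2, 4, 1, 5, 4, 3, 1, 2, 5], [2, 0, 2, 3], []]]

private noncomputable def _root_.Cfsg.Agent.LsF.f6d87cb_0 : {f // @Cfsg.Agent.R2.T1.Odd.ap = f} := ⟨_, by first | (delta Cfsg.Agent.R2.T1.Odd.ap List.brecOn List.brecOn.go Cfsg.Agent.R2.T1.Odd.ap._f; rewrite [Cfsg.Agent.LsF.dBoolEq_eq, Cfsg.Agent.LsF.ite_eq]; (try delta Cfsg.Agent.R2.T1.Odd.ap.match_1); (try delta List.casesOn); first | dsimp -zeta only | exact rfl) | exact rfl⟩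
private noncomputable def _root_.Cfsg.Agent.LsF.f6d87cb_1 : {f // @Cfsg.Agent.R2.T1.Odd.cd = f} := ⟨_, by first | (delta Cfsg.Agent.R2.T1.Odd.cd; rewrite [Cfsg.Agent.LsF.f6d87cb_0.2, Cfsg.Agent.LsF.map_eq, Cfsg.Agent.LsF.range_eq]; exact rfl) | exact rfl⟩
private noncomputable def _root_.Cfsg.Agent.LsF.f6d87cb_2 : {f // @Cfsg.Agent.R2.T1.Odd.wd = f} := ⟨_, by first | (delta Cfsg.Agent.R2.T1.Odd.wd; rewrite [Cfsg.Agent.LsF.map_eq, Cfsg.Agent.LsF.flatten_eq, Cfsg.Agent.LsF.getD_eq]; exact rfl) | exact rfl⟩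
theorem tA_spec : ∀ a < 8, ∀ b < 8, a ≠ b → cd 8 [(0, 1), (a, b)] = cd 8 (wd gA ((tA.getD a []).getD b [])) := by
  (refine of_decide_eq_true ?_; (try (rewrite [Cfsg.Agent.LsF.f6d87cb_1.2, Cfsg.Agent.LsF.f6d87cb_2.2, Cfsg.Agent.LsF.instDecEq_eq, Cfsg.Agent.LsF.getD_eq, Cfsg.Agent.LsF.dNot_eq, Cfsg.Agent.LsF.dListEq_eq, Cfsg.Agent.LsF.dBallLT_eq, Cfsg.Agent.LsF.dAllP_eq, Cfsg.Agent.LsF.decide_eq])); decide +kernel)

section Perm

variable {n : ℕ} [NeZero n] (hn : 8 ≤ n)

include hn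

theorem P3 {a b c d : List (ℕ × ℕ)} {a' c' : List (ℕ × ℕ)}
    (h : (vl 8 a && vl 8 a' && vl 8 c && vl 8 c' && eqP 8 (a ++ a') b (c ++ c') d) = true) :
    P n a * P n a' * P n b = P n c * P n c' * P n d := by
  simp only [Bool.and_eq_true] at h
  rw [← P_append hn h.1.1.1.1 h.1.1.1.2, ← P_append hn h.1.1.2 h.1.2, P_eqP hn h.2]

theorem mem_wd {gens : List (List (ℕ × ℕ))} (h : gens.all (vl 8) = true) {l : List (ℕ × ℕ)} (hl : vl 8 l = true)
    (w : List ℕ) (hc : cd 8 l = cd 8 (wd gens w)) : P n l ∈ Tg n gens := by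
  rw [(P_eq_iff hn hl (vl_wd h w)).2 hc]
  exact P_wd_mem hn h w

omit hn in
theorem vl_two {x y : ℕ × ℕ} (hx : x.1 < 8 ∧ x.2 < 8 ∧ x.1 ≠ x.2) (hy : y.1 < 8 ∧ y.2 < 8 ∧ y.1 ≠ y.2) :
    vl 8 [x, y] = true := vl_iff.2 ⟨Nat.mod_self 2, by
  intro z hz
  simp only [List.mem_cons, List.not_mem_nil, or_false] at hz
  rcases hz with rfl | rfl
  exacts [hx, hy]⟩

theorem gen8 : ∀ l : List (ℕ × ℕ), vl 8 l = true → P n l ∈ Tg n gA
  | [], _ => by rw [P_nil]; exact one_mem _
  | [_], h => absurd (vl_iff.1 h).1 (by simp)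
  | x :: y :: l, h => by
    obtain ⟨h1, h2⟩ := vl_iff.1 h
    have h3 : vl 8 l = true := vl_iff.2 ⟨by simp only [List.length_cons] at h1; omega, h2.tail.tail⟩
    have hx := h2.cons
    have hy := h2.tail.cons
    have h0 : ((0, 1) : ℕ × ℕ).1 < 8 ∧ ((0, 1) : ℕ × ℕ).2 < 8 ∧ ((0, 1) : ℕ × ℕ).1 ≠ ((0, 1) : ℕ × ℕ).2 := by decide
    have h4 : ∀ z : ℕ × ℕ, z.1 < 8 ∧ z.2 < 8 ∧ z.1 ≠ z.2 → P n [(0, 1), z] ∈ Tg n gA := fun z hz =>
      mem_wd hn (by decide) (vl_two h0 hz) _ (tA_spec _ hz.1 _ hz.2.1 hz.2.2)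
    have h5 : P n [(0, 1), x] * P n [x, y] = P n [(0, 1), y] := by
      apply Subtype.ext
      rw [Subgroup.coe_mul, coe_P hn (vl_two h0 hx), coe_P hn (vl_two hx hy), coe_P hn (vl_two h0 hy)]
      simp only [pm_cons, pm_nil, mul_one]
      rw [mul_assoc, ← mul_assoc (swap _ _) (swap _ _) (swap (Fin.ofNat n y.1) _), swap_mul_self, one_mul]
    rw [show x :: y :: l = [x, y] ++ l from rfl, P_append hn (vl_two hx hy) h3]
    exact mul_mem ((mul_mem_cancel_left (h4 x hx)).1 (h5 ▸ h4 y hy)) (gen8 l h3)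

omit hn in
/-- conjugation by a transposition -/
noncomputable def tau (n : ℕ) [NeZero n] : MulAut (Alt n) := MulAut.conjNormal (pm n [(0, 1)])

theorem tau_P {l l' : List (ℕ × ℕ)} (h : (vl 8 l && vl 8 l' && cd 8 ([(0, 1)] ++ l) == cd 8 (l' ++ [(0, 1)])) = true) :
    tau n (P n l) = P n l' := by
  simp only [Bool.and_eq_true, beq_iff_eq] at h
  have h0 : En 8 [(0, 1)] := by unfold En; decide
  apply Subtype.ext
  rw [tau, MulAut.conjNormal_apply, coe_P hn h.1.1, coe_P hn h.1.2, mul_inv_eq_iff_eq_mul, ← pm_append, ← pm_append]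
  exact pm_eq hn (h0.append (vl_iff.1 h.1.1).2) ((vl_iff.1 h.1.2).2.append h0) h.2

end Perm

section Act

variable {K : Type u} [Field K] {n : ℕ} [NeZero n] (hn : 8 ≤ n) (ψ : Alt n →* G8 K)

/-- the group of order 8 -/
noncomputable def eps (k : I8) : G8 K := ψ (P n (eW k))

/-- the group of order 16 -/
noncomputable def del (k : ZMod 2 × I8) : G8 K := ψ (P n (dW k))

/-- fixed by the group of order 32 -/
def Fq (v : L8 K) : Prop := ∀ l ∈ gQs, act (ψ (P n l)) v = v

theorem fix_Tg {gens : List (List (ℕ × ℕ))} {v : L8 K} (h : ∀ l ∈ gens, act (ψ (P n l)) v = v) {x : Alt n}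
    (hx : x ∈ Tg n gens) : act (ψ x) v = v := (mem_Tg (Inf.rp ψ)).2 h x hx

include hn

private noncomputable def _root_.Cfsg.Agent.LsF.f6d87cb_3 : {f // @Cfsg.Agent.R2.T1.Odd.vl = f} := ⟨_, by first | (delta Cfsg.Agent.R2.T1.Odd.vl; rewrite [Cfsg.Agent.LsF.nmod_pat, Cfsg.Agent.LsF.and_eq, Cfsg.Agent.LsF.not_eq, Cfsg.Agent.LsF.all_eq, Cfsg.Agent.LsF.length_eq]; exact rfl) | exact rfl⟩
private noncomputable def _root_.Cfsg.Agent.LsF.f6d87cb_4 : {f // @Cfsg.Agent.E8A.Two.Mk.eqP = f} := ⟨_, by first | (delta Cfsg.Agent.E8A.Two.Mk.eqP; rewrite [Cfsg.Agent.LsF.f6d87cb_3.2, Cfsg.Agent.LsF.f6d87cb_1.2, Cfsg.Agent.LsF.instNBEq_pat, Cfsg.Agent.LsF.lappend_pat, Cfsg.Agent.LsF.and_eq, Cfsg.Agent.LsF.instBEq_eq]; exact rfl) | exact rfl⟩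
private noncomputable def _root_.Cfsg.Agent.LsF.f6d87cb_5 : {f // @Cfsg.Agent.E8A.Odd.Tha.eW = f} := ⟨_, by first | (delta Cfsg.Agent.E8A.Odd.Tha.eW; rewrite [Cfsg.Agent.LsF.f6d87cb_2.2, Cfsg.Agent.LsF.lappend_pat, Cfsg.Agent.LsF.zdecEq_eq, Cfsg.Agent.LsF.ite_eq]; exact rfl) | exact rfl⟩
theorem eps_add (j k : I8) : eps ψ (j + k) = eps ψ j * eps ψ k := by
  rw [eps, eps, eps, ← map_mul, P_mul hn ((by (refine of_decide_eq_true ?_; (try (rewrite [Cfsg.Agent.LsF.f6d87cb_4.2, Cfsg.Agent.LsF.f6d87cb_5.2, Cfsg.Agent.LsF.zFintype_eq, Cfsg.Agent.LsF.prodFintype_eq, Cfsg.Agent.LsF.dForall_eq, Cfsg.Agent.LsF.instZAdd_pat, Cfsg.Agent.LsF.dBoolEq_eq, Cfsg.Agent.LsF.decide_eq])); decide +kernel) : ∀ j k : I8, eqP 8 (eW j) (eW k) (eW (j + k)) [] = true) j k)]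

private noncomputable def _root_.Cfsg.Agent.LsF.f6d87cb_6 : {f // @Cfsg.Agent.E8A.Odd.Tha.dW = f} := ⟨_, by first | (delta Cfsg.Agent.E8A.Odd.Tha.dW; rewrite [Cfsg.Agent.LsF.f6d87cb_2.2, Cfsg.Agent.LsF.lappend_pat, Cfsg.Agent.LsF.zdecEq_eq, Cfsg.Agent.LsF.ite_eq]; exact rfl) | exact rfl⟩
theorem del_add (j k : ZMod 2 × I8) : del ψ (j + k) = del ψ j * del ψ k := by
  rw [del, del, del, ← map_mul,
    P_mul hn ((by (refine of_decide_eq_true ?_; (try (rewrite [Cfsg.Agent.LsF.f6d87cb_4.2, Cfsg.Agent.LsF.f6d87cb_6.2, Cfsg.Agent.LsF.zFintype_eq, Cfsg.Agent.LsF.prodFintype_eq, Cfsg.Agent.LsF.dForall_eq, Cfsg.Agent.LsF.instZAdd_pat, Cfsg.Agent.LsF.dBoolEq_eq, Cfsg.Agent.LsF.decide_eq])); decide +kernel) : ∀ j k : ZMod 2 × I8, eqP 8 (dW j) (dW k) (dW (j + k)) [] = true) j k)]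

theorem eps_ev (h : ev (LK K (ψ (P n ls))) 1 = 120) (k : I8) (hk : k ≠ 0) : ev (LK K (eps ψ k)) 1 = 120 := by
  obtain ⟨c, -, hc⟩ := List.any_eq_true.1
    ((by decide +kernel : ∀ k : I8, k ≠ 0 → (cW.any fun c => eqP 8 (eW k) c c ls) = true) k hk)
  exact (evP (Inf.rp ψ) hn c hc).trans h

theorem del_ev (h : ev (LK K (ψ (P n ls))) 1 = 120) (h' : ev (LK K (ψ (P n lt))) 1 = 120) (k : ZMod 2 × I8) (hk : k ≠ 0) :
    ev (LK K (del ψ k)) 1 = 120 := by
  obtain ⟨c, -, hc⟩ := List.any_eq_true.1 ((by (refine of_decide_eq_true ?_; (try (rewrite [Cfsg.Agent.LsF.f6d87cb_4.2, Cfsg.Agent.LsF.f6d87cb_6.2, Cfsg.Agent.LsF.zdecEq_eq, Cfsg.Agent.LsF.dProdEq_eq, Cfsg.Agent.LsF.zFintype_eq, Cfsg.Agent.LsF.prodFintype_eq, Cfsg.Agent.LsF.dForall_eq, Cfsg.Agent.LsF.or_eq, Cfsg.Agent.LsF.any_eq, Cfsg.Agent.LsF.dNot_eq, Cfsg.Agent.LsF.dBoolEq_eq, Cfsg.Agent.LsF.dAllP_eq, Cfsg.Agent.LsF.decide_eq])); decide +kernel) :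
    ∀ k : ZMod 2 × I8, k ≠ 0 → (cW.any fun c => eqP 8 (dW k) c c ls || eqP 8 (dW k) c c lt) = true) k hk)
  rcases Bool.or_eq_true_iff.1 hc with hc | hc
  · exact (evP (Inf.rp ψ) hn c hc).trans h
  · exact (evP (Inf.rp ψ) hn c hc).trans h'

theorem nor_eps {l : List (ℕ × ℕ)} {M : I8 → I8} (h : ∀ k, eqP 8 l (eW k) (eW (M k)) l = true) (k : I8) :
    ψ (P n l) * eps ψ k = eps ψ (M k) * ψ (P n l) := by
  rw [eps, eps, ← map_mul, ← map_mul, P_eqP hn (h k)]

theorem rel3 {a b c d a' c' : List (ℕ × ℕ)}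
    (h : (vl 8 a && vl 8 a' && vl 8 c && vl 8 c' && eqP 8 (a ++ a') b (c ++ c') d) = true) :
    ψ (P n a) * ψ (P n a') * ψ (P n b) = ψ (P n c) * ψ (P n c') * ψ (P n d) := by
  simp only [← map_mul, P3 hn h]

theorem cfg : Cfg (eps ψ) (ψ (P n lt)) (ψ (P n lb)) (ψ (P n l33)) (ψ (P n lc)) (ψ (P n lg)) where
  ha := nor_eps hn ψ (by decide +kernel)
  hb := nor_eps hn ψ (by decide +kernel)
  hw := nor_eps hn ψ (by decide +kernel)
  hc := nor_eps hn ψ (by decide +kernel)
  hg := nor_eps hn ψ (by decide +kernel)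
  aa := by simpa only [P_nil, map_one, one_mul] using rel3 hn ψ (a := []) (a' := lt) (b := lt) (c := []) (c' := []) (d := []) rfl
  bb := by simpa only [P_nil, map_one, one_mul] using rel3 hn ψ (a := []) (a' := lb) (b := lb) (c := []) (c' := []) (d := []) rfl
  ab := by simpa only [P_nil, map_one, one_mul] using rel3 hn ψ (a := []) (a' := lt) (b := lb) (c := []) (c' := lb) (d := lt) rfl
  wa := by simpa only [P_nil, map_one, one_mul] using rel3 hn ψ (a := []) (a' := l33) (b := lt) (c := lt) (c' := lb) (d := l33) rfl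
  wb := by simpa only [P_nil, map_one, one_mul] using rel3 hn ψ (a := []) (a' := l33) (b := lb) (c := []) (c' := lt) (d := l33) rfl
  bw := by simpa only [P_nil, map_one, one_mul] using rel3 hn ψ (a := []) (a' := lb) (b := l33) (c := l33) (c' := lb) (d := lt) rfl
  www := by simpa only [P_nil, map_one, one_mul] using rel3 hn ψ (a := l33) (a' := l33) (b := l33) (c := []) (c' := []) (d := []) rfl
  ca := by simpa only [P_nil, map_one, one_mul] using rel3 hn ψ (a := []) (a' := lc) (b := lt) (c := []) (c' := lt) (d := lc) rfl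
  cb := by simpa only [P_nil, map_one, one_mul] using rel3 hn ψ (a := []) (a' := lc) (b := lb) (c := lt) (c' := lb) (d := lc) rfl
  wcw := by simpa only [P_nil, map_one, one_mul] using rel3 hn ψ (a := l33) (a' := lc) (b := l33) (c := []) (c' := []) (d := lc) rfl
  ga := by simpa only [P_nil, map_one, one_mul] using rel3 hn ψ (a := []) (a' := lg) (b := lt) (c := []) (c' := lc) (d := lg) rfl
  gc := by
    have h := rel3 hn ψ (a := []) (a' := lg) (b := lc) (c := lt ++ lc) (c' := eW (1, 0, 0)) (d := lg) (by decide +kernel)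
    rwa [P_nil, map_one, one_mul, P_append hn rfl rfl, map_mul] at h
  ggg := by simpa only [P_nil, map_one, one_mul] using rel3 hn ψ (a := lg) (a' := lg) (b := lg) (c := []) (c' := []) (d := []) rfl

theorem lu_eq : ψ (P n l33) * ψ (P n lg) * ψ (P n lb) * (ψ (P n l33) * ψ (P n lg))⁻¹ = ψ (P n lu) := by
  rw [mul_inv_eq_iff_eq_mul, ← mul_assoc]
  exact rel3 hn ψ rfl

theorem fq_iff (v : L8 K) : Fq ψ v ↔ FQ (eps ψ) (ψ (P n lt)) (ψ (P n lb)) v := by
  constructor
  · exact fun h => ⟨fun k => fix_Tg ψ h (P_wd_mem hn (by decide) _), h _ (by decide), h _ (by decide)⟩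
  · rintro ⟨h1, h2, h3⟩ l hl
    refine fix_Tg ψ (gens := [lt, lb, eW (1, 0, 0), eW (0, 1, 0), eW (0, 0, 1)]) ?_ ?_
    · simp only [List.forall_mem_cons, List.not_mem_nil, IsEmpty.forall_iff, implies_true, and_true]
      exact ⟨h2, h3, h1 _, h1 _, h1 _⟩
    · obtain ⟨w, -, hw⟩ := List.any_eq_true.1 ((by decide +kernel : ∀ l ∈ gQs, ([[0], [1], [0, 2], [1, 3], [4]].any fun w =>
        vl 8 l && cd 8 l == cd 8 (wd [lt, lb, eW (1, 0, 0), eW (0, 1, 0), eW (0, 0, 1)] w)) = true) l hl)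
      simp only [Bool.and_eq_true, beq_iff_eq] at hw
      exact mem_wd hn (by decide +kernel) hw.1 w hw.2

end Act

/-- the conclusion for the group `2³ : L₃(2)` -/
def Key {K : Type u} [Field K] {n : ℕ} [NeZero n] (ψ : Alt n →* G8 K) : Prop :=
  ev (LK K (ψ (P n lt))) 1 = 136 ∧ (∃ z e f, Rz z e f ∧ Fq ψ e ∧ Fq ψ f) ∧
    ∀ e f, Tri e f → Fq ψ e → Fq ψ f → ∀ v ∈ sl e f, act (ψ (P n lc)) v = v ∧ act (ψ (P n lu)) v = v

variable {p : ℕ} [Fact p.Prime] (hp : p ≠ 2) {n : ℕ} [NeZero n] (hn : 8 ≤ n)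

include hp hn

theorem key_T {ψ : Alt n →* G8 (KK p)} (h : Num ψ) (hT : ∀ k, eps ψ k ∈ TT chevE8 (KK p)) : Key ψ := by
  obtain ⟨Z, s, π, D⟩ := exists_dec hp (by decide) rfl (eps_add hn ψ) (eps_ev hn ψ h.1) hT
  rcases h.2 with h1 | ⟨h1, h2⟩
  · obtain ⟨u, v, hu, hv, h2⟩ := (cfg hn ψ).reg D
    rw [← fq_iff hn] at hu hv
    exact absurd (ab16 hp (by decide) (del_add hn ψ) (del_ev hn ψ h.1 h1) (by rw [Nat.card_eq_fintype_card]; rfl)
      (fun a => fix_Tg ψ hu (P_wd_mem hn (by decide) _)) fun a => fix_Tg ψ hv (P_wd_mem hn (by decide) _)) h2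
  · have h3 := (cfg hn ψ).main D (fun v => (mem_Tg (Inf.rp ψ)).trans (fq_iff hn ψ v)) h2
    simp only [← fq_iff hn, lu_eq hn] at h3
    exact ⟨h1, h3⟩

theorem key {ψ : Alt n →* G8 (KK p)} (h : Num ψ) : Key ψ := by
  obtain ⟨g, hg⟩ := tor8 hp (by decide) (eps_add hn ψ) (eps_ev hn ψ h.1) (by rw [Nat.card_eq_fintype_card]; rfl)
  obtain ⟨φ, hφ⟩ : ∃ φ : Alt n →* G8 (KK p), ∀ x, φ x = g * ψ x * g⁻¹ :=
    ⟨(MulAut.conj g).toMonoidHom.comp ψ, fun _ => rfl⟩
  have h1 : ∀ x, ev (LK (KK p) (φ x)) 1 = ev (LK (KK p) (ψ x)) 1 := fun x => by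
    rw [hφ]
    exact DS.Nt.dd_conj g _
  have h2 : ∀ x v, act (φ x) (act g v) = act g v ↔ act (ψ x) v = v := fun x v => by
    rw [hφ, ← act_mul, inv_mul_cancel_right, act_mul]
    exact (act_injective g).eq_iff
  have h3 : ∀ v, Fq φ (act g v) ↔ Fq ψ v := fun v => forall_congr' fun l => forall_congr' fun _ => h2 _ v
  obtain ⟨h4, ⟨z, e, f, h5, h6, h7⟩, h8⟩ := key_T hp hn (ψ := φ) ⟨(h1 _).trans h.1, h.2.imp (h1 _).trans fun h4 =>
    ⟨(h1 _).trans h4.1, (DS.Nt.finrank_eq_of_ad g fun v => (mem_Tg (Inf.rp φ)).trans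
      ((h3 v).trans (mem_Tg (Inf.rp ψ)).symm)).trans h4.2⟩⟩ fun k => by rw [eps, hφ]; exact hg k
  refine ⟨(h1 _).symm.trans h4, ⟨_, _, _, rz_conj h5 g⁻¹, (h3 _).1 (by rwa [act_inv']), (h3 _).1 (by rwa [act_inv'])⟩,
    fun e f h9 he hf v hv => ?_⟩
  rw [← h2, ← h2]
  exact h8 _ _ (h9.act g) ((h3 e).2 he) ((h3 f).2 hf) _
    (act_sl (e_mem _ _) (f_mem _ _) (h_mem _ _) hv)

end Tha

open Tha Cfsg.Agent.R2.T1.Odd in
/-- **THA** -/
theorem tha : THA := by
  intro p _ hp n _ hn ψ _ h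
  obtain ⟨h1, ⟨z, e, f, h2, he, hf⟩, h3⟩ := key hp hn (ψ := ψ) (h 1)
  have h4 := (key hp hn (h (tau n))).2.2
  have h5 := tri_of_rz (H167.KKL.two_ne p hp) h2
  have h6 : ∀ v, Fq ψ v → act (ψ (P n lc)) v = v → Fq (ψ.comp (tau n).toMonoidHom) v := by
    intro v h6 h7 l hl
    obtain ⟨w, -, hw⟩ := List.any_eq_true.1 ((by decide +kernel : ∀ l ∈ gQs,
      ([[1], [1, 2], [3], [4], [0, 5]].any fun w => vl 8 l && vl 8 (wd (lc :: gQs) w) &&
        cd 8 ([(0, 1)] ++ l) == cd 8 (wd (lc :: gQs) w ++ [(0, 1)])) = true) l hl)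
    show act (ψ (tau n (P n l))) v = v
    rw [tau_P hn hw]
    exact fix_Tg ψ (List.forall_mem_cons.2 ⟨h7, h6⟩) (P_wd_mem hn (by decide) w)
  have h7 := h4 e f h5 (h6 e he (h3 e f h5 he hf e (e_mem e f)).1) (h6 f hf (h3 e f h5 he hf f (f_mem e f)).1)
  have h8 : ∀ v ∈ sl e f, ∀ l ∈ gA, act (ψ (P n l)) v = v := by
    intro v hv
    have h8 : act (ψ (tau n (P n lu))) v = v := (h7 v hv).2
    rw [tau_P hn (l' := [(0, 5), (2, 6)]) rfl] at h8
    simp only [gA, List.forall_mem_cons, List.not_mem_nil, IsEmpty.forall_iff, implies_true, and_true]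
    exact ⟨fix_sl (he _ (by decide)) (hf _ (by decide)) hv, fix_sl (he _ (by decide)) (hf _ (by decide)) hv,
      fix_sl (he _ (by decide)) (hf _ (by decide)) hv, (h3 e f h5 he hf v hv).1, (h3 e f h5 he hf v hv).2, h8⟩
  exact ⟨h1, z, e, f, h2, fun l hl => ⟨fix_Tg ψ (h8 e (e_mem e f)) (gen8 hn l hl), fix_Tg ψ (h8 f (f_mem e f)) (gen8 hn l hl)⟩⟩

end Cfsg.Agent.E8A.Odd

private theorem dce_1a2990889620 : _root_.True := by
  try have : _root_.True := by simp only [_root_.Cfsg.Agent.E8A.Odd.Tha.del.eq_1]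
  try have : _root_.True := by simp only [_root_.Cfsg.Agent.E8A.Odd.Tha.gA.eq_1]
  try have : _root_.True := by simp only [_root_.Cfsg.Agent.E8A.Odd.Tha.Fq.congr_simp]
  try have : _root_.True := by simp only [_root_.Cfsg.Agent.E8A.Odd.Tha.eps.eq_1]
  try have : _root_.True := by simp only [_root_.Cfsg.Agent.E8A.Odd.Tha.eps.congr_simp]
  try have : _root_.True := by simp only [_root_.Cfsg.Agent.E8A.Odd.Tha.tau.eq_1]
  try have : _root_.True := by simp only [_root_.Cfsg.Agent.R2.T1.Odd.pm.congr_simp]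
  exact _root_.True.intro
end

-- part: E8A/Two/Iface
section
set_option linter.all false

/-!
# S5772 in characteristic 2, degree at least 8: the boxes (helper44)
-/

set_option autoImplicit false

namespace Cfsg.Agent.E8A.Two

open Cfsg Cfsg.Lie Module
open Cfsg.Agent.H952.F4 (MaxAlt ev)

universe u

/-- the dimension of the fixed space of the elements with cycle type `c` is `d` -/
def Dm {F : Type u} [Field F] {n : ℕ} (φ : Alt n →* G8 F) (c : Multiset ℕ) (d : ℕ) : Prop :=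
  ∀ a : Alt n, (a : Equiv.Perm (Fin n)).cycleType = c → ev (LK F (φ a)) 1 = d

/-- a case: the dimensions of the fixed spaces of the elements of type `3`, `3²`, `5` are `d`, `d'`, `d''` -/
def TWO (d d' d'' : ℕ) : Prop := ∀ (F : Type u) [Field F] [Finite F] [CharP F 2] (H : Subgroup (G8 F)) (n : ℕ)
  (φ : Alt n →* G8 F), MaxAlt H n φ → 8 ≤ n → n ≤ 10 → NoFx φ → Dm φ {3} d → Dm φ {3, 3} d' → Dm φ {5} d'' → False

/-- **TD**: 3-cycles with centralizer `E₇T₁` -/
def TD : Prop := TWO.{u} 134 92 68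

end Cfsg.Agent.E8A.Two
end

-- part: E8A/Odd/Pt2La
section
prune_inst 0x10000000000000
set_option linter.all false
open scoped Cfsg.Agent.FastGrp

/-!
# Box PT2: a lemma of linear algebra in dimension 3 (helper41)

* `la3` : two commuting maps `M`, `N = - M*` which anticommute with an orthogonal involution are equal up to sign.
-/

set_option autoImplicit false

namespace Cfsg.Agent.E8A.Odd

open Module

variable {K V : Type*} [Field K] [AddCommGroup V] [Module K V]

/-- the data -/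
structure La (U : Submodule K V) (B : V →ₗ[K] V →ₗ[K] K) (c M N : V →ₗ[K] V) : Prop where
  symm : ∀ u ∈ U, ∀ v ∈ U, B u v = B v u
  nd : ∀ u ∈ U, (∀ v ∈ U, B u v = 0) → u = 0
  cU : ∀ u ∈ U, c u ∈ U
  MU : ∀ u ∈ U, M u ∈ U
  NU : ∀ u ∈ U, N u ∈ U
  cc : ∀ u ∈ U, c (c u) = u
  cB : ∀ u ∈ U, ∀ v ∈ U, B (c u) (c v) = B u v
  adj : ∀ u ∈ U, ∀ v ∈ U, B (N u) v = -B u (M v)
  cM : ∀ u ∈ U, c (M u) = -M (c u)
  cN : ∀ u ∈ U, c (N u) = -N (c u)
  MN : ∀ u ∈ U, M (N u) = N (M u)

variable {U : Submodule K V} {B : V →ₗ[K] V →ₗ[K] K} {c M N : V →ₗ[K] V}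

theorem La.neg (h : La U B c M N) : La U B (-c) M N :=
  ⟨h.symm, h.nd, fun u hu => U.neg_mem (h.cU u hu), h.MU, h.NU, fun u hu => by simp [h.cc u hu],
    fun u hu v hv => by simp [h.cB u hu v hv], h.adj, fun u hu => by simp [h.cM u hu], fun u hu => by simp [h.cN u hu],
    h.MN⟩

theorem La.aux (h2 : (2 : K) ≠ 0) (h : La U B c M N) {ξ : V} (hξ : ξ ∈ U) (hc : c ξ = ξ)
    (h1 : ∀ u ∈ U, c u = u → ∃ t : K, t • ξ = u) : ∃ t : K, t * t = 1 ∧ ∀ u ∈ U, N u = t • M u := by
  have sp : ∀ u ∈ U, ∃ (s : K) (w : V), w ∈ U ∧ c w = -w ∧ u = s • ξ + w := fun u hu => by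
    obtain ⟨s, hs⟩ := h1 ((2⁻¹ : K) • (u + c u)) (U.smul_mem _ (U.add_mem hu (h.cU u hu)))
      (by rw [map_smul, map_add, h.cc u hu, add_comm])
    refine ⟨s, (2⁻¹ : K) • (u - c u), U.smul_mem _ (U.sub_mem hu (h.cU u hu)), ?_, ?_⟩
    · rw [map_smul, map_sub, h.cc u hu, ← smul_neg, neg_sub]
    · rw [hs, ← smul_add, add_add_sub_cancel, ← two_smul K, smul_smul, inv_mul_cancel₀ h2, one_smul]
  have pm : ∀ w ∈ U, c w = -w → B ξ w = 0 := fun w hw e => by
    have h3 := h.cB ξ hξ w hw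
    rw [hc, e, map_neg] at h3
    exact (mul_eq_zero.1 (show 2 * B ξ w = 0 by linear_combination -h3)).resolve_left h2
  have nd' : ∀ w ∈ U, c w = -w → (∀ v ∈ U, c v = -v → B w v = 0) → w = 0 := fun w hw e h0 =>
    h.nd w hw fun v hv => by
      obtain ⟨s, v', hv', e', rfl⟩ := sp v hv
      rw [map_add, map_smul, h0 v' hv' e', h.symm w hw ξ hξ, pm w hw e, smul_zero, add_zero]
  have hM : ∀ w ∈ U, c w = -w → ∃ s : K, s • ξ = M w := fun w hw e =>
    h1 _ (h.MU w hw) (by rw [h.cM w hw, e, map_neg, neg_neg])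
  have hN : ∀ w ∈ U, c w = -w → ∃ s : K, s • ξ = N w := fun w hw e =>
    h1 _ (h.NU w hw) (by rw [h.cN w hw, e, map_neg, neg_neg])
  by_cases h0 : ξ = 0
  · refine ⟨1, one_mul 1, fun u hu => ?_⟩
    obtain ⟨s, w, hw, e, rfl⟩ := sp u hu
    obtain ⟨a, ha⟩ := hM w hw e
    obtain ⟨b, hb⟩ := hN w hw e
    simp [h0, ← ha, ← hb]
  have hβ : B ξ ξ ≠ 0 := fun e => h0 (h.nd ξ hξ fun v hv => by
    obtain ⟨s, w, hw, e', rfl⟩ := sp v hv
    rw [map_add, map_smul, e, pm w hw e', smul_zero, add_zero])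
  have cπ : c (M ξ) = -M ξ := by rw [h.cM ξ hξ, hc]
  have cπ' : c (N ξ) = -N ξ := by rw [h.cN ξ hξ, hc]
  have key : ∀ w ∈ U, c w = -w → ∃ a b : K, M w = a • ξ ∧ N w = b • ξ ∧ a * B ξ ξ = -B (N ξ) w ∧
      b * B ξ ξ = -B (M ξ) w ∧ B (M ξ) w • M ξ = B (N ξ) w • N ξ := fun w hw e => by
    obtain ⟨a, ha⟩ := hM w hw e
    obtain ⟨b, hb⟩ := hN w hw e
    have e1 := h.adj ξ hξ w hw
    have e2 := h.adj w hw ξ hξ
    have e3 := h.MN w hw
    rw [← ha, map_smul, smul_eq_mul] at e1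
    rw [← hb, map_smul, LinearMap.smul_apply, smul_eq_mul, h.symm w hw _ (h.MU ξ hξ)] at e2
    rw [← ha, ← hb, map_smul, map_smul] at e3
    refine ⟨a, b, ha.symm, hb.symm, by rw [e1, neg_neg], e2, ?_⟩
    rw [e1, ← neg_eq_iff_eq_neg.2 e2, neg_smul, neg_smul, mul_comm a, mul_comm b, mul_smul, mul_smul, e3]
  obtain ⟨t, ht, hπ⟩ : ∃ t : K, t * t = 1 ∧ M ξ = t • N ξ := by
    by_cases h3 : M ξ = 0
    · refine ⟨1, one_mul 1, ?_⟩
      by_contra h4
      rw [h3, one_smul] at h4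
      refine h4 (nd' _ (h.NU ξ hξ) cπ' fun v hv e => ?_).symm
      obtain ⟨-, -, -, -, -, -, e5⟩ := key v hv e
      rw [h3, smul_zero] at e5
      exact (smul_eq_zero.1 e5.symm).resolve_right (Ne.symm h4)
    · obtain ⟨v, hv, e, h4⟩ : ∃ v ∈ U, c v = -v ∧ B (M ξ) v ≠ 0 := by
        by_contra h4
        push Not at h4
        exact h3 (nd' _ (h.MU ξ hξ) cπ h4)
      obtain ⟨-, -, -, -, -, -, e5⟩ := key v hv e
      have e6 : M ξ = ((B (M ξ) v)⁻¹ * B (N ξ) v) • N ξ := by
        rw [mul_smul, ← e5, smul_smul, inv_mul_cancel₀ h4, one_smul]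
      generalize (B (M ξ) v)⁻¹ * B (N ξ) v = t at e6
      refine ⟨t, ?_, e6⟩
      have h5 : N ξ ≠ 0 := fun e7 => h3 (by rw [e6, e7, smul_zero])
      have h6 : B (M ξ) v = t * B (N ξ) v := by rw [e6, map_smul, LinearMap.smul_apply, smul_eq_mul]
      have h7 : B (N ξ) v ≠ 0 := fun e7 => h4 (by rw [h6, e7, mul_zero])
      rw [h6] at e5
      nth_rewrite 1 [e6] at e5
      rw [smul_smul] at e5
      exact mul_right_cancel₀ h7 (by linear_combination smul_left_injective K h5 e5)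
  refine ⟨t, ht, fun u hu => ?_⟩
  obtain ⟨s, w, hw, e, rfl⟩ := sp u hu
  obtain ⟨a, b, ha, hb, e1, e2, -⟩ := key w hw e
  have e3 : b = t * a := mul_right_cancel₀ hβ (by
    rw [e2, hπ, map_smul, LinearMap.smul_apply, smul_eq_mul, mul_assoc, e1, mul_neg])
  rw [map_add, map_add, map_smul, map_smul, ha, hb, hπ, e3, smul_add, smul_smul, smul_smul, smul_smul,
    show t * s * t = s by linear_combination s * ht]

theorem la3 (h2 : (2 : K) ≠ 0) [FiniteDimensional K V] (hU : finrank K U ≤ 3) (h : La U B c M N) :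
    (∀ u ∈ U, N u = M u) ∨ ∀ u ∈ U, N u = -M u := by
  have key : ∀ {c : V →ₗ[K] V}, La U B c M N → finrank K ↥(U ⊓ LinearMap.ker (c - 1)) ≤ 1 →
      (∀ u ∈ U, N u = M u) ∨ ∀ u ∈ U, N u = -M u := fun {c} h h1 => by
    obtain ⟨ξ, hξ⟩ := finrank_le_one_iff.1 h1
    obtain ⟨t, ht, h3⟩ := h.aux h2 ξ.2.1 (by simpa [sub_eq_zero] using ξ.2.2) fun u hu e => by
      obtain ⟨t, ht⟩ := hξ ⟨u, hu, by simpa [sub_eq_zero] using e⟩
      exact ⟨t, congrArg Subtype.val ht⟩
    rcases mul_self_eq_one_iff.1 ht with rfl | rfl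
    · exact Or.inl fun u hu => by rw [h3 u hu, one_smul]
    · exact Or.inr fun u hu => by rw [h3 u hu, neg_one_smul]
  have h1 := Submodule.finrank_sup_add_finrank_inf_eq (U ⊓ LinearMap.ker (c - 1)) (U ⊓ LinearMap.ker (-c - 1))
  have h3 : U ⊓ LinearMap.ker (c - 1) ⊓ (U ⊓ LinearMap.ker (-c - 1)) = ⊥ := by
    rw [eq_bot_iff]
    rintro v ⟨⟨-, e1⟩, -, e2⟩
    simp only [SetLike.mem_coe, LinearMap.mem_ker, LinearMap.sub_apply, LinearMap.neg_apply, Module.End.one_apply] at e1 e2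
    exact (smul_eq_zero.1 (show (2 : K) • v = 0 by linear_combination (norm := module) -e1 - e2)).resolve_left h2
  have h4 := Submodule.finrank_mono (show U ⊓ LinearMap.ker (c - 1) ⊔ U ⊓ LinearMap.ker (-c - 1) ≤ U from
    sup_le inf_le_left inf_le_left)
  rw [h3, finrank_bot] at h1
  by_cases h5 : finrank K ↥(U ⊓ LinearMap.ker (c - 1)) ≤ 1
  · exact key h h5
  · exact key h.neg (by omega)

end Cfsg.Agent.E8A.Odd
end

-- part: E8A/TwoD/D0
section
prune_inst 0xf52051003400000000180016020004402a00000000088800088007060f01200280002041be102400108000c450010008100000100040000004000400011900a0808040061300ad0c560087010000000000000000000000000000000000000000000000000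
set_option linter.all false
open scoped Cfsg.Agent.FastGrp

/-- decoders of the packed data (elaboration time only) -/
private noncomputable def pk61d (b S i : Nat) : Nat := Nat.mod (Nat.shiftRight S (Nat.mul b i)) (Nat.shiftLeft (nat_lit 1) b)
private noncomputable def pk61c {α : Type} (t : Nat) (a : α) (f : Nat → α) : α := Nat.rec a (fun k _ => f k) t
private noncomputable def pk61f {α : Type} (t : Nat) (f : Nat → α) : α := Nat.rec (f Nat.zero) (fun k _ => f (Nat.succ k)) t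
private noncomputable def pk61l {α : Type} (f : Nat → α) (s e : Nat) (tl : List α) : List α :=
  pk61f e fun e => Nat.rec tl (fun k ih => List.cons (pk61f (Nat.sub e (Nat.succ k)) f) ih) (Nat.sub e s)
private noncomputable def pk61r {α : Type} (F : (Nat → α) → Nat → α) (d : α) (n : Nat) : Nat → α :=
  Nat.rec (fun _ => d) (fun _ ih => F ih) n

private noncomputable def pk61o {α : Type} (O : (n : Nat) → OfNat α n → α) (I : (n : Nat) → OfNat α n) (t : Nat) : α :=
  pk61c t (O (nat_lit 0) (I (nat_lit 0))) fun k => O (Nat.succ k) (I (Nat.succ k))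

-- part: E8A/Mc/Ops
section
/-!
# A module machine in characteristic two: families of operators (helper42)

* `wd a w` : the operator of a word; `Ex`, `el` : elements of the free algebra; `Inv`, `Hom`, `subOp`, `quoOp`, `subF`;
* `Kr a E` : the common kernel, left exact; `fe w` : the equation of the fixed vectors, exact for odd order;
* `foxE` : Fox derivatives; `chain` : fixed vectors of 2-groups; `Nil` : nilpotent elements; `fx_perp` : duality.
-/

set_option autoImplicit false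

namespace Cfsg.Agent.E8A.Mc

open Module

universe u

/-- elements of the free algebra -/
inductive Ex : Type
  | z : Ex
  | w : List ℕ → Ex
  | add : Ex → Ex → Ex
  | mul : Ex → Ex → Ex

/-- the equation of the vectors fixed by a word -/
def fe (w : List ℕ) : Ex := .add (.w w) (.w [])

/-- the sum of a list of words -/
noncomputable def sw (L : List (List ℕ)) : Ex := List.rec (motive := fun _ => Ex) .z (fun w _ ih => .add (.w w) ih) L

/-- the Fox derivative with respect to the letter `1` -/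
noncomputable def foxE (w : List Bool) : Ex :=
  List.rec (motive := fun _ => Ex) .z (fun b _ ih => Bool.rec (.mul (.w [0]) ih) (.add (.w []) (.mul (.w [1]) ih)) b) w

/-- a product of words of the list -/
def flat (ys : List (List ℕ)) (c : List ℕ) : List ℕ := c.flatMap fun i => ys.getD i []

/-- the word in two words -/
def flat2 (g h : List ℕ) (c : List Bool) : List ℕ := c.flatMap fun b => cond b h g

/-- the power of a word -/
def wpow (w : List ℕ) (n : ℕ) : List ℕ := (List.replicate n w).flatten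

/-- the first letters -/
def sing (k : ℕ) : List (List ℕ) := (List.range k).map fun j => [j]

/-- all letters are below `k` -/
def ltW (k : ℕ) (w : List ℕ) : Bool := w.all fun j => Nat.blt j k

/-- all letters are below `k` -/
noncomputable def ltE (k : ℕ) (e : Ex) : Bool :=
  Ex.rec (motive := fun _ => Bool) true (ltW k) (fun _ _ x y => x && y) (fun _ _ x y => x && y) e

theorem ltW_cons {k j : ℕ} {w : List ℕ} (h : ltW k (j :: w) = true) : j < k ∧ ltW k w = true := by
  rw [ltW, List.all_cons, Bool.and_eq_true, Nat.blt_eq] at h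
  exact h

theorem ltW_mono {k k' : ℕ} (hk : k ≤ k') {w : List ℕ} (h : ltW k w = true) : ltW k' w = true := by
  rw [ltW, List.all_eq_true] at h ⊢
  intro j hj
  have := h j hj
  rw [Nat.blt_eq] at this ⊢
  omega

variable {K : Type u} [Field K]

section Basic

variable {V V' : Type*} [AddCommGroup V] [Module K V] [AddCommGroup V'] [Module K V']

variable (K) in
theorem add_self' [CharP K 2] (v : V) : v + v = 0 := by
  calc v + v = (1 + 1 : K) • v := by rw [add_smul, one_smul]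
    _ = 0 := by rw [CharTwo.add_self_eq_zero, zero_smul]

variable (K) in
theorem add_eq_zero' [CharP K 2] {v w : V} : v + w = 0 ↔ v = w := by
  constructor
  · intro h
    calc v = v + (w + w) := by rw [add_self' K w, add_zero]
      _ = w := by rw [← add_assoc, h, zero_add]
  · rintro rfl
    exact add_self' K v

variable (K) in
theorem odd_smul [CharP K 2] {n : ℕ} (hn : Odd n) (v : V) : n • v = v := by
  obtain ⟨k, rfl⟩ := hn
  rw [add_smul, one_smul, mul_comm, mul_smul, two_smul, add_self' K, smul_zero, zero_add]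

/-- the operator of a word -/
def wd (a : ℕ → End K V) (w : List ℕ) : End K V := (w.map a).prod

theorem wd_nil (a : ℕ → End K V) : wd a [] = 1 := rfl

theorem wd_cons (a : ℕ → End K V) (j : ℕ) (w : List ℕ) : wd a (j :: w) = a j * wd a w := by
  rw [wd, List.map_cons, List.prod_cons]; rfl

theorem wd_append (a : ℕ → End K V) (w w' : List ℕ) : wd a (w ++ w') = wd a w * wd a w' := by
  rw [wd, List.map_append, List.prod_append]; rfl

theorem wd_single (a : ℕ → End K V) (j : ℕ) : wd a [j] = a j := by rw [wd_cons, wd_nil, mul_one]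

theorem wd_nil_apply (a : ℕ → End K V) (v : V) : wd a [] v = v := rfl

theorem wd_cons_apply (a : ℕ → End K V) (j : ℕ) (w : List ℕ) (v : V) : wd a (j :: w) v = a j (wd a w v) := by
  rw [wd_cons]; rfl

theorem wd_append_apply (a : ℕ → End K V) (w w' : List ℕ) (v : V) : wd a (w ++ w') v = wd a w (wd a w' v) := by
  rw [wd_append]; rfl

theorem wd_wpow (a : ℕ → End K V) (w : List ℕ) (n : ℕ) : wd a (wpow w n) = wd a w ^ n := by
  induction n with
  | zero => rfl
  | succ n ih =>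
    rw [wpow, List.replicate_succ, List.flatten_cons, wd_append, pow_succ']
    exact congrArg _ ih

/-- the operator of an element of the free algebra -/
noncomputable def el (a : ℕ → End K V) (e : Ex) : End K V :=
  Ex.rec (motive := fun _ => End K V) 0 (wd a) (fun _ _ x y => x + y) (fun _ _ x y => x * y) e

theorem el_w (a : ℕ → End K V) (w : List ℕ) : el a (.w w) = wd a w := rfl
theorem el_add (a : ℕ → End K V) (x y : Ex) : el a (.add x y) = el a x + el a y := rfl
theorem el_mul (a : ℕ → End K V) (x y : Ex) : el a (.mul x y) = el a x * el a y := rfl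
theorem el_fe (a : ℕ → End K V) (w : List ℕ) (v : V) : el a (fe w) v = wd a w v + v := rfl

theorem el_sw (a : ℕ → End K V) (L : List (List ℕ)) : el a (sw L) = (L.map (wd a)).sum := by
  induction L with
  | nil => rfl
  | cons w L ih => rw [List.map_cons, List.sum_cons, ← ih]; rfl

/-- invariant subspaces -/
def Inv (a : ℕ → End K V) (W : Submodule K V) : Prop := ∀ j, ∀ v ∈ W, a j v ∈ W

/-- intertwining maps -/
def Hom (a : ℕ → End K V) (b : ℕ → End K V') (f : V →ₗ[K] V') : Prop := ∀ j v, f (a j v) = b j (f v)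

theorem Hom.wd {a : ℕ → End K V} {b : ℕ → End K V'} {f : V →ₗ[K] V'} (h : Hom a b f) (w : List ℕ) (v : V) :
    f (wd a w v) = wd b w (f v) := by
  induction w with
  | nil => rfl
  | cons j w ih => rw [wd_cons_apply, wd_cons_apply, h, ih]

theorem Hom.el {a : ℕ → End K V} {b : ℕ → End K V'} {f : V →ₗ[K] V'} (h : Hom a b f) (e : Ex) (v : V) :
    f (el a e v) = el b e (f v) := by
  induction e generalizing v with
  | z => exact map_zero f
  | w w => exact h.wd w v
  | add x y hx hy => rw [el_add, el_add, LinearMap.add_apply, LinearMap.add_apply, map_add, hx, hy]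
  | mul x y hx hy => rw [el_mul, el_mul, End.mul_apply, End.mul_apply, hx, hy]

theorem Hom.comp {V'' : Type*} [AddCommGroup V''] [Module K V''] {a : ℕ → End K V} {b : ℕ → End K V'} {c : ℕ → End K V''}
    {f : V →ₗ[K] V'} {g : V' →ₗ[K] V''} (h' : Hom b c g) (h : Hom a b f) : Hom a c (g ∘ₗ f) := fun j v => by
  rw [LinearMap.comp_apply, LinearMap.comp_apply, h, h']

/-- the relations accepted by `ok` hold, the letters from `k` on act as zero -/
structure Good (ok : List ℕ → List ℕ → Bool) (k : ℕ) (a : ℕ → End K V) : Prop where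
  rel : ∀ w w', ok w w' = true → wd a w = wd a w'
  out : ∀ j, k ≤ j → a j = 0

theorem Good.of_inj {ok : List ℕ → List ℕ → Bool} {k : ℕ} {a : ℕ → End K V} {b : ℕ → End K V'} {f : V →ₗ[K] V'}
    (h : Hom a b f) (hf : Function.Injective f) (hb : Good ok k b) : Good ok k a := by
  refine ⟨fun w w' hw => LinearMap.ext fun v => hf ?_, fun j hj => LinearMap.ext fun v => hf ?_⟩
  · rw [h.wd, h.wd, hb.rel w w' hw]
  · rw [h, hb.out j hj, LinearMap.zero_apply, LinearMap.zero_apply, map_zero]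

theorem Good.of_surj {ok : List ℕ → List ℕ → Bool} {k : ℕ} {a : ℕ → End K V} {b : ℕ → End K V'} {f : V →ₗ[K] V'}
    (h : Hom a b f) (hf : Function.Surjective f) (ha : Good ok k a) : Good ok k b := by
  refine ⟨fun w w' hw => LinearMap.ext fun v => ?_, fun j hj => LinearMap.ext fun v => ?_⟩
  · obtain ⟨v, rfl⟩ := hf v
    rw [← h.wd, ← h.wd, ha.rel w w' hw]
  · obtain ⟨v, rfl⟩ := hf v
    rw [← h, ha.out j hj, LinearMap.zero_apply, LinearMap.zero_apply, map_zero]

/-- the operators on an invariant subspace -/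
def subOp (a : ℕ → End K V) (W : Submodule K V) (h : Inv a W) : ℕ → End K W :=
  fun j => (a j).restrict (h j)

/-- the operators on the quotient -/
def quoOp (a : ℕ → End K V) (W : Submodule K V) (h : Inv a W) : ℕ → End K (V ⧸ W) :=
  fun j => W.mapQ W (a j) (h j)

theorem hom_sub (a : ℕ → End K V) (W : Submodule K V) (h : Inv a W) : Hom (subOp a W h) a W.subtype :=
  fun _ _ => rfl

theorem hom_quo (a : ℕ → End K V) (W : Submodule K V) (h : Inv a W) : Hom a (quoOp a W h) W.mkQ :=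
  fun _ _ => rfl

theorem Good.sub {ok : List ℕ → List ℕ → Bool} {k : ℕ} {a : ℕ → End K V} (ha : Good ok k a) {W : Submodule K V}
    (h : Inv a W) : Good ok k (subOp a W h) := ha.of_inj (hom_sub a W h) W.injective_subtype

theorem Good.quo {ok : List ℕ → List ℕ → Bool} {k : ℕ} {a : ℕ → End K V} (ha : Good ok k a) {W : Submodule K V}
    (h : Inv a W) : Good ok k (quoOp a W h) := ha.of_surj (hom_quo a W h) W.mkQ_surjective

theorem Inv.el {a : ℕ → End K V} {W : Submodule K V} (h : Inv a W) (e : Ex) {v : V} (hv : v ∈ W) : el a e v ∈ W := by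
  have := (hom_sub a W h).el e ⟨v, hv⟩
  exact (show Mc.el a e v = _ from this.symm) ▸ Subtype.property _

theorem Inv.wd {a : ℕ → End K V} {W : Submodule K V} (h : Inv a W) (w : List ℕ) {v : V} (hv : v ∈ W) : wd a w v ∈ W :=
  h.el (.w w) hv

theorem Inv.comap {a : ℕ → End K V} {b : ℕ → End K V'} {f : V →ₗ[K] V'} (h : Hom a b f) {W : Submodule K V'}
    (hW : Inv b W) : Inv a (W.comap f) := by
  intro j v hv
  rw [Submodule.mem_comap, h]
  exact hW j _ hv

theorem Hom.inv_range {a : ℕ → End K V} {b : ℕ → End K V'} {f : V →ₗ[K] V'} (h : Hom a b f) : Inv b (LinearMap.range f) := by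
  rintro j _ ⟨v, rfl⟩
  exact ⟨a j v, h j v⟩

theorem Hom.inv_ker {a : ℕ → End K V} {b : ℕ → End K V'} {f : V →ₗ[K] V'} (h : Hom a b f) : Inv a (LinearMap.ker f) := by
  intro j v hv
  rw [LinearMap.mem_ker] at hv ⊢
  rw [h, hv, map_zero]

/-- the family of the words of a list -/
noncomputable def subF (a : ℕ → End K V) (zs : List (List ℕ)) : ℕ → End K V := fun i => Option.rec 0 (wd a) zs[i]?

theorem subF_lt (a : ℕ → End K V) {zs : List (List ℕ)} {i : ℕ} (h : i < zs.length) : subF a zs i = wd a (zs.getD i []) := by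
  rw [subF, List.getD_eq_getElem _ _ h, List.getElem?_eq_getElem h]

theorem subF_ge (a : ℕ → End K V) {zs : List (List ℕ)} {i : ℕ} (h : zs.length ≤ i) : subF a zs i = 0 := by
  rw [subF, List.getElem?_eq_none h]

theorem Hom.subF {a : ℕ → End K V} {b : ℕ → End K V'} {f : V →ₗ[K] V'} (h : Hom a b f) (zs : List (List ℕ)) :
    Hom (subF a zs) (subF b zs) f := fun i v => by
  rcases lt_or_ge i zs.length with hi | hi
  · rw [subF_lt a hi, subF_lt b hi, h.wd]
  · rw [subF_ge a hi, subF_ge b hi]; exact map_zero f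

theorem wd_subF (a : ℕ → End K V) {zs : List (List ℕ)} {c : List ℕ} (h : ltW zs.length c = true) :
    wd (subF a zs) c = wd a (flat zs c) := by
  induction c with
  | nil => rfl
  | cons i c ih =>
    obtain ⟨h1, h2⟩ := ltW_cons h
    rw [wd_cons, flat, List.flatMap_cons, wd_append, subF_lt a h1, ih h2]; rfl

theorem length_sing (k : ℕ) : (sing k).length = k := by rw [sing, List.length_map, List.length_range]

theorem res_lt (a : ℕ → End K V) {k j : ℕ} (h : j < k) : subF a (sing k) j = a j := by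
  rw [subF_lt a (by rwa [length_sing]), List.getD_eq_getElem _ _ (by rwa [length_sing])]
  simp only [sing, List.getElem_map, List.getElem_range]
  exact wd_single a j

theorem wd_res (a : ℕ → End K V) {k : ℕ} {w : List ℕ} (h : ltW k w = true) : wd (subF a (sing k)) w = wd a w := by
  induction w with
  | nil => rfl
  | cons j w ih =>
    obtain ⟨h1, h2⟩ := ltW_cons h
    rw [wd_cons, wd_cons, res_lt a h1, ih h2]

theorem el_res (a : ℕ → End K V) {k : ℕ} {e : Ex} (h : ltE k e = true) : el (subF a (sing k)) e = el a e := by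
  induction e with
  | z => rfl
  | w w => exact wd_res a h
  | add x y hx hy =>
    have h' : (ltE k x && ltE k y) = true := h
    rw [Bool.and_eq_true] at h'
    rw [el_add, el_add, hx h'.1, hy h'.2]
  | mul x y hx hy =>
    have h' : (ltE k x && ltE k y) = true := h
    rw [Bool.and_eq_true] at h'
    rw [el_mul, el_mul, hx h'.1, hy h'.2]

/-- the common kernel -/
def Kr (a : ℕ → End K V) (E : List Ex) : Submodule K V where
  carrier := {v | ∀ e ∈ E, el a e v = 0}
  zero_mem' := fun _ _ => map_zero _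
  add_mem' := fun {x y} hx hy w hw => by rw [map_add, hx w hw, hy w hw, add_zero]
  smul_mem' := fun c x hx w hw => by rw [map_smul, hx w hw, smul_zero]

theorem mem_Kr {a : ℕ → End K V} {E : List Ex} {v : V} : v ∈ Kr a E ↔ ∀ e ∈ E, el a e v = 0 := Iff.rfl

theorem mem_Kr_one {a : ℕ → End K V} {e : Ex} {v : V} : v ∈ Kr a [e] ↔ el a e v = 0 := by
  rw [mem_Kr]; exact List.forall_mem_singleton

theorem Hom.mem_Kr {a : ℕ → End K V} {b : ℕ → End K V'} {f : V →ₗ[K] V'} (h : Hom a b f) {E : List Ex} {v : V}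
    (hv : v ∈ Kr a E) : f v ∈ Kr b E := fun e he => by rw [← h.el, hv e he, map_zero]

theorem Hom.mem_Kr_of {a : ℕ → End K V} {b : ℕ → End K V'} {f : V →ₗ[K] V'} (h : Hom a b f) (hf : Function.Injective f)
    {E : List Ex} {v : V} (hv : f v ∈ Kr b E) : v ∈ Kr a E := fun e he => hf (by rw [h.el, hv e he, map_zero])

/-- the dimension of the common kernel -/
noncomputable def kd (a : ℕ → End K V) (E : List Ex) : ℕ := finrank K (Kr a E)

/-- the fixed vectors of a list of words -/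
def Fx (a : ℕ → End K V) (ys : List (List ℕ)) : Submodule K V := Kr a (ys.map fe)

theorem mem_Fx [CharP K 2] {a : ℕ → End K V} {ys : List (List ℕ)} {v : V} : v ∈ Fx a ys ↔ ∀ y ∈ ys, wd a y v = v := by
  rw [Fx, mem_Kr, List.forall_mem_map]
  exact forall₂_congr fun y _ => by rw [el_fe, add_eq_zero' K]

theorem mem_fe [CharP K 2] {a : ℕ → End K V} {y : List ℕ} {v : V} : v ∈ Kr a [fe y] ↔ wd a y v = v := by
  rw [mem_Kr_one, el_fe, add_eq_zero' K]

theorem mem_Fx_sing [CharP K 2] {a : ℕ → End K V} {k : ℕ} {v : V} : v ∈ Fx a (sing k) ↔ ∀ j < k, a j v = v := by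
  rw [mem_Fx, sing, List.forall_mem_map]
  exact forall_congr' fun j => by rw [List.mem_range, wd_single]

theorem wd_of_fix {a : ℕ → End K V} {k : ℕ} {v : V} (hv : ∀ j < k, a j v = v) {w : List ℕ} (h : ltW k w = true) :
    wd a w v = v := by
  induction w with
  | nil => rfl
  | cons j w ih =>
    obtain ⟨h1, h2⟩ := ltW_cons h
    rw [wd_cons_apply, ih h2, hv j h1]

theorem inv_Fx [CharP K 2] {a : ℕ → End K V} {k : ℕ} (h : ∀ j, k ≤ j → a j = 0) : Inv a (Fx a (sing k)) := fun j v hv => by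
  rcases lt_or_ge j k with hj | hj
  · rw [mem_Fx_sing.1 hv j hj]; exact hv
  · rw [h j hj]; exact zero_mem _

theorem wd_flat [CharP K 2] {a : ℕ → End K V} {ys : List (List ℕ)} {v : V} (hv : v ∈ Fx a ys) (c : List ℕ) :
    wd a (flat ys c) v = v := by
  induction c with
  | nil => rfl
  | cons i c ih =>
    rw [flat, List.flatMap_cons, wd_append_apply]
    rw [flat] at ih
    rw [ih]
    by_cases hi : i < ys.length
    · rw [List.getD_eq_getElem _ _ hi]; exact mem_Fx.1 hv _ (List.getElem_mem hi)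
    · rw [List.getD_eq_default _ _ (not_lt.1 hi)]; rfl

/-- every word is an involution modulo, and normalises, the words after it -/
noncomputable def chainOk (ok : List ℕ → List ℕ → Bool) (l : List (List ℕ × List ℕ × List (List ℕ))) : Bool :=
  List.rec (motive := fun _ => Bool) true
    (fun p l ih => ih && ok (p.1 ++ p.1) (flat (l.map Prod.fst) p.2.1) &&
      (List.range l.length).all fun t =>
        ok ((l.map Prod.fst).getD t [] ++ p.1) (p.1 ++ flat (l.map Prod.fst) (p.2.2.getD t []))) l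

theorem chain [CharP K 2] {ok : List ℕ → List ℕ → Bool} {k : ℕ} {a : ℕ → End K V} (ha : Good ok k a) (h0 : ∃ v : V, v ≠ 0)
    {l : List (List ℕ × List ℕ × List (List ℕ))} (h : chainOk ok l = true) : ∃ v ∈ Fx a (l.map Prod.fst), v ≠ 0 := by
  induction l with
  | nil =>
    obtain ⟨v, hv⟩ := h0
    exact ⟨v, fun _ hy => absurd hy List.not_mem_nil, hv⟩
  | cons p l ih =>
    have h' : (chainOk ok l && ok (p.1 ++ p.1) (flat (l.map Prod.fst) p.2.1) &&
      (List.range l.length).all fun t =>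
        ok ((l.map Prod.fst).getD t [] ++ p.1) (p.1 ++ flat (l.map Prod.fst) (p.2.2.getD t []))) = true := h
    rw [Bool.and_eq_true, Bool.and_eq_true, List.all_eq_true] at h'
    obtain ⟨⟨h1, h2⟩, h3⟩ := h'
    obtain ⟨v, hv, hv0⟩ := ih h1
    by_cases e : wd a p.1 v = v
    · refine ⟨v, mem_Fx.2 fun y hy => ?_, hv0⟩
      rcases List.mem_cons.1 hy with rfl | hy
      · exact e
      · exact mem_Fx.1 hv y hy
    · refine ⟨wd a p.1 v + v, mem_Fx.2 fun y hy => ?_, fun e' => e ((add_eq_zero' K).1 e')⟩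
      rcases List.mem_cons.1 hy with rfl | hy
      · rw [map_add, ← wd_append_apply, ha.rel _ _ h2, wd_flat hv, add_comm]
      · obtain ⟨t, ht, rfl⟩ := List.getElem_of_mem hy
        have e1 := ha.rel _ _ (h3 t (List.mem_range.2 (by rwa [List.length_map] at ht)))
        rw [List.getD_eq_getElem _ _ ht] at e1
        rw [map_add, ← wd_append_apply, e1, wd_append_apply, wd_flat hv, mem_Fx.1 hv _ hy]

theorem pow_hom {f : V →ₗ[K] V'} {g : End K V} {g' : End K V'} (h : ∀ v, f (g v) = g' (f v)) (n : ℕ) (v : V) :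
    f ((g ^ n) v) = (g' ^ n) (f v) := by
  induction n with
  | zero => rfl
  | succ n ih => rw [pow_succ', pow_succ', End.mul_apply, End.mul_apply, h, ih]

theorem pow_fix {g : End K V} {v : V} (h : g v = v) (n : ℕ) : (g ^ n) v = v := by
  induction n with
  | zero => rfl
  | succ n ih => rw [pow_succ, End.mul_apply, h, ih]

/-- the element acts nilpotently -/
def Nil (a : ℕ → End K V) (e : Ex) : Prop := ∃ n : ℕ, ∀ v, (el a e ^ n) v = 0

theorem Nil.of_inj {a : ℕ → End K V} {b : ℕ → End K V'} {f : V →ₗ[K] V'} (h : Hom a b f) (hf : Function.Injective f)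
    {e : Ex} (hb : Nil b e) : Nil a e :=
  hb.imp fun n hn v => hf (by rw [pow_hom (h.el e), hn, map_zero])

theorem Nil.of_surj {a : ℕ → End K V} {b : ℕ → End K V'} {f : V →ₗ[K] V'} (h : Hom a b f) (hf : Function.Surjective f)
    {e : Ex} (ha : Nil a e) : Nil b e :=
  ha.imp fun n hn v => by
    obtain ⟨v, rfl⟩ := hf v
    rw [← pow_hom (h.el e), hn, map_zero]

theorem Nil.fix {a : ℕ → End K V} {e : Ex} (h : Nil a e) {v : V} (hv : el a e v = v) : v = 0 := by
  obtain ⟨n, hn⟩ := h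
  rw [← pow_fix hv n, hn]

theorem Nil.ext {a : ℕ → End K V} {b : ℕ → End K V'} {f : V →ₗ[K] V'} (h : Hom a b f) {e : Ex} (ha : Nil a e)
    (hq : Nil (quoOp b _ h.inv_range) e) : Nil b e := by
  obtain ⟨n, hn⟩ := ha
  obtain ⟨m, hm⟩ := hq
  refine ⟨n + m, fun v => ?_⟩
  have h1 := hm ((LinearMap.range f).mkQ v)
  rw [← pow_hom ((hom_quo b _ h.inv_range).el e)] at h1
  obtain ⟨x, hx⟩ := (Submodule.Quotient.mk_eq_zero _).1 h1
  rw [pow_add, End.mul_apply, ← hx, ← pow_hom (h.el e), hn, map_zero]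

/-- a vector that is fixed modulo fixed vectors by an operator of odd order is fixed -/
theorem fix_of_odd [CharP K 2] {g : End K V} {n : ℕ} (hn : Odd n) (hg : g ^ n = 1) {v c : V} (h1 : g v = v + c) (h2 : g c = c) :
    g v = v := by
  have key : ∀ m : ℕ, (g ^ m) v = v + m • c := fun m => by
    induction m with
    | zero => rw [zero_smul, add_zero]; rfl
    | succ m ih => rw [pow_succ', End.mul_apply, ih, map_add, h1, map_nsmul, h2, succ_nsmul']; abel
  have h3 := key n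
  rw [hg, odd_smul K hn, End.one_apply] at h3
  rw [h1, ← h3]

end Basic

section Exact

variable {A V B : Type*} [AddCommGroup A] [Module K A] [AddCommGroup V] [Module K V] [AddCommGroup B] [Module K B]

/-- a left exact triple of subspaces -/
theorem finrank_le_of_exact [FiniteDimensional K A] [FiniteDimensional K V] [FiniteDimensional K B]
    (ι : A →ₗ[K] V) (π : V →ₗ[K] B) (SA : Submodule K A) (SV : Submodule K V) (SB : Submodule K B)
    (h1 : ∀ v ∈ SV, π v ∈ SB) (h2 : ∀ v ∈ SV, π v = 0 → ∃ x ∈ SA, ι x = v) :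
    finrank K SV ≤ finrank K SA + finrank K SB := by
  have e := LinearMap.finrank_range_add_finrank_ker (π.restrict h1)
  have e1 : finrank K (LinearMap.range (π.restrict h1)) ≤ finrank K SB := Submodule.finrank_le _
  have e2 : finrank K (LinearMap.ker (π.restrict h1)) ≤ finrank K SA := by
    rw [← Submodule.finrank_map_subtype_eq]
    refine le_trans (Submodule.finrank_mono ?_) (Submodule.finrank_map_le ι SA)
    rintro _ ⟨v, hv, rfl⟩
    exact h2 v v.2 (congrArg Subtype.val (LinearMap.mem_ker.1 hv))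
  omega

/-- an exact triple of subspaces -/
theorem finrank_ge_of_exact [FiniteDimensional K A] [FiniteDimensional K V] [FiniteDimensional K B]
    (ι : A →ₗ[K] V) (π : V →ₗ[K] B) (SA : Submodule K A) (SV : Submodule K V) (SB : Submodule K B)
    (hι : Function.Injective ι) (h0 : ∀ x, π (ι x) = 0) (h1 : ∀ v ∈ SV, π v ∈ SB) (h2 : ∀ x ∈ SA, ι x ∈ SV)
    (h3 : ∀ y ∈ SB, ∃ v ∈ SV, π v = y) : finrank K SA + finrank K SB ≤ finrank K SV := by
  have e := LinearMap.finrank_range_add_finrank_ker (π.restrict h1)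
  have e1 : LinearMap.range (π.restrict h1) = ⊤ := by
    rw [eq_top_iff]
    rintro ⟨y, hy⟩ _
    obtain ⟨v, hv, rfl⟩ := h3 y hy
    exact ⟨⟨v, hv⟩, rfl⟩
  have e2 : finrank K SA ≤ finrank K (LinearMap.ker (π.restrict h1)) := by
    rw [← Submodule.finrank_map_subtype_eq, ← LinearEquiv.finrank_eq (Submodule.equivMapOfInjective ι hι SA).symm]
    refine Submodule.finrank_mono ?_
    rintro _ ⟨x, hx, rfl⟩
    exact ⟨⟨ι x, h2 x hx⟩, LinearMap.mem_ker.2 (Subtype.ext (h0 x)), rfl⟩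
  rw [e1, finrank_top] at e
  omega

/-- a short exact sequence of families -/
structure Ses (a : ℕ → End K A) (v : ℕ → End K V) (b : ℕ → End K B) (ι : A →ₗ[K] V) (π : V →ₗ[K] B) : Prop where
  hi : Hom a v ι
  hp : Hom v b π
  inj : Function.Injective ι
  surj : Function.Surjective π
  ex : ∀ x, π x = 0 ↔ ∃ y, ι y = x

theorem ses_sub (a : ℕ → End K V) (W : Submodule K V) (h : Inv a W) : Ses (subOp a W h) a (quoOp a W h) W.subtype W.mkQ :=
  ⟨hom_sub a W h, hom_quo a W h, W.injective_subtype, W.mkQ_surjective, fun x =>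
    (Submodule.Quotient.mk_eq_zero W).trans ⟨fun hx => ⟨⟨x, hx⟩, rfl⟩, fun ⟨y, hy⟩ => hy ▸ y.2⟩⟩

theorem ses_range {a : ℕ → End K A} {v : ℕ → End K V} {ι : A →ₗ[K] V} (h : Hom a v ι) (hι : Function.Injective ι) :
    Ses a v (quoOp v _ h.inv_range) ι (LinearMap.range ι).mkQ :=
  ⟨h, hom_quo v _ _, hι, Submodule.mkQ_surjective _, fun _ => Submodule.Quotient.mk_eq_zero _⟩

theorem Ses.subF {a : ℕ → End K A} {v : ℕ → End K V} {b : ℕ → End K B} {ι : A →ₗ[K] V} {π : V →ₗ[K] B}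
    (h : Ses a v b ι π) (zs : List (List ℕ)) : Ses (subF a zs) (subF v zs) (subF b zs) ι π :=
  ⟨h.hi.subF zs, h.hp.subF zs, h.inj, h.surj, h.ex⟩

variable [FiniteDimensional K A] [FiniteDimensional K V] [FiniteDimensional K B]

theorem Ses.kd_le {a : ℕ → End K A} {v : ℕ → End K V} {b : ℕ → End K B} {ι : A →ₗ[K] V} {π : V →ₗ[K] B}
    (h : Ses a v b ι π) (E : List Ex) : kd v E ≤ kd a E + kd b E := by
  refine finrank_le_of_exact ι π _ _ _ (fun x hx => h.hp.mem_Kr hx) fun x hx h0 => ?_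
  obtain ⟨y, rfl⟩ := (h.ex x).1 h0
  exact ⟨y, h.hi.mem_Kr_of h.inj hx, rfl⟩

omit [FiniteDimensional K A] in
theorem Hom.kd_le {a : ℕ → End K A} {v : ℕ → End K V} {ι : A →ₗ[K] V} (h : Hom a v ι) (hι : Function.Injective ι)
    (E : List Ex) : kd a E ≤ kd v E :=
  LinearMap.finrank_le_finrank_of_injective (f := ι.restrict fun _ hx => h.mem_Kr (E := E) hx)
    fun _ _ e => Subtype.ext (hι (congrArg Subtype.val e))

omit [FiniteDimensional K A] [FiniteDimensional K V] [FiniteDimensional K B] in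
/-- fixed vectors of an operator of odd order can be lifted -/
theorem lift_fix [CharP K 2] {π : V →ₗ[K] B} {g : End K V} {g' : End K B} (h : ∀ v, π (g v) = g' (π v)) {n : ℕ} (hn : Odd n)
    (hg : g ^ n = 1) (hπ : Function.Surjective π) {y : B} (hy : g' y = y) : ∃ v, g v = v ∧ π v = y := by
  obtain ⟨v, rfl⟩ := hπ y
  refine ⟨∑ i ∈ Finset.range n, (g ^ i) v, ?_, ?_⟩
  · rw [map_sum]
    have e1 := Finset.sum_range_succ (fun i => (g ^ i) v) n
    have e2 := Finset.sum_range_succ' (fun i => (g ^ i) v) n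
    rw [hg] at e1
    rw [pow_zero, e1] at e2
    have e3 := add_right_cancel e2
    rw [e3]
    refine Finset.sum_congr rfl fun i _ => ?_
    rw [pow_succ', End.mul_apply]
  · rw [map_sum]
    have e : ∀ i, π ((g ^ i) v) = π v := fun i => by rw [pow_hom h, pow_fix hy]
    rw [Finset.sum_congr rfl fun i _ => e i, Finset.sum_const, Finset.card_range, odd_smul K hn]

theorem Ses.kd_fe [CharP K 2] {a : ℕ → End K A} {v : ℕ → End K V} {b : ℕ → End K B} {ι : A →ₗ[K] V} {π : V →ₗ[K] B}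
    (h : Ses a v b ι π) {w : List ℕ} {n : ℕ} (hn : Odd n) (hg : wd v w ^ n = 1) :
    kd v [fe w] = kd a [fe w] + kd b [fe w] := by
  refine le_antisymm (h.kd_le _) (finrank_ge_of_exact ι π _ _ _ h.inj (fun x => (h.ex _).2 ⟨x, rfl⟩)
    (fun x hx => h.hp.mem_Kr hx) (fun x hx => h.hi.mem_Kr hx) fun y hy => ?_)
  obtain ⟨x, h1, h2⟩ := lift_fix (h.hp.wd w) hn hg h.surj (mem_fe.1 hy)
  exact ⟨x, mem_fe.2 h1, h2⟩

omit [FiniteDimensional K V] in
theorem fox_inner [CharP K 2] {a : ℕ → End K V} {g h : List ℕ} {v : V} (hv : wd a g v = v) (w : List Bool) :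
    el (subF a [g, h]) (foxE w) (wd a h v + v) = wd a (flat2 g h w) v + v := by
  induction w with
  | nil => exact (add_self' K v).symm
  | cons b w ih =>
    have e0 : subF a [g, h] 0 = wd a g := rfl
    have e1 : subF a [g, h] 1 = wd a h := rfl
    cases b with
    | false =>
      have e : foxE (false :: w) = .mul (.w [0]) (foxE w) := rfl
      have e' : flat2 g h (false :: w) = g ++ flat2 g h w := rfl
      rw [e, e', el_mul, el_w, wd_single, End.mul_apply, ih, e0, map_add, hv, wd_append_apply]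
    | true =>
      have e : foxE (true :: w) = .add (.w []) (.mul (.w [1]) (foxE w)) := rfl
      have e' : flat2 g h (true :: w) = h ++ flat2 g h w := rfl
      rw [e, e', el_add, el_mul, el_w, el_w, wd_single, LinearMap.add_apply, End.mul_apply, ih, e1, map_add (wd a h),
        wd_append_apply, wd_nil_apply]
      have := add_self' K (wd a h v)
      calc _ = wd a h (wd a (flat2 g h w) v) + v + (wd a h v + wd a h v) := by abel
        _ = _ := by rw [this, add_zero]

/-- the relators hold, and the two words generate -/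
def foxOk (ok : List ℕ → List ℕ → Bool) (k : ℕ) (g h : List ℕ) (R : List (List Bool)) (c : List (List ℕ)) : Bool :=
  (R.all fun w => ok (flat2 g h w) []) && (List.range k).all fun j => ok [j] (flat [g, h] (c.getD j []))

/-- the inner derivations -/
theorem kd_fox [CharP K 2] {ok : List ℕ → List ℕ → Bool} {k0 k : ℕ} {a : ℕ → End K V} (ha : Good ok k0 a) {g h : List ℕ}
    {R : List (List Bool)} {c : List (List ℕ)} (hc : foxOk ok k g h R c = true) :
    kd a [fe g] ≤ finrank K (Fx a (sing k)) + kd (subF a [g, h]) (R.map foxE) := by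
  rw [foxOk, Bool.and_eq_true, List.all_eq_true, List.all_eq_true] at hc
  refine finrank_le_of_exact LinearMap.id (el a (fe h)) _ _ _ (fun v hv => ?_) fun v hv h0 => ⟨v, ?_, rfl⟩
  · rw [mem_Kr, List.forall_mem_map]
    intro w hw
    rw [el_fe, fox_inner (mem_fe.1 hv), ha.rel _ _ (hc.1 w hw), wd_nil_apply, add_self' K]
  · have h1 : v ∈ Fx a [g, h] := mem_Fx.2 (List.forall_mem_cons.2 ⟨mem_fe.1 hv,
      List.forall_mem_singleton.2 (mem_fe.1 (mem_Kr_one.2 h0))⟩)
    refine mem_Fx_sing.2 fun j hj => ?_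
    rw [← wd_single a j, ha.rel _ _ (hc.2 j (List.mem_range.2 hj)), wd_flat h1]

/-- the fixed vectors in the orthogonal of an invariant subspace -/
theorem kd_perp [CharP K 2] {a : ℕ → End K V} (β : LinearMap.BilinForm K V) (h1 : β.Nondegenerate)
    {N : Submodule K V} (hN : Inv a N) (hN' : Inv a (β.orthogonal N)) {w : List ℕ} {n : ℕ} (hn : Odd n)
    (hg : wd a w ^ n = 1) (hβ : ∀ x y, β (wd a w x) (wd a w y) = β x y) :
    kd (subOp a _ hN') [fe w] + kd (subOp a N hN) [fe w] = kd a [fe w] := by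
  have e1 := (ses_sub a N hN).kd_fe hn hg
  have e2 : (Kr (subOp a _ hN') [fe w]).map (β.orthogonal N).subtype =
      β.orthogonal ((LinearMap.range (el (quoOp a N hN) (fe w))).comap N.mkQ) := by
    have hs : Function.Surjective (wd a w) := fun y => by
      obtain ⟨m, rfl⟩ := hn
      exact ⟨(wd a w ^ (2 * m)) y, by rw [← End.mul_apply, ← pow_succ', hg]; rfl⟩
    ext x
    constructor
    · rintro ⟨y, hy, rfl⟩ t ⟨s, hs'⟩
      obtain ⟨s, rfl⟩ := N.mkQ_surjective s
      rw [← (hom_quo a N hN).el] at hs'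
      have h3 : el a (fe w) s - t ∈ N := (Submodule.Quotient.eq N).1 hs'
      have h4 : wd a w y = y := ((hom_sub a _ hN').wd w y).symm.trans (congrArg Subtype.val (mem_fe.1 hy))
      have h5 : β (el a (fe w) s - t) y = 0 := y.2 _ h3
      have h6 : β (el a (fe w) s) y = 0 := by
        rw [el_fe, map_add, LinearMap.add_apply]
        conv_lhs => enter [1]; rw [← h4]
        rw [hβ, add_self' K]
      rw [map_sub, LinearMap.sub_apply, h6, zero_sub, neg_eq_zero] at h5
      exact h5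
    · intro hx
      have h3 : x ∈ β.orthogonal N := fun t ht => hx t ⟨0, by
        rw [map_zero]; exact ((Submodule.Quotient.mk_eq_zero N).2 ht).symm⟩
      refine ⟨⟨x, h3⟩, mem_fe.2 (Subtype.ext (((hom_sub a _ hN').wd w ⟨x, h3⟩).trans ?_)), rfl⟩
      refine (add_eq_zero' K).1 (h1.2 _ fun t => ?_)
      obtain ⟨t, rfl⟩ := hs t
      have h4 : β (el a (fe w) t) x = 0 := hx _ ⟨N.mkQ t, ((hom_quo a N hN).el _ t).symm⟩
      rw [el_fe, map_add, LinearMap.add_apply] at h4
      rw [map_add, Submodule.subtype_apply, hβ, add_comm]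
      exact h4
  have e3 := LinearMap.BilinForm.finrank_orthogonal h1 ((LinearMap.range (el (quoOp a N hN) (fe w))).comap N.mkQ)
  rw [← e2, Submodule.finrank_map_subtype_eq] at e3
  have e4 := LinearMap.finrank_range_add_finrank_ker (el (quoOp a N hN) (fe w))
  have e5 : LinearMap.ker (el (quoOp a N hN) (fe w)) = Kr (quoOp a N hN) [fe w] := Submodule.ext fun _ => mem_Kr_one.symm
  have e6 := Submodule.finrank_quotient_add_finrank N
  have e7 : finrank K ((LinearMap.range (el (quoOp a N hN) (fe w))).comap N.mkQ) =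
      finrank K (⊤ : Submodule K N) + finrank K (LinearMap.range (el (quoOp a N hN) (fe w))) :=
    le_antisymm (finrank_le_of_exact N.subtype N.mkQ _ _ _ (fun _ hx => hx) fun x _ h0 =>
        ⟨⟨x, (Submodule.Quotient.mk_eq_zero N).1 h0⟩, trivial, rfl⟩)
      (finrank_ge_of_exact N.subtype N.mkQ _ _ _ N.injective_subtype (fun x => (Submodule.Quotient.mk_eq_zero N).2 x.2)
        (fun _ hx => hx) (fun x _ => ⟨0, by rw [map_zero]; exact ((Submodule.Quotient.mk_eq_zero N).2 x.2).symm⟩)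
        fun y hy => by
          obtain ⟨x, rfl⟩ := N.mkQ_surjective y
          exact ⟨x, hy, rfl⟩)
  rw [finrank_top] at e7
  rw [e5] at e4
  have e8 := Submodule.finrank_le ((LinearMap.range (el (quoOp a N hN) (fe w))).comap N.mkQ)
  unfold kd at e1 ⊢
  omega

end Exact

end Cfsg.Agent.E8A.Mc
end

-- part: E8A/Mc/Bits
section
/-!
# A module machine in characteristic two: matrices as natural numbers (helper42; the rank after helper38)

* `bv K n v` : the vector of the bits of `v`; `lin K n T` : the operator whose rows are packed in `T`;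
* `mul` : the product of packed matrices; `ops K n S` : the family of a list of tables; `evW`, `evE` : evaluation;
* `rkE` : the rank of a list of elements, `kd_ops`.
-/

set_option autoImplicit false

namespace Cfsg.Agent.E8A.Mc

open Module

universe u

/-- evaluate the number first -/
noncomputable def force {α : Type} (n : ℕ) (f : ℕ → α) : α := Nat.rec (f 0) (fun k _ => f (Nat.succ k)) n

theorem force_eq {α : Type} (n : ℕ) (f : ℕ → α) : force n f = f n := by cases n <;> rfl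

/-- evaluate a list first -/
noncomputable def forceL {α : Type} (l : List ℕ) : (List ℕ → α) → α :=
  List.rec (motive := fun _ => (List ℕ → α) → α) (fun k => k []) (fun x _ ih k => force x fun y => ih fun l' => k (y :: l')) l

theorem forceL_eq {α : Type} (l : List ℕ) (k : List ℕ → α) : forceL l k = k l := by
  induction l generalizing k with
  | nil => rfl
  | cons x l ih => exact (force_eq x fun y => forceL l fun l' => k (y :: l')).trans (ih _)

/-- the test of a bit, for the kernel -/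
def tb (v i : ℕ) : Bool := Nat.beq (Nat.land (Nat.shiftRight v i) 1) 1

theorem tb_eq (v i : ℕ) : tb v i = v.testBit i := by
  have h : Nat.land (Nat.shiftRight v i) 1 = (v >>> i) % 2 := Nat.and_one_is_mod _
  rw [tb, h, Nat.testBit_eq_decide_div_mod_eq, Nat.shiftRight_eq_div_pow]
  by_cases e : v / 2 ^ i % 2 = 1
  · rw [e, decide_eq_true rfl]; rfl
  · rw [decide_eq_false e]
    exact Bool.eq_false_iff.2 fun h => e (Nat.eq_of_beq_eq_true h)

/-- an entry of a list -/
noncomputable def nth (S : List ℕ) : ℕ → ℕ :=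
  List.rec (motive := fun _ => ℕ → ℕ) (fun _ => 0) (fun x _ ih j => Nat.rec (motive := fun _ => ℕ) x (fun i _ => ih i) j) S

theorem nth_eq (S : List ℕ) (j : ℕ) : nth S j = S.getD j 0 := by
  induction S generalizing j with
  | nil => rfl
  | cons x S ih =>
    cases j with
    | zero => rfl
    | succ j => exact ih j

/-- a test for all numbers below `n` -/
noncomputable def allN (n : ℕ) (p : ℕ → Bool) : Bool := Nat.rec (motive := fun _ => Bool) true (fun i ih => p i && ih) n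

theorem allN_spec {n : ℕ} {p : ℕ → Bool} (h : allN n p = true) {i : ℕ} (hi : i < n) : p i = true := by
  induction n with
  | zero => exact absurd hi (Nat.not_lt_zero i)
  | succ n ih =>
    have h' : (p n && allN n p) = true := h
    rw [Bool.and_eq_true] at h'
    rcases Nat.lt_succ_iff_lt_or_eq.1 hi with e | e
    · exact ih h'.2 e
    · rw [e]; exact h'.1

/-- the `i`-th row of a table -/
def row (n T i : ℕ) : ℕ := Nat.land (Nat.shiftRight T (Nat.mul n i)) (Nat.sub (Nat.pow 2 n) 1)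

theorem testBit_row (n T i t : ℕ) : (row n T i).testBit t = (decide (t < n) && T.testBit (n * i + t)) := by
  have h : row n T i = (T >>> (n * i)) &&& (2 ^ n - 1) := rfl
  rw [h, Nat.testBit_and, Nat.testBit_shiftRight, Nat.testBit_two_pow_sub_one, Bool.and_comm]

theorem row_lt (n T i : ℕ) : row n T i < 2 ^ n :=
  Nat.lt_pow_two_of_testBit _ fun t ht => by rw [testBit_row, decide_eq_false (not_lt.2 ht), Bool.false_and]

/-- the number with the bits `b * r`, `r < m` -/
def geo (b m : ℕ) : ℕ := Nat.div (Nat.sub (Nat.pow 2 (Nat.mul b m)) 1) (Nat.sub (Nat.pow 2 b) 1)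

theorem testBit_geo {b : ℕ} (hb : 0 < b) (m s : ℕ) : (geo b m).testBit s = true ↔ ∃ r < m, s = b * r := by
  have h2 : 1 < 2 ^ b := Nat.one_lt_two_pow hb.ne'
  have key : ∀ m, ∃ g, (2 ^ b - 1) * g + 1 = 2 ^ (b * m) ∧ ∀ s, g.testBit s = true ↔ ∃ r < m, s = b * r := by
    intro m
    induction m with
    | zero => exact ⟨0, rfl, fun s => by simp⟩
    | succ m ih =>
      obtain ⟨g, h1, h3⟩ := ih
      refine ⟨2 ^ b * g + 1, ?_, fun s => ?_⟩
      · obtain ⟨c, hc⟩ : ∃ c, 2 ^ b = c + 1 := ⟨2 ^ b - 1, by omega⟩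
        rw [mul_add b, mul_one, pow_add, ← h1, hc, Nat.add_sub_cancel]
        ring
      · rw [Nat.testBit_two_pow_mul_add _ h2]
        split_ifs with hs
        · rw [Nat.testBit_one_eq_true_iff_self_eq_zero]
          refine ⟨fun e => ⟨0, Nat.succ_pos m, e⟩, ?_⟩
          rintro ⟨r, -, rfl⟩
          rcases Nat.eq_zero_or_pos r with e | e
          · rw [e, mul_zero]
          · exact absurd (Nat.le_mul_of_pos_right b e) (not_le.2 hs)
        · rw [h3]
          constructor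
          · rintro ⟨r, hr, e⟩
            exact ⟨r + 1, by omega, by rw [mul_add, mul_one]; omega⟩
          · rintro ⟨r, hr, rfl⟩
            cases r with
            | zero => exact absurd hb hs
            | succ r => exact ⟨r, by omega, by rw [mul_add, mul_one, Nat.add_sub_cancel]⟩
  obtain ⟨g, h1, h3⟩ := key m
  have e : geo b m = g := by
    show (2 ^ (b * m) - 1) / (2 ^ b - 1) = g
    rw [← h1, Nat.add_sub_cancel, Nat.mul_div_cancel_left _ (by omega)]
  rw [e, h3]

theorem testBit_spread {n b : ℕ} (hb : b < 2 ^ n) {t : ℕ} (ht : t < n) (i : ℕ) {y : ℕ}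
    (hy : ∀ s, y.testBit s = true → n ∣ s) : (y * b).testBit (n * i + t) = (y.testBit (n * i) && b.testBit t) := by
  induction i generalizing y with
  | zero => ?_
  | succ i ih => ?_
  all_goals
    have e1 : y % 2 ^ n = if y.testBit 0 then 1 else 0 := Nat.eq_of_testBit_eq fun s => by
      rw [Nat.testBit_mod_two_pow]
      rcases Nat.eq_zero_or_pos s with rfl | hs
      · rw [decide_eq_true (by omega : 0 < n), Bool.true_and]
        cases y.testBit 0 <;> rfl
      · have e2 : (if y.testBit 0 then 1 else 0 : ℕ).testBit s = false := by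
          split_ifs
          · exact Bool.eq_false_iff.2 fun e => hs.ne' (Nat.testBit_one_eq_true_iff_self_eq_zero.1 e)
          · exact Nat.zero_testBit s
        rw [e2, Bool.and_eq_false_iff]
        by_cases e : s < n
        · exact Or.inr (Bool.eq_false_iff.2 fun h => absurd (Nat.le_of_dvd hs (hy s h)) (not_le.2 e))
        · exact Or.inl (decide_eq_false e)
    have e2 : y * b = 2 ^ n * (y / 2 ^ n * b) + y % 2 ^ n * b := by
      conv_lhs => rw [← Nat.div_add_mod y (2 ^ n)]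
      ring
    have e3 : y % 2 ^ n * b < 2 ^ n := by
      rw [e1]; split_ifs <;> omega
    rw [e2, Nat.testBit_two_pow_mul_add _ e3]
  · rw [mul_zero, zero_add, if_pos ht, e1]
    cases y.testBit 0
    · simp
    · simp
  · rw [if_neg (by rw [mul_add, mul_one]; omega), show n * (i + 1) + t - n = n * i + t by rw [mul_add, mul_one]; omega,
      ih fun s hs => ?_, Nat.testBit_div_two_pow, mul_add, mul_one]
    rw [Nat.testBit_div_two_pow] at hs
    exact (Nat.dvd_add_left (dvd_refl n)).1 (hy _ hs)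

/-- the product of two tables -/
noncomputable def mul (n A B : ℕ) : ℕ := force A fun A => force B fun B => force (geo n n) fun M =>
  Nat.rec (motive := fun _ => ℕ → ℕ) (fun acc => acc)
    (fun s ih acc => force (Nat.xor acc (Nat.mul (Nat.land (Nat.shiftRight A s) M) (row n B s))) ih) n 0

/-- the table of the identity -/
def idT (n : ℕ) : ℕ := geo (Nat.succ n) n

/-- the table of a word -/
noncomputable def evW (n : ℕ) (S : List ℕ) (w : List ℕ) : ℕ :=
  List.rec (motive := fun _ => ℕ) (idT n)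
    (fun j w' ih => List.rec (motive := fun _ => ℕ) (nth S j) (fun _ _ _ => mul n ih (nth S j)) w') w

/-- the table of an element of the free algebra -/
noncomputable def evE (n : ℕ) (S : List ℕ) (e : Ex) : ℕ :=
  Ex.rec (motive := fun _ => ℕ) 0 (evW n S) (fun _ _ x y => Nat.xor x y) (fun _ _ x y => mul n y x) e

/-- clear the bit `p` with the number `v` -/
noncomputable def elim (p v : ℕ) (k : List ℕ → ℕ) (l : List ℕ) : List ℕ → ℕ :=
  List.rec (motive := fun _ => List ℕ → ℕ) k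
    (fun w _ ih acc => Bool.rec (ih (w :: acc))
      (Nat.rec (motive := fun _ => ℕ) (ih acc) (fun t _ => ih (Nat.succ t :: acc)) (Nat.xor w v)) (tb w p)) l

/-- the highest bit, by bisection -/
noncomputable def lg (k : ℕ) : ℕ → ℕ → ℕ :=
  Nat.rec (motive := fun _ => ℕ → ℕ → ℕ) (fun _ p => p)
    (fun i ih v p => Nat.rec (motive := fun _ => ℕ) (ih v p) (fun t _ => force (Nat.add p (Nat.pow 2 i)) (ih (Nat.succ t)))
      (Nat.shiftRight v (Nat.pow 2 i))) k

/-- a bit that is set -/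
noncomputable def piv (v : ℕ) : ℕ := force (lg 20 v 0) fun p => Bool.rec (motive := fun _ => ℕ) (Nat.log2 v) p (tb v p)

theorem testBit_piv {v : ℕ} (h : v ≠ 0) : v.testBit (piv v) = true := by
  have key : ∀ q, v.testBit (force q fun p => Bool.rec (motive := fun _ => ℕ) (Nat.log2 v) p (tb v p)) = true := fun q => by
    rw [force_eq, tb_eq]
    cases e : v.testBit q with
    | false => exact Nat.testBit_log2 h
    | true => exact e
  exact key (lg 20 v 0)

/-- the rank, by elimination -/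
noncomputable def rk (pv : ℕ → ℕ) (f : ℕ) : List ℕ → ℕ → ℕ :=
  Nat.rec (motive := fun _ => List ℕ → ℕ → ℕ) (fun _ c => c)
    (fun _ ih l c => List.rec (motive := fun _ => ℕ) c
      (fun v l' _ => Nat.rec (motive := fun _ => ℕ) (ih l' c)
        (fun _ _ => force (pv v) fun p => elim p v (fun l'' => ih l'' (Nat.succ c)) l' []) v) l) f

/-- the rows of several tables, one after the other -/
noncomputable def cat (n : ℕ) (Ts : List ℕ) (i : ℕ) : ℕ :=
  List.rec (motive := fun _ => ℕ) 0 (fun T _ ih => Nat.xor (row n T i) (Nat.shiftLeft ih n)) Ts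

/-- the rank of a list of elements -/
noncomputable def rkE (n : ℕ) (S : List ℕ) (E : List Ex) : ℕ :=
  forceL (E.map (evE n S)) fun Ts => forceL ((List.range n).map (cat n Ts)) fun l => rk piv n l 0

variable (K : Type u) [Field K]

/-- a bit as an element of the field -/
def bt (v i : ℕ) : K := if v.testBit i then 1 else 0

/-- the space of dimension `n` -/
abbrev X (n : ℕ) : Type u := Fin n → K

/-- the vector of the first `n` bits -/
def bv (n v : ℕ) : X K n := fun i => bt K v i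

/-- the sequence of all bits -/
def bw (v : ℕ) : ℕ → K := fun i => bt K v i

/-- the operator of a table -/
noncomputable def lin (n T : ℕ) : End K (X K n) := (Pi.basisFun K (Fin n)).constr K fun i => bv K n (row n T i)

/-- the family of operators -/
noncomputable def ops (n : ℕ) (S : List ℕ) : ℕ → End K (X K n) := fun j => lin K n (nth S j)

/-- the `i`-th coordinate -/
def co (n i : ℕ) : X K n →ₗ[K] K := if h : i < n then LinearMap.proj ⟨i, h⟩ else 0

/-- the span of a list of numbers -/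
def spL (l : List ℕ) : Submodule K (ℕ → K) := Submodule.span K (bw K '' {x | x ∈ l})

variable {K}

theorem bt_xor [CharP K 2] (a b i : ℕ) : bt K (a ^^^ b) i = bt K a i + bt K b i := by
  unfold bt
  rw [Nat.testBit_xor]
  cases a.testBit i <;> cases b.testBit i <;> simp [CharTwo.add_self_eq_zero]

theorem bt_zero (i : ℕ) : bt K 0 i = 0 := by unfold bt; rw [Nat.zero_testBit]; rfl

theorem bt_true {v i : ℕ} (h : v.testBit i = true) : bt K v i = 1 := by unfold bt; rw [if_pos h]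

theorem bt_false {v i : ℕ} (h : v.testBit i = false) : bt K v i = 0 := by unfold bt; rw [h]; rfl

theorem bt_congr {v i w j : ℕ} (h : v.testBit i = w.testBit j) : bt K v i = bt K w j := by unfold bt; rw [h]

theorem bt_of_and {v i a j b k : ℕ} (h : v.testBit i = (a.testBit j && b.testBit k)) : bt K v i = bt K a j * bt K b k := by
  unfold bt
  rw [h]
  cases a.testBit j <;> cases b.testBit k <;> simp

theorem bt_row {n t : ℕ} (h : t < n) (T i : ℕ) : bt K (row n T i) t = bt K T (n * i + t) :=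
  bt_congr (by rw [testBit_row, decide_eq_true h, Bool.true_and])

theorem bt_two_pow (j i : ℕ) : bt K (2 ^ j) i = if j = i then 1 else 0 := by
  unfold bt
  rw [Nat.testBit_two_pow]
  by_cases h : j = i
  · rw [if_pos h, if_pos (decide_eq_true h)]
  · rw [if_neg h, if_neg (by rw [decide_eq_false h]; decide)]

theorem bv_zero (n : ℕ) : bv K n 0 = 0 := funext fun i => bt_zero i

theorem bw_xor [CharP K 2] (a b : ℕ) : bw K (a ^^^ b) = bw K a + bw K b := funext fun i => bt_xor a b i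

theorem bw_zero : bw K 0 = 0 := funext fun i => bt_zero i

theorem bv_two_pow {n : ℕ} (j : Fin n) : bv K n (2 ^ (j : ℕ)) = Pi.single j 1 := by
  funext i
  rw [bv, bt_two_pow, Pi.single_apply]
  by_cases h : i = j
  · rw [if_pos h, if_pos (congrArg Fin.val h).symm]
  · rw [if_neg h, if_neg fun e => h (Fin.ext e).symm]

theorem bv_one_ne {n : ℕ} (h : 0 < n) : bv K n 1 ≠ 0 := fun e =>
  one_ne_zero ((bt_true (K := K) (v := 1) (i := 0) rfl).symm.trans (congrFun e ⟨0, h⟩))

theorem x_ext {n : ℕ} {V : Type*} [AddCommGroup V] [Module K V] {f g : X K n →ₗ[K] V}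
    (h : ∀ i < n, f (bv K n (2 ^ i)) = g (bv K n (2 ^ i))) : f = g :=
  (Pi.basisFun K (Fin n)).ext fun i => by rw [Pi.basisFun_apply, ← bv_two_pow]; exact h i i.2

theorem x_sum {n : ℕ} {V : Type*} [AddCommGroup V] [Module K V] (f : X K n →ₗ[K] V) (y : ℕ) :
    f (bv K n y) = ∑ s ∈ Finset.range n, bt K y s • f (bv K n (2 ^ s)) := by
  rw [Finset.sum_range, LinearMap.pi_apply_eq_sum_univ]
  refine Finset.sum_congr rfl fun s _ => ?_
  rw [bv_two_pow, bv]
  exact congrArg (fun x => bt K y s • f x) (funext fun j => by rw [Pi.single_apply]; exact if_congr eq_comm rfl rfl)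

theorem lin_pow {n i : ℕ} (h : i < n) (T : ℕ) : lin K n T (bv K n (2 ^ i)) = bv K n (row n T i) := by
  rw [bv_two_pow (⟨i, h⟩ : Fin n), ← Pi.basisFun_apply]; exact Basis.constr_basis _ _ _ _

theorem lin_one {n : ℕ} (h : 0 < n) (T : ℕ) : lin K n T (bv K n 1) = bv K n (row n T 0) := lin_pow h T

theorem lin_xor [CharP K 2] (n A B : ℕ) : lin K n (A ^^^ B) = lin K n A + lin K n B :=
  x_ext fun i hi => by
    rw [LinearMap.add_apply, lin_pow hi, lin_pow hi, lin_pow hi]
    funext t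
    rw [Pi.add_apply, bv, bv, bv, bt_row t.2, bt_row t.2, bt_row t.2, bt_xor]

theorem lin_zero (n : ℕ) : lin K n 0 = 0 := x_ext fun i hi => by
  rw [lin_pow hi]
  funext t
  rw [bv, bt_row t.2, bt_zero]; rfl

theorem lin_idT (n : ℕ) : lin K n (idT n) = 1 := x_ext fun i hi => by
  rw [lin_pow hi]
  funext t
  rw [End.one_apply, bv, bv, bt_row t.2]
  refine bt_congr (Bool.eq_iff_iff.2 ?_)
  rw [idT, testBit_geo (Nat.succ_pos n), Nat.testBit_two_pow, decide_eq_true_iff]
  constructor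
  · rintro ⟨r, hr, e⟩
    rw [Nat.succ_mul] at e
    have e1 := congrArg (· % n) e
    have e2 := congrArg (· / n) e
    simp only [Nat.mul_add_mod, Nat.mod_eq_of_lt t.2, Nat.mod_eq_of_lt hr, Nat.mul_add_div (by omega : n > 0),
      Nat.div_eq_of_lt t.2, Nat.div_eq_of_lt hr] at e1 e2
    omega
  · intro e
    exact ⟨i, hi, by rw [Nat.succ_mul, ← e]⟩

theorem lin_mul [CharP K 2] (n A B : ℕ) : lin K n (mul n A B) = lin K n B * lin K n A := x_ext fun i hi => by
  have key : ∀ m acc, ∀ t < n, bt K (Nat.rec (motive := fun _ => ℕ → ℕ) (fun acc => acc)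
      (fun s ih acc => force (Nat.xor acc (Nat.mul (Nat.land (Nat.shiftRight A s) (geo n n)) (row n B s))) ih) m acc) (n * i + t) =
        bt K acc (n * i + t) + ∑ s ∈ Finset.range m, bt K A (n * i + s) * bt K (row n B s) t := by
    intro m
    induction m with
    | zero => intro acc t _; exact (add_zero _).symm
    | succ m ih =>
      intro acc t ht
      have e := ih (acc ^^^ (((A >>> m) &&& geo n n) * row n B m)) t ht
      rw [bt_xor, bt_of_and (testBit_spread (row_lt n B m) ht i fun s hs => ?_), add_assoc] at e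
      · rw [Finset.sum_range_succ, add_comm _ (_ * _), ← bt_congr (v := (A >>> m) &&& geo n n) (i := n * i) (w := A) (j := n * i + m) (by
          rw [Nat.testBit_and, (testBit_geo (by omega) n _).2 ⟨i, hi, rfl⟩, Bool.and_true, Nat.testBit_shiftRight, add_comm]),
          ← e]
        exact congrArg (bt K · _) (force_eq _ _)
      · rw [Nat.testBit_and, Bool.and_eq_true] at hs
        obtain ⟨r, -, rfl⟩ := (testBit_geo (by omega) n _).1 hs.2
        exact dvd_mul_right n r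
  rw [End.mul_apply, lin_pow hi, lin_pow hi, x_sum]
  funext t
  rw [bv, bt_row t.2, mul, force_eq, force_eq, force_eq, key n 0 t t.2, bt_zero, zero_add, Finset.sum_apply]
  refine Finset.sum_congr rfl fun s hs => ?_
  rw [lin_pow (Finset.mem_range.1 hs), bt_row (Finset.mem_range.1 hs)]
  rfl

theorem ops_ge (n : ℕ) {S : List ℕ} {j : ℕ} (h : S.length ≤ j) : ops K n S j = 0 := by
  rw [ops, nth_eq, List.getD_eq_default _ _ h, lin_zero]

theorem lin_evW [CharP K 2] (n : ℕ) (S : List ℕ) (w : List ℕ) : lin K n (evW n S w) = wd (ops K n S) w := by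
  induction w with
  | nil => exact lin_idT n
  | cons j w ih =>
    cases w with
    | nil => exact (wd_single (ops K n S) j).symm
    | cons i w => rw [wd_cons, ← ih]; exact lin_mul n _ _

theorem lin_evE [CharP K 2] (n : ℕ) (S : List ℕ) (e : Ex) : lin K n (evE n S e) = el (ops K n S) e := by
  induction e with
  | z => exact lin_zero n
  | w w => exact lin_evW n S w
  | add x y hx hy => rw [el_add, ← hx, ← hy]; exact lin_xor n _ _
  | mul x y hx hy => rw [el_mul, ← hx, ← hy]; exact lin_mul n _ _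

theorem ops_map [CharP K 2] (n : ℕ) (S : List ℕ) (zs : List (List ℕ)) :
    ops K n (zs.map (evW n S)) = subF (ops K n S) zs := funext fun i => by
  rcases lt_or_ge i zs.length with hi | hi
  · rw [subF_lt _ hi, ← lin_evW, ops, nth_eq, List.getD_eq_getElem _ _ (by rwa [List.length_map]), List.getElem_map,
      List.getD_eq_getElem _ _ hi]
  · rw [subF_ge _ hi, ops_ge _ (by rwa [List.length_map])]

theorem co_bv {n k : ℕ} (h : k < n) (v : ℕ) : co K n k (bv K n v) = bt K v k := by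
  unfold co; rw [dif_pos h]; rfl

/-! ### ranks -/

theorem spL_nil : spL K [] = ⊥ := by
  rw [spL, Submodule.span_eq_bot]
  rintro _ ⟨x, hx, -⟩
  exact absurd hx List.not_mem_nil

theorem spL_cons (v : ℕ) (l : List ℕ) : spL K (v :: l) = Submodule.span K {bw K v} ⊔ spL K l := by
  have e : {x | x ∈ v :: l} = insert v {x | x ∈ l} := Set.ext fun _ => List.mem_cons
  rw [spL, e, Set.image_insert_eq, Submodule.span_insert]; rfl

theorem spL_fin (l : List ℕ) : Module.Finite K (spL K l) := Module.Finite.span_of_finite K ((List.finite_toSet l).image (bw K))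

theorem spL_le {l : List ℕ} {W : Submodule K (ℕ → K)} (h : ∀ x ∈ l, bw K x ∈ W) : spL K l ≤ W := by
  rw [spL, Submodule.span_le]
  rintro _ ⟨x, hx, rfl⟩
  exact h x hx

theorem mem_spL {l : List ℕ} {x : ℕ} (h : x ∈ l) : bw K x ∈ spL K l := Submodule.subset_span ⟨x, h, rfl⟩

variable [CharP K 2]

theorem elim_spec {p v : ℕ} (hv : bt K v p = 1) (k : List ℕ → ℕ) (l acc : List ℕ) (ha : ∀ x ∈ acc, bt K x p = 0) :
    ∃ l', elim p v k l acc = k l' ∧ l'.length ≤ l.length + acc.length ∧ (∀ x ∈ l', bt K x p = 0) ∧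
      Submodule.span K {bw K v} ⊔ spL K l' = Submodule.span K {bw K v} ⊔ spL K l ⊔ spL K acc := by
  induction l generalizing acc with
  | nil => exact ⟨acc, rfl, by rw [List.length_nil, zero_add], ha, by rw [spL_nil, sup_bot_eq]⟩
  | cons w l ih =>
    have e0 : elim p v k (w :: l) acc = Bool.rec (motive := fun _ => ℕ) (elim p v k l (w :: acc))
      (Nat.rec (motive := fun _ => ℕ) (elim p v k l acc) (fun t _ => elim p v k l (Nat.succ t :: acc)) (w ^^^ v))
        (tb w p) := rfl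
    rw [e0, tb_eq]
    cases e : w.testBit p with
    | false =>
      obtain ⟨l', h1, h2, h3, h4⟩ := ih (w :: acc) fun x hx => by
        rcases List.mem_cons.1 hx with rfl | hx
        · exact bt_false e
        · exact ha x hx
      refine ⟨l', h1, by rw [List.length_cons] at h2 ⊢; omega, h3, ?_⟩
      rw [h4, spL_cons, spL_cons]
      ac_rfl
    | true =>
      have hw : Submodule.span K {bw K v} ⊔ Submodule.span K {bw K (w ^^^ v)} =
          Submodule.span K {bw K v} ⊔ Submodule.span K {bw K w} := by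
        have hv1 : ∀ S : Submodule K (ℕ → K), bw K v ∈ Submodule.span K {bw K v} ⊔ S := fun S =>
          Submodule.mem_sup_left (Submodule.mem_span_singleton_self _)
        refine le_antisymm (sup_le le_sup_left ?_) (sup_le le_sup_left ?_)
        · rw [Submodule.span_singleton_le_iff_mem, bw_xor]
          exact add_mem (Submodule.mem_sup_right (Submodule.mem_span_singleton_self _)) (hv1 _)
        · rw [Submodule.span_singleton_le_iff_mem]
          have : bw K w = bw K (w ^^^ v) + bw K v := by rw [bw_xor, add_assoc, add_self' K, add_zero]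
          rw [this]
          exact add_mem (Submodule.mem_sup_right (Submodule.mem_span_singleton_self _)) (hv1 _)
      cases e1 : w ^^^ v with
      | zero =>
        obtain ⟨l', h1, h2, h3, h4⟩ := ih acc ha
        refine ⟨l', h1, by rw [List.length_cons]; omega, h3, ?_⟩
        rw [e1, bw_zero, Submodule.span_zero_singleton, sup_bot_eq] at hw
        rw [h4, spL_cons, ← sup_assoc, ← hw]
      | succ t =>
        obtain ⟨l', h1, h2, h3, h4⟩ := ih ((t + 1) :: acc) fun x hx => by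
          rcases List.mem_cons.1 hx with rfl | hx
          · rw [← e1, bt_xor, bt_true e, hv, CharTwo.add_self_eq_zero]
          · exact ha x hx
        refine ⟨l', h1, by rw [List.length_cons] at h2 ⊢; omega, h3, ?_⟩
        rw [h4, spL_cons, spL_cons, ← sup_assoc _ (Submodule.span K {bw K w}), ← hw, e1]
        ac_rfl

theorem rk_eq {pv : ℕ → ℕ} (hp : ∀ {v}, v ≠ 0 → v.testBit (pv v) = true) (f : ℕ) (l : List ℕ) (c : ℕ) (h : l.length ≤ f) :
    rk pv f l c = c + finrank K (spL K l) := by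
  induction f generalizing l c with
  | zero =>
    rw [List.length_eq_zero_iff.1 (Nat.le_zero.1 h), spL_nil, finrank_bot]; rfl
  | succ f ih =>
    cases l with
    | nil => rw [spL_nil, finrank_bot]; rfl
    | cons v l =>
      rw [List.length_cons] at h
      cases v with
      | zero =>
        rw [spL_cons, bw_zero, Submodule.span_zero_singleton, bot_sup_eq, ← ih l c (by omega)]; rfl
      | succ t =>
        have e0 : rk pv (f + 1) ((t + 1) :: l) c =
          force (pv (t + 1)) fun p => elim p (t + 1) (fun l'' => rk pv f l'' (c + 1)) l [] := rfl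
        have hv : bt K (t + 1) (pv (t + 1)) = 1 := bt_true (hp (Nat.succ_ne_zero t))
        obtain ⟨l', h1, h2, h3, h4⟩ := elim_spec hv (fun l'' => rk pv f l'' (c + 1)) l [] fun _ hx => absurd hx List.not_mem_nil
        rw [List.length_nil] at h2
        rw [spL_nil, sup_bot_eq] at h4
        rw [e0, force_eq, h1, ih l' _ (by omega), spL_cons, ← h4]
        have hn : bw K (t + 1) ∉ spL K l' := fun hm => by
          have : spL K l' ≤ LinearMap.ker (LinearMap.proj (pv (t + 1)) : (ℕ → K) →ₗ[K] K) := spL_le fun x hx => h3 x hx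
          exact one_ne_zero (hv.symm.trans (this hm))
        have h0 : bw K (t + 1) ≠ 0 := fun e => hn (e ▸ zero_mem _)
        have := spL_fin (K := K) l'
        have e := Submodule.finrank_sup_add_finrank_inf_eq (Submodule.span K {bw K (t + 1)}) (spL K l')
        rw [finrank_span_singleton h0, ((Submodule.disjoint_span_singleton' h0).2 hn).symm.eq_bot, finrank_bot] at e
        omega

omit [CharP K 2] in
theorem cat_spec (n : ℕ) (Ts : List ℕ) : ∃ A : X K n →ₗ[K] (ℕ → K), (∀ i < n, A (bv K n (2 ^ i)) = bw K (cat n Ts i)) ∧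
    ∀ v, A v = 0 ↔ ∀ T ∈ Ts, lin K n T v = 0 := by
  induction Ts with
  | nil => exact ⟨0, fun _ _ => bw_zero.symm, fun _ => ⟨fun _ _ h => absurd h List.not_mem_nil, fun _ => rfl⟩⟩
  | cons T Ts ih =>
    obtain ⟨A, h1, h2⟩ := ih
    refine ⟨LinearMap.pi fun t => if t < n then co K n t ∘ₗ lin K n T else LinearMap.proj (t - n) ∘ₗ A, fun i hi => ?_,
      fun v => ?_⟩
    · funext t
      have e : cat n (T :: Ts) i = row n T i ^^^ (cat n Ts i <<< n) := rfl
      rw [LinearMap.pi_apply, e, bw]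
      split_ifs with ht
      · rw [LinearMap.comp_apply, lin_pow hi, co_bv ht]
        exact bt_congr (by rw [Nat.testBit_xor, Nat.testBit_shiftLeft, decide_eq_false (by omega), Bool.false_and, Bool.xor_false])
      · rw [LinearMap.comp_apply, h1 i hi, LinearMap.proj_apply, bw]
        exact bt_congr (by rw [Nat.testBit_xor, Nat.testBit_shiftLeft, testBit_row, decide_eq_false ht,
          decide_eq_true (by omega : t ≥ n), Bool.false_and, Bool.true_and, Bool.false_xor])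
    · rw [List.forall_mem_cons, ← h2]
      constructor
      · intro h
        refine ⟨funext fun t => ?_, funext fun t => ?_⟩
        · have := congrFun h t
          rwa [LinearMap.pi_apply, if_pos t.2, LinearMap.comp_apply, co, dif_pos t.2] at this
        · have := congrFun h (t + n)
          rwa [LinearMap.pi_apply, if_neg (by omega), Nat.add_sub_cancel] at this
      · rintro ⟨e1, e2⟩
        funext t
        rw [LinearMap.pi_apply]
        split_ifs
        · rw [LinearMap.comp_apply, e1, map_zero]; rfl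
        · rw [LinearMap.comp_apply, e2, map_zero]; rfl

theorem kd_ops (n : ℕ) (S : List ℕ) (E : List Ex) : rkE n S E + kd (ops K n S) E = n := by
  obtain ⟨A, h1, h2⟩ := cat_spec (K := K) n (E.map (evE n S))
  have e : LinearMap.range A = spL K ((List.range n).map (cat n (E.map (evE n S)))) := by
    refine le_antisymm ?_ (spL_le fun x hx => ?_)
    · rw [LinearMap.range_eq_map, ← (Pi.basisFun K (Fin n)).span_eq, Submodule.map_span_le]
      rintro _ ⟨i, rfl⟩
      rw [Pi.basisFun_apply, ← bv_two_pow, h1 i i.2]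
      exact mem_spL (List.mem_map.2 ⟨i, List.mem_range.2 i.2, rfl⟩)
    · obtain ⟨a, ha, rfl⟩ := List.mem_map.1 hx
      exact ⟨_, h1 a (List.mem_range.1 ha)⟩
  have e1 : LinearMap.ker A = Kr (ops K n S) E := Submodule.ext fun v => by
    rw [LinearMap.mem_ker, h2, mem_Kr, List.forall_mem_map]
    exact forall₂_congr fun e _ => by rw [lin_evE]
  rw [rkE, forceL_eq, forceL_eq, rk_eq (K := K) testBit_piv _ _ _ (by rw [List.length_map, List.length_range]), zero_add, ← e, kd, ← e1,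
    LinearMap.finrank_range_add_finrank_ker, Module.finrank_fin_fun]

end Cfsg.Agent.E8A.Mc
end

-- part: E8A/Mc/Cert
section
/-!
# A module machine in characteristic two: certificates (helper42)

* `spinOk` : the first basis vector generates; `badOk` : a model on which an element is not nilpotent;
  `norOk` : Norton's test;
* `blkOk`, `blocksOk` : block triangular families; `indOk` : induced families in a new basis.
-/

set_option autoImplicit false

namespace Cfsg.Agent.E8A.Mc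

open Module

universe u

/-- the basis vectors from `i` on are images of earlier ones -/
noncomputable def spinA (n : ℕ) (S : List ℕ) (prog : List (ℕ × ℕ)) : ℕ → Bool :=
  List.rec (motive := fun _ => ℕ → Bool) (fun i => Nat.beq i n)
    (fun p _ ih i => Nat.blt p.2 i && Nat.blt p.2 n && Nat.beq (row n (nth S p.1) p.2) (Nat.pow 2 i) && force (Nat.succ i) ih) prog

/-- the first basis vector generates -/
noncomputable def spinOk (n : ℕ) (S : List ℕ) (prog : List (ℕ × ℕ)) : Bool := Nat.blt 0 n && spinA n S prog 1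

/-- the first basis vector generates and is fixed by `ρ` -/
noncomputable def badOk (n : ℕ) (S : List ℕ) (ρ : Ex) (prog : List (ℕ × ℕ)) : Bool :=
  spinOk n S prog && Nat.beq (row n (evE n S ρ) 0) 1

/-- Norton's test -/
noncomputable def norOk (n : ℕ) (S : List ℕ) (θ : Ex) (prog : List (ℕ × ℕ)) (L : ℕ) (ws : List (List ℕ)) : Bool :=
  spinOk n S prog && Nat.beq (row n (evE n S θ) 0) 0 && Nat.beq (Nat.succ (rkE n S [θ])) n &&
    Nat.beq (mul n (evE n S θ) L) 0 && Nat.beq (rkE n (S ++ [L]) (ws.map fun w => .w (S.length :: w))) n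

/-- a diagonal block -/
noncomputable def blkOk (D : ℕ) (T : List ℕ) (o d : ℕ) (S : List ℕ) : Bool :=
  Nat.ble (Nat.add o d) D && Nat.ble S.length T.length && allN T.length fun j => force (nth T j) fun A => force (nth S j) fun B =>
    allN d fun r => Nat.beq (Nat.shiftRight (row D A (Nat.add o r)) o) (row d B r)

/-- the dimension of a model -/
def md (M : List (ℕ × List ℕ)) (J : ℕ) : ℕ := (M.getD J (0, [])).1

/-- the tables of a model -/
def ms (M : List (ℕ × List ℕ)) (J : ℕ) : List ℕ := (M.getD J (0, [])).2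

/-- the diagonal blocks -/
noncomputable def blocksOk (D : ℕ) (T : List ℕ) (M : List (ℕ × List ℕ)) (bl : List ℕ) : ℕ → Bool :=
  List.rec (motive := fun _ => ℕ → Bool) (fun o => Nat.beq o D)
    (fun J _ ih o => blkOk D T o (md M J) (ms M J) && force (Nat.add o (md M J)) ih) bl

/-- an entry of a list of words -/
noncomputable def nthW (S : List (List ℕ)) : ℕ → List ℕ :=
  List.rec (motive := fun _ => ℕ → List ℕ) (fun _ => [])
    (fun x _ ih j => Nat.rec (motive := fun _ => List ℕ) x (fun i _ => ih i) j) S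

/-- the table of a letter on the induced family -/
noncomputable def mkS (D d : ℕ) (S : List ℕ) (tj : List (ℕ × List ℕ)) : ℕ :=
  List.rec (motive := fun _ => ℕ → ℕ → ℕ) (fun _ acc => acc)
    (fun p _ ih q acc => force (evW d S p.2) fun B => force (Nat.rec (motive := fun _ => ℕ → ℕ) (fun acc => acc)
      (fun r ih' acc => force (Nat.xor acc (Nat.shiftLeft (row d B r) (Nat.add (Nat.mul D (Nat.add q r)) (Nat.mul d p.1)))) ih')
        d acc) fun acc' => force (Nat.add q d) fun q' => ih q' acc') tj 0 0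

/-- the check of a letter on the induced family -/
noncomputable def letOk (ok : List ℕ → List ℕ → Bool) (n d : ℕ) (S : List ℕ) (zs ts : List (List ℕ)) (j A : ℕ)
    (tj : List (ℕ × List ℕ)) : ℕ → Bool :=
  List.rec (motive := fun _ => ℕ → Bool) (fun i => Nat.beq i n)
    (fun p _ ih i => ok (j :: nthW ts i) (nthW ts p.1 ++ flat zs p.2) && ltW zs.length p.2 && Nat.blt p.1 n &&
      (force (evW d S p.2) fun B => allN d fun r =>
        Nat.beq (row (Nat.mul n d) A (Nat.add (Nat.mul d i) r)) (Nat.shiftLeft (row d B r) (Nat.mul d p.1))) &&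
      force (Nat.succ i) ih) tj

/-- the check of an induced family with `n` cosets, in the basis `P`, with the blocks `bl` -/
noncomputable def indOk (ok : List ℕ → List ℕ → Bool) (k n d : ℕ) (S : List ℕ) (zs ts : List (List ℕ))
    (tab : List (List (ℕ × List ℕ))) (P Q : ℕ) (M : List (ℕ × List ℕ)) (bl : List ℕ) : Bool :=
  Nat.blt 0 n && (nthW ts 0).isEmpty && Nat.beq (mul (Nat.mul n d) Q P) (idT (Nat.mul n d)) &&
    forceL (tab.map (mkS (Nat.mul n d) d S)) fun A => Nat.beq A.length k &&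
      (allN k fun j => letOk ok n d S zs ts j (nth A j) (tab.getD j []) 0) &&
      forceL (A.map fun x => mul (Nat.mul n d) (mul (Nat.mul n d) P x) Q) fun T => blocksOk (Nat.mul n d) T M bl 0

variable {K : Type u} [Field K] {V : Type*} [AddCommGroup V] [Module K V]

theorem spin_top {n : ℕ} {S : List ℕ} {prog : List (ℕ × ℕ)} (h : spinOk n S prog = true) {W : Submodule K (X K n)}
    (hW : Inv (ops K n S) W) (h1 : bv K n 1 ∈ W) : W = ⊤ := by
  have key : ∀ (prog : List (ℕ × ℕ)) (i : ℕ), spinA n S prog i = true → (∀ q < i, bv K n (2 ^ q) ∈ W) →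
      ∀ q < n, bv K n (2 ^ q) ∈ W := by
    intro prog
    induction prog with
    | nil => exact fun i hi h2 q hq => h2 q (lt_of_lt_of_eq hq (Nat.eq_of_beq_eq_true hi).symm)
    | cons p prog ih =>
      intro i hi h2
      have h3 : (Nat.blt p.2 i && Nat.blt p.2 n && Nat.beq (row n (nth S p.1) p.2) (2 ^ i) &&
        force (i + 1) (spinA n S prog)) = true := hi
      rw [force_eq, Bool.and_eq_true, Bool.and_eq_true, Bool.and_eq_true, Nat.blt_eq, Nat.blt_eq] at h3
      refine ih _ h3.2 fun q hq => ?_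
      rcases Nat.lt_succ_iff_lt_or_eq.1 hq with e | e
      · exact h2 q e
      · rw [e, ← Nat.eq_of_beq_eq_true h3.1.2, ← lin_pow h3.1.1.2]
        exact hW p.1 _ (h2 _ h3.1.1.1)
  rw [spinOk, Bool.and_eq_true] at h
  have h2 := key prog 1 h.2 fun q hq => by rw [Nat.lt_one_iff.1 hq]; exact h1
  have h3 : W.mkQ = 0 := x_ext fun i hi => (Submodule.Quotient.mk_eq_zero W).2 (h2 i hi)
  rw [eq_top_iff]
  exact fun v _ => (Submodule.Quotient.mk_eq_zero W).1 (LinearMap.congr_fun h3 v)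

theorem spin_pos {n : ℕ} {S : List ℕ} {prog : List (ℕ × ℕ)} (h : spinOk n S prog = true) : 0 < n := by
  rw [spinOk, Bool.and_eq_true, Nat.blt_eq] at h; exact h.1

theorem spin_zero {n : ℕ} {S : List ℕ} {prog : List (ℕ × ℕ)} (h : spinOk n S prog = true) {a : ℕ → End K V}
    {f : X K n →ₗ[K] V} (hf : Hom (ops K n S) a f) (h1 : f (bv K n 1) = 0) : f = 0 :=
  LinearMap.ker_eq_top.1 (spin_top h hf.inv_ker h1)

theorem el_one [CharP K 2] {n : ℕ} (h : 0 < n) (S : List ℕ) (e : Ex) :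
    el (ops K n S) e (bv K n 1) = bv K n (row n (evE n S e) 0) := by rw [← lin_evE, lin_one h]

theorem bad_zero [CharP K 2] {n : ℕ} {S : List ℕ} {ρ : Ex} {prog : List (ℕ × ℕ)} (h : badOk n S ρ prog = true)
    {a : ℕ → End K V} (ha : Nil a ρ) {f : X K n →ₗ[K] V} (hf : Hom (ops K n S) a f) : f = 0 := by
  rw [badOk, Bool.and_eq_true] at h
  refine spin_zero h.1 hf (ha.fix ?_)
  rw [← hf.el, el_one (spin_pos h.1), Nat.eq_of_beq_eq_true h.2]

/-- what Norton's test gives -/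
structure Nor (K : Type u) [Field K] (n : ℕ) (S : List ℕ) (θ : Ex) : Prop where
  pos : 0 < n
  mem : bv K n 1 ∈ Kr (ops K n S) [θ]
  one : kd (ops K n S) [θ] = 1
  sim : ∀ W : Submodule K (X K n), Inv (ops K n S) W → W = ⊥ ∨ W = ⊤

theorem nor_sound [CharP K 2] {n : ℕ} {S : List ℕ} {θ : Ex} {prog : List (ℕ × ℕ)} {L : ℕ} {ws : List (List ℕ)}
    (h : norOk n S θ prog L ws = true) : Nor K n S θ := by
  simp only [norOk, Bool.and_eq_true] at h
  obtain ⟨⟨⟨⟨h1, h2⟩, h3⟩, h4⟩, h5⟩ := h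
  have hn := spin_pos h1
  have e1 : bv K n 1 ∈ Kr (ops K n S) [θ] := by rw [mem_Kr_one, el_one hn, Nat.eq_of_beq_eq_true h2, bv_zero]
  have e2 : kd (ops K n S) [θ] = 1 := by
    have := kd_ops (K := K) n S [θ]
    have := Nat.eq_of_beq_eq_true h3
    omega
  refine ⟨hn, e1, e2, fun W hW => ?_⟩
  by_cases hc : ∃ w ∈ W, w ≠ 0 ∧ el (ops K n S) θ w = 0
  · obtain ⟨w, hw, hw0, hw1⟩ := hc
    obtain ⟨c, hc⟩ := (finrank_eq_one_iff_of_nonzero' (⟨w, mem_Kr_one.2 hw1⟩ : Kr (ops K n S) [θ])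
      fun e => hw0 (congrArg Subtype.val e)).1 e2 ⟨_, e1⟩
    exact Or.inr (spin_top h1 hW ((show c • w = bv K n 1 from congrArg Subtype.val hc) ▸ W.smul_mem c hw))
  · have e3 : Function.Injective ((el (ops K n S) θ).restrict fun v (hv : v ∈ W) => hW.el θ hv) := by
      rw [injective_iff_map_eq_zero]
      intro v hv
      by_contra h0
      exact hc ⟨v, v.2, fun e => h0 (Subtype.ext e), congrArg Subtype.val hv⟩
    have e4 : ∀ v ∈ W, lin K n L v = 0 := fun v hv => by
      obtain ⟨y, hy⟩ := LinearMap.injective_iff_surjective.1 e3 ⟨v, hv⟩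
      rw [← (show el (ops K n S) θ y = v from congrArg Subtype.val hy), ← lin_evE, ← End.mul_apply, ← lin_mul,
        Nat.eq_of_beq_eq_true h4, lin_zero]; rfl
    have e5 : ops K n (S ++ [L]) S.length = lin K n L := by
      rw [ops, nth_eq, List.getD_append_right _ _ _ _ le_rfl, Nat.sub_self]; rfl
    have e6 : Inv (ops K n (S ++ [L])) W := fun j v hv => by
      rcases lt_trichotomy j S.length with e | e | e
      · rw [ops, nth_eq, List.getD_append _ _ _ _ e, ← nth_eq]; exact hW j v hv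
      · rw [e, e5, e4 v hv]; exact zero_mem _
      · rw [ops_ge _ (by rw [List.length_append, List.length_singleton]; omega)]; exact zero_mem _
    have e7 : W ≤ Kr (ops K n (S ++ [L])) (ws.map fun w => .w (S.length :: w)) := fun v hv => by
      rw [mem_Kr, List.forall_mem_map]
      intro w _
      rw [el_w, wd_cons_apply, e5, e4 _ (e6.wd w hv)]
    have e8 := kd_ops (K := K) n (S ++ [L]) (ws.map fun w => .w (S.length :: w))
    rw [Nat.eq_of_beq_eq_true h5, kd] at e8
    exact Or.inl (le_bot_iff.1 (e7.trans (Submodule.finrank_eq_zero.1 (by omega)).le))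

theorem Nor.inj {n : ℕ} {S : List ℕ} {θ : Ex} (h : Nor K n S θ) {a : ℕ → End K V} {f : X K n →ₗ[K] V}
    (hf : Hom (ops K n S) a f) (h0 : f ≠ 0) : Function.Injective f :=
  LinearMap.ker_eq_bot.1 ((h.sim _ hf.inv_ker).resolve_right fun e => h0 (LinearMap.ker_eq_top.1 e))

variable (K) in
/-- the inclusion of a block -/
noncomputable def inc (D o d : ℕ) : X K d →ₗ[K] X K D := (Pi.basisFun K (Fin d)).constr K fun r => bv K D (2 ^ (o + r))

theorem inc_pow (D o : ℕ) {d r : ℕ} (h : r < d) : inc K D o d (bv K d (2 ^ r)) = bv K D (2 ^ (o + r)) := by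
  rw [bv_two_pow (⟨r, h⟩ : Fin d), ← Pi.basisFun_apply]; exact Basis.constr_basis _ _ _ _

theorem inc_bv (D o : ℕ) {d x : ℕ} (h : x < 2 ^ d) : inc K D o d (bv K d x) = bv K D (x <<< o) := by
  funext t
  rw [x_sum, Finset.sum_apply, Finset.sum_congr rfl fun s hs => by
    rw [inc_pow D o (Finset.mem_range.1 hs), Pi.smul_apply, bv, bt_two_pow, smul_eq_mul, mul_ite, mul_one, mul_zero], bv]
  by_cases e : o ≤ t
  · rw [bt_congr (w := x) (j := t - o) (by rw [Nat.testBit_shiftLeft, decide_eq_true e, Bool.true_and])]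
    by_cases e' : t - o < d
    · rw [Finset.sum_eq_single (t - o) (fun b _ hb => if_neg (by omega)) fun hb => absurd (Finset.mem_range.2 e') hb,
        if_pos (by omega)]
    · rw [bt_false (Nat.testBit_lt_two_pow (h.trans_le (Nat.pow_le_pow_right two_pos (not_lt.1 e'))))]
      exact Finset.sum_eq_zero fun b hb => if_neg (by have := Finset.mem_range.1 hb; omega)
  · rw [bt_false (by rw [Nat.testBit_shiftLeft, decide_eq_false e, Bool.false_and])]
    exact Finset.sum_eq_zero fun b _ => if_neg (by omega)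

/-- the map vanishes on the first basis vectors -/
def Van {D : ℕ} (o : ℕ) (F : X K D →ₗ[K] V) : Prop := ∀ q < o, F (bv K D (2 ^ q)) = 0

theorem van_zero {D : ℕ} (F : X K D →ₗ[K] V) : Van 0 F := fun q hq => absurd hq (Nat.not_lt_zero q)

theorem Van.next {D o : ℕ} {F : X K D →ₗ[K] V} (h : Van o F) {d : ℕ} (h1 : F ∘ₗ inc K D o d = 0) : Van (o + d) F := by
  intro q hq
  rcases lt_or_ge q o with e | e
  · exact h q e
  · obtain ⟨r, rfl⟩ := Nat.exists_eq_add_of_le e
    rw [← inc_pow D o (by omega : r < d)]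
    exact LinearMap.congr_fun h1 _

theorem Van.zero {D : ℕ} {F : X K D →ₗ[K] V} (h : Van D F) : F = 0 := x_ext h

theorem Van.comp {V' : Type*} [AddCommGroup V'] [Module K V'] {D o : ℕ} {F : X K D →ₗ[K] V} (h : Van o F) (g : V →ₗ[K] V') :
    Van o (g ∘ₗ F) := fun q hq => by rw [LinearMap.comp_apply, h q hq, map_zero]

theorem blk {D o d : ℕ} {T S : List ℕ} (h : blkOk D T o d S = true) {a : ℕ → End K V} {F : X K D →ₗ[K] V}
    (hF : Hom (ops K D T) a F) (hv : Van o F) : Hom (ops K d S) a (F ∘ₗ inc K D o d) := by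
  rw [blkOk, Bool.and_eq_true, Bool.and_eq_true, Nat.ble_eq, Nat.ble_eq] at h
  obtain ⟨⟨h1, h2⟩, h3⟩ := h
  intro j v
  rcases lt_or_ge j T.length with hj | hj
  · have h4 := allN_spec h3 hj
    rw [force_eq, force_eq] at h4
    refine LinearMap.congr_fun (f := (F ∘ₗ inc K D o d) ∘ₗ ops K d S j) (g := a j ∘ₗ F ∘ₗ inc K D o d) (x_ext fun r hr => ?_) v
    have h5 : row D (nth T j) (o + r) >>> o = row d (nth S j) r := Nat.eq_of_beq_eq_true (allN_spec h4 hr)
    have h6 : o + r < D := lt_of_lt_of_le (Nat.add_lt_add_left hr o) h1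
    simp only [LinearMap.comp_apply]
    rw [inc_pow D o hr, ← hF, ops, ops, lin_pow hr, lin_pow h6, inc_bv D o (row_lt _ _ _), ← h5, x_sum, x_sum F (row _ _ _)]
    refine Finset.sum_congr rfl fun s _ => ?_
    rcases lt_or_ge s o with e | e
    · rw [hv s e, smul_zero, smul_zero]
    · rw [bt_congr (w := row D (nth T j) (o + r)) (j := s) (by
        rw [Nat.testBit_shiftLeft, decide_eq_true e, Bool.true_and, Nat.testBit_shiftRight, Nat.add_sub_cancel' e])]
  · rw [LinearMap.comp_apply, LinearMap.comp_apply, ← hF, ops_ge _ hj, ops_ge _ (h2.trans hj), LinearMap.zero_apply,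
      LinearMap.zero_apply, map_zero]

theorem blocks_cons {D : ℕ} {T : List ℕ} {M : List (ℕ × List ℕ)} {J : ℕ} {bl : List ℕ} {o : ℕ}
    (h : blocksOk D T M (J :: bl) o = true) : blkOk D T o (md M J) (ms M J) = true ∧ blocksOk D T M bl (o + md M J) = true := by
  have h' : (blkOk D T o (md M J) (ms M J) && force (o + md M J) (blocksOk D T M bl)) = true := h
  rwa [force_eq, Bool.and_eq_true] at h'

theorem blocks_nil {D : ℕ} {T : List ℕ} {M : List (ℕ × List ℕ)} {o : ℕ} (h : blocksOk D T M [] o = true) : o = D :=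
  Nat.eq_of_beq_eq_true h

theorem split {D : ℕ} {T : List ℕ} {M : List (ℕ × List ℕ)} {a : ℕ → End K V} {F : X K D →ₗ[K] V}
    (hF : Hom (ops K D T) a F) (h0 : F ≠ 0) {bl : List ℕ} {o : ℕ} (h : blocksOk D T M bl o = true) (hv : Van o F) :
    ∃ J ∈ bl, ∃ f : X K (md M J) →ₗ[K] V, Hom (ops K (md M J) (ms M J)) a f ∧ f ≠ 0 := by
  induction bl generalizing o with
  | nil => exact absurd (blocks_nil h ▸ hv).zero h0
  | cons J bl ih =>
    obtain ⟨h1, h2⟩ := blocks_cons h
    by_cases e : F ∘ₗ inc K D o (md M J) = 0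
    · obtain ⟨J', h3, h4⟩ := ih h2 (hv.next e)
      exact ⟨J', List.mem_cons_of_mem _ h3, h4⟩
    · exact ⟨J, List.mem_cons_self, _, blk h1 hF hv, e⟩

theorem let_spec {ok : List ℕ → List ℕ → Bool} {n d : ℕ} {S : List ℕ} {zs ts : List (List ℕ)} {j A : ℕ}
    {tj : List (ℕ × List ℕ)} {i0 : ℕ} (h : letOk ok n d S zs ts j A tj i0 = true) {i : ℕ} (h1 : i0 ≤ i) (h2 : i < n) :
    ∃ p u, ok (j :: nthW ts i) (nthW ts p ++ flat zs u) = true ∧ ltW zs.length u = true ∧ p < n ∧
      ∀ r < d, row (n * d) A (d * i + r) = row d (evW d S u) r <<< (d * p) := by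
  induction tj generalizing i0 with
  | nil => exact absurd (Nat.eq_of_beq_eq_true h) (by omega)
  | cons p tj ih =>
    have h' : (ok (j :: nthW ts i0) (nthW ts p.1 ++ flat zs p.2) && ltW zs.length p.2 && Nat.blt p.1 n &&
      (force (evW d S p.2) fun B => allN d fun r => Nat.beq (row (n * d) A (d * i0 + r)) (row d B r <<< (d * p.1))) &&
      force (i0 + 1) (letOk ok n d S zs ts j A tj)) = true := h
    rw [force_eq, force_eq, Bool.and_eq_true, Bool.and_eq_true, Bool.and_eq_true, Bool.and_eq_true, Nat.blt_eq] at h'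
    rcases h1.eq_or_lt with e | e
    · exact ⟨p.1, p.2, e ▸ h'.1.1.1.1, h'.1.1.1.2, h'.1.1.2, fun r hr => e ▸ Nat.eq_of_beq_eq_true (allN_spec h'.1.2 hr)⟩
    · exact ih h'.2 e

/-- the map on the induced space -/
noncomputable def ind0 (a : ℕ → End K V) (ts : List (List ℕ)) (n d : ℕ) : (X K d →ₗ[K] V) →ₗ[K] (X K (n * d) →ₗ[K] V) where
  toFun f := ∑ i ∈ Finset.range n, wd a (nthW ts i) ∘ₗ f ∘ₗ LinearMap.pi fun r : Fin d => co K (n * d) (d * i + r)
  map_add' f g := by
    rw [← Finset.sum_add_distrib]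
    exact Finset.sum_congr rfl fun i _ => by rw [LinearMap.add_comp, LinearMap.comp_add]
  map_smul' c f := by
    rw [Finset.smul_sum]
    exact Finset.sum_congr rfl fun i _ => by rw [LinearMap.smul_comp, LinearMap.comp_smul]; rfl

theorem ind0_bv (a : ℕ → End K V) (ts : List (List ℕ)) {n d p x : ℕ} (hp : p < n) (hx : x < 2 ^ d) (f : X K d →ₗ[K] V) :
    ind0 a ts n d f (bv K (n * d) (x <<< (d * p))) = wd a (nthW ts p) (f (bv K d x)) := by
  have key : ∀ i < n, (LinearMap.pi fun r : Fin d => co K (n * d) (d * i + r)) (bv K (n * d) (x <<< (d * p))) =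
      if i = p then bv K d x else 0 := fun i hi => by
    funext r
    have h1 : d * (i + 1) ≤ d * n := Nat.mul_le_mul_left d hi
    have h2 := r.2
    rw [mul_add, mul_one, mul_comm d n] at h1
    rw [LinearMap.pi_apply, co_bv (by omega)]
    rcases lt_trichotomy i p with e | e | e
    · have h3 : d * (i + 1) ≤ d * p := Nat.mul_le_mul_left d e
      rw [mul_add, mul_one] at h3
      rw [if_neg e.ne]
      exact bt_false (by rw [Nat.testBit_shiftLeft, decide_eq_false (by omega), Bool.false_and])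
    · rw [if_pos e, e]
      exact bt_congr (by rw [Nat.testBit_shiftLeft, decide_eq_true (by omega), Bool.true_and, Nat.add_sub_cancel_left])
    · have h3 : d * (p + 1) ≤ d * i := Nat.mul_le_mul_left d e
      rw [mul_add, mul_one] at h3
      rw [if_neg e.ne']
      exact bt_false (by
        rw [Nat.testBit_shiftLeft, Nat.testBit_lt_two_pow (hx.trans_le (Nat.pow_le_pow_right two_pos (by omega))), Bool.and_false])
  show (∑ i ∈ Finset.range n, wd a (nthW ts i) ∘ₗ f ∘ₗ LinearMap.pi fun r : Fin d => co K (n * d) (d * i + r)) _ = _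
  rw [LinearMap.sum_apply, Finset.sum_eq_single p (fun b hb e => by
    rw [LinearMap.comp_apply, LinearMap.comp_apply, key b (Finset.mem_range.1 hb), if_neg e, map_zero, map_zero])
    fun hb => absurd (Finset.mem_range.2 hp) hb, LinearMap.comp_apply, LinearMap.comp_apply, key p hp, if_pos rfl]

theorem ind_sound [CharP K 2] {ok : List ℕ → List ℕ → Bool} {k n d : ℕ} {S : List ℕ} {zs ts : List (List ℕ)}
    {tab : List (List (ℕ × List ℕ))} {P Q : ℕ} {M : List (ℕ × List ℕ)} {bl : List ℕ}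
    (h : indOk ok k n d S zs ts tab P Q M bl = true) {a : ℕ → End K V} (ha : Good ok k a) :
    ∃ T, blocksOk (n * d) T M bl 0 = true ∧ ∃ Φ : (X K d →ₗ[K] V) →ₗ[K] (X K (n * d) →ₗ[K] V),
      (∀ f, Hom (ops K d S) (subF a zs) f → Hom (ops K (n * d) T) a (Φ f)) ∧
        ∀ f, LinearMap.range f ≤ LinearMap.range (Φ f) := by
  rw [indOk, forceL_eq, forceL_eq] at h
  generalize tab.map (mkS (Nat.mul n d) d S) = A at h
  simp only [Bool.and_eq_true, Nat.blt_eq, List.isEmpty_iff, Nat.mul_eq] at h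
  obtain ⟨⟨⟨h1, h2⟩, h3⟩, ⟨h4, h5⟩, h6⟩ := h
  have e1 : lin K (n * d) P * lin K (n * d) Q = 1 := by
    rw [← lin_mul, ← lin_idT]; exact congrArg _ (Nat.eq_of_beq_eq_true h3)
  have e2 : A.length = k := Nat.eq_of_beq_eq_true h4
  have e3 : ∀ (f : X K d →ₗ[K] V) (i r : ℕ), i < n → r < d →
      ind0 a ts n d f (bv K (n * d) (2 ^ (d * i + r))) = wd a (nthW ts i) (f (bv K d (2 ^ r))) := fun f i r hi hr => by
    rw [← ind0_bv a ts hi (Nat.pow_lt_pow_right one_lt_two hr), Nat.shiftLeft_eq, ← pow_add, add_comm]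
  refine ⟨_, h6, LinearMap.lcomp K V (lin K (n * d) P) ∘ₗ ind0 a ts n d, fun f hf j v => ?_, fun f => ?_⟩
  · show ind0 a ts n d f (lin K (n * d) P _) = a j (ind0 a ts n d f (lin K (n * d) P v))
    rcases lt_or_ge j k with hj | hj
    · have e4 : ind0 a ts n d f ∘ₗ lin K (n * d) (nth A j) = a j ∘ₗ ind0 a ts n d f := x_ext fun q hq => by
        have hd : 0 < d := Nat.pos_of_ne_zero fun e => by rw [e] at hq; exact absurd hq (Nat.not_lt_zero q)
        have hi : q / d < n := (Nat.div_lt_iff_lt_mul hd).2 hq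
        obtain ⟨p, u, g1, g2, g3, g4⟩ := let_spec (allN_spec h5 hj) (Nat.zero_le _) hi
        have g5 := g4 _ (Nat.mod_lt q hd)
        have g6 := e3 f _ _ hi (Nat.mod_lt q hd)
        rw [Nat.div_add_mod] at g5 g6
        rw [LinearMap.comp_apply, LinearMap.comp_apply, lin_pow hq, g5, g6, ind0_bv a ts g3 (row_lt _ _ _),
          ← lin_pow (Nat.mod_lt q hd), lin_evW, hf.wd, wd_subF a g2, ← wd_append_apply, ← ha.rel _ _ g1, wd_cons_apply]
      rw [ops, nth_eq, List.getD_eq_getElem _ _ (by rw [List.length_map]; omega), List.getElem_map,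
        ← List.getD_eq_getElem A 0, ← nth_eq, lin_mul, lin_mul, ← End.mul_apply, ← mul_assoc, e1, one_mul, End.mul_apply]
      exact LinearMap.congr_fun e4 _
    · rw [ops_ge _ (by rw [List.length_map]; omega), ha.out j hj, LinearMap.zero_apply, map_zero, map_zero]; rfl
  · have e4 : f = ind0 a ts n d f ∘ₗ inc K (n * d) 0 d := x_ext fun r hr => by
      have := e3 f 0 r h1 hr
      rw [h2, wd_nil_apply] at this
      rw [LinearMap.comp_apply, inc_pow _ _ hr, ← this]; rfl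
    rintro _ ⟨x, rfl⟩
    refine ⟨lin K (n * d) Q (inc K (n * d) 0 d x), ?_⟩
    show ind0 a ts n d f (lin K (n * d) P _) = _
    rw [← End.mul_apply, e1]
    exact (LinearMap.congr_fun e4 x).symm

/-- a nonzero map from the inducing model gives a nonzero map from a block -/
theorem ind_split [CharP K 2] {ok : List ℕ → List ℕ → Bool} {k n d : ℕ} {S : List ℕ} {zs ts : List (List ℕ)}
    {tab : List (List (ℕ × List ℕ))} {P Q : ℕ} {M : List (ℕ × List ℕ)} {bl : List ℕ}
    (h : indOk ok k n d S zs ts tab P Q M bl = true) {a : ℕ → End K V} (ha : Good ok k a) {f : X K d →ₗ[K] V}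
    (hf : Hom (ops K d S) (subF a zs) f) (h0 : f ≠ 0) :
    ∃ J ∈ bl, ∃ g : X K (md M J) →ₗ[K] V, Hom (ops K (md M J) (ms M J)) a g ∧ g ≠ 0 := by
  obtain ⟨T, h1, Φ, h2, h3⟩ := ind_sound h ha
  refine split (h2 f hf) (fun e => h0 ?_) h1 (van_zero _)
  have := h3 f
  rwa [e, LinearMap.range_zero, le_bot_iff, LinearMap.range_eq_bot] at this

/-! ### the trivial model -/

theorem ops_triv {k j : ℕ} (h : j < k) : ops K 1 (List.replicate k 1) j = 1 := by
  rw [ops, nth_eq, List.getD_replicate _ h]; exact lin_idT 1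

variable (K V) in
/-- the map that sends the basis vector to a given vector -/
noncomputable def tv : V →ₗ[K] (X K 1 →ₗ[K] V) := LinearMap.smulRightₗ (co K 1 0)

theorem tv_one (v : V) : tv K V v (bv K 1 1) = v := by
  show co K 1 0 (bv K 1 1) • v = v
  rw [co_bv one_pos, bt_true rfl, one_smul]

theorem hom_tv [CharP K 2] {a : ℕ → End K V} {zs : List (List ℕ)} {v : V} (hv : v ∈ Fx a zs) :
    Hom (ops K 1 (List.replicate zs.length 1)) (subF a zs) (tv K V v) := fun j x => by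
  rcases lt_or_ge j zs.length with hj | hj
  · rw [ops_triv hj, subF_lt a hj, List.getD_eq_getElem _ _ hj]
    show co K 1 0 x • v = wd a _ (co K 1 0 x • v)
    rw [map_smul, mem_Fx.1 hv _ (List.getElem_mem hj)]
  · rw [ops_ge _ (by rwa [List.length_replicate]), subF_ge a hj]; exact map_zero _

theorem triv_zero [CharP K 2] {k : ℕ} {a : ℕ → End K V} (h : Fx a (sing k) = ⊥) {f : X K 1 →ₗ[K] V}
    (hf : Hom (ops K 1 (List.replicate k 1)) a f) : f = 0 := x_ext fun i hi => by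
  have : f (bv K 1 (2 ^ i)) ∈ Fx a (sing k) := mem_Fx_sing.2 fun j hj => by rw [← hf, ops_triv hj]; rfl
  rwa [h] at this

end Cfsg.Agent.E8A.Mc
end

-- part: E8A/Mc/Sol
section
/-!
# A module machine in characteristic two: composition factors (helper42)

* `Cls`, `Sol`, `Tab`, `sol` : the invariants of a family in terms of multiplicities;
* `soc` : sums of copies of a simple model in the quotient by the fixed space, and duality;
* `cenOk`, `fitting` : central elements.
-/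

set_option autoImplicit false

namespace Cfsg.Agent.E8A.Mc

open Module

universe u

/-- the invariants -/
structure Cls where
  /-- the words of the elements of odd order, with the orders -/
  cl : List (List ℕ × ℕ)
  /-- the left exact invariants -/
  sb : List (List (List ℕ) × List Ex)

/-- the `i`-th word -/
def Cls.w (C : Cls) (i : ℕ) : List ℕ := (C.cl.getD i ([], 1)).1

/-- the orders are odd and accepted -/
def Cls.chk (C : Cls) (ok : List ℕ → List ℕ → Bool) (k : ℕ) : Bool :=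
  C.cl.all fun p => (p.2 % 2 == 1) && ok (wpow p.1 p.2) [] && ltW k p.1

/-- an entry of a table -/
def en (F : List (List ℕ)) (J i : ℕ) : ℕ := (F.getD J []).getD i 0

/-- the check of the table of invariants -/
noncomputable def tabOk (C : Cls) (M : List (ℕ × List ℕ)) (r : ℕ) (F Z : List (List ℕ)) (ρ : Ex) (nl : ℕ → Bool) : Bool :=
  allN r fun J => force (md M J) fun d => forceL (ms M J) fun S => Nat.blt 0 d &&
    (allN C.cl.length fun i => Nat.beq (Nat.add (rkE d S [fe (C.w i)]) (en F J i)) d) &&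
    (allN C.sb.length fun i => forceL ((C.sb.getD i ([], [])).1.map (evW d S)) fun S' =>
      Nat.ble d (Nat.add (rkE d S' (C.sb.getD i ([], [])).2) (en Z J i))) &&
    (!nl J || force (evE d S ρ) fun R => Nat.beq (mul d R R) 0)

/-- a sum of words commutes with the letters -/
noncomputable def cenOk (ok : List ℕ → List ℕ → Bool) (k : ℕ) (L : List (List ℕ)) (π : List (List ℕ)) : Bool :=
  allN k fun j => (π.getD j []).isPerm (List.range L.length) &&
    (L.zip (π.getD j [])).all fun p => ok (j :: p.1) (nthW L p.2 ++ [j])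

theorem nthW_eq (S : List (List ℕ)) (j : ℕ) : nthW S j = S.getD j [] := by
  induction S generalizing j with
  | nil => rfl
  | cons x S ih =>
    cases j with
    | zero => rfl
    | succ j => exact ih j

variable {K : Type u} [Field K]

section

variable {V : Type*} [AddCommGroup V] [Module K V]

/-- the dimension of the fixed space of the `i`-th element -/
noncomputable def Cls.f (C : Cls) (a : ℕ → End K V) (i : ℕ) : ℕ := kd a [fe (C.w i)]

/-- the `i`-th left exact invariant -/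
noncomputable def Cls.z (C : Cls) (a : ℕ → End K V) (i : ℕ) : ℕ := kd (subF a (C.sb.getD i ([], [])).1) (C.sb.getD i ([], [])).2

theorem Cls.ord {C : Cls} {ok : List ℕ → List ℕ → Bool} {k : ℕ} (hC : C.chk ok k = true) {k0 : ℕ} {a : ℕ → End K V}
    (ha : Good ok k0 a) {i : ℕ} (hi : i < C.cl.length) : ltW k (C.w i) = true ∧ ∃ n, Odd n ∧ wd a (C.w i) ^ n = 1 := by
  rw [Cls.w, List.getD_eq_getElem _ _ hi]
  have h1 := List.all_eq_true.1 hC _ (List.getElem_mem hi)
  rw [Bool.and_eq_true, Bool.and_eq_true, beq_iff_eq] at h1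
  refine ⟨h1.2, _, Nat.odd_iff.2 h1.1.1, ?_⟩
  rw [← wd_wpow, ha.rel _ _ h1.1.2, wd_nil]

theorem kd_nil [CharP K 2] (a : ℕ → End K V) : kd a [fe []] = finrank K V := by
  have : Kr a [fe []] = ⊤ := eq_top_iff.2 fun v _ => mem_fe.2 rfl
  rw [kd, this, finrank_top]

/-- the invariants are those of the multiplicities `n` -/
structure Sol (C : Cls) (r : ℕ) (F Z : List (List ℕ)) (ρ : Ex) (nl : ℕ → Bool) (a : ℕ → End K V) (n : ℕ → ℕ) : Prop where
  f : ∀ i < C.cl.length, C.f a i = ∑ J ∈ Finset.range r, n J * en F J i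
  z : ∀ i < C.sb.length, C.z a i ≤ ∑ J ∈ Finset.range r, n J * en Z J i
  nil : (∀ J < r, nl J = false → n J = 0) → Nil a ρ

variable (K) in
/-- the invariants of the models -/
def Tab (C : Cls) (M : List (ℕ × List ℕ)) (r : ℕ) (F Z : List (List ℕ)) (ρ : Ex) (nl : ℕ → Bool) : Prop :=
  ∀ J < r, 0 < md M J ∧ (∀ i < C.cl.length, C.f (ops K (md M J) (ms M J)) i = en F J i) ∧
    (∀ i < C.sb.length, C.z (ops K (md M J) (ms M J)) i ≤ en Z J i) ∧ (nl J = true → Nil (ops K (md M J) (ms M J)) ρ)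

theorem tab_sound [CharP K 2] {C : Cls} {M : List (ℕ × List ℕ)} {r : ℕ} {F Z : List (List ℕ)} {ρ : Ex} {nl : ℕ → Bool}
    (h : tabOk C M r F Z ρ nl = true) : Tab K C M r F Z ρ nl := fun J hJ => by
  have h1 := allN_spec h hJ
  rw [force_eq, forceL_eq, force_eq, Bool.and_eq_true, Bool.and_eq_true, Bool.and_eq_true, Nat.blt_eq] at h1
  obtain ⟨⟨⟨h2, h3⟩, h4⟩, h5⟩ := h1
  refine ⟨h2, fun i hi => ?_, fun i hi => ?_, fun e => ⟨2, fun v => ?_⟩⟩
  · have e1 : rkE _ _ [fe (C.w i)] + en F J i = md M J := Nat.eq_of_beq_eq_true (allN_spec h3 hi)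
    have e2 := kd_ops (K := K) (md M J) (ms M J) [fe (C.w i)]
    rw [Cls.f]; omega
  · have e1 := allN_spec h4 hi
    rw [forceL_eq, Nat.ble_eq, Nat.add_eq] at e1
    have e2 := kd_ops (K := K) (md M J) ((C.sb.getD i ([], [])).1.map (evW (md M J) (ms M J))) (C.sb.getD i ([], [])).2
    rw [ops_map] at e2
    rw [Cls.z]; omega
  · rw [e, Bool.not_true, Bool.false_or] at h5
    rw [pow_two, ← lin_evE, ← lin_mul, Nat.eq_of_beq_eq_true h5, lin_zero]; rfl

theorem central {ok : List ℕ → List ℕ → Bool} {k : ℕ} {L π : List (List ℕ)} (h : cenOk ok k L π = true) {a : ℕ → End K V}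
    (ha : Good ok k a) (j : ℕ) : a j * el a (sw L) = el a (sw L) * a j := by
  rcases lt_or_ge j k with hj | hj
  · have h1 := allN_spec h hj
    rw [Bool.and_eq_true, List.isPerm_iff, List.all_eq_true] at h1
    have e1 : (L.zip (π.getD j [])).map Prod.fst = L := List.map_fst_zip (by rw [h1.1.length_eq, List.length_range])
    have e2 : (L.zip (π.getD j [])).map Prod.snd = π.getD j [] := List.map_snd_zip (by rw [h1.1.length_eq, List.length_range])
    have e3 : (List.range L.length).map (nthW L) = L := List.ext_getElem (by rw [List.length_map, List.length_range])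
      fun i _ hi => by rw [List.getElem_map, List.getElem_range, nthW_eq, List.getD_eq_getElem _ _ hi]
    rw [el_sw, ← List.sum_map_mul_left, ← List.sum_map_mul_right]
    conv_lhs => rw [← e1]
    conv_rhs => rw [← e3, List.map_map, ← (h1.1.map _).sum_eq, ← e2]
    rw [List.map_map, List.map_map]
    refine congrArg List.sum (List.map_congr_left fun p hp => ?_)
    have := ha.rel _ _ (h1.2 p hp)
    rwa [wd_cons, wd_append, wd_single] at this
  · rw [ha.out j hj, zero_mul, mul_zero]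

theorem fitting [FiniteDimensional K V] {a : ℕ → End K V} {e : Ex} (h : ∀ j, a j * el a e = el a e * a j) :
    ∃ (W : Submodule K V) (hW : Inv a W), Nil (subOp a W hW) e ∧ Function.Surjective (el (quoOp a W hW) e) := by
  have hW : Inv a (LinearMap.ker (el a e ^ finrank K V)) := fun j v hv => by
    rw [LinearMap.mem_ker] at hv ⊢
    rw [← pow_hom (f := a j) (g := el a e) (fun x => LinearMap.congr_fun (h j) x), hv, map_zero]
  refine ⟨_, hW, ⟨finrank K V, fun v => Subtype.ext ((pow_hom ((hom_sub a _ hW).el e) _ v).trans v.2)⟩,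
    LinearMap.injective_iff_surjective.1 ((injective_iff_map_eq_zero _).2 fun v hv => ?_)⟩
  obtain ⟨v, rfl⟩ := Submodule.mkQ_surjective _ v
  rw [← (hom_quo a _ hW).el] at hv
  have h1 : v ∈ LinearMap.ker (el a e ^ (finrank K V + 1)) := by
    rw [LinearMap.mem_ker, pow_succ, End.mul_apply]
    exact (Submodule.Quotient.mk_eq_zero _).1 hv
  rw [Module.End.ker_pow_eq_ker_pow_finrank_of_le (Nat.le_succ _)] at h1
  exact (Submodule.Quotient.mk_eq_zero _).2 h1

/-- the quotient by the fixed space has no fixed vectors -/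
theorem fx_quo [CharP K 2] {ok : List ℕ → List ℕ → Bool} {k : ℕ} {a : ℕ → End K V} (ha : Good ok k a)
    (h : (allN k fun j => ok (wpow [j] 15) []) = true) : Fx (quoOp a _ (inv_Fx ha.out)) (sing k) = ⊥ := by
  rw [eq_bot_iff]
  intro v hv
  obtain ⟨v, rfl⟩ := Submodule.mkQ_surjective _ v
  refine (Submodule.Quotient.mk_eq_zero _).2 (mem_Fx_sing.2 fun j hj => ?_)
  have h1 : a j v - v ∈ Fx a (sing k) := (Submodule.Quotient.eq _).1 (mem_Fx_sing.1 hv j hj)
  have h2 := ha.rel _ _ (allN_spec h hj)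
  rw [wd_wpow, wd_single, wd_nil] at h2
  exact fix_of_odd (by decide) h2 (add_sub_cancel v (a j v)).symm (mem_Fx_sing.1 h1 j hj)

/-- an invariant nondegenerate form -/
structure Frm (k : ℕ) (a : ℕ → End K V) (β : LinearMap.BilinForm K V) : Prop where
  nd : β.Nondegenerate
  inv : ∀ j < k, ∀ x y, β (a j x) (a j y) = β x y

theorem Frm.wd {k : ℕ} {a : ℕ → End K V} {β : LinearMap.BilinForm K V} (h : Frm k a β) {w : List ℕ} (hw : ltW k w = true)
    (x y : V) : β (wd a w x) (wd a w y) = β x y := by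
  induction w with
  | nil => rfl
  | cons j w ih =>
    obtain ⟨h1, h2⟩ := ltW_cons hw
    rw [wd_cons_apply, wd_cons_apply, h.inv j h1, ih h2]

theorem Frm.perp [FiniteDimensional K V] {k : ℕ} {a : ℕ → End K V} {β : LinearMap.BilinForm K V} (h : Frm k a β)
    (ho : ∀ j, k ≤ j → a j = 0) {N : Submodule K V} (hN : Inv a N) : Inv a (β.orthogonal N) := fun j x hx t ht => by
  rcases lt_or_ge j k with hj | hj
  · have e : Function.Injective (subOp a N hN j) := (injective_iff_map_eq_zero _).2 fun v hv =>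
      Subtype.ext (h.nd.1 _ fun y => by
        rw [← h.inv j hj, show a j v = 0 from congrArg Subtype.val hv, map_zero, LinearMap.zero_apply])
    obtain ⟨s, hs⟩ := LinearMap.injective_iff_surjective.1 e ⟨t, ht⟩
    rw [← (show a j s = t from congrArg Subtype.val hs)]
    exact (h.inv j hj s x).trans (hx s s.2)
  · rw [ho j hj]; exact map_zero (β t)

end

variable [CharP K 2]

theorem sol {C : Cls} {ok : List ℕ → List ℕ → Bool} {k : ℕ} (hC : C.chk ok k = true) {M : List (ℕ × List ℕ)} {r : ℕ}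
    {F Z : List (List ℕ)} {ρ : Ex} {nl : ℕ → Bool} (hT : Tab K C M r F Z ρ nl) (m : ℕ → Prop)
    (P : ∀ (V : Type u) [AddCommGroup V] [Module K V], (ℕ → End K V) → Prop)
    (hq : ∀ (V : Type u) [AddCommGroup V] [Module K V] (a : ℕ → End K V) (W : Submodule K V) (hW : Inv a W),
      P V a → P (V ⧸ W) (quoOp a W hW))
    (hs : ∀ (V : Type u) [AddCommGroup V] [Module K V] [FiniteDimensional K V] (a : ℕ → End K V), Good ok k a → P V a →
      (∃ v : V, v ≠ 0) → ∃ J < r, m J ∧ ∃ f : X K (md M J) →ₗ[K] V, Hom (ops K (md M J) (ms M J)) a f ∧ Function.Injective f)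
    (V : Type u) [AddCommGroup V] [Module K V] [FiniteDimensional K V] (a : ℕ → End K V) (ha : Good ok k a) (hP : P V a) :
    ∃ n, (∀ J, ¬ m J → n J = 0) ∧ Sol C r F Z ρ nl a n := by
  obtain ⟨d, hd⟩ : ∃ d, finrank K V = d := ⟨_, rfl⟩
  induction d using Nat.strong_induction_on generalizing V with
  | _ d ih =>
    by_cases h0 : ∃ v : V, v ≠ 0
    · obtain ⟨J, hJ, hm, f, hf, hi⟩ := hs V a ha hP h0
      obtain ⟨t0, t1, t2, t3⟩ := hT J hJ
      have e := Submodule.finrank_quotient_add_finrank (LinearMap.range f)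
      rw [LinearMap.finrank_range_of_inj hi, Module.finrank_fin_fun] at e
      obtain ⟨n, g0, g⟩ := ih _ (by omega) _ (quoOp a _ hf.inv_range) (ha.quo _) (hq V a _ _ hP) rfl
      have es : ∀ G : ℕ → ℕ, ∑ I ∈ Finset.range r, (Pi.single J 1 + n : ℕ → ℕ) I * G I =
          G J + ∑ I ∈ Finset.range r, n I * G I := fun G => by
        rw [Finset.sum_congr rfl fun I _ => by rw [Pi.add_apply, add_mul], Finset.sum_add_distrib,
          Finset.sum_eq_single J (fun b _ hb => by rw [Pi.single_eq_of_ne hb, zero_mul])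
          (fun hb => absurd (Finset.mem_range.2 hJ) hb), Pi.single_eq_same, one_mul]
      refine ⟨Pi.single J 1 + n, fun I hI => ?_, fun i hi' => ?_, fun i hi' => ?_, fun h => ?_⟩
      · rw [Pi.add_apply, g0 I hI, Pi.single_eq_of_ne fun e : I = J => hI (e ▸ hm)]
      · obtain ⟨-, o, h1, h2⟩ := C.ord hC ha hi'
        rw [es fun I => en F I i, ← t1 i hi', ← g.f i hi']
        exact (ses_range hf hi).kd_fe h1 h2
      · rw [es fun I => en Z I i]
        exact (((ses_range hf hi).subF _).kd_le _).trans (add_le_add (t2 i hi') (g.z i hi'))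
      · refine Nil.ext hf (t3 ?_) (g.nil fun I hI e => ?_)
        · by_contra hc
          have := h J hJ (Bool.eq_false_iff.2 hc)
          rw [Pi.add_apply, Pi.single_eq_same] at this
          omega
        · have := h I hI e
          rw [Pi.add_apply] at this
          omega
    · have h1 : ∀ v : V, v = 0 := fun v => by_contra fun e => h0 ⟨v, e⟩
      have hz : ∀ S : Submodule K V, finrank K S = 0 := fun S => by
        rw [Submodule.finrank_eq_zero, eq_bot_iff]; exact fun v _ => h1 v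
      refine ⟨0, fun _ _ => rfl, fun i _ => ?_, fun i _ => ?_, fun _ => ⟨0, fun v => h1 _⟩⟩
      · rw [Cls.f, kd, hz, Finset.sum_eq_zero fun J _ => by rw [Pi.zero_apply, zero_mul]]
      · rw [Cls.z, kd, hz]; exact Nat.zero_le _

theorem soc_ind {C : Cls} {ok : List ℕ → List ℕ → Bool} {k : ℕ} (hC : C.chk ok k = true) {d : ℕ} {S : List ℕ} {θ : Ex}
    (hN : Nor K d S θ) (V : Type u) [AddCommGroup V] [Module K V] [FiniteDimensional K V] (a : ℕ → End K V) (ha : Good ok k a)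
    (hP : ∀ W : Submodule K V, (∀ f, Hom (ops K d S) a f → LinearMap.range f ≤ W) → W = ⊤) :
    ∃ m, (∀ i < C.cl.length, C.f a i = m * C.f (ops K d S) i) ∧ kd a [θ] ≤ m := by
  obtain ⟨n, hn⟩ : ∃ n, finrank K V = n := ⟨_, rfl⟩
  induction n using Nat.strong_induction_on generalizing V with
  | _ n ih =>
    by_cases h0 : ∃ f, Hom (ops K d S) a f ∧ f ≠ 0
    · obtain ⟨f, hf, h0⟩ := h0
      have hi := hN.inj hf h0
      have e := Submodule.finrank_quotient_add_finrank (LinearMap.range f)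
      have := hN.pos
      rw [LinearMap.finrank_range_of_inj hi, Module.finrank_fin_fun] at e
      obtain ⟨m, g1, g2⟩ := ih _ (by omega) _ (quoOp a _ hf.inv_range) (ha.quo _) (fun W hW => by
        have h1 := hP (W.comap (LinearMap.range f).mkQ) fun g hg => by
          rintro _ ⟨x, rfl⟩
          exact hW _ ((hom_quo a _ hf.inv_range).comp hg) ⟨x, rfl⟩
        rw [eq_top_iff]
        intro v _
        obtain ⟨v, rfl⟩ := Submodule.mkQ_surjective _ v
        exact (h1 ▸ Submodule.mem_top : v ∈ W.comap (LinearMap.range f).mkQ)) rfl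
      refine ⟨m + 1, fun i hi' => ?_, ?_⟩
      · obtain ⟨-, o, h1, h2⟩ := C.ord hC ha hi'
        rw [add_mul, one_mul, ← g1 i hi', add_comm]
        exact (ses_range hf hi).kd_fe h1 h2
      · have h1 := (ses_range hf hi).kd_le [θ]
        rw [hN.one] at h1
        omega
    · have h1 : (⊥ : Submodule K V) = ⊤ := hP ⊥ fun f hf => by
        rw [le_bot_iff, LinearMap.range_eq_bot]
        exact by_contra fun e => h0 ⟨f, hf, e⟩
      have hz : ∀ S : Submodule K V, finrank K S = 0 := fun S => by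
        rw [Submodule.finrank_eq_zero, eq_bot_iff, h1]; exact le_top
      exact ⟨0, fun i _ => by rw [Cls.f, kd, hz, zero_mul], by rw [kd, hz]⟩

theorem soc {C : Cls} {ok : List ℕ → List ℕ → Bool} {k : ℕ} (hC : C.chk ok k = true) {d : ℕ} {S : List ℕ} {θ : Ex}
    (hN : Nor K d S θ) {V : Type u} [AddCommGroup V] [Module K V] [FiniteDimensional K V] {a : ℕ → End K V} (ha : Good ok k a)
    {β : LinearMap.BilinForm K V} (hβ : Frm k a β) {U : Type*} [AddCommGroup U] [Module K U] [FiniteDimensional K U]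
    (Ψ : U →ₗ[K] (X K d →ₗ[K] V ⧸ Fx a (sing k))) (hΨ : ∀ c, Hom (ops K d S) (quoOp a _ (inv_Fx ha.out)) (Ψ c)) :
    ∃ m, finrank K U ≤ finrank K (LinearMap.ker Ψ) + m ∧ ∃ (N : Submodule K V) (h : Inv a N), ∀ i < C.cl.length,
      C.f (subOp a N h) i + finrank K (Fx a (sing k)) + m * C.f (ops K d S) i = C.f a i := by
  have hF := inv_Fx ha.out
  set R : Submodule K (V ⧸ Fx a (sing k)) := ⨆ c, LinearMap.range (Ψ c)
  have hR : Inv (quoOp a _ hF) R := fun j v hv => by
    have : R ≤ R.comap (quoOp a _ hF j) := iSup_le fun c x hx =>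
      Submodule.mem_iSup_of_mem c ((hΨ c).inv_range j x hx)
    exact this hv
  have hm : ∀ c x, Ψ c x ∈ R := fun c x => Submodule.mem_iSup_of_mem c ⟨x, rfl⟩
  obtain ⟨m, g1, g2⟩ := soc_ind hC hN R (subOp _ R hR) ((ha.quo hF).sub hR) fun W hW => by
    have h1 : R ≤ W.map R.subtype := iSup_le fun c => by
      rintro _ ⟨x, rfl⟩
      exact ⟨⟨_, hm c x⟩, hW ((Ψ c).codRestrict R (hm c)) (fun j v => Subtype.ext (hΨ c j v)) ⟨x, rfl⟩, rfl⟩
    rw [eq_top_iff]
    intro v _
    obtain ⟨y, hy, e⟩ := h1 v.2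
    rwa [← (Subtype.ext e : y = v)]
  have hN' : Inv a (R.comap (Fx a (sing k)).mkQ) := hR.comap (hom_quo a _ hF)
  refine ⟨m, ?_, _, hβ.perp ha.out hN', fun i hi => ?_⟩
  · have h1 := finrank_le_of_exact (LinearMap.ker Ψ).subtype ((Ψ.flip (bv K d 1)).codRestrict R fun c => hm c _) ⊤ ⊤
      (Kr (subOp _ R hR) [θ]) (fun c _ => (hom_sub _ R hR).mem_Kr_of R.injective_subtype ((hΨ c).mem_Kr hN.mem))
      fun c _ h0 => ⟨⟨c, by_contra fun e => bv_one_ne hN.pos (hN.inj (hΨ c) e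
        ((show Ψ c (bv K d 1) = 0 from congrArg Subtype.val h0).trans (map_zero _).symm))⟩, trivial, rfl⟩
    rw [finrank_top, finrank_top] at h1
    exact h1.trans (Nat.add_le_add_left g2 _)
  · obtain ⟨h0, o, h1, h2⟩ := C.ord hC ha hi
    obtain ⟨-, o', h1', h2'⟩ := C.ord hC (ha.sub hN') hi
    have hle : Fx a (sing k) ≤ R.comap (Fx a (sing k)).mkQ := fun v hv => by
      rw [Submodule.mem_comap, show (Fx a (sing k)).mkQ v = 0 from (Submodule.Quotient.mk_eq_zero _).2 hv]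
      exact zero_mem _
    have hs : Ses (subOp a _ hF) (subOp a _ hN') (subOp _ R hR) (Submodule.inclusion hle)
        ((Fx a (sing k)).mkQ.restrict fun _ hv => hv) :=
      ⟨fun _ _ => rfl, fun _ _ => rfl, Submodule.inclusion_injective hle, fun y => by
        obtain ⟨x, hx⟩ := Submodule.mkQ_surjective _ y.1
        exact ⟨⟨x, by rw [Submodule.mem_comap, hx]; exact y.2⟩, Subtype.ext hx⟩, fun x =>
        ⟨fun h => ⟨⟨x, (Submodule.Quotient.mk_eq_zero _).1 (congrArg Subtype.val h)⟩, rfl⟩, fun ⟨y, hy⟩ =>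
          Subtype.ext ((Submodule.Quotient.mk_eq_zero _).2 (hy ▸ y.2))⟩⟩
    have e1 := hs.kd_fe h1' h2'
    have e2 := kd_perp β hβ.nd hN' (hβ.perp ha.out hN') h1 h2 (hβ.wd h0)
    have e3 : Kr (subOp a _ hF) [fe (C.w i)] = ⊤ := eq_top_iff.2 fun v _ => mem_fe.2 (Subtype.ext
      (((hom_sub a _ hF).wd _ v).trans (wd_of_fix (mem_Fx_sing.1 v.2) h0)))
    have e4 := g1 i hi
    rw [kd, kd, e3, finrank_top] at e1
    unfold Cls.f kd at *
    omega

end Cfsg.Agent.E8A.Mc
end

-- part: E8A/Mc/Alt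
section
/-!
# A module machine in characteristic two: alternating groups of degree at most ten (helper42)

The letters `0, …, 4` are the cycles `(0 1 2)`, `(2 3 4 5 6)`, `(5 6 7)`, `(6 7 8)`, `(7 8 9)`; the first `k` generate
the alternating group of degree `k + 5` for `k ≥ 2`.

* `okA k` : two words in the first `k` letters give the same permutation; `okA_sound`, `good_res`.
-/

set_option autoImplicit false

namespace Cfsg.Agent.E8A.Mc

open Module

universe u

/-- a cycle acts on the digits -/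
def cy (p a b s c : ℕ) : ℕ :=
  Nat.lor (Nat.lor (Nat.land p a) (Nat.land (Nat.shiftRight p 4) b)) (Nat.land (Nat.shiftLeft p s) c)

/-- the product with a letter -/
noncomputable def stp (p j : ℕ) : ℕ :=
  Nat.rec (motive := fun _ => ℕ) (cy p 0xfffffff000 0xff 8 0xf00) (fun j _ =>
    Nat.rec (motive := fun _ => ℕ) (cy p 0xfff00000ff 0xffff00 16 0xf000000) (fun j _ =>
      Nat.rec (motive := fun _ => ℕ) (cy p 0xff000fffff 0xff00000 8 0xf0000000) (fun j _ =>
        Nat.rec (motive := fun _ => ℕ) (cy p 0xf000ffffff 0xff000000 8 0xf00000000) (fun _ _ =>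
          cy p 0xfffffff 0xff0000000 8 0xf000000000) j) j) j) j

/-- the permutation of a word, in base 16 -/
noncomputable def pk (w : List ℕ) : ℕ → ℕ :=
  List.rec (motive := fun _ => ℕ → ℕ) (fun p => p) (fun j _ ih p => force (stp p j) ih) w

/-- two words in the first `k` letters give the same permutation -/
noncomputable def okA (k : ℕ) (w w' : List ℕ) : Bool :=
  Nat.beq (pk w 0x9876543210) (pk w' 0x9876543210) && ltW k w && ltW k w'

/-- the letters as functions -/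
def gp (j x : ℕ) : ℕ :=
  (([[1, 2, 0, 3, 4, 5, 6, 7, 8, 9], [0, 1, 3, 4, 5, 6, 2, 7, 8, 9], [0, 1, 2, 3, 4, 6, 7, 5, 8, 9],
    [0, 1, 2, 3, 4, 5, 7, 8, 6, 9], [0, 1, 2, 3, 4, 5, 6, 8, 9, 7]] : List (List ℕ)).getD j []).getD x 0

/-- a digit -/
def dig (p x : ℕ) : ℕ := (p >>> (4 * x)) % 2 ^ 4

theorem testBit_cy {a b s c i t : ℕ} (h : (a.testBit i = true ∧ b.testBit i = false ∧ c.testBit i = false ∧ t = i) ∨
    (a.testBit i = false ∧ b.testBit i = true ∧ c.testBit i = false ∧ t = 4 + i) ∨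
    (a.testBit i = false ∧ b.testBit i = false ∧ c.testBit i = true ∧ s ≤ i ∧ t = i - s)) (p : ℕ) :
    (cy p a b s c).testBit i = p.testBit t := by
  have e : cy p a b s c = ((p &&& a) ||| ((p >>> 4) &&& b)) ||| ((p <<< s) &&& c) := rfl
  rw [e, Nat.testBit_or, Nat.testBit_or, Nat.testBit_and, Nat.testBit_and, Nat.testBit_and, Nat.testBit_shiftRight,
    Nat.testBit_shiftLeft]
  rcases h with ⟨h1, h2, h3, rfl⟩ | ⟨h1, h2, h3, rfl⟩ | ⟨h1, h2, h3, h4, rfl⟩ <;> simp [*]

theorem dig_stp (p : ℕ) {j x : ℕ} (hj : j < 5) (hx : x < 10) : dig (stp p j) x = dig p (gp j x) := by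
  refine Nat.eq_of_testBit_eq fun b => ?_
  rw [dig, dig, Nat.testBit_mod_two_pow, Nat.testBit_mod_two_pow, Nat.testBit_shiftRight, Nat.testBit_shiftRight]
  by_cases hb : b < 4
  · refine congrArg _ ?_
    interval_cases j
    all_goals
      refine testBit_cy ?_ p
      revert x b
      decide +kernel
  · rw [decide_eq_false hb, Bool.false_and, Bool.false_and]

theorem okA_lt {k : ℕ} {w w' : List ℕ} (h : okA k w w' = true) : ltW k w = true ∧ ltW k w' = true := by
  rw [okA, Bool.and_eq_true, Bool.and_eq_true] at h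
  exact ⟨h.1.2, h.2⟩

theorem okA_mono {k k' : ℕ} (hk : k ≤ k') {w w' : List ℕ} (h : okA k w w' = true) : okA k' w w' = true := by
  rw [okA, Bool.and_eq_true, Bool.and_eq_true] at h ⊢
  exact ⟨⟨h.1.1, ltW_mono hk h.1.2⟩, ltW_mono hk h.2⟩

theorem okA_sound {n k : ℕ} (hn : n ≤ 10) (hk : k ≤ 5) {g : ℕ → Equiv.Perm (Fin n)}
    (hg : ∀ j < k, ∀ x : Fin n, (g j x : ℕ) = gp j x) {w w' : List ℕ} (h : okA k w w' = true) :
    (w.map g).prod = (w'.map g).prod := by
  have key : ∀ (w : List ℕ) (p : ℕ), ltW k w = true → ∀ x : Fin n, dig (pk w p) x = dig p ((w.map g).prod x) := by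
    intro w
    induction w with
    | nil => exact fun _ _ _ => rfl
    | cons j w ih =>
      intro p hw x
      obtain ⟨h1, h2⟩ := ltW_cons hw
      have e : pk (j :: w) p = pk w (stp p j) := force_eq _ _
      rw [e, ih _ h2, List.map_cons, List.prod_cons, Equiv.Perm.mul_apply, hg j h1,
        dig_stp p (by omega) (lt_of_lt_of_le (Fin.is_lt _) hn)]
  have e0 : ∀ x < 10, dig 0x9876543210 x = x := by decide +kernel
  have h1 := okA_lt h
  rw [okA, Bool.and_eq_true, Bool.and_eq_true] at h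
  refine Equiv.ext fun x => Fin.ext ?_
  rw [← e0 _ (lt_of_lt_of_le ((w.map g).prod x).2 hn), ← key w _ h1.1, Nat.eq_of_beq_eq_true h.1.1, key w' _ h1.2,
    e0 _ (lt_of_lt_of_le ((w'.map g).prod x).2 hn)]

variable {K : Type u} [Field K] {V : Type*} [AddCommGroup V] [Module K V]

theorem good_res {k k' : ℕ} (hk : k ≤ k') {a : ℕ → End K V} (ha : Good (okA k') k' a) : Good (okA k) k (subF a (sing k)) :=
  ⟨fun w w' h => by rw [wd_res a (okA_lt h).1, wd_res a (okA_lt h).2, ha.rel w w' (okA_mono hk h)],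
    fun _ hj => subF_ge a (by rwa [length_sing])⟩

theorem Frm.res {k k' : ℕ} (hk : k ≤ k') {a : ℕ → End K V} {β : LinearMap.BilinForm K V} (h : Frm k' a β) :
    Frm k (subF a (sing k)) β :=
  ⟨h.nd, fun j hj x y => by rw [res_lt a hj]; exact h.inv j (by omega) x y⟩

theorem Nil.res {k : ℕ} {a : ℕ → End K V} {e : Ex} (he : ltE k e = true) : Nil (subF a (sing k)) e ↔ Nil a e := by
  rw [Nil, Nil, el_res a he]

theorem kd_res [CharP K 2] {k : ℕ} (a : ℕ → End K V) {w : List ℕ} (h : ltW k w = true) :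
    kd (subF a (sing k)) [fe w] = kd a [fe w] := by
  have : Kr (subF a (sing k)) [fe w] = Kr a [fe w] := Submodule.ext fun v => by rw [mem_fe, mem_fe, wd_res a h]
  rw [kd, kd, this]

theorem Fx_res [CharP K 2] {k k' : ℕ} (hk : k ≤ k') (a : ℕ → End K V) : Fx (subF a (sing k')) (sing k) = Fx a (sing k) :=
  Submodule.ext fun v => by
    rw [mem_Fx_sing, mem_Fx_sing]
    exact forall₂_congr fun j hj => by rw [res_lt a (by omega)]

/-- the family of a representation -/
theorem good_rep {n k : ℕ} (hn : n ≤ 10) (hk : k ≤ 5) {g : ℕ → alternatingGroup (Fin n)}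
    (hg : ∀ j < k, ∀ x : Fin n, ((g j : Equiv.Perm (Fin n)) x : ℕ) = gp j x) (ψ : alternatingGroup (Fin n) →* End K V) :
    Good (okA k) k (subF (fun j => ψ (g j)) (sing k)) ∧
      (∀ w, ltW k w = true → wd (subF (fun j => ψ (g j)) (sing k)) w = ψ (w.map g).prod) ∧
      ∀ w w', okA k w w' = true → (w.map g).prod = (w'.map g).prod := by
  have e1 : ∀ w, ltW k w = true → wd (subF (fun j => ψ (g j)) (sing k)) w = ψ (w.map g).prod := fun w hw => by
    rw [wd_res _ hw, wd, map_list_prod, List.map_map]; rfl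
  have e2 : ∀ w w', okA k w w' = true → (w.map g).prod = (w'.map g).prod := fun w w' h => by
    have := okA_sound hn hk (g := fun j => (g j : Equiv.Perm (Fin n))) hg h
    refine Subtype.ext ?_
    rw [Subgroup.val_list_prod, Subgroup.val_list_prod, List.map_map, List.map_map]
    exact this
  exact ⟨⟨fun w w' h => by rw [e1 w (okA_lt h).1, e1 w' (okA_lt h).2, e2 w w' h],
    fun _ hj => subF_ge _ (by rwa [length_sing])⟩, e1, e2⟩

end Cfsg.Agent.E8A.Mc
end

-- part: E8A/Mc/Up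
section
/-!
# A module machine in characteristic two: simple submodules by induction from a subgroup (helper42)
-/

set_option autoImplicit false

namespace Cfsg.Agent.E8A.Mc

open Module

universe u

/-- the induced families of the first `r0` models of `M0` have blocks among the first `rr` models of `M` -/
noncomputable def upOk (ok : List ℕ → List ℕ → Bool) (k n : ℕ) (zs ts : List (List ℕ)) (tab : List (List (ℕ × List ℕ)))
    (M0 : List (ℕ × List ℕ)) (I : List (ℕ × ℕ × List ℕ)) (M : List (ℕ × List ℕ)) (rr J : ℕ) : Bool :=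
  indOk ok k n (md M0 J) (ms M0 J) zs ts tab (I.getD J (0, 0, [])).1 (I.getD J (0, 0, [])).2.1 M (I.getD J (0, 0, [])).2.2 &&
    ltW rr (I.getD J (0, 0, [])).2.2

/-- the element for Norton's test -/
def th (N : List (Ex × ℕ × List (List ℕ))) (J : ℕ) : Ex := (N.getD J (.z, 0, [])).1

/-- the first `r` models are simple -/
noncomputable def norAll (M : List (ℕ × List ℕ)) (r : ℕ) (G : List (List (ℕ × ℕ))) (N : List (Ex × ℕ × List (List ℕ))) : Bool :=
  allN r fun J => force (md M J) fun d => forceL (ms M J) fun S =>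
    norOk d S (th N J) (G.getD J []) (N.getD J (.z, 0, [])).2.1 (N.getD J (.z, 0, [])).2.2

/-- the element is not nilpotent on the quotients of the models from `r` to `rr` -/
noncomputable def badAll (M : List (ℕ × List ℕ)) (r rr : ℕ) (ρ : Ex) (G : List (List (ℕ × ℕ))) : Bool :=
  allN rr fun J => Nat.blt J r || force (md M J) fun d => forceL (ms M J) fun S => badOk d S ρ (G.getD J [])

variable {K : Type u} [Field K] [CharP K 2] {V : Type*} [AddCommGroup V] [Module K V]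

theorem nor_all {M : List (ℕ × List ℕ)} {r : ℕ} {G : List (List (ℕ × ℕ))} {N : List (Ex × ℕ × List (List ℕ))}
    (h : norAll M r G N = true) {J : ℕ} (hJ : J < r) : Nor K (md M J) (ms M J) (th N J) := by
  have h1 := allN_spec h hJ
  rw [force_eq, forceL_eq] at h1
  exact nor_sound h1

theorem bad_all {M : List (ℕ × List ℕ)} {r rr : ℕ} {ρ : Ex} {G : List (List (ℕ × ℕ))} (h : badAll M r rr ρ G = true) {J : ℕ}
    (h1 : r ≤ J) (h2 : J < rr) {a : ℕ → End K V} (ha : Nil a ρ) {f : X K (md M J) →ₗ[K] V}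
    (hf : Hom (ops K (md M J) (ms M J)) a f) : f = 0 := by
  have h3 := allN_spec h h2
  rw [force_eq, forceL_eq, Bool.or_eq_true, Nat.blt_eq] at h3
  exact bad_zero (h3.resolve_left (not_lt.2 h1)) ha hf

theorem up {ok : List ℕ → List ℕ → Bool} {k n : ℕ} {zs ts : List (List ℕ)} {tab : List (List (ℕ × List ℕ))}
    {M0 : List (ℕ × List ℕ)} {I : List (ℕ × ℕ × List ℕ)} {M : List (ℕ × List ℕ)} {r rr J : ℕ} {ρ : Ex}
    {G : List (List (ℕ × ℕ))} {N : List (Ex × ℕ × List (List ℕ))} (h1 : upOk ok k n zs ts tab M0 I M rr J = true)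
    (h2 : norAll M r G N = true) (h3 : badAll M r rr ρ G = true) {a : ℕ → End K V} (ha : Good ok k a) (hn : Nil a ρ)
    {f : X K (md M0 J) →ₗ[K] V} (hf : Hom (ops K (md M0 J) (ms M0 J)) (subF a zs) f) (h0 : f ≠ 0) :
    ∃ J < r, ∃ g : X K (md M J) →ₗ[K] V, Hom (ops K (md M J) (ms M J)) a g ∧ Function.Injective g := by
  rw [upOk, Bool.and_eq_true] at h1
  obtain ⟨J', g1, g, g2, g3⟩ := ind_split h1.1 ha hf h0
  rcases lt_or_ge J' r with e | e
  · exact ⟨J', e, g, g2, (nor_all h2 e).inj g2 g3⟩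
  · exact absurd (bad_all h3 e (Nat.blt_eq.mp (List.all_eq_true.1 h1.2 J' g1)) hn g2) g3

omit [CharP K 2] in
theorem ne_zero_of_inj {d : ℕ} (hd : 0 < d) {f : X K d →ₗ[K] V} (hf : Function.Injective f) : f ≠ 0 := fun e =>
  bv_one_ne hd (hf (by rw [e]; rfl))

omit [CharP K 2] in
theorem nil_z (a : ℕ → End K V) : Nil a .z := ⟨1, fun _ => rfl⟩

theorem kill_zero {n : ℕ} {S : List ℕ} {e : Ex} (hn : 0 < n) (h : Nat.beq (row n (evE n S e) 0) 0 = true)
    [FiniteDimensional K V] {a : ℕ → End K V} (ha : Function.Surjective (el a e)) {f : X K n →ₗ[K] V}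
    (hf : Hom (ops K n S) a f) : ¬ Function.Injective f := fun hi => by
  refine bv_one_ne hn (hi (LinearMap.injective_iff_surjective.2 ha ?_))
  rw [← hf.el, el_one hn, Nat.eq_of_beq_eq_true h, bv_zero, map_zero, map_zero]

omit [CharP K 2] in
theorem surj_quo {a : ℕ → End K V} {e : Ex} (ha : Function.Surjective (el a e)) (W : Submodule K V) (hW : Inv a W) :
    Function.Surjective (el (quoOp a W hW) e) := fun y => by
  obtain ⟨y, rfl⟩ := W.mkQ_surjective y
  obtain ⟨x, rfl⟩ := ha y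
  exact ⟨W.mkQ x, ((hom_quo a W hW).el e x).symm⟩

end Cfsg.Agent.E8A.Mc
end

-- part: E8A/TwoD/D0
section
/-!
# Case (d) in characteristic 2: the models (helper42; generated by `notes/E8A/mc`)
-/

set_option autoImplicit false
set_option maxRecDepth 1000000

namespace Cfsg.Agent.E8A.TwoD

open Cfsg.Agent.E8A.Mc

/-- an element that is nilpotent on the small modules -/
def rho : Ex :=
  .mul (.mul (.add (.w [2, 1, 1, 1, 1, 0, 1, 2, 2]) (.w [2, 1, 1, 1, 1, 0, 0, 1, 2, 2])) (.add (.w []) (.add (.w [1]) (.add (.w [1, 1]) (.add (.w [1, 1, 1]) (.w [1, 1, 1, 1])))))) (.add (.w [0, 2]) (.w [2, 1, 0]))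

/-- the elements of odd order -/
def cl : List (List ℕ × ℕ) :=
  [([], 1), ([0], 3), ([0, 2], 3), ([1], 5), ([0, 1], 7)]

/-- relators -/
def R7 : List (List Bool) :=
  [[true, true, true], [true, false, false, true, false, false, false, true, false, false, true, false, false, false], [true, false, true, false, false, false, false, true, false, true, false, false, false, false]]

/-- the letters as words in two elements -/
def c7 : List (List ℕ) :=
  [[1], [0]]

/-- relators -/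
noncomputable def R8 : List (List Bool) :=
  (by
  refine (?fq9002 : ((pk61l (fun i1 => ((fun g1 : Nat → Nat => pk61l (fun i2 => (pk61f (pk61d (nat_lit 1) 
    (nat_lit 0x160592a4a9999aaaf) i2) fun t2_2 => (pk61c (Nat.div t2_2 (nat_lit 1)) _root_.Bool.false fun _ => _root_.Bool.true))) (g1 i1) (g1 (Nat.succ i1)) List.nil) fun j => (pk61d (nat_lit 7) 
    (nat_lit 0x23b33e3c180) j))) (nat_lit 0) (nat_lit 5) List.nil) : List (List Bool))
    = ?xq9002 → (List (List Bool))) ?hq9002; (case hq9002 => (set_option maxRecDepth 1000000 in conv => lhs; reduce)); intro _; exact ?xq9002 : List (List Bool))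

/-- the letters as words in two elements -/
def c8 : List (List ℕ) :=
  [[0, 0, 1, 0, 1, 0, 0, 0, 0], [0, 0, 0, 0, 1, 0, 1, 0, 1, 0, 1], [1]]

/-- relators -/
noncomputable def R9 : List (List Bool) :=
  (by
  refine (?fq9003 : ((pk61l (fun i1 => ((fun g1 : Nat → Nat => pk61l (fun i2 => (pk61f (pk61d (nat_lit 1) 
    (nat_lit 0x1108aaaaa0904f) i2) fun t2_2 => (pk61c (Nat.div t2_2 (nat_lit 1)) _root_.Bool.false fun _ => _root_.Bool.true))) (g1 i1) (g1 (Nat.succ i1)) List.nil) fun j => (pk61d (nat_lit 6) 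
    (nat_lit 0x399d50c0) j))) (nat_lit 0) (nat_lit 4) List.nil) : List (List Bool))
    = ?xq9003 → (List (List Bool))) ?hq9003; (case hq9003 => (set_option maxRecDepth 1000000 in conv => lhs; reduce)); intro _; exact ?xq9003 : List (List Bool))

/-- the letters as words in two elements -/
def c9 : List (List ℕ) :=
  [[0, 1, 0, 0, 0, 1, 1, 0, 1, 0, 1, 1, 0, 1, 0, 1, 1], [0, 1, 0, 1, 1, 0, 1, 0, 0, 0, 0, 0, 1, 1], [1, 0, 0, 0, 0, 0, 0, 1, 1, 0], [1]]

/-- relators -/
noncomputable def R10 : List (List Bool) :=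
  (by
  refine (?fq9004 : ((pk61l (fun i1 => ((fun g1 : Nat → Nat => pk61l (fun i2 => (pk61f (pk61d (nat_lit 1) 
    (nat_lit 0x499264a92a66667f) i2) fun t2_2 => (pk61c (Nat.div t2_2 (nat_lit 1)) _root_.Bool.false fun _ => _root_.Bool.true))) (g1 i1) (g1 (Nat.succ i1)) List.nil) fun j => (pk61d (nat_lit 7) 
    (nat_lit 0x415a64280) j))) (nat_lit 0) (nat_lit 4) List.nil) : List (List Bool))
    = ?xq9004 → (List (List Bool))) ?hq9004; (case hq9004 => (set_option maxRecDepth 1000000 in conv => lhs; reduce)); intro _; exact ?xq9004 : List (List Bool))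

/-- the letters as words in two elements -/
noncomputable def c10 : List (List ℕ) :=
  (by
  refine (?fq9005 : ((pk61l (fun i1 => ((fun g1 : Nat → Nat => pk61l (fun i2 => (pk61d (nat_lit 1) 
    (nat_lit 0xd557d557d55550c2304) i2)) (g1 i1) (g1 (Nat.succ i1)) List.nil) fun j => (pk61d (nat_lit 7) 
    (nat_lit 0x263d5c7ca00) j))) (nat_lit 0) (nat_lit 5) List.nil) : List (List ℕ))
    = ?xq9005 → (List (List ℕ))) ?hq9005; (case hq9005 => (set_option maxRecDepth 1000000 in conv => lhs; reduce)); intro _; exact ?xq9005 : List (List ℕ))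

/-- the invariants -/
noncomputable def C8 : Cls :=
  ⟨cl, [([[1], [0]], R7.map foxE), ([[0, 1], [2]], R8.map foxE)]⟩

/-- the models -/
def M8 : List (ℕ × List ℕ) :=
  [(1, [0x1, 0x1, 0x1]),
   (4, [0xc832, 0xbd43, 0x7e32]),
   (4, [0xc832, 0x2d54, 0xdb13]),
   (6, [0x8012c7402, 0xad5426804, 0x319b682c8]),
   (14, [0x8080008a2914518a921ec2281000800000101000800040002, 0x8290082eeb88b5a3f4402420a021020080008000410080004, 0xc18045ae020001819221087b1451812100010001000100008]),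
   (20, [0x100d4c34b23e5fb732aa87042afa36bd4d019c6e6a80000000041322b0400008000002000040000001000200000800002, 0xa29ca9f528a1b399020d746d47803e53d24148d9f82d7295a67f098400002295810000020000080000100000400001000001, 0x6e8f18bc44008d9305104b23e00002a7465ac079212454d019042af7c0dc0000120000040000100000200000800002000004]),
   (20, [0x8a6516ee720567cb22fb35b69042af93622296e6d22891326f00004400000400008000002000040000001000200000800002, 0x452847db1e7e8b350027a30fba7064a95e0d02ee0c5e2c8ce39dbc4800003da9610000020000080000100000400001000001, 0xbebe50c9c3801c35ef620567c00002b6449ce0909851b296e6042af9eb800000120000040000100000200000800002000004]),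
   (64, [0x7dae3d657c3614fa9f136abe2cf6322ac75f595df9775c500000000000001000207c94b16a4fd7d66b34abb7a1291b832958d76a75671e896163a7e8464e2557adc6cd89588fd138dc3e7ab16895a0db13c51e7f68f030e61d0921f37c94ed5b3644f027d8a2adb5273b1fabafd1d96363923edc4ef2029876df7da95dff45da000000000000010092d8d17614227dcf69ac2b21952875fb0000100000040000e57accc81594332af48def1b25a804f492f46e355e05403b4aa7af82c0dd8b2a0000008000010000291f6cf77d4f940d403fb94982fd92f40000000000000040b683c83523d6d2004cc56086ab39db111642ee45ffc155db779b6402633f469ebcb2f84a5b1363ae5d67464b3ab96d2b8c5f9a7cc86fd8be6741285dfb66e90c973d65cfb86cddb3100000000000000020000000000000000000000000000010000000000000008000800000000000000002000000000000000400000000000000008000000000000000100000000000000000400000000000000080000000000000001000000000000000000080000000000001000000000000000004000000000000000800000000000000010000000000000000000004000000000008000000000000000040000000000000008000000000000000020000000000000004000000000000000001000000000000002000000000000000080000000000000002,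 0xc3ddb1b2068400c2a9ded24e78b63e17fa0c95a30464e8b279c853e13c7d9ce648e5e03ca071ee95fbecd6a1e43e45e4e2d5a9b19dba1399be501ca663f7399972055f3ce75d61b7f80c5b7cc2ab1762912266fe3e4c9b74cd9302aee490a14bfb62ed61483d31ae4b34dfd64ecf904e4aa2b97758186511b794e784df684947ceaca76af4d889b6540cc08e8e780c80f28d1cc319270b5d455c9dcad66a275b47234819ac7fefa48d8f568c5b63c9718ca9952edbdb38fa52199ff4535f6f70511708bc471b102208c08019323b4d79e598f43f05da608e832be110da677ca75bc0a9dd1bb9ee94476e349ead35f91377be20fe1ee13588896f1cf3af1082880cc4dcef6cc906bb717e191a126779525532120bc193e3c16c379bbef0005e4f3bd3deebb1ae57a8b6fca7157723f1f140000000000000000800000000000000040000000000000001000000000000000020000000000000000800000000000000010000000000000000200000000000000004000000000000000100000000000000002000000000000000080000000000000002000000000000000040000000000000001000000000000000020000000000000000400000000000000010000000000000000400000000000000010000000000000000200000000000000008000000000000000100000000000000004000000000000000100000000000000001,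 0xe6dc17470f45d6da42cfff4f5b70d87b7dae3d657c3614fa2beef0e700c7a883929aea9efaddc31831d1a90f2a0009287d7f2eb78ccf59cc6ec90280438781dd2958d76a75671e8900000000000001007feb4675dce7567dd6e7b7eaf2738fed711672038f0d1ab61d0921f37c94ed5bdc3e7ab16895a0dbd5b2a68d6b0b9c2363923edc4ef20298039c29cc7f37ec03028766a5874ddc3b92d8d17614227dcf000000000000004009e7d1a2510e3b7b08399b941f4b9bb5000020000000000092f46e355e05403be57accc81594332a4ded3db31358474c291f6cf77d4f940db20a238c34c85b96fd0b894729eaebee63ecdf9a229f5ad14cc56086ab39db1100000000000000101571bd37b50088fc8d9cbcd324ea3eb2824e78424ca9acf28c5f9a7cc86fd8bebcb2f84a5b1363ae80000000000000001000000000000000000000000000000802000000000000000040000000000000001000000000000000020000000000000000400000000000000008000000000000000200000000000000004000000000000000000000000200000004000000000000000080000000000000002000000000000000040000000000000000800000000000000020000000000000000000010000000000020000000000000000400000000000000010000000000000000200000000000000008000000000000000200000000000000004])]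

/-- the first basis vector generates -/
noncomputable def Pr8 : List (List (ℕ × ℕ)) :=
  (by
  refine (?fq9006 : ((pk61l (fun i1 => ((fun g1 : Nat → Nat => pk61l (fun i2 => (_root_.Prod.mk (pk61d (nat_lit 2) 
    (nat_lit 0x249649924926491926492646499266484926499920649926648266249124104) i2) (pk61d (nat_lit 5) 
    (nat_lit 0x19ce718bdad6ad694a4e7394a518c2107bdee6b5ac62d6b529494a108398c62948420c621042100108318c52908418c420842002906318a5210831884108400290831884108400004200004000820) i2))) (g1 i1) (g1 (Nat.succ i1)) List.nil) fun j => (pk61d (nat_lit 7) 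
    (nat_lit 0x7d7cacc0b0c0c000) j))) (nat_lit 0) (nat_lit 8) List.nil) : List (List (ℕ × ℕ)))
    = ?xq9006 → (List (List (ℕ × ℕ)))) ?hq9006; (case hq9006 => (set_option maxRecDepth 1000000 in conv => lhs; reduce)); intro _; exact ?xq9006 : List (List (ℕ × ℕ)))

/-- the data for Norton's test -/
def N8 : List (Ex × ℕ × List (List ℕ)) :=
  [(.z, 1, [[]]),
   ((.add (.w [2, 0]) (.add (.w [0, 1]) (.w [2]))), 0x1111, [[], [0], [1], [2]]),
   ((.add (.w []) (.w [1, 2])), 0x1000, [[], [0], [0, 1], [0, 1, 0]]),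
   ((.add (.w [2, 2]) (.add (.w [0, 2]) (.w [1, 1]))), 0x41001000, [[], [0], [1], [0, 0], [0, 1], [0, 1, 1]]),
   ((.add (.w [2, 0]) (.add (.w [1, 1]) (.w []))), 0x1000400000040010000001000400100040010004000, [[], [0], [1], [2], [0, 0], [0, 1], [0, 2], [1, 0], [1, 2], [2, 1], [2, 2], [0, 0, 1], [0, 0, 2], [0, 1, 0]]),
   (.add rho (.w []), 0x10000100000000010000000001000000000000001000010000100000000000000100000000010000000000, [[], [0], [1], [2], [0, 0], [0, 1], [0, 2], [1, 0], [1, 1], [1, 2], [2, 1], [2, 2], [0, 0, 1], [0, 0, 2], [0, 1, 0], [0, 1, 1], [0, 1, 2], [0, 2, 1], [0, 2, 2], [1, 0, 1]]),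
   (.add rho (.w []), 0x100000000000000100001000010000000000000000000000000000010000000000000010000000000, [[], [0], [1], [2], [0, 0], [0, 1], [0, 2], [1, 0], [1, 1], [1, 2], [2, 1], [2, 2], [0, 0, 1], [0, 0, 2], [0, 1, 1], [0, 1, 2], [0, 2, 1], [0, 2, 2], [1, 0, 1], [1, 1, 1]]),
   (.add rho (.w []), 0x1000000000000000000000000000000000000000000000001000000000000000000000000000000000000000000000001000000000000000000000000000000010000000000000000000000000000000000000000000000010000000000000000000000000000000000000000000000010000000000000001000000000000000100000000000000000000000000000000000000000000000000000000000000000000000000000000000000000000000000000000000000010000000000000001000000000000000100000000000000000000000000000000000000000000000100000000000000000000000000000000000000000000000100000000000000010000000000000000000000000000000000000000000000000000000000000001000000000000000000000000000000010000000000000001000000000000000000000000000000010000000000000001000000000000000100000000000000010000000000000000000000000000000000000000000000010000000000000001000000000000000000000000000000010000000000000001000000000000000100000000000000000000000000000000000000000000000100000000000000000000000000000001000000000000000000000000000000000000000000000000000000000000000100000000000000010000000000000000,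 [[], [0], [1], [2], [0, 0], [0, 1], [0, 2], [1, 0], [1, 1], [1, 2], [2, 1], [2, 2], [0, 0, 1], [0, 0, 2], [0, 1, 0], [0, 1, 1], [0, 1, 2], [0, 2, 1], [0, 2, 2], [1, 0, 0], [1, 0, 1], [1, 0, 2], [1, 1, 0], [1, 1, 1], [1, 1, 2], [1, 2, 1], [1, 2, 2], [2, 1, 0], [2, 1, 1], [2, 1, 2], [2, 2, 1], [0, 0, 1, 0], [0, 0, 1, 1], [0, 0, 1, 2], [0, 0, 2, 1], [0, 1, 0, 0], [0, 1, 0, 1], [0, 1, 0, 2], [0, 1, 1, 0], [0, 1, 1, 1], [0, 1, 1, 2], [0, 1, 2, 1], [0, 1, 2, 2], [0, 2, 1, 0], [0, 2, 1, 1], [0, 2, 1, 2], [0, 2, 2, 1], [1, 0, 0, 1], [1, 0, 0, 2], [1, 0, 1, 0], [1, 0, 1, 1], [1, 0, 1, 2], [1, 0, 2, 1], [1, 0, 2, 2], [1, 1, 0, 0], [1, 1, 0, 1], [1, 1, 0, 2], [1, 1, 1, 0], [1, 1, 1, 1], [1, 1, 1, 2], [1, 1, 2, 1], [1, 1, 2, 2], [1, 2, 1, 0], [1, 2, 1, 2]])]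

/-- the fixed spaces -/
def F8 : List (List ℕ) :=
  [[1, 1, 1, 1, 1], [4, 0, 2, 0, 1], [4, 0, 2, 0, 1], [6, 4, 2, 2, 0], [14, 6, 4, 2, 2], [20, 4, 6, 4, 2], [20, 4, 6, 4, 2], [64, 24, 20, 12, 10]]

/-- the derivations -/
def Z8 : List (List ℕ) :=
  [[0, 0], [0, 1], [0, 1], [2, 1], [3, 3], [5, 3], [5, 3], [12, 10]]

/-- the invariants -/
noncomputable def C9 : Cls :=
  ⟨cl, [([[1], [0]], R7.map foxE), ([[0, 1], [3]], R9.map foxE)]⟩

/-- the models -/
def M9 : List (ℕ × List ℕ) :=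
  [(1, [0x1, 0x1, 0x1, 0x1]),
   (8, [0x440348008100201, 0x844027140c200402, 0x884a20180a0c0803, 0x88482018400c0a01]),
   (8, [0xba488645401f0302, 0xc5011c462c802004, 0xf94224e709204008, 0x9f6d9411fe3a4510]),
   (8, [0x70e03020070e0302, 0x4719c67303080a04, 0x11ee5599090a0708, 0x8844221180402010]),
   (26, [0x1000010000039353cd8000080080000c10000300001028343b50240144000c432020cd840000000d8e0c0010030200000020000000040000002000100000008000000800000001000002c0000070000040000002, 0x8240405a45c842021dd6cd4c006d17efc0000010200454040c21a8fe6ca000000400000080000008c7070100000000209c04000000496b40100000020000001000000100000010000002000000400000080000004, 0x8e40405000000200000008000008c7071a45c84128ba8c340c21005ae0c0120400020000000800000020020000000d8e0c0024400000814000105000010000200000000940000190000010000001000002c000008, 0x88c30709743a3201020c48001500c7051b45fbf1000000270c1c00920000100c008e72700048070008220231c1c00100000004c00000800000100000031000008000000800000190000034000004000002c000008]),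
   (48, [0x80000810801340000c00c19ba7a57de9d8d9717f989fed77b7a19a6b39d2f76d7d0556e1e069759baca833e1b9dd8167e8a6f8e6fbcb7d2c589425f9d08f55340cbf461c3d6efbe161c44ffb109b5d022ba46726312fdeb2ef9c6a1ba3ca7b04db3b1339d9f163bf2a87db140000000000048769898d2d4ef886af087b7a0bead5058e8771a25149185b7404eab08b7f1c9c05e32398068190c50810fbfb2a363ddd00000000001000000000000831c611ad10f500000802808b000004014113000008000000000004000000080000000000000100000000000080000000000200000000000020000000000000100000000000080000000000200000000000000001000000000100000000000080000000000200000000000020000000000002, 0x63b14a542dd6f886af00fb5b46e00232eae72d077ec2d96cbdb20ef1cf2b314c34da6687bec56950094fec7d76a3346afb6ace3c554585ce39e4efde410dc3a6d8784410752c823293410c976a8bb842b74896234c49b3d573e5188abd7127e5d1da31b35b0431f21ed1b8958c31727e961e93a01ab33ede31d185b3ac4b19ea7d7f5615c5e2447a12573b508c25636eeb98e416bec1a4b3efa2170d0a80d2aa8b8867b14a54adf770c7f19c8eed19c1a04ae122fa37d615446056d78408b76d80000000000019ea6e7fe634100000000000010000000000002000000000000400000000000040000000000010000000000002000000000000400000000000040000000000008021000000002000000000000400000000000040000000000004,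 0xc60c08af37918000001000102e2ea237ae20244ca5d0bc1fa7a57de9d8d9f1a07abaca5bbccabab4840a7ecbda32b730040000000000000000000004c166daea7254625955da7e6b8a9ce5e70d3cac16529bf71361c44ffb109be069759baca87d2c589425f9a49eece55962db3b1339d9f15944745d4a4500000802808b0000000000020e66b726c0005b4465d7d2288efe63ff70818bd11c1497221c9c05e323980bead514ceb60bead5058e871d8691d911664de6ddab39268de6ddb9792e000000020000000000000001200000000000020000000000004000000000000800000000000080000000000004014113000004000000000000800000000000080000000000010000000000004000000000000800000000000080000000000008, 0xf886af00fb5b000000010000eef37fd19c109d2db5a2ff189fa43d5e7292000000000004004000000000fb6ace3c5545cf6add1c96b186401d12c0e0e9092016e67ab1ea9d326aaee9f3c007b1e91fb6ed72f66c461c3d6efbe1f76d7d0556e1e8a6f8e6fbcbeb2e95b045b66a1ba3ca7b0431d185b3ac4b80000810810340000c00c19bae8a81d9f500b5d195b32c2ec0703d58557af98f058d654e7404eab08b7ff886af02fb53f886af087b7a9f37ed4046b30000000000010000000040008000001000104000000000001f5b176ae92e04000000000000800000000000100000000000010000000000000802808b000008000000000001000000000000100000000000020000000000008000000000001000000000000100000000000010]),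
   (20, [0x1b66a92f008145b0000800004abafe553ec742ab60e3a67472547b8663521000008000200000000100080000400001000002, 0x87e6e9e8ab70150a11cea8f17136db81e2bf482e775facbecfbd6d73bf5212dbe800001325c0400000800001000002000001, 0x472e2a1f87397ffdc6875c5ef30bec3b1d6803a943e6302000000012a5bb742ab547b8185ff0800001000002000004000004, 0xf08d52c60192f0047377d6481809ec0000100200cbecffe5033a746a1a40553ec67472400001000002000004000008000008]),
   (20, [0x88257d2ff3380ff000080000472536936caf7225c486bf507180000f02621000008000200000000100080000400001000002, 0xa68eb260b0b200216d9e7b12d0b28e7ef34bf7e0dfbcbfca8d3ec565745e3ebbd275f61b69b0400000800001000002000001, 0x22e20cd2ff3d4cc8882571c5df47a5a6f22493bec02000000014aed7f722580000400000800001000002000004000004, 0xa49cbe3fc186bc81651cfa439c5fd0000100200fca8db9aad56c582e0a1936caf5071678211000002000004000008000008]),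
   (78, [0x5460ee4a91e4c61c29bc8fb05a571a8a301a612084b82862e3a34228674eb0bf4022d54dc26945f739ecbc6007a533378b3446021bca40e87113069dafa0522ade15e0ff5745b358be9466ab4cf3ae5ab41728b77014e916b135e838342906712e17c1c578c40b663113a9c1fa2ebbcd8553d14b2521f0e575a979472cfbd0a53f44f6cc415a958578a01c3ae00f1e4373811cb00080c8a6683eeba510e88a61ee20ddc3973b6f3da9ddfe71ed069f181b4f3325cee94cb562069048192c22aba2a9adf811f4843ea3cd42008e946603fb7da0801268b6a5adf6f79c98c122e7a5c8dec20f1e23042352696c3be4ae070506d9ec00000000000000000200000000000000000800000000000000000010004d409004ecc7e91f4aac000000000000000040000000000000000000801a69f245634c47c47d98e45db513c4ea2e59bdece678810994d682c2829fa35488514e2af6ad792d181ac98cbc7f22bce96ee71ee62a18fe54e2825ba5321fc845ceaf193400000000000000000038205ae9a2b1b1ac45af0e8d47c453da0ccd14c2cf680419a2fa0ab61b2c518824da9b8d71d0864080000d800504c1900fafa8af14f6d531a29e68080000000000000000029c49b8088e64b89a439f4ce91f9b615f6af0347e8112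f79ff36a51b64c7dd0494b15c9bbbb3184476b6df503885ecb3dc0000008000000000000000000100000000000002000000000000000000000000040000000000000000000800000000000001000000000000000000000080000000000000000001000000000000000000100000000000000000000400000000000000000000000000000008000000000000000000100000000040000000000000000000000100000000000000000002000000000000000020000000000000000000000800000000000000000010000000000000000008000000000000000000000400000000000000000008000000000000000000800000000000000000000001000000000000000002000000000000000000040000000000000000000400000000000000000002, 0x1f79f8a04d27c504d2c40000000000000100000399b2c303d7e6e7fba5c4ec315a76386d98647ba66b3f27e9b8fe554e80f64a7ea686ca591b279a026496c4c89d9eedb046060d78e38f2c99b23069251eaaf0ed1704310ff2af04e4179e0ab918c611d7c50adcd61dede732eabd79ca4425bff7a1a0a3c067d5103c5a39aeb519af09b6f8b555d34ea704b9f74ffa710f635f876f89d665033497d3531e47f19f9f0ab115394eb8a54a8f13de92b3193f85a62aba122e62a54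abd557f261c3f0f933a1053772e9ceea7e15dbc05dc8b8e3d565d75f0e450b2b5a7dc67be8a3388da03e0434785a1fe899c35c82020411c9b5497a28dd84fbad9eb0fc697a06b1f293842592f019fe100f7c3ae4b4f6f07db849c8dd5f231be48e592d45be8e57da1d2d11c3e8b860a562036c205548d1480d37d47d5549096aa915686117594cd986bddd3bce378aa3b171701fce454ca3e891bc4f6d5660aac1c0a3cab5700000000000100000001f7e41a121c1bd86a5c3000000000000000000225c9772f0e3759981ea1056c6a1d97e0d3c1d75480d2d97ae6834a640d1fdb84994ae78bb8bea880000000000000002000cd67bf4a4cbf39c8cd093759eb13c9e98edcd448dc7d8dd95bea3e4ad96a3ed500864dc3f157154b06606257810d2cdbc0b3aedec24fd3a84484880000000000000000001289cbc5afbcf67ba4a11cdbf3986977d90304b44000000000000000000040000000000000000000400000000000000000002000000000000000000008000000000000000000040000000000000000000200000000000000000000800000000000000000002000000000000000000010000000000000000000080000000000000000000400000000000000000004000000000000000000040000000000000000000200000000000000000002000000000000000000010000000000000000000040000000000000000000200000000000000000001000000000000000000004000000000000000000020000000000000000000100000000000000000000800000000000000000001,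 0xb0feeb5787f87600ef600000000000000000080bca1d9282c4f398763b2b681781125fdfa8030a084b82862e3a342286755ba997a2b393eb7324a0200003600141306403d8c4b22406e32b40cdf6793ed65310075054b02f61c4a55e301884791c5e345a18d26933b455152b135e838342906712e1d0b62065a550c5df0a7a39ffe9acc0c2fb65143f492011fc6481070749c002000000000000000000000000000000000083f83c781ad4a2443fad978884edebd8cc2ea392ed98ce9afb196bc0d922810de98f3d72c466f9b469048192c22aba2a9ad294fd13db31056a5615c43a22987b883770e5ceab1d673c4a764204250a5c8dec20f1e23042352c75672b3e8fca6b87cc08fb05a571a8a301a612dc8a14f6bba85d5ea8d80000008000000000000000000000000000000427b9bc7a5c952f9cafca61f8d770e1cca829c78dce034830157a7925f1ee59d974ad2ace6d28784e678810994d682c282900000000000000001003b3f92552dfcf1f1fc6a00000000000000000021bb2ff362699748e117d6c61cad9ee30cf0de5059b4bcf7e61093368d620e8d47c453da0ccd14c3968601a842257b9444f1541befc1d5e56a031280000000000400000000b2a7e9a46aae8e515f44fc26ae5fc97d9270e8b1cc7f6d8857f2de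739b978fe52492dfed9aab7e7e8112f79ff36a51b64dbb9c7b98a863f9538a0400000000000000000008000000000000000000000000000000100000000000000000000000002004000000000000000000010000000000000000000080000000000000000000400000000000000000001000000000000000000004000000000000000000020000000000000000000100000000000000000000800000000000000000008000000000000000000080000000000000000000000002000000000000000000000040000000000020000000000000000000080000000000000000000400000000000000000002000000000000000000008000000000000000000040000000000000000000200000000000000000001000000000000000000004, 0xd1020a2f3352c2ae59c9b7f3eab85b2e24247943dc51b133d04731f2df4e8bcadc325898ad37bacd118086f2903a1c44c2809925b1322767bb6c1000000000000080000030f6f414b8596074a7cb1cdbf3986977d90304b7644282d6823989e7f84eb688c7f14d156631b46b96ad05ca2ddc053a450000000000000000008000020000000000000007e1dbe2759940cd25f4ccb0534ca5ce19de1a3889a197561ac142fb6e8f948eff75c8c0bc27f28e8036278797de78be83f478f2d185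c35adf7e42490201e0577090a7399a06d3ccc973ba532d58821f0e575a979472cfbd1cb00080c8a6683eeba59b49b2e4ae96da13b4fda96b7dbde7263048b9e00000000000000000040000000080000000000064b516fa395f6874b445a76be8548ae7e96252c69dafa0522ade15e0ff4d85306e8e7d79874e086ebbf84f84f40eddf9df1e9c9d5c9e7c757953c195b1666eb944c33dfdb9176d44f13a8b966f7b000000000200000000000000000000080000000e5a1806a10895ee5113c0000000000000000100544e2ea7721b7f6359527dd70cca9b76f6ef2a7afa8af14f6d531a29e6800000000000000000044dd67ac4f27a63b735100000000000000001000790a34b3df3eb563dd7800000000040000000002ebc581368971135c420c9b01767aa6bb75287a7d33a47e6d857dabc0d000000000000000000020000000000000100000010000000000000000000200003600141306403c0800000000000000000008000000000000000000020000000000000000000100000000000000000000800000000000000000002000000000000000000008000000000000000000040000000000000000000200000000000000000000000000000040000000000000000200000000000008000000000000000000400000000000000000004000000000000000000040000000000000000000100000000000000000000800000000000000000004000000000000000000010000000000000000000080000000000000000000400000000000000000002000000000000000000008])]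

/-- the first basis vector generates -/
noncomputable def Pr9 : List (List (ℕ × ℕ)) :=
  (by
  refine (?fq9007 : ((pk61l (fun i1 => ((fun g1 : Nat → Nat => pk61l (fun i2 => (_root_.Prod.mk (pk61d (nat_lit 2) 
    (nat_lit 0x691de4e79e4e4e79e4999377939e7939e79e4e28e79e7938739e79e4e1e4e79e4e479e4e7b9e4e4e45491149115493fe46790d25) i2) (pk61d (nat_lit 5) 
    (nat_lit 0xde718c5ed6ad6b5a52939ce5294a318c61083def739ce6b58c5ad6a525284210739cc6314a52908418c621082108400018a52108318c421042108000314a42106318842084210000f735ad6318b5ad4a529294a50739cc6318a52908318c4210821084000020f7398c5a94839cc6314a418821000031040000041080000106210420) i2))) (g1 i1) (g1 (Nat.succ i1)) List.nil) fun j => (pk61d (nat_lit 8) 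
    (nat_lit 0xd083705d2e150e070000) j))) (nat_lit 0) (nat_lit 9) List.nil) : List (List (ℕ × ℕ)))
    = ?xq9007 → (List (List (ℕ × ℕ)))) ?hq9007; (case hq9007 => (set_option maxRecDepth 1000000 in conv => lhs; reduce)); intro _; exact ?xq9007 : List (List (ℕ × ℕ)))

/-- the data for Norton's test -/
noncomputable def N9 : List (Ex × ℕ × List (List ℕ)) :=
  (by
  refine (?fq9008 : ((pk61l (fun i1 => (_root_.Prod.mk (pk61r (fun r1 j => pk61f j fun i2 => (pk61f (pk61d (nat_lit 5) 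
    (nat_lit 0x62d5183dc941dac5a8c54a0e4188c520c2010400) i2) fun u8 => (pk61f (pk61d (nat_lit 2) 
    (nat_lit 0xa956a55a56a55a54) i2) fun t2_1 => (pk61c (Nat.div t2_1 (nat_lit 1)) _root_.Cfsg.Agent.E8A.Mc.Ex.z fun _ => (pk61c (Nat.div t2_1 (nat_lit 2)) (_root_.Cfsg.Agent.E8A.Mc.Ex.w ((fun g2 : Nat → Nat => pk61l (fun i3 => (pk61d (nat_lit 2) 
    (nat_lit 0x36ec4e0631b7) i3)) (g2 u8) (g2 (Nat.succ u8)) List.nil) fun j => (pk61d (nat_lit 5) 
    (nat_lit 0x66f7ace307b58b49ce520840) j))) fun _ => (_root_.Cfsg.Agent.E8A.Mc.Ex.add (r1 (Nat.sub i2 (pk61d (nat_lit 3) 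
    (nat_lit 0x68b45168a2) u8))) (r1 (Nat.sub i2 (nat_lit 1))))))))) (_root_.Cfsg.Agent.E8A.Mc.Ex.z) (nat_lit 4) (pk61d (nat_lit 5) 
    (nat_lit 0x3f88b0a0) i1)) (_root_.Prod.mk (pk61f i1 fun j => (fun g : Nat → Nat => Nat.mod (Nat.shiftRight 
    (nat_lit 0x10000000000010000000000010000000000010000000000010000000000010000000000010000000000010000000000000000000000010000000000010000000000010000000000010000000000010000000000010000000000000000000000000000000000000000000000010000000000010000000000010000000000000000000000010000000000000000000000010000000000000000000000010000000000000000000000010000000000010000000000010000000000000000000000010000000000010000000000000000000000000000000000000000000000010000000000010000000000000000000000010000000000000000000000010000000000010000000000010000000000000000000000000000000000000100000040000010000000000001000000400000000000040000010000004000001000000000000000000040000010000000000001000000400000100000040000010000004000001000000400000101010100000100010100000001000100010001010100010001)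 (Nat.mul (nat_lit 8) (g j))) (Nat.shiftLeft (nat_lit 1) (Nat.mul (nat_lit 8) (Nat.sub (g (Nat.succ j)) (g j))))) (pk61d (nat_lit 9) 
    (nat_lit 0x60cd019088240200))) ((fun g1 : Nat → Nat => pk61l (fun i2 => ((fun g2 : Nat → Nat => pk61l (fun i3 => (pk61d (nat_lit 2) 
    (nat_lit 0x7b69961ad779a59d6554585107cb1ce28634914130810f7ea6d951c840e459dd65568634914120429b6561039171391411534565434) i3)) (g2 i2) (g2 (Nat.succ i2)) List.nil) fun j => (pk61d (nat_lit 8) 
    (nat_lit 0xd6d3d0cdcac7c4c1bebbb8b5b2afaca9a6a3a09d9a9794918e8b8885827f7c7a78767472706e6c6a6866646261605f5e5e5b5855524f4c494643403d3a373533312f2d2b29272625242323211f1d1c1b1a19191613110f0e0d0c0c090705030201000000) j))) (g1 i1) (g1 (Nat.succ i1)) List.nil) fun j => (pk61d (nat_lit 7) 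
    (nat_lit 0x18d9992224080) j))))) (nat_lit 0) (nat_lit 6) List.nil) : List (Ex × ℕ × List (List ℕ)))
    = ?xq9008 → (List (Ex × ℕ × List (List ℕ)))) ?hq9008; (case hq9008 => (set_option maxRecDepth 1000000 in conv => lhs; reduce)); intro _; exact ?xq9008 : List (Ex × ℕ × List (List ℕ)))

/-- the fixed spaces -/
def F9 : List (List ℕ) :=
  [[1, 1, 1, 1, 1], [8, 6, 4, 4, 2], [8, 0, 4, 0, 2], [8, 0, 4, 0, 2], [26, 14, 8, 6, 2], [48, 20, 16, 8, 6]]

/-- the derivations -/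
def Z9 : List (List ℕ) :=
  [[0, 0], [2, 2], [0, 2], [0, 2], [7, 4], [10, 6]]

/-- the invariants -/
noncomputable def C10 : Cls :=
  ⟨cl, [([[0, 1], [2, 4]], R10.map foxE)]⟩

/-- the models -/
def M10 : List (ℕ × List ℕ) :=
  [(1, [0x1, 0x1, 0x1, 0x1, 0x1]),
   (8, [0x840801020040201, 0x80fe201040070802, 0x8040200108071002, 0x824222020a041203, 0x854525050d110704]),
   (16, [0xf9d04400cec118c5082040000350024c182400470800000b001a004100030002, 0xe5a900dc131118e60003800020a00380004100c0100002000400008000200004, 0x9663f940c5c810c4002498bf001b03091003004208650340011c004100400007, 0x3c60126820207165cec101a00140010424a402442000000b00090100001a0008, 0x30a00b5004a49080484102200204024420a003400424001100120200000b0010]),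
   (26, [0x9b3e37051b7796f517c05ebac4080253813001259871e4289ed21cd00640202011754e981df2d200ca81970b9c317b7b741db1e91c50d4c03024b1c91ecc000001000100000020000004000008000000100000002, 0xbb678b6296a0af9172440a419fd67be03e1943eb41a73d1ce5bfc6d245453be2c5a2707b53e6c1c416d854f4614bf5973c42beaa3bb9e90a27094000000800000001000008000000200000010000000200000004, 0x8fb61d57146a4abe73502fdfe9101006860400396c147c17472004c006000000190e90006f9eeb04590863da86500ca8185ebac404c0048020201800000003024b100000010000000400000020000000400000008, 0x7002105474583dd5317c1747201676b3c010000fc6d2445b9ac50eefb0c2bbedafe4c2700461370a373d7d67be9076c3ac06651a1890428734019ed8b1dc7143531aa7b7813001800800000004090000800000010, 0x7e6564539bad0af9d5f440401a0e6d6f41c9be9fd67be019f58e1ff46206dfbc8f47396c406b4a033efcfb53e6c077cb48446f670802538289ed2f10afa81db1e91676b3c20000001000000040000001000000020]),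
   (48, [0x8d2013a6dda054880c19654024240b5b6063101c926354b408ec1008a7d10c1c9496a7b407d495fa828c010002b6213c009c9b5c30a9085c93f474d3082005a622340d208c7a661d08080d18d66200040cc0563c196211d2cad604b18f0290440d6c8c5429210950d5d83ab01c683b0ebefa08308bc0c2e600000000002000000000001000000000000801ec112885c1002c00960e3400800000000000400000000000200000000004401056eafe00080000000000040000000010000000000005c0103e4dc504000000000001400000000004a800545738001c9c360bb0000008000000000004000000000002000000000010000000000000000001000000000400000000000200000000000100000000000800000000000040000000000002, 0x3e6ade742329c7a898cfaf913f9a44f3d6752a806971f49b001c977d96a90058fc62365efcdb4f916b5c0b362620d4627986496ff3af0a114e04b7b85a841178319877e30554099e033be1185afa588787105a6b30cc2753fa5e76a734cc53f9045c498fdc59800000000000400000000000200000000000001d9f2a72bd080c9c32a3df080201bd4028001c9f7f428d001c964946ac081c998f11bc08000e0c073c081c969da6fa000000b5907f001c93f8149d001c9714d6cb001c9928a1fb08000359614a08000997743008000d24f67f0800000000000200000000000001000000000010000000000002000000000000200000000000007ea0ea000000008000000000080000000000010000000000001000000000000080000000000004,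 0xf9a3b37bc1146a18bb67419953a6f20f91f419480b747143081c90ce35e20d148f829f5e2010ba4b0d9408641f4a3896089c85be6e75005894f45a9a016c08000163529a571c3f910854832861590000000000025899cc9472017097bdaf97465a86d83ca5fa081cdbd0e0727b9fc061acbc0950d5d83ab0010002b6213c082005a6223400040cc0563c001c9d8cf39108000b9c4518081c9580c790001c94d657b500000816244b080007180331081c9372c49800000000000108000b715563081c910685ac081c9fd85298081c9bd0c0f6000006e6d35a014000000000010000000000002000000000000400000000000040000000000002000000000000202000000000100000000000020000000000002000000000000100000000000008, 0x825089ec19413ac22e4dbb477cc303c475f2106c02fea90500000f20974708588f82975e236c327136fb08548328615901ec112885c1000000000002000400000000020100000000096c1b76cac4055c9c6256cd588952c40da12210a68363de0b718f22b55753fa9382cf7677a309cb82d30d6c8c542921003094dea9ee085c93f474d3001c94360bb000000b647553081c9fde329400000100000000000000000100000002000000000000900008000b1e4511001c9c6233e6000002c9a10108000dce6656081c9fde329c081c9372c499080009c8643c040000000000002c00960e34004000000000000000000c00000080000000000004000000000000800000000000200000000000000024000000004000000000000200000000000010,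 0x811015717f0f73dde37fc5752651d58ba6fb01b8938a30bd081c9bfc30eb101c87227a1d52e66808911a089c85be6e75096c1208a2db005497de67d600c401429d3c7986496ff3af086c069c1c39044400960a34033be1185afa5986e4dab51670fad749630b7bd3f0873a7576a734cc53f904b18f02904401f08ee02733009c9b5c30a908080d18d662000000000001000000200000080002602129001c97fa66de000001209010081c998f11bc080006aa1305000000b44020001c93f8149d001c9f7f428d001c975dd6d30800027aa14e08000359614a05c0103e4dc501ec112885c1008000000000000800000000000100000000000008000000000001000000000000400000000000040000000000008000000000000400000000000020]),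
   (64, [0x82e6d77af3ce355f41e6d77af30e36472ccaa5513e8a413d1ce1dda895b3d968001428fc4a00eb9000a0cad0dc0e04dd800000000000000040000000000000000026b45b1802c0d700f2a00b6c01061c00b0bda52e053411001000000000400020000000000000000026d8cc0808b6890050ea6f2a0dec9e10000000000000000072228ba208f19c0096974cd80a8f5b00762a77440e4dc9002448a148000f9f0020e180680b279d0032bf6fac08950100a6be11200adb9400c4a743580fabdb00227879ab399c7600e6d73af346376c04626a39d4a38fa100e6d76af38c3457000000080041012b086460cfb21ae08e0c962b3287820baa0cc2a5503eaa61b9086460cb327a712100000000402008a700068829e632208900d4d61e8349de3800e29c5f2dc63c83002271f9c831981800c0bf535a273d9100e6d77af22e3683000000000000001000000000000000080000000000000004000290b9c202be8b00000040000000000000002000000000000000100000000000000008000000000000000400000000001000000000000000000001000000000000000080000000000000004000000000000080000000000000000000800000000000000040000000000000002000000000000001000000000000000000000100000000000002000000000000000100000000000000008000000000000000200000000000000002,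 0xb17718a4140b2b9e71efcf7ab60eb28023c673f1080c148c63bde6842c055b0c04d4c2f29aaa403104e6be75046857a7d3a6589d8808e61730e26e5f94059e4400b4a3d31e08391e00c45f755e00159a0080e4c4a80fe7de0054d53622081e95c3000458000b0508000000000008000000a499a62c0a9b46b270da9ca40a299f000000000001000000005ddccc037c0600d43344ae021f050000c058000052040020e080680323950082c2f1c002cecc00729344fe0ae2d5000291f9c00abbc200c22e2afc0d8a5200e05e51120416c000a03f189602f0cd0026e2a1be035e0400566b740e02f0de0060ed3c380ce64500028f81c60b69da00c673f028071404001233d33c0eee920024f9900a0bbd9b00068969a60a2101000453f3880cddd60016312c2003d09400c0b6135c0f3cda002270f98c01981c00e2c6aa940ea1e4080000000000000000400d3e1e9b0da100e05f93551c17ae0024f8100833bd1000029839a00afe4400c4a1cb380eaad0008000000000000000c6aea2bc0cc79f00000250000a071b0020000000000000000004000000000000004000000000000000080000000000000000c060080d8a0000000010000000000000020000000000000000200000000000000002000000000000000010000000000000000000100000000000004000000000000000040000000000000000400000000000000001,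 0x20000000000000007002300c8009808ca0741a2604065c41e00488a1a60d3dcc08d6f454ff445c390044a4cf8486e57400080000000000000109b8f5260bbf4000f427a1e60e8d4f0066c0582e08e9c00064709fe806b99500f2a00b6c01061c020898f9a60197cc00000000000800000000000000030000037a02d7a208da8b0074028fa207d8870010eb2a960cd1170026d8ad080f9689000080000000000000e056933004138100e208dfc40c439e002495ae340bec4f0024f1502e0bb4df00c4a743580fabdb0024f8d4080bb49900760a5644056dc9002468a0080a2713002468a1080a27130000b8a5a601bcd90050a285c0072a8f0050ea6f2a0dec9e0000000800000000000000000000000200e0575354041a4700b6c5fedc04a5890004a9f39a0d2894002668a9cc090fd400e05f1374041fc6002271f9c831981804626a39d4a38fa1086460cfb21ae08e00000000402008a700e05f93711c13aa0020e0006e03a35700762a2e44014dc900761a2604044c4100761a2604046c41000288a9a6022ccb004000000000000000020000000000000000000000010000000000000000000100000100000000000000002000000000000000040000000000000000400000000000000004000000000000000020000000000000000400000000000000008000000000000000080000000000000000800000000000000004,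 0xc0000000000000008000000000000000302458a50800879f200000000000000004c226aada2582ba0456fa262a12679c0300000000000000020000000000000000a460930e092d0b0026215852097f550012f8087600244b0096974cd80a8f5b002d48a508000f9f00763283220258070026d8ad080f9689000800000000000000000000000000040000c058000052040020e0006e03a357000000000000800000c626aabc07d68900c4a5933805a8c000000250000a071b00569421960930dd00a6be11200adb9400000018000000000050ea6f2a0dec9e000000000000020200000000000000020000000040000000001233d33c0eee920026d8cc0808b6890072228ba208f19c002448a148000f9f0044a5c9100cead8000419d028009f460056fa26220367d5007283dd92026596000466a5bc0766c900e29c5f2dc63c8300e6d73af346376c000000080041012b086460cb327a7121040000000000000000000000000300000002000000000000000000000000001100000000000000010000000000000800000040000000000000040000000000000000800000000000000010000000000000000200000000000000004000000000000000080000000000000000800000000000000008000000000000000040000000000000000800000000000000010000000000000000100000000000000001000000000000000008,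 0x100000000400000000000000000000000801277a2d3a200d30d080000000010000008c236fada3509b800000000000000080000000000080000d3a6589d8808e61700560b504006b78400b4a3d31e08391e0026b45b1802c0d700000000000000040000800000000000037a02d7a208da8b9250fa06aa0365127122d88c880aa79fb270da9ca40a299fc008205800002904800198ed660397cc00d43344ae021f05c3000458000b050882c4a3db380cafd80052d088200479510032bf6fac0895010000000800000000002468a0080a2713800000000000000040000000000000000024f8d0080bb4990026e2a1be035e042000000000000000100000000000000000762a77440e4dc900c673f028071404000000001000004000040980300a141d0076627f98048d48000453f3880cddd600d4d61e8349de38000000000080002000e6d76af38c34570cc2a5503eaa61b90800000000000000000000000001000000761a2604044c41020000000000000001000000000000000020e0006e032357008000000000000000080000000000000001000000000000000020000000000000000400000000000000000000000202000000100000000000000001000000000000000010000000000000000080000000000000000000110000000000020000000000000000200000000000000002000000000000000010]),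
   (64, [0xc000000ea007908080000006a00e330518063f0d54041253340aea586c07f94508704240317396fc040020000060018c038b93ba31692b2c01ee00db3062f9df001a118b240ebd09000700d5940de29e01ed80c33921ae2a000c00c4a00a345e001613120c06ff9c001892036809964e0008119d900ef243001b93cfaa01ed4f00008000000040000800000000000000040000000000000000081086600ad41600000c048009a004000008022002b31e001a93cc800d2a890016139194030ed7001683004c0f6d00001a005c84027e480207930a3b004a86000c935ca4b273ff00700248317796fc000000040041012b0070024231531678009211c01c8a364c00700240b153b67800700240713387d700000000202008a7008a8004bc9bd5040086934b380bdd5200d8820682852f0d008f935fa89fdb4e010000000000000000d891d036dab17600000000000000080000000000000004001c9116a40afc43000000002003939e000000080000000000000006400b9b810000000400000000000000020000000000008000000000000000000080000000000000004000000000000000200000000000001000000000000000000040033b000000000040000000000000002000000000000000800000000000000000000100000000000002000000000000000100000000000000008000000000000000200000000000000002,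 0xa01e82cca004460a500c428b080f90d90a19ec2f41078d5e8deb7b8251202772b008c00134080780d00a61cad80e2d5a00069156920af840001d82cb3c9c4525011c913a36bb57d7006a93ac804afe9d00cc028d885b11ca02000078000d684003e693378b25e168000c089c4a04789a0016111c98040a0f01fd113c982e3f29001c0096aa000d0b200000000000000030000b010808b357000d0ad26a01218b001e89cca0044a0a00088480200a5493001413402006fb91021980038100b5de03eb1bd6512fe7a9001111d5b30cc380001e13479a00c254001b004f8e01a98e001400811408441100140b01000bf747001813800c084458000482d3160de5d10018898124082f8400149d80340ba7c4001e82ccb006fd45021f936b1004004501fe1127be22732301ea93fa352924ef0006132ca3092f04000811879e0aff4200908048126c4de8004e00c00e99a64500400000120004040020000000000000000c8280200bdc8300100000000000000004000000000000000683cda80ebd5c0008000000000000000100000000000000000100000000000000100000000000000002000000000000000020000000000000000008000000000000010000000000000000100000000000000001000000000000000010000000000000000000100000000000004000000000000000040000000000000000400000000000000001,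 0x4c00280cc0069a0ac400440e200510811c01d780a00c7d9f341d795ff006d9cc04000400a00b2b920c000c0c6002a90801e693749427926903eb0046b6c08d0a0043800cbc856b59004000000013930700161124a375235e0004009d900b924e001e115a0a02b30d000e039990013057001591102a0a3b1a0009000b280e7c470008119d900ef24300002c00e001b90c000068024007399b000b00c74806d4d000000c04c00b3b83000008040003a2110010004a32031c1b0005830ef207279d000a0154180c55900000004a200a3c1300011195a10def88001a005c84027e4800000004a00c881b00000002e00d2a920000000ea00f181c001e00d11e0880c300000008e009a088000000040000000000000000000000020008821db2096a94001f910da403524a000d80cdb20c0d5d0000000002039b42000a93e4910af202008f935fa89fdb4e007002423153167800000000202008a700400000000000000000000a000c839a0000000a000e30840000000c800e219b0000000c800e019b0000000a0002bb83000200000000000000000006a00e0a920000000000010000000000000000000100000040000000000000000800000000000000020000000000000000200000000000000002000000000000000020000000000000000400000000000000008000000000000000080000000000000000800000000000000004,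 0xc0000000000000008000000000000000300000000000000020000000000000000c000404000a891b080000000000000002000000010a0019038b93ba31692b2c00800000001a00190083800c9c9463d7021f82df94b8cf570000010000000000000000000000040000148281280bd8ca000a0d9db00e8adc0017955e0a07320300081086600ad41600006c0660013013000040000000000000088480200a54930000000a000c839a0000000000008000000615cd8805adc600189180200b9c9a0008000000000000000a919cb80bda9901fd82ced2273526001683004c0f6d0000000008e009a0880000000000000002000000002000000000149d80340ba7c400000000000f108200000c0040033b97000008022002b31e001087003c0850d2001e114d9805619f00000000040b0050000d80cd940d959e020000000000000000d8820682852f0d000000040041012b00700240713387d70080000000000000000000000003000000000006a00e0a9200000000000000110000000000000001000000000000080000001000000000000000000a2007181a000008040003a21100000400000000000000008000000000000000002003939e000000040000000000000000400000000000000004000000000000000040000000000000000800000000000000010000000000000000100000000000000001000000000000000008,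 0x8000000000a000e388400000000000004000010000000000400000000000000008048006c06400c981f03fd00d4bd2c503d02c402c5b028cca20090118c9c8f87de00d582ca3c955a470117913829088f54000001800000000000109180200b9c9a1014008000004400000284dcb806a281000c089c4a04789a001892036809964e0000000000000004cc00280a400bb81f30000b010808b35780000000000000004000000000000000001e89cca0044a0a200000000000000010000000000000000004009d900b924e021980038100b5de0016139194030ed700000002600d2a9208000004a003931e0000000220071301001e964da80d75050800000000000000040000000000000000000c048009a0040018898124082f840000000008000040001e114d940461d6001b820b360c9c0a01fe1127be2273230086934b380bdd520000000640099ba200700240b153b678004e00c10689e61400000000000100000000000c800e219b00006c0c4005380800004000000920040000000a000c039a00040000000000000000400000000000000020000000000000000800000000000000010000000000000000000000020200000006400b9b8100000000800000000000000008000000000000000040033b00000000000000110000000000020000000000000000200000000000000002000000000000000010]),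
   (160, [0xfc891f6edb7f3f755dd7fc108666b94154563b30004040a10629d38ac38ce194c1759e036e919a94011014201165eb7c33a2f423b39049ca8d3ee0240f8c0702c872c57316a884d84fcce17c457103950000000000000000000000002000000000000000039c0708af5dcf7f211c60711d3833c103a693150000000000000000000000000008000000000000088d0f445777ddbbb7d22c51b970efea9cb29240090d0f4450ff1b707e6ed891eab8a178ccb2f4b641c40401c7c23e079515bc9fddca6727a0df1d29402400000c3d05f6d5202ce8d90517f2ca72699a24811866a914d2e5e713bcd279d65df2767de74e400c0000a03bc72d750e1c9a7890a9abd5fb7be840000000000000000000000000000000000000000182000086c46e3960962c6acbfed61cc4047ccb1a1008468acd5c4c93692899dcb62a642638e35774899f6ef1f92f2b4f562c40561f4897673e2bbb41844401c6c0ba284891ccf74c4f5feff65ac93440042401e80dd7f364bb8c2f6c85d8644fe6d8b1000014000823d612041d9c38dc35c851f2e0c9d80b8d0744bdd38e338b0c70cad20591b01735321e2710102a091b6944a08514c3ea9f8a134e9b13a7004442a0073c15c6d405adf8c95026deae444b57004441a0a607d2eba10bb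162b1e08f75fbbf38bf37014dee39758310fb57da11ff31c1bdea5862b200000040a0bd971380898c6a6a8c1932317a1289370d1f4e338e162224a618434c6409b0e4de7532348d1f7e7353ac8593c22c82df4711a914a0dc4e3e8d1f66b9512dd367a388316c8a79948f65920e270010242c9cee82f5fdf86b8617ac220a3bb806268010222745d6a78174b00b97fccc7839dee1ff03c812a0c4bafc38d98967b52b8a36bf1f9352a0000000004330000000f30003006180030047a80703800000ca637dadb25858ea017b48a32b312e79080000000000000000000000000000000000000004000400054490f0edac80780717e0814a09f25d0000000008039348dd9344984b14e440764c228d00000000082f03c3799e8c8858b44c98a000981c0380000009652d9346dfc818134ff8484fff6e1400000000000bc72d742c1c9858b128805460d1e30200000000000000000000000000000000000000000000000c6f8635982b88601a3170c5884d424c00000000001c465cf119c898019538874088eb55000000000021d14f71b444f04b10a096f021e27d000000000d248782b59acc9843b526889388c61b00000000082bc389ed917050031180549fa446df00000000002110d4f9988c304394585027a01401000000000913112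e50a7c878d1051ad260edf57f00000000083296366986d86800847443630503e300000000010080c84492dcb0033178c44a680fd4118000000855051b658ec8605302c97b71ff53a800000000052e4436d4b494100a203c9205ac67ed100000000000000000000000000000000000000000000000093e90e8a5126450518000d6d1ed8d40000000000810970149b3b8104080620811ad817e00000000013255a33c1e50b851847cd2b0adddcc00000000011a166a549b58105384388c2349048700000000053e5013750f34a050108e845d2986780000000009089220689688609031c2cf0fc91317000000000d1ad1c880bbe8304aa42204e7ed297f00000000003c465c711888008195a887c0aceb5d000000000930c353918184305321b01934ad6be70000000005031058791920488200f6defecd1500000000000036410fc89a8860db2122406dadf82e000000000920518384a35830408054d94481308200000000001650b6f1b090a81231a08ae8086bec00000000052e93410d85dc98d8b4be86548dad8400000000053615a97487241852952c4776ecee87000000000420814825387060c315a49a6ca970cd00000000000000000000000000000000000000400000000000000000000000000000000000100000000000000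0000000000000000000000000080000000000000000000000000000000000000004000000000000000000000000000000000000000200000000000000000000000000000000000000010000000000000000000000000000000000000000800000000000001dd791c935b0500bb154866aac553600000000000000000000000000000000000020000000000000000000000000000000000000001000000000000000000000000000000000000000080000000000081a0543d0844c905b219c51f7258adc00000000091f8381ec8674e8c331b047da29c2690000000004248017389358b89211d695390cbb57000000000028c053a0be40681384420fcf885766000000000002d1a5512f5408c9919add1e258095000000000c2510365d0360080b957e954a00177c000000014000000000000205000001800018000300000001c106503ef4a391f71234b13964d24166000000000000000000000080000000900009031b000000000106503ef58790b01234b0916481e372000000000508146f10ac644012b5729168e81f2e000000000c36c2dba02e306081943ed21f81a169000000000c0691316122789882a41c4422c153de00000001000000000000000000000000000000000000000080000000000000000000000000000000000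0000040000000000000000000000000000000000000000106503ef58790f09234b0db648543f6000000000502020515247cb08134ca9ec94c333b0000000020000000000000000000000000000000000000000d0b55c82183bc18db302688aea418fc00000000092dc4b41c9fe8185a304a16ba8dbc36000004000000000000000000000000000000000000000000081586acf0894c280885f8d9be85eafc00000000090203be883f88f0d8017e9848cc4759000000000d021225fd218430d8111cd198293caf0000000002000000000000000000000000000000000000000100000000000000000000000000000000000000003d971381ad8c684a94185b3125a19500000000008000000000000000000000000000000000000000100000003300000004801180c0800f00000000082ec78a040b2cc85237d05a73e5bcc80000000000200000000000000000000000000000000000000010000000000000000000000000000000000000002886c7783de86892b04cc09484910300000000093f8381ada230e8c331b2457840c0ba00000000003c15be7014c0c0c2a53a815be51daa00000000052212c7d594fca81b807cda13e937cf0000000008181240592ec40883b5f0c38fc9446d00000000091e12ba0d9e7cf882a4c056306d3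696000000000000000002000000000000000000000000000000000000000100000000000000000000000000000000000000008000000000000000000000000000000000000000400000000000000000000000000000000000000020000000000000000000000000000000000000001000000000000000000000000000000400000000000000000000000000000000000000000000000004000000000000000000000000000000000000000200000000000000000000000000000000000000010000000000000000000000000000000040000000000000000000000000000000000000000000400000000000000000000000000000000000000020000000000000000000000000000000000000001000000000000000000000000000000000000000800000000000000000000000000000000000000004000000000000000000000000000000000000000000000000000000000000100000000000000000000000000000000000000008000000000000000000000000000000000000000400000000000000000000040000000000000000000000000000000000000000000000010000000000000000000000000000000000000000800000000000000000000000000000000000000040000000000000000000000000000000000000002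00000000000000000000000000000000000000010000000000000000000000000000000000000000800000000000000000000000000000000008000000000000000000000000000000000000000000002000000000000000000000000000000000000000100000000000000000000000000000000000000008000000000000000000000000000000000000200000000000000000000000000000000000000000001000000000000000000000000000000000000000080000000000000000000000000000000000000004000000000000000000000000000000000000002000000000000000000000000000000000000000000000100000000000000000000000000000000000002000000000000000000000000000000000000000100000000000000000000000000000000000000008000000000000000000000000000000000000000200000000000000000000000000000000000000002, 0x82316eaffe616754ff1f6c11dea1060c93c3450c004010a14ed9a1956ad13fca0ab17e9c0523cffb09b5700ad05166e7fa3883296f7ad3adaf4062c301a7607699aebbfe5c364f78be2fbcdbf0076c0d14296f5cba743a4a487e3b1b2da81b52b726b9e6043b7b203ae8aa98d0fa33b12e8b2f7be76b3f1c0a8d1f52ddd68af606c27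0ba4e1de6e66794c4fd3c901c641bdd4b8f96f9481ad50f71eace75ccb6310f1f2cea71311814210cb1e11ab742f9527d8d0040dab74061d69f276bfc7d8c0fe13c2d2d54c70024500003db957382cfecc8849008970872d0313f0d1f40dfb237a25237e08026206f85e331179a0000400000000000000000000000000000000000000000000000000000000200000000000000000000000000000000000000000000000000000200002e80042ec89c644b0fa608123ba9681d466a4be80b09ceb32909a3b9b4573a4a939b93238d31c6bc583d77b9d36a2e5999b102107845fd8a8b7aee29585f34ffda5079b15bd9c058705fa8b79c22b49b19bb77181a0aaaed73d9136afb08f18f1bdf71cf27121c2a0d2c6aaeb88dc813f60a909302288d2f1a256810b82875108b7ffb91ea36541df65864d5000001500d7240d81cbf2040d020d685794c6f1e001c520006c244d523f60e22e9e1568df6abdb62081003a2b55b65aa755d6b18caf15db9471297c7001000000fa7d0069f62dc60ca6d0e4d447a460300000000000000000000000100000000000000001a1c030293df6c2e5c4cb8f900953452a0d9640c08101042b84a9c50deb06cc2c7b2e2cade6b7c373100102ab7cbb32725fa80010768d314662c36362d010c2ef69b632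300a7b0db9a2abbc631fdb15c226572c688b8ff657070bb41633cabbd8c20501619277c104ae3de267e1cf7205bf1e2c8e51289b82239733094b04c307205833b41b815f8b2558c4c19296f5645129d4c7a001330e56b5c8adca11ce00d3b7b2a128b5eb1ce2b5ff9769db8d42ea227c0000000000533c636fd814cd80b255c1d6a41a1a60000000005090579a99c58780196220749811ec232010c6e242535358cb418b0fca71fdf422914de000000000000048001240000000000000840000023a973208dee6d015a9017635f2e05e1c3f3228e0000000000261194a5982c384092c0003de1c06d00000000083fc5dd1c8df89002a00841da4c092e00000000016b83fce92c14f000b2120b5fec5a220000000009120680042cb8e89834409a8c61c75d00000000093b0381ec8230e8c314b0d53b49c88b000000000116d5c5212d2c888a068cc47440bff6000000000439576345a00470db81581a9925047000000000003046854d03c8608135cc5e2781da4c000000000d3f579cc50300c84390e25d2601aef51b00084ed5913d758e97584a34670fb157e9375b000000000901d1da6d9c28d8d0a6109cf06c50cb1e1f0b0cc62b0a9f8844004a0b86273ada09ebf8000000000c4bd7714cb6ac4843a0c058da882287000000000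42057ce642844b040b62ec9d025edfd0000000004598231208a28c083b0b01a5e881c16000000000d7640481cbb2058d00566853005433a00000000056cc6f3fc372c10c2a0de8869c47b400000000001360476b0b120d809310e44f380739200000000041bd029d521f4a8998488c0878955b0000000000d1e96f5011028e0d227ae003a2d38aa00000000051014304d1cc8b89920640b58486c1f000000000115875bec231cf84025ec9ad7cd3b5c00000000040a906bf59ec0e01a30b2cc8bcd316a000000000c328099093d586098143e0b26ec678800000000016090f0a480c00043b27083896918fb00000000095296e7581f78501323ce99e1e4b25c00000000081513eead36c830c931da1a8525d968000000000008d766f5184088d231da0ca8e10e330000000005161612cc21c0988315f8167984bea20100000000000000000000000000000000000000000000000c3142dd6098f4181a94c24f9f80a73400000000057b0007dc95585803b2e643a84977060400000000000000000000000000000000000000000000000c3f54bf6430ec104914ead27a2901ba00000000006f42fe9c255408002790c8dfe8ce23000000000c575232212a2c08d014020e3dc5ff07000000000038465cf11c48d801941887a0c16506000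00000081707f305828858c33208559409cd6a000000000c3596cc489b147009150a162d812047000000000501d20210bafca808a1b81ab5c06919000000000126503ef4a79848d235200bc5854b8f000000000817d11e2d221c30db24f6921be9226b00000000092a5226a09d60c88911825e900d0bae00000000003cd1530d3de4f05090de8bed24e71700000000091c530fb5933048530054d93a4007150040000000000000000000000000000000000000000900000000000000000018280000000000800000000000051b0317e82d0088c2b7a6cbe449b62c0000000000000000000000580801b00000008c00000000000c0c01807596f8984a25e6cc0668cded000000000507d48ba138b0f001840e56636450a600000000051a550a650354405000a84005e022060000800000000000000000000000000000000000000f03400000000000000018282c20000000840000100000000000000000000000000000000000000000000000000000000000000000100000000000000000000d2a51be80116828583556c5c2e00eca00010000000000000000000000000000000000000000000000000000000000000000000000000008000000000914025ffc93e0489a9140dae2693c830000080000000000000000000000000000000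00000000000055457dce5acc4489316a499fb4d8e7500000000093f072da181406802a10ecc7b256abf00000000085e466ba9acf46881a78e5b72a5c27800000004000000000000000000000000000000000000000000000000000000000000000000080000000000000d27d0869d229c804a000e4c6dc5dcd500000010000000000000000000000000000000000000000000000000000000000000000000010000000000000428919dc99cb05010107acb3864ddbd0000000001100080011340e0c005c013a8e42ac100000000001587a1dd82dc6801053240376d464900000000043581bb5c205068db05105df1c88ff5000000000903c55d5d9eb8b042808c5290a589a1000000000925d51701abd82041811409838cbda000000000082b46901509c0e80805cccb03e9f9ae00000000042a07b87888e4c0d89412d9a540e96400000000013ec475bd31206899010456bd08eb26000000000000200000000000000000000000000000000000002b945280bbdc580a258855840928f20000000000769070acb7c0f08393709240e432da0000000010000000000000000000000000000000000000000944872381aa6ca88aa3581274c97a9e000000000552d609ed25cc688827861a0e8cb3a200000000046416e3911c80984b90648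97848fee50000000000040000000000000000000000000000000000000040000000000000000000000000000000000000000800000000000000000000000000000000000000008000000000000000000000000000000000000000000800000000000000000000000000000000000001000000000000000000000000000000000000000010000000000000000000000000000000000000000100000000000000000000000000000000000000000800000000000000000000000000000000000000000040000000000000000000000000000000000000080000000000000000000000000000000000000000800000000000000000000000000000000000000008000000000000000000000000000000000000000000000000000010000000000000000000000000002000000000000000000000000000000000000000080000000000000000000000000000000000000000040000000000000000000000000000000000000040000000000000000000000000000000000000000800000000000000000000000000000000000000010000000000000000000000000000000000000000002000000000000000000000000000000000000002000000000000000000000000000000000000000040000000000000000000000000000000000000000400000000000000000000000000000000000000000020000000000000000000000000000000000000040000000000000000000000000000000000000000400000000000000000000000000000000000000004000000000000000000000000000000000000000020000000000000000000000000000000000000000000100000000000000000000000000000000000004000000000000000000000000000000000000000040000000000000000000000000000000000000000400000000000000000000000000000000000000001,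 0x4064303f0cd28664f3fbd68cc4506f979aa7c04b0000000140000000000002050000018000180003280c036ee3301480022300cb905981f911c61f96180c032e662814080323042aa8248d83603f100d004040a10629d38ac38ce194c1759e036e919a944c0c732e60de451eb85d8c77af24c0d44596fa4a0a000040433d9713823d8c696aec1800b0fc9a91490c532e6dd5911acc71b5d7313104d7fc076763088c032eea0b50815315f878b9a4fb7dc9156bb3000c40000507d48ba138b3e033840e566370d0be0000000000000000000000000000000000020000001c520023f813cd03c0424a80f4015b3c132a9e000000000000000000000000000000000010000000000000000000000000020000000000000000008826f3008a9395d3f1ee611b6e881a76af59bfd508217040a7e8c05bc1e8dff34dccad3392611ca60024723ec9bfd5cdef532743dcd8e8f232b02dce08687040a7e8c05bc1e8dceb45ccad3392719ca6804c900027b212c7c7c1ffa8bfc8f71a18f59a96004c70000c1ec19aa01a03e87f246e1e1b7d5095882c79f108c6d79dfc5629c72cf97ac6c9a5142d40042401e80dd7f364bb8c2f6c85d8644fe6d8b100000000000000000000000100000000000000000000000000000000000000040000000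0000000000000000e00000000000000180000000000000c008824f3408aa8549e84d37fc6262db2fd62686c38082870ee48f100e32cef5ca05d9868d4d1db1d598000000000000000000000000000000000000000082873084db085e62cd987ba1f20b680339dcd56086ce3148c4983751a155cf98cbd3e6e2e27164c082873028bc4d05c05c8cf01ce54982e2ff6111a0000000002000000000000000000000000000000402400000c3d05f6d5202ce8d90517f2ca72699a000c0301e200000001240392901001a8004612884000000000000000000000000000000000000000004c338f5fd2c3ea3a71455baf614406c40225da0000000009695461b13a38380980081f624901120000000008039348dd9344984b14e440764c228d004441a0a607d2eba10bb162b1e08f75fbbf38bf000000000000000000000000000000800000000000000040a0bd971380898c6a6a8c1932317a128900000000040a0548dc9624805b15ecce7d25092500000000097002114588444003957298ee247aa80000000000100000003300000004801180c0800f000000000120437ff496c0d042a1a0554064418d00000000087c072e348e949859019a4679e50521000000000c20c6775882185889b50e564921d9f8000000000825468e0d2c58709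235c09a37c8337e000000000524d47750046c109184c6c37860d9d6000000000913112e50a7c878d1051ad260edf57f004c138f4ed9b1956ad13cc33ae47e9c153673e3000000000d15566940a6ecb80b94b6043b4cb353000c032e0036483ef490903ba265301a741bfdeb00000000000d81f380898ce84aa0989181619a5f000000000d131457b5217cc899900615efc468a600000000012280cccc85bc48c1105204f12c74b200000000003644fef49090b01205301a740d79f300000000000004000000000000000000000000000000000000000000000000000000000000000040000000000400d02bb1be500819a44695a580be5f0000000001539064898bc43088157217cbede89e00000000014e17d6250e14a84b01e289e70ce23700000000013ac63358b76c701981ba433de85a7300000000052894e9790060a802204c485bcdd00a0000000005031058791920488200f6defecd150000000000052e4436d4b494100a203c9205ac67ed000000000810970149b3b8104080620811ad817e0000000009089220689688609031c2cf0fc9131700000000040b86f8e9abd8301a11049649248d4a00000000053615a97487241852952c4776ecee87004812a04cd9819568513e5b2ab17e0e343f5cf00000000001300000010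7004000218083018008be0000000001139672e09edc881a31085d24c1a925000000004330000000f30003006180030047a8070000000001300000019300008021808301c4a8ba000000000115c64c15894c681825b84cc1ccc2c800000000052d90f7ac29e4b899a54440c829eacc00000000000d971381388c684a959891b16da20e0000000000000000002000000000000000000000000000000000000000000000000000000000002000000000082cc3d0299220484114e0d9ae4540d700000000093b50815136d8f009b57a84c8c85420000000000c1e44c6e48054300800440f8a8909e700000000012c54ac6c9ec4280a25b207be65ad60000000000036c22eec966c9082048848522ddbed000000000028c053a0be40681384420fcf885766000000000000000000000000200000000000000000080000000000000000000000000000000000000000000000000000000000000000000000002000000000000000000000000000002000000000000000000000043a439820953c8859205644d241ea330000000000000000000000000000000000000010000000000447d53bf49548b84090d6cd8685216e00000000000000000000000000400000000000000020000000000000000000000000000000000000000c030000000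00000000395b05000000015b018000000000000000000000000000000000000100000000000081d879ebd14d0e803155892a76daf39000400000000000000000000000000000000000000000000000000000000000000000000000000080000000005720584dc96d850d3009e4578ed9c250000200000000000000000000000000000000000000000000c6b1095dc9068408ba0fe0d00a97c0a000000000d0f5015b82fc83010913c51ec24907900000000081586acf0894c280885f8d9be85eafc0000010000000000000000000000000000000000000000000000000000000000000000000008000000000000000000000000008000000000000000000000004000000000000000000000000000000000000000000956544fb00fd4f001b5c2ca92a8985e000000000d4346aa043858888836bc0245e96cc100000000096d9502c532c82849106a415f814bb20000000000000000000000000004000000000000000000000c3c860af0ad38801a113412034d0e4c00000000085845bdec1558c0ca810ac9a1a0daec00000000000e97b2440c8828d304300b21a1c0a60000000005365669b82ec44091a10e0c0da8aba400000000040b17f6a5143ce84b14a204c8cd889100000000052212c7d594fca81b807cda13e937cf0000000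1c106503ef4a391f71234b13964d24166000000000106503ef58790b01234b0916481e372000000000c36c2dba02e306081943ed21f81a1690000000080000000000000000000000000000000000000000106503ef58790f09234b0db648543f6000000000d0b55c82183bc18db302688aea418fc000000000800000000000000000000000000000000000000003d971381ad8c684a94185b3125a19500000000000000000000000000000010000000000000000000000000000000000000000000000002000000000001000000000000000000000000000000000000000010000000000000000000000000000000000000000200000000000000000000000000000000000000002000000000000000000000000000000000000000020000000000000000000000000000000000000000100000000000000000000000000000000000000000800000000000000000000000000000000000000010000000000000000000000000000000000000000100000000000000000000000000000000000000001000000000000000000000000000000000000000010000000000000000000000000000000000000000400000000000000000000000000000000000000010000000000000000000000000000000000000000200000000000000000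0000000000000000000000080000000000000000000000000000000000000001000000000000000000000000000000000000000020000000000000000000000000000000000000000100000000000000000000000000000000000000000000000010000000000000000000000000000000000000000000100000000000000000000000000000800000000000000000000000000000000000000004000000000000000000000000000000000000000080000000000000000000000000000000000000000800000000000000000000000000000000000000008000000000000000000000000000000000000000040000000000000000000000000000000000000000400000000000000000000000000000000000000008000000000000000000000000000000000000000080000000000000000000000000000000000000000800000000000000000000000000000000000000004, 0xc066d017cfc895a457f9913585237fbb6f3f45e289a6f3014172af43d1dea19c3ed3fa6e5015cb512180100603ea865aa828f8e8d67b681d28e46668118000000855051b658ec8605302c97b71ff53a8084c40a1442f83b4348b7165f3212e008a8d516944000006843383654001985d4a924e4908f628110380000009652d9346dfc818134ff84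84fff6e144100500087e891a56bf4dedd1aa5cfb05115ed3601000000000000000000000000000000000000000024500003db957382cfecc8849008970872d0310002000000000000000000000000000000000000001c520006c244d523f60e22e9e1568df6abdb62000e03400000000000000000002d0000000008008826f3008a9395d3f1ee611b6e881a76af59bfd500000000000000000000010000000000000000000009000000000000000000182800000000008000002a12160bae01203f487c60751ad044125a6b898868f0408c4fd42bd2193c33ddb11cb7c459b75a004c70000c1ec19aa01a03e87f246e1e1b7d5095004c00000c1891a454b993186930de0fffbd9b6400089ab744600034e7662eed3d8eaf61de98769741844401c6c0ba284891ccf74c4f5feff65ac93400000000000000000000000000080000000000008824f3408aa8549e84d37fc6262db2fd62686c38000e13600aeac45e30b3f4d86dd7e041faffe3d5000c03000000000000000395b05000000015b018000000800000000000000000000000000000000000008000000000000000000000000000000000000000000e00000000000000180000000000000c0000449354068b0317eb7e008ad0f016d9651f4e3b0000000400000000000000000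000000000000000000e034040002880024400902040008039d2b10140000000000000000000000000000000000000000000000100000000000000000000000000000000400c0000a03bc72d750e1c9a7890a9abd5fb7be8004040a7557507cadef4c9cac301a61525c1930400000000001756b1e59380784003b8c9b7252c21000000000c6f8635982b88601a3170c5884d424c004442a0073c15c6d405adf8c95026deae444b57000000000135c02c142b4cf888243856d80cfbc9000000000200000000000000000000000000000000000000016b83fce92c14f000b2120b5fec5a22000000000106503ef58790b01234b0916481e3720000000000000000000000000000000800000000000000000033120009a664a84a05d0456b80e3b5000000000522467941920cc80bb576880e680978000000000552d609ed25cc688827861a0e8cb3a2000000000c03d3b4e59218085286e618a5c8c22700000000003c1151edb0b0f0cb14b0594e6d792400000000002110d4f9988c304394585027a01401004010a14ed9a1956ad13fca0ab17e9c0523cffb00000000003644fef49090b01205301a740d79f3000000000000200000000000000000000000000000000000000000000000000000000000000000400000000000000020000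00000000000000000000000000000056cc6f3fc372c10c2a0de8869c47b4000000000003006a0011700c08004800ba08402160000000000449658ada480c0c397509bed04b475000000000d5796af1885fc585a36d68e32cdec8f00000000005ed5a04820d0b893344889f7e920be00000000052b0757e90f60204aa466c8e8008675000000000166c48e5932709059b5b098e00c0de400000000043481a92c3ee4008b35961a6eccb23900000000092bc21d1c88e8905a06d89e0781c454000000000930c353918184305321b01934ad6be70000000008248682e1893c400204385af2ada9c300000000093e90e8a5126450518000d6d1ed8d4000000000053e5013750f34a050108e845d29867800000000085182eca4b42040d382700ffc41227100000000052e93410d85dc98d8b4be86548dad84004812a00ed9819568d13d5a2af17e1c34ba7cf8000000000000000001200080000000000189003900000000000d971381388c684a959891b16da20e00000000000000000200000000000000000000000000000000000000000000000000000000000020000000000000000000010000000000000000000000000000081707f305828858c33208559409cd6a00000000000bc72d742c1c9858b128805460d1e3000000000021d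14f71a444f04b14208f70e0fbdc000000000021d14f71b444f04b10a096f021e27d000000000539c0c9c59608d81211a6cb87e1a41a00000000010bc3ad750e7cf8c88168005c4cea24000000000844d0dc341b8c88c80798470ee89e1700000000057d01fbc82f3008028346cf77a9737e000000000911103000278808d014d09ec4e01b060000000004248017389358b89211d695390cbb570000000000000000000000000000000000020000002000000000000000000000000000000000000000000000000000000000000000000000000000100000000000000000000000100000000000000000000000000d27d0869d229c804a000e4c6dc5dcd500000000000000000000000000010000000000000000000000000000000000000000200000000000000e03400000288002440091204001b039c1b31100040000000000000000000000000000000000000000000000000000000000040000000000000000000000000000000000000000100000000000000000000000000000000000000000004000000000000008000000000000000000000000000000000000000000000956544fb00fd4f001b5c2ca92a8985e000000000000000000000000000000000000040000004000000000000000000000000000000000000000000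0055994b7110478d8da3596d748ad43530000000000189279e1a940008305221ba48c400200000000082ec78a040b2cc85237d05a73e5bcc8000002000000000000000000000000000000000000000000003bc14d753d1c08d890288bcd246bf100000000096d9502c532c82849106a415f814bb20000000000000000000000000040000000000000000000000000000000000000000000000000000400000000001587a1dd82dc6801053240376d464900000000000000000000004000000000000000000000000000000000000000000000000000008000000000000c29d167fd148cb09a911e9050c9d6a70000000000000000000000580801b00000008c00000000000000000000000000080000000000000000000000085f449fa02cd8a00ba008c27928fa1200000000050551d8082078b05104b292c3217a0a00000000003c15be7014c0c0c2a53a815be51daa0000000140000000000002050000018000180003000000000000000000000080000000900009031b00000000003d971381ad8c684a94185b3125a19500000000000000000000000000000100000000000000000000000000000000000000000000000002000000000000000000000000000000008000000000000000004000000000000000000000000000000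0000000010000000000000000000000000000000000000000100000003300000004801180c0800f00000000001000000000000000000000000000000000000000020000000000000000000000000000000000000000048001240000000000000840000000000000000004000000000000000000000000000000000000000040000000000000000000000000000000000000000400000000000000000000000000000000000000002000000000000000000000000000000000000000010000000000000000000000000000000000000000200000000000000000000000000000000000000002000000000000000000000000000000000000000020000000000000000000000000000000000000000200000000000000000000000000000000000000008000000000000000000000000000000000000000000010000000000000000000000000000000000000000000000010000000000000000000000000000000000000000000010000000000000000000000000000000000000800000000000000000000000000000200000000000000000000000000000000000000200000000000000000000000000000000000000004000000000000000000000000000000000000000080000000000000000000000000000000000000001000000000000000000000000000000000000000008000000000000000000000000000000000000000100000000000000000000000000000000000000001000000000000000000000000000000000000000010000000000000000000000000000000000000000080000000000000000000000000000000000000000800000000000000000000000000000000000000010000000000000000000000000000000000000000100000000000000000000000000000000000000001000000000000000000000000000000000000000008,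 0x8010e0e23a871e20264dc72069dbe2ec2ed85be000000000097002114588444003957298ee247aa8537c3a7b7d1f3a8595d200f1788e2d1a239c15544094d7769c0028bdbb18238ae6de2e7acf70795a00000000013000000107004000218083018008be0b090c159e6c763a191e7bb74a6f4f4f153bf2fe41c14c664f1a3e579ca179826a2587a2c61f353b00000000000000000000000000000000002000004e3cbc05e5b71655dd1ec41ec6611db7e4012a4600000000051b0317e82d0088c2b7a6cbe449b62c8824f3408aa8549e84d37fc6262db2fd62686c380000000000000000000000200000000000000000000000000000000000000000000080000000000000000000096d9502c532c82849106a415f814bb2086ce31e4e7a03f4c7915cfa1d59ce0db4c9eb7f0000000000000000000000580801b00000008c00000000000000000000000000000000000000400000000000001587a1dd82dc6801053240376d4649800000000000000000000000000000000000000000703042fd9372f904bfc964fe39a5b449382b530b09ceb32909a3b9b4573a4a939b93238d31c6bc74899f6ef1f92f2b4f562c40561f4897673e2bbb00000000003bc14d753d1c08d890288bcd246bf1000000000956544fb00fd4f001b5c2c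a92a8985e0000000000000000000000000000000000001000082870ee48f100e32cef5ca05d9868d4d1db1d590000000000000000000000000020000000000000081003a2b55b65aa755d6b18caf15db9471297c70008000000000000000000000000000000000000000000000000000000000000000000000000040000090000000000000000001828000000000080000000000000000000000000000000000000000100000c0301e200000001240392901001a8004612880000000000000000000000000000008000000000000000000106503ef58790b01234b0916481e372226572c688b8ff657070bb41633cabbd8c205016000000061bf2e8ce59341068d183c09c1c0cf5bd04000400054490f0edac80780717e0814a09f25d00000000000000000000000000000000000000800000000000100000003300000004801180c0800f37014dee39758310fb57da11ff31c1bdea5862b223a973208dee6d015a9017635f2e05e1c3f3228e3f0d1f60b2b8461cd22688a97e51395801c039403e8d1f66b9512dd367a388316c8a79948f65920e00000000083fc5dd1c8df89002a00841da4c092e32010c6e242535358cb418b0fca71fdf422914de32011c6e2e82a056658d30d0ea3627877516b624000000000436454b58228840c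3039e5f866117b400000000093b0381ec8230e8c314b0d53b49c88b00000000082bc389ed917050031180549fa446df0000000000000000000000000000000000000040000c032e0036483ef490903ba265301a741bfdeb218c915788be54e6dc00551f3e6f00b3244eaf8021801006c0ecd2e45c8b681ac44fd8f64c2a2605080c032ee306723ef6b390fb2261b1e345dffe7d1e1f0b0cc62b0a9f8844004a0b86273ada09ebf82180100603ea865aa828f8e8d67b681d28e46668200000000000000000000000000000000000000000000000007490d8ad9780c0c393d0904dc4367a000000000d7640481cbb2058d00566853005433a1b00084ed5913d758e97584a34670fb157e9375b1b0e0b0ed1dcd6203f8e48ea0736d85167be0fd200000000010c46deb12fc8e041910896ea08cf0f000000000d1e96f5011028e0d227ae003a2d38aa00000000003c465c711888008195a887c0aceb5d118000000855051b658ec8605302c97b71ff53a8100000000000000000000000000000000000000000000000011a166a549b58105384388c2349048700000000016090f0a480c00043b27083896918fb00000000001650b6f1b090a81231a08ae8086bec00000000000000000000000000000000000000200000000000000000002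000000000000000000000000000004330000000f30003006180030047a80703c812a0c4bafc38d98967b52b8a36bf1f9352a003800000ca637dadb25858ea017b48a32b312e79080000000000000000000000000000000000000004000000000000000000000000000000000000000380000009652d9346dfc818134ff8484fff6e14020000000000000000000000000000000000000000000000001c465cf119c898019538874088eb55000000000038465cf11c48d801941887a0c1650601000000000000000000000000000000000000000080000000000000000000000000000000000000000000000979434fb4a170c01293c05d36ec3dc8000000000126503ef4a79848d235200bc5854b8f00000000091f8381ec8674e8c331b047da29c26900000000000000000000008000000000000000000000000000000000000000008000000000000000000e03400000288002440091204001b039c1b31100000000000000000000000000000000000080000000000000000000000000004000000000000000000e03400000000000000000002d000000000800000f03400000000000000018282c2000000084000000000000000000000000000000000000000008000c03000000000000000395b05000000015b0180000000000000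000000000000000000000080000000200400000288002440082101001b039d20301001000000000000000000000000000000000000000000000000000000000004000000000000000000002000000000000000000000000000000000000000100000000000000000000000000000000000000008000000000000000000000000000000000000000100000000000000000000000000000000000000008000000000000000000000000000000000000000400000000000000000000000000000000000000000000000000000000000000000000000004000000000000000000000000000400000000000000000040000000000000000000000000000000000000008000000000000000000000000000000000000000200000000000000000000000000000000000000010000000000000000000000000000000000000000e00000000000000180000000000000c0000000008000000000000000000000000000000000000000001100080011340e0c005c013a8e42ac100000004000000000000000000000000000000000000000200000000000000000000000000000000000000000447d53bf49548b84090d6cd8685216e000000000903c55d5d9eb8b042808c5290a589a100000000093f8381ada230e8c331b2457840c0ba0000000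000000000000000000000000000000002000000000000000000000000000000100000000000000000800000000000000000000000000000000000000100000000000000000000000000000000000000004000000000000000000000000000000000000000200000000000000000000000000000000000000010000000000000000000000000000000000000000200000000000000000000000000000000000000008000000000000000000000000000000000000000200000000000000000000000000000000000000004000000000000000000000000000000000000000020000000000000000000000000000000000000000800000000000000000000000000000000000000008000000000000000000000000000000000000000080000000000000000000000000000000000000000400000000000000000000000000000000000000002000000000000000000000000000000000000000040000000000000000000000000000000000000000400000000000000000000000000000000000000004000000000000000000000000000000000000000000000000000000000010000000000000000000000000000000000010000000000000000000000000002000000000000000000000000000000000000000400000000000000000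0000000000000000000000100000000000000000000000000000000000000002000000000000000000000000000000000000000040000000000000000000000000000000000000000400000000000000000000000000000000000000008000000000000000000000000000000000000000100000000000000000000000000000000000000002000000000000000000000000000000000000000010000000000000000000000000000000000000000200000000000000000000000000000000000000002000000000000000000000000000000000000000020000000000000000000000000000000000000000100000000000000000000000000000000000000001000000000000000000000000000000000000000020000000000000000000000000000000000000000200000000000000000000000000000000000000002000000000000000000000000000000000000000010]),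
   (198, [0xfdf8e15c5e6d6cf59bbc1646fa6fbe50c8b612cf890f04eb80cd8d08ae0ad4a10d9fc65a2edce036770c247cca4b0a6e6c5811dbe26f48952f72e40ee4eabed6a700248bfbfeefcffe32b6c2d450f94cfd3c18d955d3e1f0e566fc451fd1a818765482ace6e91d7e54ae3bbc75d0e98c16733f7c569fed87b6b98ee6c63ea114647cbda02410cf0860a8fe592a88a4c4017b2d13e9ee4579d350bb96cda4e1eee7d44116a263d1f24e0b14c25420b31a795b63bc878f7c1f6a5aa71bad449347be428a9e8e68fb4fa59e7cf911f708c67ae1959ad7655f7d5073aa4eda619e091f03c821e72da57c63a9f4223a259fa15f6358bd5527734fbe2fa529ae7a5cc84805e3453e4bbfb2f48d5d9dddcf9daca7ba02a731ea217c5ae20d6fe052d2b4a716cc46e22060f0b68400297f6a3ebf877d99b6d568e89dd94ba9b2cf1a401d9f8c0000000000000000000000000000000000000000000004000b8759f3f8d2aa5501b677019624cfe05e23fc543d1bcdf528492373fa0c46c771fddca66bf82647f8ae201d89083b7ea8ccaf71486e69cf90bdaf7c360e6048fba6a72a6a667ffda01a4f603d0d8e2503709d2a7c1cb61b006c080cc28448c636db1783d1493fced4c225b76f505d82990a8f8a9aa6723868d8b87a7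b1cd760ca3430d03e88efe861f6d4bacf9bd3bab42b8d4bb1a973f50373996e6f573f0ae67a78f96ff3912bf1fc03e6e80c5a885dce61c6560db5b819a62aee41eb67f47d9b14e09b6103773b24eaf09880eabc5e72045e074003183bf666affe2b7c974c3c0d7dc0a4bb9df4813ce78547240827b20f83d5266a22c49e389c43de5e837f78e1aa8504c1e6aa699d5357b7598414c71a9dea9befa2e4d1efe4b512db867986d9522598ffbd20452b42c015270a16cb6664d4815e715aea0821ba5395435b86bdec67a189e53d64c6b355d2e14fff34059d51f7bd3d08ecb0f01996ba88f71c845ffe337408aadcf64299d5bd945e809119caed8c6af0b730810d1ef9ca880a2427a33e965ef3367692a50bfb7b6242b83e640ea79057bafc2726e30f8e68946844424cf5dd28660022dd7120d945a875f47282ecbbaa11b68b10f8f9803ee8e0ba728b2a9fe85aa7eb9b4fd017cd18c65f4404880000000100000000000000000000000000000400000000000ba293f4320a992e97d80ff1c3057926a2f4ac735edfa2ca4de95d187820afa491885562f6217013719fe42ced82787dbdb84279b3964844ead4d89562711f5cf69fe8edba3c5c3591344c47a1cc02c253ceaf44d90c8a686e86e6f1138ea718781f1b0957f39b1783028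1aff44ad2af13833614d1495c8d4dae09ce945901ebb46ec3ffc09ccde327a76d6de3fbb1d78887c785df18563bf9015b223d0ea624512a155433b0e71902655dec9101273bd82e361cf4a1cc12e00956a0d000e27fc09ce5193d646a0ffc23e164dfa31970162b3134bac5d0fafadb80994217771d8eac34d35f881f500291109566a3dea42677d539f1c2b8cb66ac0e4d2fab49fd868c2c22ddf7c85125d46293df6f22a21fe24fd22a1aebc7b791561bcdcba53422918bad037162c5787a59a8176af4b6f1a1bace542f4d8506ed9e87cdcc54b488459cc78ba56910507d2ec679e735213d6e705deebebf6380c0cc0000000000008000000000000000000000000010000000000023b99d09542645a64517b63ac88624d0da122f59015a3fe737d85c6d2ad51076ad396e4aa90b3a0a00a1212ab9a58867d7a64fc742e437f7db2da24145c59022679c9997aae3645e4b9b514faea3388bf37bcbbc2b82b39bdebef7eec88fba327d03e40000000000000000000000000000000000000000000000400000000000000020000000000000c0008000000060006600cee609acaacf843112de3fae228eafa0e6f7ca25250c432283e60000000000000080000000000009800200000004c0044c08cd77e187026ea87cfc48353c42e0a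32046198ecb54fcfe2097c5def271ca92175da25a810167956699a3144128c9ec929dcd62077c7f6a39597f298bd2411dc344d817720a78fe058a6ea79dff63d6661e29dba822d5a624223e4ae9e4ed82a0875b4454be880e1446b0ff3d72f3ab9df0bfa4c946981f308b5073cb4f9db0419b527b5d283fa1735967ec3e87b693772a7f0842e639483c452d175aaba2f26e834d1ccf090072e524b47d54dc8c61fdb6b28b37709b7b04afbfacc25077ae41a3e79efd1ea3ea14cd55e4d7994272cd19ca55d8b65264deaa8fe4b52f281a7c5ded36ba5bada344af3f79a82940b8f59cb26402e3210287bf4f5198da9831cac7a5bf3b693e0dd368bb1fff0aa91b1d96ee3c641ef2793c4fbf735ffc81e7aee032c53b3108f3676a0e8645b32a8b2c66d0d2615feba2d1115a8b6761341c0f5d1d54dce8c2bbc513cd966f182a5bdc7354ecc66338a54af80c2fcfb60f62eee238308c4b09304e6c61b5919be2df153634caa6fbb3d282194aced9b03e309975e7f06a380c5c71822f6e1242c1bb042516500c0e08485221e7e5a730a175b4bb2454b0dff13587d9530ba1ebe18ddb5d842430bca6111138312b0c44ed5a154cc4c5ef56fdad80c03ca86912ef26c216fe7fee897b37b3cbdcf5010763be6d978cefae0b22081ad86615d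69bf0fa403a15452867acbf1ed8a690f29fdfd3e3359a86faa608e5de287f6d0716d34edb66ca2ca9cd5125f307810bb39990e666584fbd548b6bd3b0986bb6b742a03f5fb0a20adab15834d2a4c8eb1042168c01b8a21af8db1e4fd8e1b3f2a0f033a7faeb1c4c995b32b9db8c4157eee9351b9b791142485fa6407ecc7299994ec251763efe75bcaf4d655f9a86b6ee1412691a9e2caf68fffe48b9c4bcc1377a47d7f8527d7803d1eac3187edf49485e83bbcc002d0bf0fe6b7c7eb62d950b136894706ea55764baeda3f7ba05b7b66b05ddfc038ce8f19a6f07a67b35a4bab78e2c9c4400a93c8f38762c70f871645e8a8fa647cce9ed28dd9c4b406a557b019a374de5283b7d2b85d50572bf429aa94d2c189b57f3d37965d4d4f68cd9819cf40dd16eae934c582db7eba6421b603c60e436e4e10451a51323da7a711358f657da345883be8c2f0e7bf0cf36e808fdd3a865bbc7db6cfc2f60e088e741ed2158e6d4014071ae2d6995767963a7ebb0a4a2e7a6a5b90501001e39d1dbd9c265ee92dd9b4f7eab6e66c5eb2f2f8b9e4286c1b0bec8ab257f46b25da7c2f346838adf3e5f6043223d15302fc664770d9cc841049b807d63d6fe1c36356154d96ac58fd189e5ff9ee69f2d7e0d289450724e77faabd192aff7666b01e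4cb53b226a7bc5e013f0f2240e8b2f16f4386ed956566733dd5fe9730bed5291e2069807aa3042c62f8e4cc098c1d5749fc8b589b8e312bb6b9e6138a74ed911781250717a6e959bdd259c18bc741015fb94896105946c29c258b3f10ccd3ca3bb4d5606bcf290e0e255e5e584ef16cd499b3612eab291c68a5f796e092452f60dc7df5f0beff54a225dbcaa557a68591945fc1ef905ccd326bb4ad25ae9e136f6b09db640556a4f455d0c7e49f68f27afa499bc980bc6b29fbcec42e97f1ed593a5246264bec5d291f90278627ad9ea16dc2e2702ec62691d8be56e85339db764aa562cd778c9fbc99a07dc0c549b5fcead4d500ed617fbeae8c6ab0ea48ff3206a741181e3b65cab3781067d0c000000000000000000000000000000000000000000000004000000000000000000000000000000000000000000000400000000000000000000000000000000000000000000000008000000000000000000000000000000000000000000000000100000000000000000000000000000000000000000000000002000000000000000000000000000000000000000000000000040000000000000000000000000000000000000000000000000800042aa71f30b7bb0fbaf75a0b57973e53daf280458c20fe0512c000000000000000000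0000000000000000000000000002000000000000000000000000000000000000000000000000040000000000000000000000000000000000000000000000000800fce0dfe93b8a9e48e8d08b01aabf4f0829ce130d1618815b6adc4947af7c5f38c208efca4e3d15ab5d431cfe48f4e9cce01d03aad404842f6735bcd0f726452f510bdb9712b656e34e5bedf0146d8acdbdf192f3beb17c8a5030c62448ad58fcbb5d8817228081d5843ba7dc62e8a07857c385c89c8dbe4cae7d304ccab299f40d554bd5d0b21461712a9f7030a740aee611dd4f10000000000000200000000000000000000000000000000000000000000000004000000000000000000000000000000000000000000000000080000000000000000000000000000000000000000000000001000000000000000000000000000000000000c2d434e0c31c4bb0974225d44756a696aa9e9e0e6d66a5f700000000000000040000000000000000000000000000000000512c4b023a7baeb491f102a3e49eb2ba53be9921a574f69968000000000000001000000000000000000000000000000000000000000000000020000000000000000000000000000000000000000000000000400000000000000000000000000000000000000000000000008000000000000000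000000000000000003d03a27a319145085802a2230cb6c083ae1ea7c790eec57584000000000000000020000000000000000000000000000000000000000000000000400000000000000000000000000000000810e7c86c3785313750bd2d3ae1527c79f286d76438ec43c28008000000000000000000000000000000000000000000000000100000000000000000000000000000000000000000000000010000000000000000000000000000000000000000000000000040000000000000000000000000000000000000000000000000000000000000001000000000000000000000000000000000000000000000000020000000000000000000000000000000000000000000000000400000000000000000000000000000000000000000000000008000000000000000000000000000000000000000000000000100000000000000000000000000000000000080000000000000000000000000000000000000000000000000000000000000040000000000000000000000000000000000000000000000000800000000000000000000000000000000000010000000000000000000000000000000000000000000000000000040000000000000000000000000000000000000000000000000800000000000000000000000000000000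000000000000000010000000000000000000000000000000000000000000000002000000000000000000000000000000000000000000000000004000000000000000000000000000000000000000000000000000000000000002000000000000000000000000000000000000000000000000040000000000000000000000000000000000000000000000000800000000000000000000000000000000000000000000000010000000000000000000000000000000000000000000000000200000000000000000000000000000000000000000000000004000000000000000000000000000000000000002000000000000000000000000000000000000000000000000000000000001000000000000000000000000000000000000000000000000020000000000000000000000000000000000000000000000000400000000000000000000000000000000000000000800000000000000000000000000000000000000000000000000001000000000000000000000000000000000000000000000000020000000000000000000000000000000000000000000000000400000000000000000000000000000000000000000000000080000000000000000000000000000000000000000000000000100000000000000000000000000000000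0000000000000000000000000000000000000010000000000000000000000000000000000000000000000000200000000000000000000000000000000000000000000000004000000000000000000000000000000100000000000000000000000000000000000000000000000000000000010000000000000000000000000000000000000000000000000200000000000000000000000000000000000000000000000004000000000000000000000000000000000000000000000000080000000000000000000000000000000000000000000000001000000000000000000000000000000000000000000000000020000000000000000000000000000000000000000000080000000000000000000000000000000000000000000000000000008000000000000000000000000000000000000000000000000100000000000000000000000000000000000000000000000002000000000000000000000000000000000000000000000020000000000000000000000000000000000000000000000000000040000000000000000000000000000000000000000000000000800000000000000000000000000000000000000000000000010000000000000000000000000000000000000000000000002000000000000000000000000000000000000000000000000000000040000000000000000000000000000000000000000000000200000000000000000000000000000000000000000000000004000000000000000000000000000000000000000000000000080000000000000000000000000000000000000000000000000800000000000000000000000000000000000000000000000002,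 0x9f6dbc3652aaaad645bca39e140ed4c7dcb581ecd379d60adc234eb6141d78bb630815ccf8c442cd757f3eb882743f1db0919838d58bbab114517a52b2b9e2dd2c06ffe58e48edc7a25d71fc6d16f20ba194efb7c297c755838893753a8f8a12cbdb1a7a174587a55d3ed4554c95885094803114ea983bcdca01844cf84fe1013e7ff42da19e025b6b5306b2b0e57ea7f6c1ac7f6b97df5ae1b2cfb5970ff5fd0500f65eca3e2f35741f2c353ddde1460680a0b172e011d6c976305e75c684c1bf2a20a6638800000000000000000000000000000000004000000000000000bf032dd60ad539174b7f58303cc4efab330d15358b78f27a7314efd7f33d0c4d40cfb7d1db962628fee860a665d549ed0d50568592e2635efebf5aafb12f196e1d6dd35cd09979ddd90cb8006bc6f5919b5aa44dd8ba967a09fadb5cfb1398fb14f8eb9be4e6082be63b647908c10b2b329844383544db3b349bff4f2cddd4fa3529da5cb77b13e2e83929e9f8426a72f45b09bb7b3df47b295d70052c65ef324bc0a5355ecb85cc0dd35044c0619b85048c3a17947deeae7bfcf0668e8ad00a985c41fc7b3809d7948fa51db3af68b1b3e6e9fc81e8f5d3bb777feebf431726c84de31457b205611a053f48def4580096ef4f5cda4fe640000000000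0000000000000000000000100000000000000000000000200000000000000000000000000000000000000000264bc38a5cf5a754b7db6acdcee0ea43c46712a6d1fdab92d6cb9a22f3de41e8600b80df056de7b03d1701633d6b7af43af948636303dd183583f51ff707065c6f45086d8e6aa8e412daee4246c3621f5103739172597413274998432e7ea783e602d4b6f6cb4d8827b988415a4d78be4ffbb5d3f2e2ae97adc3ebc300000000000000000000000000000002000000000000000001dadc06317cde01d8507977b1bfd50c14be53c8ec2ba3d0411ce04986bf07643809c178c4ed6e3e034c82e75c37e745bad18ff4b2a83672af912d24dd25203dd32275258e13971d4100c1efd26af564dd9d68d5169b3780ad386ff2c750397f00117d3e00cc9ddea8ce2a5f089f15029a10851ce5b943a524d71e7fe50e0fe1b81be8ead4b9eb5ec104c1f0675a87b56ff94bdc374f8b83b53dfd10b2941e4201ea01192dab0cb1cba6202885ba9b78efebf8ff9085452da667d5b83b10b514f2c6325d513061172e9571bf21072806f668e9c337be49008da050ffe543de816a81c2d128025c62bd2fb3b88ffaf0dd6ecf7b9bd328c678b208a41a68095a027286382743de156bb50005d30f607cc7aaf1639b0d003bf485961cea1f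d56d03170ec0498153e2ab2699b5a3853afdbbf4139599904e3edafcdab44cf07f27e8c3ff72d2c77306d63215b40a4c4b96c4dc9f3b52b44877b7d780d0950678d57d054bf4a292361d05e3897f6121d99e6a47c30a78443149d41720e8ce2fb7a0b857f11b7074bbc1cda4c5491c04becd7534d0cbc87632ecad461a7b67b3ea302d0e9d4277fd0ab1dc3dc491ac4889cc7fb67ebabb3a6820dd6282db10d6fdbadca5f8db305d20e4ffeaa9b9f3a41406fae88c60a9018095859adb08a46b21af9379768d63e28627864df7bf1c15fffcd7064d2a2c846208cf95a3bcd9f54badb8a64ae5f1af8c6c54aa0a5d996130ed89ffdeb99fe761475a6bc422645568bc996d8a3052793be51c7704e96adcc17898175343720068c1b69006a5da3c64bafcae794df4f160484296682a2de9d460795666dee388447d2645e5fe77c5f9086c7c2e8d3147ea565ab5a65d1a868036408638b1d23f67b65c9aeffbf2d8ef5af937aec261e9b36f955ded8a8272c3f43cccfacae5ba787c7b550e05aa420bb4eba9f6c7f52e0ad280123c3fbd7b4f300990e9f051213fe1cfad328ce4e32806cf3b8380952141bd467e7b19256dbd6718ce188e264bac0e5d4f9ec5c431690c38f2b6fa9a85a3e8d24f5012be9681f58cfda2de64c87dc025b3d8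60142f672989050860163951ccacb0c047c4ca82c1f600565d08e3fe2de647cd87031b36c254b7ae37b6c82b6343c34aa7315c2741f91d8dbf019124992f182c02e499c2168da679561c7555ba130bbc0087ad71934fbf5b2db3d30ffdcb54c8dbb4f5a9a6101c4a8e9d9b95eed86614e319d3b4fc8b9c6560df9897bad7dfef8829a63b104110b14eb0a920ef2f06d63f830012cb6c5cc1ebd5800000000000000000000100000000000000000000000000002184844020ed1d1d1651b2a13c888e737f3732977cc0bd9de37dffafaa47cfbbda62ba5ee3e7a787f9d5645f2c5a2e800af40000000000000000000000000000000000000000010000000e4ea8f1d9a68251b2ba04a36c778cd9042a88d205d16d694abb9a5d266eb0d9686bb70a7a9b68e10a9a836b42667ccf2c396e22b17ff4db4edef3921c6649aeae91b98b1f4bae9e1b1d8e3622ebcc22b08ea919396edae676656763f05045b45cfadbfddfbcca1a2b1163e0065178ba31884f75977b1b72294ab8be30ff939ff646cc2aee0e09738e257785f380ddaa9c8fb9a6d100000000000000000000008000000000000000000000000002ec4030cfbbd1860af9c937880b196813715db8452881f04ded06405aaee1f94f0a39268fb6f390ade3fe1052e1812f6886c0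00000000000000000000040000000000000000000000000082ec6281c298dd96b22d4bf76d38a4af0d9baef25a1f3666ef04e4abbbb0fced0ab1fddc8292306c593587b8b3ca08ae0387dd362bdd15927a0bd7e05a2990879cdd1ce6eba0529ae69fbb7797514c12ffec241111aee05e892e751a20f787c1256b2564c0111fb00c9a05927c74a2f24f187d1c9aa2b538eafd0faf1fe53726f342c975e6a1fe7f86d4ddba34945f0e426f8474104317f497c81aeee252e158ec9cc7a7bd8ea82c3da3ddb36f7ab6f3bd87b862167cc2ed34c4a9a53a530fe325bcd1ea7cad1e4880ad65171df5f541f7e0c49011088ff8879893753a42b161b6c623184dd4c878b148a10e891454e891d616a44db92e2886d82bfce8f1cc8b2011849c9600c9acaf56d70b2528cf19903f1ae6bfa3dc80da96ec76764a390ba3cbc8106af44f3c9b75516489d79ed00b000c5f32a8026b5f34f54a41e8bab99019fdcf77918ca18432e8fc91276ca40b7dc9a23d683dd3fc533002bef0ac2a330c4741676e7f6f5006d361ebb4a2da92fc600b2e2e736742d40c38062c94c7d8748e2a434e29d7bc5c3c3f9fc21e215b5e0850d3d2f3190ebc21e41ee1d79195a0e2b5f5939f5f6e5027656a526d5fd92e60c604549e49d7ec6b1e87093d27fe863ad701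b8957060f346817f9eb6c0039d8ee8c18d29b863fef3f1f82caf6f26c43466fb4c08f953b4531001907c3783488f92ec65970aa1d87643e9e1092bdddb89360f3b31225bc3a2316f13de155870438d1cd0cfc29ce6a39a6cf95ead7999cf07b11fd212c9d84d68299a61ca82705756aab1c2e0fd566b83c6e64433f680dcb507811413cb5b4283e3fa5ebd7b89cf067fabd962049c558b37d21b384278a16e1c38460823bc1b12fe8dd82eb3e7df9652d12239574bbe4db7eb3ec04e7b0aa00c67a68e2328178268d59ad15db4bd29396f147122eefce095b92daa3388c0f8ad930a69dbbb71a5220518fa07bc3c1de319fa584372b0154710571237c94877573144976f472dd96d7332d50d9fce07cf76ca670a38048344e080e4773ce59a569c9f5963dd38bb3f8f6373b80adf606795545e7ad288011187b5fcc8d09e64880ed71d650f5f0e2e7a87e6d40ed73439fdf8339da18ef75b3d615a9cf205792f8e4af32855acbf7bb13968d1b3650a99102ffa5d9a6306ed80290a0e46543198af556565e62526d8a6cbc9b971a57ba9d769707235800253a1945baf9dc30dddf9d6e2563ab466631221e3404d7931fd6787536ab3cd5dff6d4a7c9d4d453906c4699bc1d9ed9a969da4c6f81eab9888dc4674aed81031e58b0647fc40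c7dc77aba544d4a606859451f7c10e8b9f379b3a489fc41a613507355ce17b9f6718b108646c06092959de7d7d4872768c26fcd3e13a488f6ad6d46b0dcc1f801f8bc7a4c7d590f8368a52506be64544fb605934f1ff42f9da4e66fcf4d396401c013957bbeded1191031728d529783a8473922396852adc34c2929d8f7d1e9337e21763f28642944de821515053585801937b578ae14ef05f75f8e29a30d220478949fe377fd8e2a98442b9368818b16154cc8fec3c14b777b8089d15d469a8e81f90acdcb74383ef41b2a3e52b173b4d5b07381239d4c3864bdc4a70bbbc9f585c613a1d82cee609b8d6be7247fbd047c9cb14422ff9262c72f9e8645a789283f6671c6df0018b6cd65ee25e665cb014e62ae76341352042c40c00000000400000000000000000000000000000000000000006ffef21427efa85c08ec4ceaefe1236687ed0a716dfb0669fe328231618f591201c25a6bb1088fa5de36c5280014960460b070aace6d4220fd67b1ab7d9325754c9e023fbfaed7a5d674c0211c8413fe219c0ddc0fcf2af16cd1776c3e67b1518cb65399cfc11a1e65d784da9fa34a2c895f1ddc092d7b984b6d6e2b26d2f1817563850d1a77922f9d3fed2cf5e9b9723e96ffc29000000000000000000000000000000000000004000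00000001156e43f7b45b632f05000689fee03a42a9691d5d3ec3bcfae226ab6c7c81ca13b0965a9d7b5429b40f1d6be6b9c20900b7c000000000000000000000000000000000000000000000000888b3df701392406034a0fd2ee6a132c0f291b58668a7dec8681000000000000000000000000000000000000000000000000080000000000000000000000000000000000000000000000000200000000000000000000000000000000000000000000000000800000000000000000000000000000000000000000000000000000080000000000000000000000000000000000000000000000000000000000000000000000000000000000002000000002000000000000000000000000000000000000000000000000004000000000000000000000000000000000000000000000000000000000000000000000000000000000000000010000000001000000000000000000000000000000000000000000000000001000000000000000000000000000000000000000000000000080000000000000000000000000000000000000000000000000200000000000000000000000000000000000000000000000000008000000000000000000000000000000000000000000000004000000000000000000000000000000000000000000000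000010000000000000000000000000000000000000000000000000040000000000000000000000000000000000000000000000000080000000000000000000000000000000000000000000000000000000004000000000000000000000000000000000000000002000000000000000000000000000000000000000000000000020000000000000000000000000000000000000000000000000004000000000000000000000000000000000000000000000001000000000000000000000000000000000000000000000000008000000000000000000000000000000000000000000000000040000000000000000000000000000000000000000000000000002000000000000000000000000000000000000000000000000800000000000000000000000000000000000000000000000004000000000000000000000000000000000000000000000000010000000000000000000000000000000000000000000000000000200000000000000000000000000000000000000000000000100000000000000000000000000000000000000000000000000400000000000000000000000000000000000000000000000001000000000000000000000000000000000000000000000000002000000000000000000000000000000000000000000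000000000040000000000000000000000000000000000000000000000020000000000000000000000000000000000000000000000000080000000000000000000000000000000000000000000000000200000000000000000000000000000000000000000000000000000000000000100000000000000000000000000000000000008000000000000000000000000000000000000000000000000080000000000000000000000000000000000000000000000000010000000000000000000000000000000000000000000000004000000000000000000000000000000000000000000000000020000000000000000000000000000000000000000000000000100000000000000000000000000000000000000000000000000008000000000000000000000000000000000000000000000002000000000000000000000000000000000000000000000000010000000000000000000000000000000000000000000000000040000000000000000000000000000000000000000000000000000800000000000000000000000000000000000000000000000400000000000000000000000000000000000000000000000001000000000000000000000000000000000000000000000000004000000000000000000000000000000000000000000000000008000000000000000000000000000000000000000000000000000010000000000000000000000000000000000000000000000100000000000000000000000000000000000000000000000000400000000000000000000000000000000000000000000000001000000000000000000000000000000000000000000000000001,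 0xf468b66039213240f61f256e85dd3d57d3cfa15dd0822dad828759c10a72f02ef981e252e9dc0a627f623cfa2e2f936b47585f225ee8568ceab469ce1bced118e4be30d0b8d05b15c2f140000000000000000000000000000000000000000000004000d0e6e38021dab385bd82861f40cf7ad471b316599844ca0091fc35504ad787c8f25ad6fe0997ef64e3fab161c3518947f11be3bcb7a185db50ee8ccc2fbe872b6756afff498bbb627b5dec76d4079bd2408ade31987d13c42921c09e6573ed381d382bc2776c770d336f061a2dcdf91a2edc20700c5fc2e16ea9ac7a0b31a795b63bc878f7c1f6a5aa71bad449347be428a9e8e683363422b82b5284367f1968bb7380d9dc3091f3292c29b9b176c2d450f94cfd3c18d955d3e1f0e566fc451fd1a818765482bf3fde286ed709b3422eb25d8390398940acd502a13784f1967ba02a731ea217c5ae20d6fe052d2b4a716cc46e22060f0b600000000000000000000000000000000040000000000000000000000000000000000000000000000004000000000000000012aedb3632e9dbf4d6c9811939fcc902781a487b4d525664a000000100000000000000000000000000000000000000000009e9c1e45ac370cec4425045d46865b9cf1eb94324921158195ac5e4292a1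354b44763e90a601f2605d72a66720eed1749f10000000000000000000000000000000000000200000000000321e1722e690cfce2304a8004f315947aacfaf1ee2ff14320c795f4bce1d8fe56f3645a241699297a8f9611d18fe95ad27e8e6c275b9c32df258db998db55efe15fb703572239029a714b3773b24eaf09880eabc5e72045e074003183bf666affe2b7c87b628b58701c108a509f0f9e1d332aac548d1cfc13f6bcf04000008200000000000000000000000034240d600000036e074e2b8fe5b2cb424dfdb588385c6fe35398e6868e372e10e7035a420d3d27ad40cd6569496acdce6ddc725d6fd3f29ff269df93c15b5552fdf98595420c262a461ddc4af16681ee062f72a23bbe52fbffaea38a554897d881b645d9a6cf8d792b9e40fd2d97c3bf69eb591b4be0dcbd378cbe645f693fc5e658a22b54f2641f57cc43b480fa04ee60fffb28ff49d42fec4154c0fed4cf5dd28660022dd7120d945a875f47282ecbbaa11b68b10f8dec4252f64cd57ff2ee6eb296c490ece0adc6392ac66aadfdb66d17681aeff0fba2808ef46ea6af3b7f54aec8c181138995591959fc3aa2557a42999c9effd16739068e9d006a7687a3cf54182ba27b8c001c5ca3473da282c53e8df46b71635120df4f2266d938b0af35888e285a3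d1e2446481e7c1ef7b08570681cfadfec505b24cec13062dbbe07f6a7a00fb5181f82638d195e05db3d75a92c4bce75c35671e0878cf56c6634f7b82338fc00000000000000000000000000000000008000000000000000000000000000000000000000000000000000000000000100004b954071780d94a701e020c4c1d3e823884df1c81776798781a2e6e41055b7a334ec6d3b309e7a57a06083d58109fc50b0246b8795bb360ea9d89f16b06bfc02c4185453abd8646353cf3f3de544d5f8d8d76ddb1b32f4a5fc492c3d2ba1d71fdf6040000000200000000000000000000000000000000000000000a59a8176af4b6f1a1bace542f4d8506ed9e87cdcc54b48845909e6ce592113ab53625589c47d73da7fa3b6e8f170d644d13957f39b17830281aff44ad2af13833614d1495c8d4dae09cea83ff08f85937e8c65c058acc4d2eb1743ebeb6e0265085ddc26c54063cd347b4321f8f3de22453ebc1c95a8ed8a33d0106664fc742e437f7db2da24145c59022679c9997aae3645e4b9b00000000000000002000000000000000000000000000000001fa661e325384a1c21058ed64eb66b36e9909492cd002cda18000000000000000000000000000000000000000008000000000000000000000000008000000000000000000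000000000000b2aa9cdae8499e6ea48e4c7eaee247fc31cdfbee75c27c9ee800000000000000000000000000000000000000000000002007b47e12dc0b26dc7f9af07a0bcb1a918bca837c6e01413dbcc000000000000000001000000000000000000000000000000095ab52da024c1d1f9f653d74ecea770afe1ba879f9618f560e7985d4e0676a785ab2e34e08055cae2ca9a835e24a32ccfc200000000000000000000000000000000000000000400000002f602135734a2e377e5083133c44f5082f3ca4cdaf99f5e60db75a48a0ad21172b24dad59e059a31ee3c76e9bb83af9122d400000000000000000000000000000000000000000000001004463f839a504545e3d1724990599b7ffcb1212df1e5817098b5016716fc26e3563ba433a7f51a2ba9a544eed5bc78243a35a883d71e8575f7efec636026b8a5af8d2f975a028aff81e4404446e30002827ac436dc6119ab324e5adac3fe6f72ede2b674dce8c2bbc513cd966f182a5bdc7354ecc66338a54af80c2fc92373fa0c46c771fddca66bf82647f8ae201d89083b7ea8cc0000000000000000000000000000000000000002000000000000000000000002000000000000000000000000000000000003d1493fced4c225b76f505d82990a8f8a9aa6723868d8b87a6a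5cfd40dce65b9bd5cfc2b99e9e3e5bfce44afc7f00f9ba030610d2fccae440133eb4900ce4644364a390457010d0996c2d4ad0b00549c285b2d9993520579c56ba82086e94e550d6e1a0000000000000000000400000000000000000000000000000029a00965999f84e954683db8cdd83a6f3ec0284c82152b94d409bedbb72b0f8220e992bde65366d8aa4029be98d034c0e222aaeea91f0918964354f5ea7da0a062c9f944f2e6e3cffd8871389ebb35c64cf4bf473696a2bcc703e055125cd8009cb98b2bbe76108403abbf4722326d75ce915b7d83495fa0a55025383bbcc002d0bf0fe6b7c7eb62d950b136894706ea55764baed0bfec20e4886e43152648b00e91816975489d2ea7bc8578c975b26190acc7bbdadbe9578d71514df359a02c254315ce9e525cdbd0ca8be0a240d0bb23ee13c8497401c4e7bcaf15abe20ae60f75ed6dbee9a20d6c1de72aa3acff8dcb4fb3fc6470df06cb76ff75feb34cceba91d1dc1a807097773c6fedc75a3429fa7222b2523cc68cc34639ab0209991743b6bccc39a0d22a732ed67a3979d288a0efe8e03b6b53d1d042d912a28ff24b766d83ae5086deac67665d10022107aa23739027afb50dbc3628c0000000000000000000000400000000000000000000000000000000000000000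000000000000000000000000000000001032e6bf01a4756a6ed4b8febc7b05455cdbc3bdcd22a7babb745fec2b18b71c2211f25a750d7f067d286f16cf0d486448cc5dee730e334fe3676a84fb41f1ff976e3c3a8d277131376c6e05e594ed4a65ef00bea289756e0be5b32b545703636357ff0e1c8892e4066e690f400b21e38b8bb3abf71b741288bf17ef15b4d5606bcf290e0e255e5e584ef16cd499b3612eab291c68a6421b603c60e436e4e10451a51323da7a711358f657da345880501001e39d1dbd9c265ee92dd9b4f7eab6e66c5eb2f2f8b9dac07932d4ec89a9ef17804fc3c8903a2cbc5bd0e1bb6559592f870e0094ed49140e5649ea09d53eaa943774b0761eec0f905339db764aa562cd778c9fbc99a07dc0c549b5fcead4d500e9826b2ab3e10c44b78feb88a3abe839bdf289494310c8a0f9977e187026ea87cfc48353c42e0a32046198ecb54fcfe2097c881df1fda8e565fca62f4904770d13605dc829e3f81629ba9fe76c1066d49ed74a0fe85cd659fb0fa1eda4ddca9fc210b9861fdb6b28b37709b7b04afbfacc25077ae41a3e79efd1ea3ebf4f5198da9831cac7a5bf3b693e0dd368bb1fff0aa91b1d96a6a467ed87db4dbd9d35e9b6d40e9f8b4f05f2c995a8c6f62da154cc4c5ef56fdad80c03ca8691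2ef26c216fe7fee897b370000000000000000000000000000800000000000000000000000000000000000000000000000000000000000000000000200a45df3c3d3183b9aec1917fcdc75bf7f37077a5b58f95ba05abf17fd3e145e85a2528aa6c91bafc44af4e483953fab8041dc64ed4dfa35c27db04b64079b130f074bac8f55e52658de52e4d444647a54c2208c01a23ba0f3fd1554b7679130e9b959565a1321f84d44476492c0f9cbd34fc36e88b7286066cbbd23edf0146d8acdbdf192f3beb17c8a5030c62448ad58fcbb5d8800000000000000000000000000000000008000000000000000d5abfef783da1c26e03fe096be8014c90c533024578dc48070000000000000000000000000000000000000000000000800000000000000000000000000000000000000200000000000009442b4f46bb43e489dc24b4847f6f4fb2f8d4c5fda8068fab4000000000000000000000000000000000000000000000001000000000008000000000000000000000000000000000000000000000000000000000000000000000000004000000000000035cb0fd41137ef31b069fa4a18160144312d52f6da6dc3ca280a6897be97ac981303f4e8d20e0b29b99b53f87cbf76483af000000000000000000000000000000000000000000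000040014c261c2203c6a64f771904f115e21f7eb577b0afeee47cbfb1e7f582db7645b5f03270d36b899065d089ba4209ba021e88c00000000000000000000000000000000000000000000000083cf9207ef701b6e214f234ac609039e4c81181ec3f69d1d90d0000000000000000000000000000000000000000000000000100000000000000000000000000000000000000000000000000400000000000000000000000000000000000000000000000001000000000000000000000000000000000000000000000000004000000000000000000000000000000000000000000000000000000000000000000000000000000000000000002000000000000000000000000000000000000800000000000000000000020000000000000000000000000000000000000000000000000200000000000000000000000000000000000000000000000002000000000000000000000000000000000000000000000000008000000000000000000000000000000000000000000000000000000000000000000000000000000100000000000000000000400000000000000000000000000000000000000000000000000800000000000000000000000000000000000000000000000008000000000000000000000000000000000000000000000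000020000000000000000000000000000000000000000000000000080000000000000000000000000000000000000000000000000100000000000000000000000000000000000000000000000000400000000000000000000000000000000000000000000000004000000000000000000000000000000000000000000000000040000000000000000000000000000000000000000000000000200000000000000000000000000000000000000000000000002000000000000000000000000000000000000000000000000010000000000000000000000000000000000000000000000000080000000000000000000000000000000000000000000000000100000000000000000000000000000000000000000000000000000000000000000000001000000000000000000000000000000000000000000000000000000000080000000000000000000020000000000000000000000000000000000000000000000000040000000000000000000000000000000000000000000000000200000000000000000000000000000000000000000000000000800000000000000000000000000000000000000000000000002000000000000000000000000000000000000000000000000004000000000000000000000000000000000000000000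000000008000000000000000000000000000000000000000000000000040000000000000000000000000000000000000000000000000100000000000000000000000000000000000000000000000000400000000000000000000000000000000000000000000000001000000000000000000000000000000000000000000000000010000000000000000000000000000000000000000000000000100000000000000000000000000000000000000000000000000800000000000000000000000000000000000000000000000008000000000000000000000000000000000000000000000000040000000000000000000000000000000000000000000000000200000000000000000000000000000000000000000000000000400000000000000000000000000000000000000000000000000000000010000000000000000000000000000000000000000000000000000040000000000000000000000000000000000000080000000000000000000000000000000000000000000000000100000000000000000000000000000000000000000000000000800000000000000000000000000000000000000000000000002000000000000000000000000000000000000000000000000008000000000000000000000000000000000000000000000000010000000000000000000000000000000000000000000000000040000000000000000000000000000000000000000000000000200000000000000000000000000000000000000000000000000800000000000000000000000000000000000000000000000002000000000000000000000000000000000000000000000000004,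 0x264cdeef072ec1b90817310eae8f63c853deb242c79c3f449e17c897ba15a33aad1a7386f3b446392f8c342e3416c570bc5ac6ea3eaee4129b060a76341e818066d00dcc4417d2aeff203009a5be42460cf1a65e8b591eee70f6d1c8c8bede647838f08c8ffd431491d3a3de83d4559c456e6bb7ab0c61530c32426bad68a62fcbc864756442e93c3ad814fe7dcc95203b4c663ece1b20333aecc4bc8e628c3d33d0ec5c4c9e4eefbc659338f33b102006bc97755f7117d49ee15fdbb51775cc66eed04270452d838f1786da72ee4c5d0b0e63d8bb8a192db5e28270a4e68a7b915e74d42ee5b369387bb9f51045a898f47c9382c530950fdf8e15c5e6d6cf59bbc1646fa6fbe50c8b612cf890f04eb81bee95adba2ad73bcd22a487273479fe43df39db584e6b2e914a15659d6f5a8013d7fa3974a2a35392f9e584ec62e50179131278e2710f797a0dfde386aa1413079aa9a6754d5edd66105000000000000000000000000000000000000200000000000027a707916b0dc33b1109411751a196e73c7ae50c924845606500000004000000000000000000000000000000000000000002bda6baa282fc2f88afbb1e2245921524bae9de8a56abe5335029a25efa5eb2604c0fd3a348382ca6e66d4fe1f2fdd920ebc0001000000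000000000000000000000000000000000000000000000000000000000000000000000000200000000000000000211c8413fe219c0ddc0fcf2af16cd1776c3e67b1518cb65310000000000000000000000000000000000000000000000000480fbbe89d829f3c492155522c05e64d588c5fc0147a6a8bcf01996ba88f71c845ffe337408aadcf64299d5bd945e809119710f813518ceb287c9f6a3a64e2e6ec1c14323067b5d43f7b000000000000000000000000000000000000000000001000000000010000000000000000000000000000000000000000000000000000000000000000000000000000000000000000100000000000000000000000000000000000200000000000000000000000000000000000000000000000000100000000000000023dc2819e7af3a218221d72e9d3cf3055efe750d5f09e253762a81f785a71e548cf1e565cf2b74e605802ea1796d5efc1e5d42feded890ae0f9903a9e415eebf09c9b8c3e39a251a111098d28a15d4164d7125ea94cd7cb1aaecce9f698a9b18f893f5400000000000000000000000000000000800000000000000005e05db3d75a92c4bce75c35671e0878cf56c6634f7b82338fc0000000080000000000000000000000000000000000000000000000000020000000000000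0000000000000000000000000150678d57d054bf4a292361d05e3897f6121d99e6a47c30a7875c22949bedd2232ab16dacd688fe5608b5bc98b306622d1bde789b5578bffa0d37f71f2da41c618a0917f16b83ceec65cc6ae19b739bb96a09b1ae3120486cadb63668eb79724beaf40ab3172f632886f188573f328cbe8b0f659dedc04335f969e73cd8f81f020afcaff09c76a3507689d55fe88f2da1d584297df966ae58e93c7eceece0d05df4edf1c255a5c5adadbb5aa58a507207e8f988ff3447b881877667e3b9c410277ccaeaa97a796f36cc5fdd46ea4c65556d03f7853c4bf14768ee3f5ba613ef893f48a86baf1ede45586f372e94d08a462eb40dc58b15e1e95d187820afa491885562f6217013719fe42ced82787dbdb8810e7c86c3785313750bd2d3ae1527c79f286d76438ec43c29273bd82e361cf4a1cc12e00956a0d000e27fc09ce5193d6469a61ff0ec7b7acfc43c5b8b9d5bc7e42c6c85a641457d60ac1f6171b4ab5441dab4e5b92aa42ce828028484aae696219f5e0000000000000000000000000000000000000000800000000256ad4b680930747e7d94f5d3b3a9dc2bf86ea1e7e5863d583000000000000000000000000000000000000000000000008000000000000000040000000000000000000000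000000000000bb100c33eef46182be724de202c65a04dc576e114a207c1378000000000000000000040000000000000000000000000000000000000000000000000200000000000000000000000000001146423a30e0fad7780c823779758f7d229a315ef5594e50d5b75a48a0ad21172b24dad59e059a31ee3c76e9bb83af9122d400000000000000100000000000000000000000000000000000000000000000000100000000000000000000000000000000000000000000000000001000000000000000000000000000007e99878c94e1287084163b593ad9acdba642524b3400b36862a5cfd40dce65b9bd5cfc2b99e9e3e5bfce44afc7f00f9ba030000000000000000000000000000000000000000010000000123e320ffe03f628cdcd65c927c5a1d98be52bb411b97f25a82323874d0374e6ae85ae626c2f6c6d80b11eb5b850ee5ed00019f05eb6fb10948dd634830aee193eef7cb9bd3743d93733587f6d0716d34edb66ca2ca9cd5125f307810bb39990e666586e1d67cfe34aa95406d9dc0658933f81788ff150f46f37d4a1fbc7d90221e9cfd3716cc7ae6f9fecc153133057ab57d35e6d4ad0b00549c285b2d9993520579c56ba82086e94e550d6e1a000000000000000000400000000000000000000000000000000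0000000000000000000000000000000000000000000000807dd362bdd15927a0bd7e05a2990879cdd1ce6eba0529ae69f80000000000000100000000000000000000000000000000000000000000000000000000000000000000000000020000000031583a34b22026b3786df52f7f03118d59fe86d8698ba09c5d493d404afa5a07d633f68b799321f70096cf618050bd9ca6240000000000000000200000000000000000000000000000000f26a0df163a4d1639996d8fc83930a68313837cff910774dc236f5e7837a6db4c620070d46c3430445ae4a55e0ee23bb81efff922e712f304dde91f5fe149f5e00f47ab0c61fb7d25217a0b253a6fb3dde446950f866ea6e88b98f05c9cc474b8ad724679027597314d9c2a8af58a9d9a8b588ff6df5910ccc27e80760eb9421b7ab19d99744008841ea88dce409ebed436f0d8a300000000000000000000010000000000000000000000000000000000000000000000000000000000000000000000000004000000000000000000000000080000000000000000000000001939f5f6e5027656a526d5fd92e60c604549e49d7ec6b1e8705ea7c600fb5567cc60e1a21ee6684e9152efc40ecf76ec75bd2efe6d6d2f87c1b9d8bbab71e8fb184b8a4f881fd63c9713c7adf26eb5ba887f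a0f09f319f0bea4c6102a2d63abbef6c3e9cbf43dc510a2ed8b62880c1498374ef7903d24a7cb92fec0b5803de2329d1b23194446a76703dde24734392bdce6ac1c14350e6ca60982f2403f210a225f0f78e5e06fd8d9b121925595e4ed49585a5dcc2ffda4bf13f444751c73456532cc32869e926e3600541322fa8fc986186de788c6cd5e4bdb742df3bd6fbf74967062f1d04057ee5225841651b0a70962cfc43334f28ee6d5fcf4de5975353da33660673d03745baba4d3160b6dfae907b485639b500501c6b8b5a655d9e58e9faec2928b9e9a96e458fd189e5ff9ee69f2d7e0d289450724e77faabd192aff7666f35d865bd78c0e37ea6192a8d9c89a16025f568863e0bae88992fb174a47e409e189eb67a85b70b89c0bb189a4762f95ba000000000000020000000000000c0008000000060006600cec00000000000002000000000000260008000000130011302336855331317bd5bf6b60300f2a1a44bbc9b085bf9ffba25ecdc0000000000000000000000000020000000000000000000000000000000000000000000000000000000000000000000000800000000000000000000000000000100000000000000000000451f7c10e8b9f379b3a489fc41a613507355ce17b9f6718b104d61f654c2e87af86376d761090c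2f2984444e0c4ac3113b50e85514a19eb2fc7b629a43ca7f7f4f8cd66a1bea98239778bac41085a3006e2886be36c793f6386cfca83c0ce9febac713e31eb80161ec2ef3ee25ea974828207a4330828cb5436dbc445bd812ec7847505e7e1598f25e8e15557fdfc9fbaf5e499c6925c025d31bc382817c2fe7c4161556e00ea2bd7ddc46e3248a57a41749cdff0737839cfc90fa54611d1c16dc1a04100c31734e9d5fc225a01caf7953f7809890f2bb7f1934f453769d0f40eab501210bd9cd6f343dc9914bd442f6e5c4ad95b8d396f00000000000000000000000000000000000000000000080000d72c3f5044dfbcc6c1a7e92860580510c4b54bdb69b70f28a00000000000000000000000000000000000000000000000040000000000000000000000000000000010000000000000000000008000000000000000000000000000000000000000000000000000000000000000000000000000000000100000000000000000000000000000000000000000000000000800000000002e9f65324e1c69885b8fe272ee226527af777c2a3a883b105b1e7f582db7645b5f03270d36b899065d089ba4209ba021e88c0000000000000000000000000000000040000000000000000000000000000000000000000000000000040000000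000000000000000000000000000000000000000000000400000000000356affbde0f68709b80ff825afa005324314cc0915e371201c000020000000000000000000000000000000000000000000000000000000000000000000000000000000000000000001002000000000000000000000000000000000000000000000000002c8cd07e2a5e8581038746e08d30e6b35bc1b04668845061c0800000000000000000000000000000000000000000000000000000800000000000000000000000000000000000000000000008000000000000000000000000000000000000000000000000008200000000000000000000000034240d600000036e0740000008000000000000000000000000000000000000000000000000000000000000000000000000000001000000000000000000000000000000000000000000000000000000000000004000000080000000000000000000000000000000000000000000000000000000000000000000000000400000000000000000000000000000000000000000000000000000000000000200000000000800000000000000000000000000000000000000000000000001000000000000000000000000000000000000000000000000000000000000000000000000000800000000000000000000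000040000000000000000000000000000000000000000000000000100000000000000000000000000000000000000000000000000200000000000000000000000000000000000000000000000000800000000000000000000000000000000000000000000000008000000000000000000000000000000000000000000000000000004000000000000000000000000000000000000000000000000000000000000000000000400000000000000000000000000000000000000000000000000000000002000000000000000000000000000000000000000002000000000000000000000000000800000000000000000000000000000000000000000000000200000000000000000000000000000000000000000000000001000000000000000000000000000000000000000000000000008000000000000000000000000000000000000000000000000040000000000000000000000000000000000000000000000000080000000000000000000000000000000000000000000000000400000000000000000000000000000000000000000000000001000000000000000000000000000000000000000000000000004000000000000000000000000000000000000000000000000008000000000000000000000000000000000000000000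000000010000000000000000000000000000000000000000000000000080000000000000000000000000000000000000000000000000200000000000000000000000000000000000000000000000000800000000000000000000000000000000000000000000000002000000000000000000000000000000000000000000000000020000000000000000000000000000000000000000000000000000010000000000000000000000000000000000000000000000000000000004000000000000000000000000000000000000000000000000000001000000000000000000000000000000000000000000000020000000000000000000000000000000000000002000000000000000000000000000000000000000000000000800000000000000000000000000000000000000000000000004000000000000000000000000000000000000000000000000020000000000000000000000000000000000000000000000000100000000000000000000000000000000000000000000000000200000000000000000000000000000000000000000000000001000000000000000000000000000000000000000000000000004000000000000000000000000000000000000000000000000010000000000000000000000000000000000000000000000000020000000000000000000000000000000000000000000000000080000000000000000000000000000000000000000000000000400000000000000000000000000000000000000000000000001000000000000000000000000000000000000000000000000004000000000000000000000000000000000000000000000000008,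 0x800000000000000000000000000000000000000000321e1722e690cfce2304a8004f315947aacfaf1ee2ff14320ca0bbfad13e7c1cef21a5f38fbf01d6984b83d20499e860f8c19ee4bc0dc9660d6efda2af0d8b2da3b738a9a27b77152941f19838d58bbab114517a52b2b9e2dd2c06ffe58e48edc7a25d5635ea59b742d885302ce78eb0b7386b801e8cc708e9d1290a8c988b08eac67f776f1f035a8fcce903e4fb9254cfa6e900640bb08e53996f0a19f58fcab21797ab4c82f10bbcab7ffc51c3e13f8404f9ffd0b68678096dad4c1acac395fa9fdb06b1fdac63ea114647cbda02410cf0860a8fe592a88a4c4017b2d13e9d2e4a46c15b87a21c257d984e2501b1df47667c2f0797eb0e0476f89bd2254bdcb903b93aafb5a9c00922feffbbf3ff8ca314efd7f33d0c4d40cfb7d1db962628fee860a665d549ed0d7ef8be94a6b9e9732120178d14f92efecbd2357677773e76b2000008200000000000000000000000034240d600000036e0740000200000000000000000000000000000000000000000000726c84de31457b205611a053f48def4580096ef4f5cda4fe6400000000000000000000000000000000000000000000010006b1790a4a84d52d11d8fa429807c98175ca999c83bb45d27c400000000000000000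00000000000000000020000000000000c2b3d160030f0ef6a128ab60acce85859c0940a5d1e513421409d7948fa51db3af68b1b3e6e9fc81e8f5d3bb777feebf43144ce61b05807828560370a2764e912a5679170c65261e3228e64bc38a5cf5a754b7db6acdcee0ea43c46712a6d1fdab92d616a21773987195836d6e06698abb907ad9fd1f66c53826d840000000000000000000000000000000000000000000000080038ae3f96cb2d0937f6d620e171bf8d4e639a1a38dcb8439c0cd5abfef783da1c26e03fe096be8014c90c533024578dc480776b7018c5f378076141e5dec6ff543052f94f23b0ae8f410476f6cb4d8827b988415a4d78be4ffbb5d3f2e2ae97adc3ebc3fec6c6a668be6391fe64e8ed326bab70286872dfc0cc4ada4c4abb6cd8cba76fd35b260464e7f32409e06921ed3549599283fd2caa0d9cabe44b493749480f74c89d496384e5c75040305caed8c6af0b730810d1ef9ca880a2427a33e965ef3367692a000000000000000000000000000000000000000000000010000000000000000000000000000000000000800000000000000d5060ae89ee300071728d1cf68a0b14fa37d1adc58d44837d38d6be7247fbd047c9cb14422ff9262c72f9e8645a789283f6c4ecc3dd668e1b99666a23f9bbb6227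ef766f1022f72f1c997208a41a68095a027286382743de156bb50005d30f607cc7aa0f4bef248e31daa9a45e62073ae1330a5c1706341f3f6a87dd3c4ee68051324fd363ba47d88f4a777d5927c583e8ff0dd55a24b9bba30a14a24254756ed4792bbfe0958f5834da655d658b4b1dcc1b58c856d029312e5b13727ced4ad121dedf5e03429b78efebf8ff9085452da667d5b83b10b514f2c6325d5130627234c43ce376721448c6b33a3756e8093fa139474785223fb35f7ae457f6f5433d8e6280340e89ee137a407658889c3f246ac770f71246b1222731fed9faeaece9a083758a0b6c435bf666ac0e4d2fab49fd868c2c22ddf7c85125d46293df6f22a21ee8a4fd0c82a64ba5f603fc70c15e49a8bd2b1cd7b7e8b293711e87300b094f3abd13643229a1ba1b9bc44e3a9c61e07c6c06158efe4056c88f43a989144a85550cec39c64099577b244028c149e4ef9471dc13a5ab7305e2605d4d0dc801a306da401823b99d09542645a64517b63ac88624d0da122f59015a3fe73000000000000008000000000000000000000000000000000000000000000000002000000000000000000000000000000000451908e8c383eb5de03208dde5d63df48a68c57bd56539435400000000000000000000000000000000000000008000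0000000000000000000004000000000000000000000000000000003b6405ca9f193c1c585eb89fb52d2c64be674eb2a6204d57019d9b95eed86614e319d3b4fc8b9c6560df9897bad7dfef882800000000000000000000000000000000000000000000001009e61753819da9e16acb8d38201572b8b2a6a0d78928cb33f0800000000000000000000000000000000000000080000000009df10e668a4b80d95d74389c900503050eb8774cd4eab99e99a63b104110b14eb0a920ef2f06d63f830012cb6c5cc1ebd5800000000000000400000000000000000000000000000000002db049f7b581be8a01327220cd02f37d4b793e4ce2af0014587dffafaa47cfbbda62ba5ee3e7a787f9d5645f2c5a2e800af4087ad71934fbf5b2db3d30ffdcb54c8dbb4f5a9a6101c4a8e0cf5cd61d09f3fb465467f717843836e79a8ff5bcd4abc4f7bb9a5d266eb0d9686bb70a7a9b68e10a9a836b42667ccf2c39a1916ccaa2cb19b4349857fae8b44456a2d9d84d0703d74754000000000000000000000000000000000000000000000008000000000000000000004000000000000000000000000000000f4524ff3b530896ddbd41760a642a3e2a6a99c8e1a362e1e9d80f43638940dc274a9f072d86c01b020330a112318db6c5e3b1cd760c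a3430d03e88efe861f6d4bacf9bd3bab42b8d4bb1d06405aaee1f94f0a39268fb6f390ade3fe1052e1812f6886cc71a9dea9befa2e4d1efe4b512db867986d9522598ffbd204f7b19e862794f5931acd574b853ffcd0167547def4f423b2c304e4abbbb0fced0ab1fddc8292306c593587b8b3ca08ae038c3fe4e7fd91b30abb83825ce3895de17ce0376aa723ee69b46b0ccddeb540a5fdfa9457f3a370a5c37dc7d8f8c46ddf44b27b47e12dc0b26dc7f9af07a0bcb1a918bca837c6e01413dbcd9300447ec032681649f1d28bc93c61f4726a8ad4e3abf43eb94ec251763efe75bcaf4d655f9a86b6ee1412691a9e2caf68c000000000000000000000000000000000000000000000004000000000000000000000001000000000000000000000000002b983dd7b5b6fba68835b0779caa8eb3fe372d3ecff191c37c35871c2cb001326a86ddf344ad271269942ed6cc720ce7a6ad6447b390bfd08bc6733936c3e677cf59b6d743d510fa1dec65522f6ef0aa3f63c61f99af0a0eba1d4de2f6962948817ef89d54592275e7b402c00317ccaa009ad7cd3d52907a2eae6406fd20708e4d3c7bfc4ea4bc0b342da704900bc952959dd617c17a13c5fd4b44688bd2dd770920cdb790fde6d4d68948b66f8a9837226d588142fe7935e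1e7f8fc837fe02d589d5aeb454767f0878856d7821434f4bcc643af087907b875e4656838ad7d586db188c61375321e2c522843a245153a247585a9136e4b8ade6f77891ad1550543450986112808857ee6a583d8f5855742a01cae5e6f59182c98e1d19910c11e0f16ab1a7d11f49f508de0d223e4bb1965c2a8761d90fa78424af776e24d83cecc48749fc8b589b8e312bb6b9e6138a74ed911781250717a6e9598b406a557b019a374de5283b7d2b85d50572bf429aa94d2c183be8c2f0e7bf0cf36e808fdd3a865bbc7db6cfc2f60e088e77454c0bf1991dc36732104126e01f58f5bf870d8d5855365abc4bfa3760bacf9f7e594b4488e55d2ef936dfacfb0139ec2a87e49f68f27afa499bc980bc6b29fbcec42e97f1ed593a5246000000000000000000000000000000000000000000000000800000000000000000000000000002000000000000000000000f9db0419b527b5d283fa1735967ec3e87b693772a7f0842e60be880e1446b0ff3d72f3ab9df0bfa4c946981f308b5073cb4e520f114b45d6aae8bc9ba0d34733c2401cb9492d1f5537233177b4dae96eb68d12bcfde6a0a502e3d672c9900b8c840a1e6cd942a6440bfe976698c1bb600a428391950c662bd559597ac1bb042516500c0e08485221e7e5a730a17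5b4bb2454b0dffb3cbdcf5010763be6d978cefae0b22081ad86615d69bf0fa40fbd548b6bd3b0986bb6b742a03f5fb0a20adab15834d2a4c82237119d2bb6040c7962c191ff1031f71deae951352981a167d658f74e2ecfe3d8dcee02b7d819e555179eb4a2004461ed72e7b12866b7c8df1d5d7c41e95df7e33989dbf4a2a13ada22ede48d3834de28bcf09d4b2534c5e23ff811ff302b294be3a47fd0be769399bf3d34e59007004e55eefb7b446440c5ca354adc4947af7c5f38c208efca4e3d15ab5d431cfe48f4e9cce01000000000000000000000000000000020000000000000000000000000000000000000000000000000008000000000000000ba7d94c93871a6216e3f89cbb889949ebdddf0a8ea20ec416c000000000000000000000000000000000000000000000800000000000000000000000000000000000010000000000000001d399e8377c13117008374b93b3ed4dacb60dd988ead5bad7299cfc11a1e65d784da9fa34a2c895f1ddc092d7b984b6d6e280000000000000000000000000000000000000000000000008029a25efa5eb2604c0fd3a348382ca6e66d4fe1f2fdd920ebc00000000000000000000000000000000000000000000800000d350d9ace854e438397711af12d173a7664c8193a76d44b2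326d2f1817563850d1a77922f9d3fed2cf5e9b9723e96ffc29000000000000000000000000000000010000000000000000025b6a4d4105b480764ed598f3a5297534ee495fb1c852c6b42226ab6c7c81ca13b0965a9d7b5429b40f1d6be6b9c20900b7c0211c8413fe219c0ddc0fcf2af16cd1776c3e67b1518cb6532000000000000000000000000000000000000000000000000010000000000000000000000000000000000000000000000000020000000000000000000000000000000000000000000000000000000000000000000000000000000000000000000000040000000000000000000000000000000000001000000000000000008000000000000000000000000000000000000000000000000400000000000000000000000000000000000000000000000004000000000000000000000000000000000000000000000000040000000000000000000000000000000000000000000000000100000000000000000000000000000000000000000000000001000000000000000000000000000000000000000000000000010000000000000000000000000000000000000000000000000020000000000000000000000000000000000000000000000000100000000000000000000000000000000000000000000000000800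000000000000000000000000000000000000000000000002000000000000000000000000000000000000000000000000004000000000000000000000000000000000000000000000000000000000000000000000000000000000000020000000000000000000000000000000000000000400000000000000000000000080000000000000000000000000000000000000000000000004000000000000000000000000000000000000000000000000040000000000000000000000000000000000000000000000000200000000000000000000000000000000000000000000000001000000000000000000000000000000000000000000000000004000000000000000000000000000000000000000000000000020000000000000000000000000000000000000000000000000100000000000000000000000000000000000000000000000000800000000000000000000000000000000000000000000000001000000000000000000000000000000000000000000000000008000000000000000000000000000000000000000000000000020000000000000000000000000000000000000000000000000080000000000000000000000000000000000000000000000000100000000000000000000000000000000000000000000000000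20000000000000000000000000000000000000000000000000100000000000000000000000000000000000000000000000000400000000000000000000000000000000000000000000000001000000000000000000000000000000000000000000000000000000000000000000001000000000000000000000000000000000000000000000400000000000000000000000000000000000020000000000000000000000000000000000000000000000001000000000000000000000000000000000000000000000000010000000000000000000000000000000000000000000000000080000000000000000000000000000000000000000000000000400000000000000000000000000000000000000000000000001000000000000000000000000000000000000000000000000008000000000000000000000000000000000000000000000000040000000000000000000000000000000000000000000000000200000000000000000000000000000000000000000000000000400000000000000000000000000000000000000000000000002000000000000000000000000000000000000000000000000008000000000000000000000000000000000000000000000000020000000000000000000000000000000000000000000000000040000000000000000000000000000000000000000000000000100000000000000000000000000000000000000000000000000800000000000000000000000000000000000000000000000002000000000000000000000000000000000000000000000000008000000000000000000000000000000000000000000000000010])]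

/-- the first basis vector generates -/
noncomputable def Pr10 : List (List (ℕ × ℕ)) :=
  (by
  refine (?fq9010 : ((pk61l (fun i1 => ((fun g1 : Nat → Nat => pk61l (fun i2 => (_root_.Prod.mk (pk61d (nat_lit 3) 
    (nat_lit 0x6a231a22221a31451111431a2235118d18d111a21a68a31446231111a8cc6634446a34634634446888d468c68c68869a28c51188c4446a33198d111a8d18d18d111a31a8d18d18d111a09492490a8d491a9235149248a488470c66344451a31a31a2234446a34634634434d146288c4622235198cc6888d468c68c6888d18d468c68c6888d09249186893111218cc6884d18d18d10d16a34634634446849247244446a33198d06a346346344468b51a31a31a22340920b2a346231a22351c68c4634446888d10895118d18888d111a2086418ca319008461) i2) (pk61d (nat_lit 8) 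
    (nat_lit 0x3a3a393939383838383837373737363634333332323131313130302f2f2e2e2e2e2e2d2d2d2c2c2c2b2b2b2b2a2a2a2a2a2929292929282827272726262525242424232323222222222121212020201f1f1f1e1e1e1e1e1d1d1d1c1c1c1c1b1b1b1b1a1a1a1a1a1919191919181818171717171616161615151515151414131313121211111010100f0f0f0e0e0e0e0d0d0d0c0c0c0b0b0b0a0a0a0a0a09090908080808070707070606060606050505050404040303030302020202010101010100000000847d665d5453514e4d49413e3d3d3c3b3a3a3a3938373636333332312f2d2c25252423222222212120201f1f1f1e1e1e1e1e1d1d1c1c1c1c1b1b1b1b1a1a1a1a1a1919191919181818171717171616161615151515151414131313121211111010100f0f0f0e0e0e0e0d0d0d0c0c0c0b0b0b0a0a0a0a0a090909080808080707070706060606060505050504040403030303020202020101010101000000002b2a28271f1e1818141414120f0e0e0e0e0d0c0c0b0b0b0a0a0a0a0a09080808070707070606060606050505040403030303020202020101010101000000002423201f141411100e0e0e0e0d0d0d0c0c0c0b0b0b0a0a0a0a09090808080807070707060606060605050505040403030303020202020101010101000000001e1d1c100c0b0b0a090909090808080707070707060606050504040404030303020202020201010101010000000000070706050404040303030302020202010101010100000000000a0a0505050302020201010000000005030301010000)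 i2))) (g1 i1) (g1 (Nat.succ i1)) List.nil) fun j => (pk61d (nat_lit 10) 
    (nat_lit 0x9017b3709d1782f0580700000) j))) (nat_lit 0) (nat_lit 9) List.nil) : List (List (ℕ × ℕ)))
    = ?xq9010 → (List (List (ℕ × ℕ)))) ?hq9010; (case hq9010 => (set_option maxRecDepth 1000000 in conv => lhs; reduce)); intro _; exact ?xq9010 : List (List (ℕ × ℕ)))

/-- the data for Norton's test -/
noncomputable def N10 : List (Ex × ℕ × List (List ℕ)) :=
  (by
  refine (?fq9011 : ((pk61l (fun i1 => (_root_.Prod.mk (pk61r (fun r1 j => pk61f j fun i2 => (pk61f (pk61d (nat_lit 4) 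
    (nat_lit 0x98dcb765a9874326543102100) i2) fun u8 => (pk61f (pk61d (nat_lit 2) 
    (nat_lit 0x295a956a55a54) i2) fun t2_1 => (pk61c (Nat.div t2_1 (nat_lit 1)) _root_.Cfsg.Agent.E8A.Mc.Ex.z fun _ => (pk61c (Nat.div t2_1 (nat_lit 2)) (_root_.Cfsg.Agent.E8A.Mc.Ex.w ((fun g2 : Nat → Nat => pk61l (fun i3 => (pk61d (nat_lit 3) 
    (nat_lit 0x6265888c09a29a) i3)) (g2 u8) (g2 (Nat.succ u8)) List.nil) fun j => (pk61d (nat_lit 5) 
    (nat_lit 0x4e517b56a524e629040) j))) fun _ => (_root_.Cfsg.Agent.E8A.Mc.Ex.add (r1 (Nat.sub i2 (pk61d (nat_lit 3) 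
    (nat_lit 0x22d168a2) u8))) (r1 (Nat.sub i2 (nat_lit 1))))))))) (_root_.Cfsg.Agent.E8A.Mc.Ex.z) (nat_lit 4) (pk61d (nat_lit 5) 
    (nat_lit 0x189b0a0) i1)) (_root_.Prod.mk (pk61f i1 fun j => (fun g : Nat → Nat => Nat.mod (Nat.shiftRight 
    (nat_lit 0x10000000000010000000000010000000000000000000000010000000000010000000000000000000000000000000000000000000000010000000000000000000000010000000000000000000000000000000000000000000000000000000000010000000000000000000000010000000000010000000000000000000000010000000000010000000000000000000000010000000000000000000000010000000000010000000000010000000000000000000000010000000000000000000000010000000000000000000000000000000000010000000000010000000000000000000000000000000000010000000000000000000000000000000000000000000000010000000000010000000000010400000000000040000000000004000000000000400000000000040000010000000000001000000000000000000040000000000000000000000000400000000000000000010000004000000000000400000101000100010001000000010001000100010001000000010000000000000101000101)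 (Nat.mul (nat_lit 8) (g j))) (Nat.shiftLeft (nat_lit 1) (Nat.mul (nat_lit 8) (Nat.sub (g (Nat.succ j)) (g j))))) (pk61d (nat_lit 9) 
    (nat_lit 0x30674110140200))) ((fun g1 : Nat → Nat => pk61l (fun i2 => ((fun g2 : Nat → Nat => pk61l (fun i3 => (pk61d (nat_lit 3) 
    (nat_lit 0x8482482082080640e050460b11068240a1086422090088030100409148db2e26922a165124181840802344124125020369c4d24542ca24830308100468889a2a16512584088d10c9240088) i3)) (g2 i2) (g2 (Nat.succ i2)) List.nil) fun j => (pk61d (nat_lit 8) 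
    (nat_lit 0xc8c4c0bcb9b6b3b0adaaa7a4a19e9b9895928f8c898683807e7c7a78767472706e6c6a68666462605e5c5a595857565555524f4c49474543413f3d3b39373533312f2d2b2928272625242422201e1c1a18161412100f0e0d0c0b0b090705030201000000) j))) (g1 i1) (g1 (Nat.succ i1)) List.nil) fun j => (pk61d (nat_lit 7) 
    (nat_lit 0x31b33224080) j))))) (nat_lit 0) (nat_lit 5) List.nil) : List (Ex × ℕ × List (List ℕ)))
    = ?xq9011 → (List (Ex × ℕ × List (List ℕ)))) ?hq9011; (case hq9011 => (set_option maxRecDepth 1000000 in conv => lhs; reduce)); intro _; exact ?xq9011 : List (Ex × ℕ × List (List ℕ)))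

/-- the fixed spaces -/
def F10 : List (List ℕ) :=
  [[1, 1, 1, 1, 1], [8, 6, 4, 4, 2], [16, 0, 8, 0, 4], [26, 14, 8, 6, 2], [48, 20, 16, 8, 6]]

/-- the derivations -/
def Z10 : List (List ℕ) :=
  [[0], [3], [4], [3], [6]]

/-- the 3-cycles -/
noncomputable def L9 : List (List ℕ) :=
  (by
  refine (?fq9012 : (fun (On : (n : Nat) → OfNat Nat n → Nat) (In : (n : Nat) → OfNat Nat n) => ((pk61l (fun i1 => ((fun g1 : Nat → Nat => pk61l (fun i2 => (pk61o On In (pk61d (nat_lit 2) 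
    (nat_lit 0x96441aa5646096411aa56418da5e5696995150440757d0175f4056b50d157c31055fa455801d5f405d7d015ad4d055f30455fa415619a65795e5455f40559c2710559c4145598167105841599910559c41598416644244164157d015672704559c1141566167045811599904559c115981166412411674157e9055a595aa55da9566a565855d015642441544159910559104656056440157405592411541159904559044195856413455fa455b5f567667d755ad5757d55d7d9669d7d59d99f5d59a6665996b5795e67995d5f575f659a6699566995ad5e57910551415441515054505510515404155454050555140541554405505045505154115054541455045055011554150145550501515541015457d596659d5695665557d66596599675665557d559e665956556656755995995055505550555057559556655d6565655599575565995959596655155455515546feabfbe838) i2))) (g1 i1) (g1 (Nat.succ i1)) List.nil) fun j => (pk61d (nat_lit 11) 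
    (nat_lit 0x558a995029a528a3b44a83cfc9e339a6dcd098b2ea57ca493323a41c798df1962dc5188f0f619c2983f05605c017eefb5f1bd979ef15ddbb174ee75c9b896fedd5b5b626b2d41a3b3e66acb191b1a622c217faf65dab916dad2592b015baae54aa754aa8d50a9f53aa6d4ca9752aa4d48a8f51aa2d44a8750aa0d40a7f4fa9ed3ca774ea9cd38a6f4da9ad34a674ca98d30a5f4ba96d2ca574aa94d28a4f49a92d24a4748a90e20e4007c8f21d63906e8d619e320608ba1662b05289e12e240448820f61d4378690c61742b8510961141f8390660b4138210360540900f0180240380500600800800) j))) (nat_lit 0) (nat_lit 168) List.nil) : List (List ℕ)))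
    = ?xq9012 → (List (List ℕ))) ?hq9012; (case hq9012 => (set_option maxRecDepth 1000000 in conv => lhs; reduce)); intro _; exact ?xq9012 (@OfNat.ofNat Nat) instOfNatNat : List (List ℕ))

/-- a Sylow 2-subgroup -/
noncomputable def ch : List (List ℕ × List ℕ × List (List ℕ)) :=
  (by
  refine (?fq9013 : ((pk61l (fun i1 => (_root_.Prod.mk ((fun g1 : Nat → Nat => pk61l (fun i2 => (pk61d (nat_lit 2) 
    (nat_lit 0x24541415411105104a598455111a14) i2)) (g1 i1) (g1 (Nat.succ i1)) List.nil) fun j => (pk61d (nat_lit 6) 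
    (nat_lit 0x3bc27690240) j)) (_root_.Prod.mk List.nil ((fun g1 : Nat → Nat => pk61l (fun i2 => ((fun g2 : Nat → Nat => pk61l (fun i3 => (pk61d (nat_lit 3) 
    (nat_lit 0x8450691123448) i3)) (g2 i2) (g2 (Nat.succ i2)) List.nil) fun j => (pk61d (nat_lit 5) 
    (nat_lit 0x9ca307b98b520e620c40) j))) (g1 i1) (g1 (Nat.succ i1)) List.nil) fun j => (pk61d (nat_lit 4) 
    (nat_lit 0xffec950) j))))) (nat_lit 0) (nat_lit 6) List.nil) : List (List ℕ × List ℕ × List (List ℕ)))
    = ?xq9013 → (List (List ℕ × List ℕ × List (List ℕ)))) ?hq9013; (case hq9013 => (set_option maxRecDepth 1000000 in conv => lhs; reduce)); intro _; exact ?xq9013 : List (List ℕ × List ℕ × List (List ℕ)))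

/-- trivial models -/
def M0 : List (ℕ × List ℕ) :=
  [(1, List.replicate 6 1), (1, List.replicate 2 1)]

end Cfsg.Agent.E8A.TwoD
end

private theorem dce_1637b319cfd2 : _root_.True := by
  try have : _root_.True := by simp only [_root_.Cfsg.Agent.E8A.Mc.Cls.chk.eq_def]
  try have : _root_.True := by simp only [_root_.Cfsg.Agent.E8A.Mc.ltW.eq_def]
  try have : _root_.True := by simp only [_root_.Cfsg.Agent.E8A.Mc.Inv.eq_def]
  try have : _root_.True := by simp only [_root_.Cfsg.Agent.E8A.Mc.ms.eq_1]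
  try have : _root_.True := by simp only [_root_.Cfsg.Agent.E8A.Mc.allN.eq_1]
  try have : _root_.True := by simp only [_root_.Cfsg.Agent.E8A.Mc.sing.eq_def]
  try have : _root_.True := by simp only [_root_.Cfsg.Agent.E8A.Mc.stp.eq_def]
  try have : _root_.True := by simp only [_root_.Cfsg.Agent.E8A.Mc.flat.eq_def]
  try have : _root_.True := by simp only [_root_.Cfsg.Agent.E8A.Mc.evW.eq_def]
  try have : _root_.True := by simp only [_root_.Cfsg.Agent.E8A.Mc.evW.eq_1]
  try have : _root_.True := by simp only [_root_.Cfsg.Agent.E8A.Mc.flat.eq_1]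
  try have : _root_.True := by simp only [_root_.Cfsg.Agent.E8A.Mc.stp.eq_1]
  try have : _root_.True := by simp only [_root_.Cfsg.Agent.E8A.Mc.sing.eq_1]
  try have : _root_.True := by simp only [_root_.Cfsg.Agent.E8A.Mc.badAll.eq_1]
  try have : _root_.True := by simp only [_root_.Cfsg.Agent.E8A.Mc.bv.eq_1]
  try have : _root_.True := by simp only [_root_.Cfsg.Agent.E8A.Mc.norAll.eq_def]
  try have : _root_.True := by simp only [_root_.Cfsg.Agent.E8A.Mc.subF.eq_def]
  try have : _root_.True := by simp only [_root_.Cfsg.Agent.E8A.Mc.bt.eq_1]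
  try have : _root_.True := by simp only [_root_.Cfsg.Agent.E8A.Mc.idT.eq_def]
  try have : _root_.True := by simp only [_root_.Cfsg.Agent.E8A.Mc.bw.eq_1]
  try have : _root_.True := by simp only [_root_.Cfsg.Agent.E8A.Mc.norOk.eq_1]
  try have : _root_.True := by simp only [_root_.Cfsg.Agent.E8A.Mc.subOp.eq_def]
  try have : _root_.True := by simp only [_root_.Cfsg.Agent.E8A.Mc.lg.eq_def]
  try have : _root_.True := by simp only [_root_.Cfsg.Agent.E8A.Mc.mkS.eq_def]
  try have : _root_.True := by simp only [_root_.Cfsg.Agent.E8A.Mc.pk.eq_1]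
  try have : _root_.True := by simp only [_root_.Cfsg.Agent.E8A.Mc.flat2.eq_def]
  try have : _root_.True := by simp only [_root_.Cfsg.Agent.E8A.Mc.Cls.w.eq_def]
  try have : _root_.True := by simp only [_root_.Cfsg.Agent.E8A.Mc.lin.eq_def]
  try have : _root_.True := by simp only [_root_.Cfsg.Agent.E8A.Mc.fe.eq_def]
  try have : _root_.True := by simp only [_root_.Cfsg.Agent.E8A.Mc.foxOk.eq_1]
  try have : _root_.True := by simp only [_root_.Cfsg.Agent.E8A.Mc.foxE.eq_def]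
  try have : _root_.True := by simp only [_root_.Cfsg.Agent.E8A.Mc.sw.eq_def]
  try have : _root_.True := by simp only [_root_.Cfsg.Agent.E8A.Mc.cenOk.eq_1]
  try have : _root_.True := by simp only [_root_.Cfsg.Agent.E8A.Mc.indOk.eq_def]
  try have : _root_.True := by simp only [_root_.Cfsg.Agent.E8A.Mc.rkE.eq_def]
  try have : _root_.True := by simp only [_root_.Cfsg.Agent.E8A.Mc.tabOk.eq_def]
  try have : _root_.True := by simp only [_root_.Cfsg.Agent.E8A.Mc.okA.eq_def]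
  try have : _root_.True := by simp only [_root_.Cfsg.Agent.E8A.Mc.chainOk.eq_def]
  try have : _root_.True := by simp only [_root_.Cfsg.Agent.E8A.Mc.piv.eq_1]
  try have : _root_.True := by simp only [_root_.Cfsg.Agent.E8A.Mc.wd.eq_1]
  try have : _root_.True := by simp only [_root_.Cfsg.Agent.E8A.Mc.upOk.eq_1]
  try have : _root_.True := by simp only [_root_.Cfsg.Agent.E8A.Mc.md.eq_def]
  try have : _root_.True := by simp only [_root_.Cfsg.Agent.E8A.Mc.cy.eq_1]
  try have : _root_.True := by simp only [_root_.Cfsg.Agent.E8A.Mc.ltE.eq_def]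
  try have : _root_.True := by simp only [_root_.Cfsg.Agent.E8A.Mc.tv.eq_1]
  try have : _root_.True := by simp only [_root_.Cfsg.Agent.E8A.Mc.rk.eq_def]
  try have : _root_.True := by simp only [_root_.Cfsg.Agent.E8A.Mc.badOk.eq_def]
  try have : _root_.True := by simp only [_root_.Cfsg.Agent.E8A.Mc.th.eq_1]
  try have : _root_.True := by simp only [_root_.Cfsg.Agent.E8A.Mc.wpow.eq_def]
  try have : _root_.True := by simp only [_root_.Cfsg.Agent.E8A.Mc.quoOp.eq_1]
  try have : _root_.True := by simp only [_root_.Cfsg.Agent.E8A.Mc.blkOk.eq_1]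
  try have : _root_.True := by simp only [_root_.Cfsg.Agent.E8A.Mc.mul.eq_1]
  try have : _root_.True := by simp only [_root_.Cfsg.Agent.E8A.Mc.mul.eq_def]
  try have : _root_.True := by simp only [_root_.Cfsg.Agent.E8A.Mc.blkOk.eq_def]
  try have : _root_.True := by simp only [_root_.Cfsg.Agent.E8A.Mc.badOk.eq_1]
  try have : _root_.True := by simp only [_root_.Cfsg.Agent.E8A.Mc.quoOp.eq_def]
  try have : _root_.True := by simp only [_root_.Cfsg.Agent.E8A.Mc.wpow.eq_1]
  try have : _root_.True := by simp only [_root_.Cfsg.Agent.E8A.Mc.th.eq_def]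
  try have : _root_.True := by simp only [_root_.Cfsg.Agent.E8A.Mc.nth.eq_1]
  try have : _root_.True := by simp only [_root_.Cfsg.Agent.E8A.Mc.ind0.eq_def]
  try have : _root_.True := by simp only [_root_.Cfsg.Agent.E8A.Mc.force.eq_1]
  try have : _root_.True := by simp only [_root_.Cfsg.Agent.E8A.Mc.spL.eq_1]
  try have : _root_.True := by simp only [_root_.Cfsg.Agent.E8A.Mc.quoOp.congr_simp]
  try have : _root_.True := by simp only [_root_.Cfsg.Agent.E8A.Mc.spinOk.eq_def]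
  try have : _root_.True := by simp only [_root_.Cfsg.Agent.E8A.Mc.ops.eq_def]
  try have : _root_.True := by simp only [_root_.Cfsg.Agent.E8A.Mc.Hom.eq_def]
  try have : _root_.True := by simp only [_root_.Cfsg.Agent.E8A.Mc.cat.eq_1]
  try have : _root_.True := by simp only [_root_.Cfsg.Agent.E8A.Mc.Cls.z.eq_def]
  try have : _root_.True := by simp only [_root_.Cfsg.Agent.E8A.Mc.blocksOk.eq_def]
  try have : _root_.True := by simp only [_root_.Cfsg.Agent.E8A.Mc.Cls.w.eq_1]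
  try have : _root_.True := by simp only [_root_.Cfsg.Agent.E8A.Mc.mkS.eq_1]
  try have : _root_.True := by simp only [_root_.Cfsg.Agent.E8A.Mc.pk.eq_def]
  try have : _root_.True := by simp only [_root_.Cfsg.Agent.E8A.Mc.flat2.eq_1]
  try have : _root_.True := by simp only [_root_.Cfsg.Agent.E8A.Mc.lg.eq_1]
  try have : _root_.True := by simp only [_root_.Cfsg.Agent.E8A.Mc.subOp.eq_1]
  try have : _root_.True := by simp only [_root_.Cfsg.Agent.E8A.Mc.norOk.eq_def]
  try have : _root_.True := by simp only [_root_.Cfsg.Agent.E8A.Mc.subF.eq_1]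
  try have : _root_.True := by simp only [_root_.Cfsg.Agent.E8A.Mc.bw.eq_def]
  try have : _root_.True := by simp only [_root_.Cfsg.Agent.E8A.Mc.norAll.eq_1]
  try have : _root_.True := by simp only [_root_.Cfsg.Agent.E8A.Mc.bv.eq_def]
  try have : _root_.True := by simp only [_root_.Cfsg.Agent.E8A.Mc.bt.eq_def]
  try have : _root_.True := by simp only [_root_.Cfsg.Agent.E8A.Mc.badAll.eq_def]
  try have : _root_.True := by simp only [_root_.Cfsg.Agent.E8A.Mc.idT.eq_1]
  try have : _root_.True := by simp only [_root_.Cfsg.Agent.E8A.Mc.Fx.eq_def]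
  try have : _root_.True := by simp only [_root_.Cfsg.Agent.E8A.Mc.co.eq_1]
  try have : _root_.True := by simp only [_root_.Cfsg.Agent.E8A.Mc.en.eq_def]
  try have : _root_.True := by simp only [_root_.Cfsg.Agent.E8A.Mc.dig.eq_1]
  try have : _root_.True := by simp only [_root_.Cfsg.Agent.E8A.Mc.nthW.eq_1]
  try have : _root_.True := by simp only [_root_.Cfsg.Agent.E8A.Mc.geo.eq_def]
  try have : _root_.True := by simp only [_root_.Cfsg.Agent.E8A.Mc.nthW.eq_def]
  try have : _root_.True := by simp only [_root_.Cfsg.Agent.E8A.Mc.dig.eq_def]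
  try have : _root_.True := by simp only [_root_.Cfsg.Agent.E8A.Mc.subOp.congr_simp]
  try have : _root_.True := by simp only [_root_.Cfsg.Agent.E8A.Mc.geo.eq_1]
  try have : _root_.True := by simp only [_root_.Cfsg.Agent.E8A.Mc.en.eq_1]
  try have : _root_.True := by simp only [_root_.Cfsg.Agent.E8A.Mc.co.eq_def]
  try have : _root_.True := by simp only [_root_.Cfsg.Agent.E8A.Mc.Fx.eq_1]
  try have : _root_.True := by simp only [_root_.Cfsg.Agent.E8A.Mc.Cls.chk.eq_1]
  try have : _root_.True := by simp only [_root_.Cfsg.Agent.E8A.Mc.allN.eq_def]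
  try have : _root_.True := by simp only [_root_.Cfsg.Agent.E8A.Mc.ms.eq_def]
  try have : _root_.True := by simp only [_root_.Cfsg.Agent.E8A.Mc.ltW.eq_1]
  try have : _root_.True := by simp only [_root_.Cfsg.Agent.E8A.Mc.Inv.eq_1]
  try have : _root_.True := by simp only [_root_.Cfsg.Agent.E8A.Mc.tb.eq_def]
  try have : _root_.True := by simp only [_root_.Cfsg.Agent.E8A.Mc.Nil.eq_1]
  try have : _root_.True := by simp only [_root_.Cfsg.Agent.E8A.Mc.evE.eq_1]
  try have : _root_.True := by simp only [_root_.Cfsg.Agent.E8A.Mc.Van.eq_1]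
  try have : _root_.True := by simp only [_root_.Cfsg.Agent.E8A.Mc.Kr.eq_def]
  try have : _root_.True := by simp only [_root_.Cfsg.Agent.E8A.Mc.Tab.eq_1]
  try have : _root_.True := by simp only [_root_.Cfsg.Agent.E8A.Mc.el.eq_def]
  try have : _root_.True := by simp only [_root_.Cfsg.Agent.E8A.Mc.gp.eq_def]
  try have : _root_.True := by simp only [_root_.Cfsg.Agent.E8A.Mc.inc.eq_def]
  try have : _root_.True := by simp only [_root_.Cfsg.Agent.E8A.Mc.blocksOk.eq_1]
  try have : _root_.True := by simp only [_root_.Cfsg.Agent.E8A.Mc.cat.eq_def]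
  try have : _root_.True := by simp only [_root_.Cfsg.Agent.E8A.Mc.ops.eq_1]
  try have : _root_.True := by simp only [_root_.Cfsg.Agent.E8A.Mc.Cls.z.eq_1]
  try have : _root_.True := by simp only [_root_.Cfsg.Agent.E8A.Mc.Hom.eq_1]
  try have : _root_.True := by simp only [_root_.Cfsg.Agent.E8A.Mc.spL.eq_def]
  try have : _root_.True := by simp only [_root_.Cfsg.Agent.E8A.Mc.force.eq_def]
  try have : _root_.True := by simp only [_root_.Cfsg.Agent.E8A.Mc.spinOk.eq_1]
  try have : _root_.True := by simp only [_root_.Cfsg.Agent.E8A.Mc.nth.eq_def]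
  try have : _root_.True := by simp only [_root_.Cfsg.Agent.E8A.Mc.ind0.eq_1]
  try have : _root_.True := by simp only [_root_.Cfsg.Agent.E8A.Mc.Cls.f.eq_1]
  try have : _root_.True := by simp only [_root_.Cfsg.Agent.E8A.Mc.spinA.eq_1]
  try have : _root_.True := by simp only [_root_.Cfsg.Agent.E8A.Mc.row.eq_1]
  try have : _root_.True := by simp only [_root_.Cfsg.Agent.E8A.Mc.forceL.eq_1]
  try have : _root_.True := by simp only [_root_.Cfsg.Agent.E8A.Mc.letOk.eq_1]
  try have : _root_.True := by simp only [_root_.Cfsg.Agent.E8A.Mc.elim.eq_def]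
  try have : _root_.True := by simp only [_root_.Cfsg.Agent.E8A.Mc.kd.eq_def]
  try have : _root_.True := by simp only [_root_.Cfsg.Agent.E8A.Mc.kd.eq_1]
  try have : _root_.True := by simp only [_root_.Cfsg.Agent.E8A.Mc.elim.eq_1]
  try have : _root_.True := by simp only [_root_.Cfsg.Agent.E8A.Mc.row.eq_def]
  try have : _root_.True := by simp only [_root_.Cfsg.Agent.E8A.Mc.Cls.f.eq_def]
  try have : _root_.True := by simp only [_root_.Cfsg.Agent.E8A.Mc.spinA.eq_def]
  try have : _root_.True := by simp only [_root_.Cfsg.Agent.E8A.Mc.forceL.eq_def]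
  try have : _root_.True := by simp only [_root_.Cfsg.Agent.E8A.Mc.letOk.eq_def]
  try have : _root_.True := by simp only [_root_.Cfsg.Agent.E8A.Mc.upOk.eq_def]
  try have : _root_.True := by simp only [_root_.Cfsg.Agent.E8A.Mc.ltE.eq_1]
  try have : _root_.True := by simp only [_root_.Cfsg.Agent.E8A.Mc.cy.eq_def]
  try have : _root_.True := by simp only [_root_.Cfsg.Agent.E8A.Mc.md.eq_1]
  try have : _root_.True := by simp only [_root_.Cfsg.Agent.E8A.Mc.rk.eq_1]
  try have : _root_.True := by simp only [_root_.Cfsg.Agent.E8A.Mc.tv.eq_def]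
  try have : _root_.True := by simp only [_root_.Cfsg.Agent.E8A.Mc.tabOk.eq_1]
  try have : _root_.True := by simp only [_root_.Cfsg.Agent.E8A.Mc.chainOk.eq_1]
  try have : _root_.True := by simp only [_root_.Cfsg.Agent.E8A.Mc.okA.eq_1]
  try have : _root_.True := by simp only [_root_.Cfsg.Agent.E8A.Mc.piv.eq_def]
  try have : _root_.True := by simp only [_root_.Cfsg.Agent.E8A.Mc.wd.eq_def]
  try have : _root_.True := by simp only [_root_.Cfsg.Agent.E8A.Mc.sw.eq_1]
  try have : _root_.True := by simp only [_root_.Cfsg.Agent.E8A.Mc.foxE.eq_1]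
  try have : _root_.True := by simp only [_root_.Cfsg.Agent.E8A.Mc.rkE.eq_1]
  try have : _root_.True := by simp only [_root_.Cfsg.Agent.E8A.Mc.indOk.eq_1]
  try have : _root_.True := by simp only [_root_.Cfsg.Agent.E8A.Mc.cenOk.eq_def]
  try have : _root_.True := by simp only [_root_.Cfsg.Agent.E8A.Mc.fe.eq_1]
  try have : _root_.True := by simp only [_root_.Cfsg.Agent.E8A.Mc.foxOk.eq_def]
  try have : _root_.True := by simp only [_root_.Cfsg.Agent.E8A.Mc.lin.eq_1]
  try have : _root_.True := by simp only [_root_.Cfsg.Agent.E8A.Mc.Tab.eq_def]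
  try have : _root_.True := by simp only [_root_.Cfsg.Agent.E8A.Mc.gp.eq_1]
  try have : _root_.True := by simp only [_root_.Cfsg.Agent.E8A.Mc.Kr.eq_1]
  try have : _root_.True := by simp only [_root_.Cfsg.Agent.E8A.Mc.Van.eq_def]
  try have : _root_.True := by simp only [_root_.Cfsg.Agent.E8A.Mc.inc.eq_1]
  try have : _root_.True := by simp only [_root_.Cfsg.Agent.E8A.Mc.el.eq_1]
  try have : _root_.True := by simp only [_root_.Cfsg.Agent.E8A.Mc.evE.eq_def]
  try have : _root_.True := by simp only [_root_.Cfsg.Agent.E8A.Mc.Nil.eq_def]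
  try have : _root_.True := by simp only [_root_.Cfsg.Agent.E8A.Mc.tb.eq_1]
  exact _root_.True.intro
end
end
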