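import Cfsg.Agent.E8A.Two.I7_m3
import Cfsg.Agent.Prune
set_option linter.all false
prune_inst 0x7f00000000000000000000000000000000000000000000000000000000000000000000000000000000000000000000000000000000000000000000000000000000000000000000000000000000000000003fffffffffffffffffffffffffffbeffbdffffffff
private noncomputable def lq2627b84c0cbb {T : Sort _} (f :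
    (type_of% @_root_.List.cons.{0}) →
    (type_of% @_root_.Prod.mk.{0, 0}) →
    (type_of% @_root_.List.nil.{0}) →
    ((List (List (Prod Nat Nat))) → (List (List (Prod Nat Nat)))) →
    ((List (Prod Nat Nat)) → (List (Prod Nat Nat))) → T) : T :=
  f (@_root_.List.cons.{0}) (@_root_.Prod.mk.{0, 0}) (@_root_.List.nil.{0}) (fun x => x) (fun x => x)

/-!
# The certificate in `M₁₁`: the cosets of `3²` (helper44, generated by notes/E8A/two)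
-/

set_option autoImplicit false
set_option maxRecDepth 100000

namespace Cfsg.Agent.E8A.Two.Mk

open Cfsg.Agent.R2.T1.Odd Cfsg.Agent.R2.T1.Msk

/-- generators -/
def g11 : List SW := (beta% delta% lq2627b84c0cbb fun vqc0 vqc1 vqc2 _ _ =>
    (vqc0 (vqc0 (vqc1 0 1) (vqc0 (vqc1 1 2) (vqc0 (vqc1 2 3) (vqc0 (vqc1 3 4) (vqc0 (vqc1 4 5) (vqc0 (vqc1 5 6) (vqc0 (vqc1 6 7) (vqc0 (vqc1 7 8) (vqc0 (vqc1 8 9) (vqc0 (vqc1 9 10) vqc2)))))))))) (vqc0 (vqc0 (vqc1 0 10) (vqc0 (vqc1 10 4) (vqc0 (vqc1 1 6) (vqc0 (vqc1 6 8) (vqc0 (vqc1 2 7) (vqc0 (vqc1 7 5) vqc2)))))) vqc2)))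

/-- cosets -/
def A11 : Dt where
  gT := (beta% delta% lq2627b84c0cbb fun vqc0 vqc1 vqc2 _ _ =>
      (vqc0 (vqc0 (vqc1 0 10) (vqc0 (vqc1 10 4) (vqc0 (vqc1 1 6) (vqc0 (vqc1 6 8) (vqc0 (vqc1 2 7) (vqc0 (vqc1 7 5) vqc2)))))) (vqc0 (vqc0 (vqc1 0 1) (vqc0 (vqc1 1 2) (vqc0 (vqc1 4 8) (vqc0 (vqc1 8 5) (vqc0 (vqc1 6 7) (vqc0 (vqc1 7 10) vqc2)))))) vqc2)))
  zw := (beta% delta% lq2627b84c0cbb fun vqc0 _ vqc2 _ _ =>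
      (vqc0 vqc2 (vqc0 (vqc0 0 vqc2) (vqc0 (vqc0 1 vqc2) (vqc0 (vqc0 0 (vqc0 0 vqc2)) (vqc0 (vqc0 0 (vqc0 1 vqc2)) (vqc0 (vqc0 1 (vqc0 1 vqc2)) (vqc0 (vqc0 0 (vqc0 0 (vqc0 1 vqc2))) (vqc0 (vqc0 0 (vqc0 1 (vqc0 1 vqc2))) (vqc0 (vqc0 0 (vqc0 0 (vqc0 1 (vqc0 1 vqc2)))) vqc2))))))))))
  reps := (beta% delta% lq2627b84c0cbb fun vqc0 vqc1 vqc2 vqc3 _ =>
      (let vqy1 : type_of% (vqc3 _) := (let vqy2 : type_of% (vqc3 _) := (let vqy3 : type_of% (vqc3 _) := (let vqy4 : type_of% (vqc3 _) := (let vqy5 : type_of% (vqc3 _) := (let vqy6 : type_of% (vqc3 _) := (let vqy7 : type_of% (vqc3 _) := (vqc0 (vqc0 (vqc1 0 2) (vqc0 (vqc1 2 8) (vqc0 (vqc1 8 9) (vqc0 (vqc1 1 3) (vqc0 (vqc1 3 6) (vqc0 (vqc1 6 5) vqc2))))))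
      (vqc0 (vqc0 (vqc1 0 2) (vqc0 (vqc1 2 10) (vqc0 (vqc1 3 9) (vqc0 (vqc1 9 6) (vqc0 (vqc1 4 7) (vqc0 (vqc1 7 5) vqc2)))))) (vqc0 (vqc0 (vqc1 0 8) (vqc0 (vqc1 8 2) (vqc0 (vqc1 1 9) (vqc0 (vqc1 9 6) (vqc0 (vqc1 3 10) (vqc0 (vqc1 10 4) vqc2))))))
      (vqc0 (vqc0 (vqc1 3 4) (vqc0 (vqc1 4 9) (vqc0 (vqc1 9 7) (vqc0 (vqc1 5 8) (vqc0 (vqc1 8 6) (vqc0 (vqc1 6 10) vqc2)))))) (vqc0 (vqc0 (vqc1 0 9) (vqc0 (vqc1 9 5) (vqc0 (vqc1 5 7) (vqc0 (vqc1 1 10) (vqc0 (vqc1 10 2) (vqc0 (vqc1 2 3) vqc2))))))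
      (vqc0 (vqc0 (vqc1 0 10) (vqc0 (vqc1 10 1) (vqc0 (vqc1 3 4) (vqc0 (vqc1 4 7) (vqc0 (vqc1 5 9) (vqc0 (vqc1 9 6) vqc2)))))) (vqc0 (vqc0 (vqc1 0 3) (vqc0 (vqc1 3 2) (vqc0 (vqc1 2 9) (vqc0 (vqc1 5 6) (vqc0 (vqc1 6 8) (vqc0 (vqc1 8 10) vqc2)))))) vqc2)))))));
      (vqc0 (vqc0 (vqc1 0 9) (vqc0 (vqc1 9 3) (vqc0 (vqc1 1 10) (vqc0 (vqc1 10 8) (vqc0 (vqc1 2 4) (vqc0 (vqc1 4 7) vqc2)))))) (vqc0 (vqc0 (vqc1 1 9) (vqc0 (vqc1 9 10) (vqc0 (vqc1 10 4) (vqc0 (vqc1 3 5) (vqc0 (vqc1 5 6) (vqc0 (vqc1 6 7) vqc2))))))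
      (vqc0 (vqc0 (vqc1 1 9) (vqc0 (vqc1 9 2) (vqc0 (vqc1 2 3) (vqc0 (vqc1 4 7) (vqc0 (vqc1 7 8) (vqc0 (vqc1 8 10) vqc2)))))) (vqc0 (vqc0 (vqc1 0 2) (vqc0 (vqc1 1 6) (vqc0 (vqc1 7 10) (vqc0 (vqc1 8 9) vqc2))))
      (vqc0 (vqc0 (vqc1 1 8) (vqc0 (vqc1 8 5) (vqc0 (vqc1 5 3) (vqc0 (vqc1 4 9) (vqc0 (vqc1 9 10) (vqc0 (vqc1 10 7) vqc2)))))) (vqc0 (vqc0 (vqc1 0 1) (vqc0 (vqc1 1 2) (vqc0 (vqc1 2 4) (vqc0 (vqc1 3 10) (vqc0 (vqc1 10 6) (vqc0 (vqc1 6 9) vqc2))))))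
      (vqc0 (vqc0 (vqc1 0 2) (vqc0 (vqc1 2 8) (vqc0 (vqc1 8 3) (vqc0 (vqc1 4 9) (vqc0 (vqc1 9 10) (vqc0 (vqc1 10 5) vqc2)))))) vqy7))))))));
      (let vqy8 : type_of% vqy6 := (vqc0 (vqc0 (vqc1 1 7) (vqc0 (vqc1 3 5) (vqc0 (vqc1 6 10) (vqc0 (vqc1 8 9) vqc2))))
      (vqc0 (vqc0 (vqc1 1 4) (vqc0 (vqc1 4 10) (vqc0 (vqc1 2 7) (vqc0 (vqc1 7 8) (vqc0 (vqc1 3 6) (vqc0 (vqc1 6 9) vqc2)))))) (vqc0 (vqc0 (vqc1 1 3) (vqc0 (vqc1 3 10) (vqc0 (vqc1 10 6) (vqc0 (vqc1 4 5) (vqc0 (vqc1 5 9) (vqc0 (vqc1 9 7) vqc2))))))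
      (vqc0 (vqc0 (vqc1 1 9) (vqc0 (vqc1 9 3) (vqc0 (vqc1 4 10) (vqc0 (vqc1 10 6) (vqc0 (vqc1 5 8) (vqc0 (vqc1 8 7) vqc2)))))) (vqc0 (vqc0 (vqc1 0 9) (vqc0 (vqc1 9 7) (vqc0 (vqc1 7 5) (vqc0 (vqc1 3 8) (vqc0 (vqc1 8 10) (vqc0 (vqc1 10 6) vqc2))))))
      (vqc0 (vqc0 (vqc1 1 3) (vqc0 (vqc1 3 8) (vqc0 (vqc1 8 7) (vqc0 (vqc1 4 9) (vqc0 (vqc1 9 6) (vqc0 (vqc1 6 5) vqc2)))))) (vqc0 (vqc0 (vqc1 1 10) (vqc0 (vqc1 10 3) (vqc0 (vqc1 3 6) (vqc0 (vqc1 2 4) (vqc0 (vqc1 4 8) (vqc0 (vqc1 8 9) vqc2))))))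
      vqy6)))))));
      (vqc0 (vqc0 (vqc1 0 10) (vqc0 (vqc1 3 5) (vqc0 (vqc1 4 6) (vqc0 (vqc1 7 9) vqc2)))) (vqc0 (vqc0 (vqc1 0 8) (vqc0 (vqc1 8 4) (vqc0 (vqc1 4 9) (vqc0 (vqc1 3 10) (vqc0 (vqc1 10 6) (vqc0 (vqc1 6 5) vqc2))))))
      (vqc0 (vqc0 (vqc1 1 8) (vqc0 (vqc1 8 10) (vqc0 (vqc1 10 2) (vqc0 (vqc1 4 5) (vqc0 (vqc1 5 7) (vqc0 (vqc1 7 9) vqc2)))))) (vqc0 (vqc0 (vqc1 0 9) (vqc0 (vqc1 9 7) (vqc0 (vqc1 7 1) (vqc0 (vqc1 2 6) (vqc0 (vqc1 6 5) (vqc0 (vqc1 5 3) vqc2))))))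
      (vqc0 (vqc0 (vqc1 0 1) (vqc0 (vqc1 1 9) (vqc0 (vqc1 2 5) (vqc0 (vqc1 5 7) (vqc0 (vqc1 3 8) (vqc0 (vqc1 8 10) vqc2)))))) (vqc0 (vqc0 (vqc1 0 9) (vqc0 (vqc1 1 7) (vqc0 (vqc1 3 6) (vqc0 (vqc1 4 8) vqc2))))
      (vqc0 (vqc0 (vqc1 0 9) (vqc0 (vqc1 9 2) (vqc0 (vqc1 2 4) (vqc0 (vqc1 3 5) (vqc0 (vqc1 5 7) (vqc0 (vqc1 7 6) vqc2)))))) vqy8)))))))));
      (let vqy9 : type_of% vqy5 := (let vqy10 : type_of% vqy5 := (vqc0 (vqc0 (vqc1 1 7) (vqc0 (vqc1 7 4) (vqc0 (vqc1 3 8) (vqc0 (vqc1 8 6) (vqc0 (vqc1 5 10) (vqc0 (vqc1 10 9) vqc2))))))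
      (vqc0 (vqc0 (vqc1 2 10) (vqc0 (vqc1 10 7) (vqc0 (vqc1 7 5) (vqc0 (vqc1 3 6) (vqc0 (vqc1 6 8) (vqc0 (vqc1 8 9) vqc2)))))) (vqc0 (vqc0 (vqc1 1 4) (vqc0 (vqc1 4 9) (vqc0 (vqc1 9 5) (vqc0 (vqc1 6 7) (vqc0 (vqc1 7 8) (vqc0 (vqc1 8 10) vqc2))))))
      (vqc0 (vqc0 (vqc1 2 5) (vqc0 (vqc1 5 7) (vqc0 (vqc1 7 10) (vqc0 (vqc1 3 9) (vqc0 (vqc1 9 8) (vqc0 (vqc1 8 6) vqc2)))))) (vqc0 (vqc0 (vqc1 0 6) (vqc0 (vqc1 1 8) (vqc0 (vqc1 3 5) (vqc0 (vqc1 4 10) vqc2))))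
      (vqc0 (vqc0 (vqc1 1 3) (vqc0 (vqc1 3 10) (vqc0 (vqc1 10 8) (vqc0 (vqc1 2 4) (vqc0 (vqc1 4 6) (vqc0 (vqc1 6 5) vqc2)))))) (vqc0 (vqc0 (vqc1 0 6) (vqc0 (vqc1 6 3) (vqc0 (vqc1 1 8) (vqc0 (vqc1 8 5) (vqc0 (vqc1 2 9) (vqc0 (vqc1 9 10) vqc2))))))
      vqy5)))))));
      (vqc0 (vqc0 (vqc1 0 3) (vqc0 (vqc1 1 5) (vqc0 (vqc1 4 9) (vqc0 (vqc1 6 8) vqc2)))) (vqc0 (vqc0 (vqc1 0 3) (vqc0 (vqc1 3 4) (vqc0 (vqc1 4 5) (vqc0 (vqc1 1 8) (vqc0 (vqc1 8 9) (vqc0 (vqc1 9 7) vqc2))))))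
      (vqc0 (vqc0 (vqc1 3 7) (vqc0 (vqc1 7 9) (vqc0 (vqc1 9 4) (vqc0 (vqc1 5 10) (vqc0 (vqc1 10 6) (vqc0 (vqc1 6 8) vqc2)))))) (vqc0 (vqc0 (vqc1 0 7) (vqc0 (vqc1 7 1) (vqc0 (vqc1 3 9) (vqc0 (vqc1 9 6) (vqc0 (vqc1 5 10) (vqc0 (vqc1 10 8) vqc2))))))
      (vqc0 (vqc0 (vqc1 2 9) (vqc0 (vqc1 9 4) (vqc0 (vqc1 4 10) (vqc0 (vqc1 3 6) (vqc0 (vqc1 6 5) (vqc0 (vqc1 5 8) vqc2)))))) (vqc0 (vqc0 (vqc1 1 3) (vqc0 (vqc1 3 4) (vqc0 (vqc1 2 7) (vqc0 (vqc1 7 5) (vqc0 (vqc1 6 10) (vqc0 (vqc1 10 9) vqc2))))))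
      (vqc0 (vqc0 (vqc1 0 10) (vqc0 (vqc1 10 5) (vqc0 (vqc1 1 3) (vqc0 (vqc1 3 2) (vqc0 (vqc1 4 8) (vqc0 (vqc1 8 9) vqc2)))))) vqy10))))))));
      (let vqy11 : type_of% vqy9 := (vqc0 (vqc0 (vqc1 0 9) (vqc0 (vqc1 1 6) (vqc0 (vqc1 3 7) (vqc0 (vqc1 5 10) vqc2))))
      (vqc0 (vqc0 (vqc1 1 6) (vqc0 (vqc1 6 3) (vqc0 (vqc1 3 5) (vqc0 (vqc1 2 10) (vqc0 (vqc1 10 9) (vqc0 (vqc1 9 7) vqc2)))))) (vqc0 (vqc0 (vqc1 0 10) (vqc0 (vqc1 10 6) (vqc0 (vqc1 6 3) (vqc0 (vqc1 2 5) (vqc0 (vqc1 5 9) (vqc0 (vqc1 9 4) vqc2))))))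
      (vqc0 (vqc0 (vqc1 1 4) (vqc0 (vqc1 4 10) (vqc0 (vqc1 10 9) (vqc0 (vqc1 3 7) (vqc0 (vqc1 7 6) (vqc0 (vqc1 6 5) vqc2)))))) (vqc0 (vqc0 (vqc1 0 2) (vqc0 (vqc1 2 9) (vqc0 (vqc1 9 5) (vqc0 (vqc1 3 4) (vqc0 (vqc1 4 8) (vqc0 (vqc1 8 6) vqc2))))))
      (vqc0 (vqc0 (vqc1 1 2) (vqc0 (vqc1 2 7) (vqc0 (vqc1 3 10) (vqc0 (vqc1 10 9) (vqc0 (vqc1 5 8) (vqc0 (vqc1 8 6) vqc2)))))) (vqc0 (vqc0 (vqc1 0 5) (vqc0 (vqc1 1 9) (vqc0 (vqc1 3 4) (vqc0 (vqc1 6 10) vqc2))))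
      vqy9)))))));
      (vqc0 (vqc0 (vqc1 0 2) (vqc0 (vqc1 1 9) (vqc0 (vqc1 4 10) (vqc0 (vqc1 5 7) vqc2))))
      (vqc0 (vqc0 (vqc1 0 8) (vqc0 (vqc1 8 9) (vqc0 (vqc1 9 10) (vqc0 (vqc1 1 4) (vqc0 (vqc1 4 3) (vqc0 (vqc1 3 5) vqc2)))))) (vqc0 (vqc0 (vqc1 0 10) (vqc0 (vqc1 10 7) (vqc0 (vqc1 1 2) (vqc0 (vqc1 2 6) (vqc0 (vqc1 3 5) (vqc0 (vqc1 5 9) vqc2))))))
      (vqc0 (vqc0 (vqc1 2 10) (vqc0 (vqc1 10 9) (vqc0 (vqc1 9 6) (vqc0 (vqc1 4 5) (vqc0 (vqc1 5 8) (vqc0 (vqc1 8 7) vqc2)))))) (vqc0 (vqc0 (vqc1 0 8) (vqc0 (vqc1 8 5) (vqc0 (vqc1 5 9) (vqc0 (vqc1 2 6) (vqc0 (vqc1 6 3) (vqc0 (vqc1 3 7) vqc2))))))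
      (vqc0 (vqc0 (vqc1 0 5) (vqc0 (vqc1 5 8) (vqc0 (vqc1 1 7) (vqc0 (vqc1 7 10) (vqc0 (vqc1 2 3) (vqc0 (vqc1 3 9) vqc2)))))) vqy11)))))))));
      (let vqy12 : type_of% vqy4 := (let vqy13 : type_of% vqy4 := (let vqy14 : type_of% vqy4 := (vqc0 (vqc0 (vqc1 0 1) (vqc0 (vqc1 1 4) (vqc0 (vqc1 3 9) (vqc0 (vqc1 9 5) (vqc0 (vqc1 6 10) (vqc0 (vqc1 10 8) vqc2)))))) (vqc0 (vqc0 (vqc1 2 9) (vqc0 (vqc1 9 8) (vqc0 (vqc1 8 7) (vqc0 (vqc1 3 5) (vqc0 (vqc1 5 6) (vqc0 (vqc1 6 4) vqc2))))))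
      (vqc0 (vqc0 (vqc1 0 1) (vqc0 (vqc1 1 9) (vqc0 (vqc1 9 3) (vqc0 (vqc1 4 8) (vqc0 (vqc1 8 5) (vqc0 (vqc1 5 10) vqc2)))))) (vqc0 (vqc0 (vqc1 0 8) (vqc0 (vqc1 8 3) (vqc0 (vqc1 1 7) (vqc0 (vqc1 7 2) (vqc0 (vqc1 4 9) (vqc0 (vqc1 9 6) vqc2))))))
      (vqc0 (vqc0 (vqc1 1 5) (vqc0 (vqc1 5 3) (vqc0 (vqc1 3 7) (vqc0 (vqc1 2 9) (vqc0 (vqc1 9 4) (vqc0 (vqc1 4 8) vqc2)))))) (vqc0 (vqc0 (vqc1 1 6) (vqc0 (vqc1 6 9) (vqc0 (vqc1 2 5) (vqc0 (vqc1 5 3) (vqc0 (vqc1 7 8) (vqc0 (vqc1 8 10) vqc2))))))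
      (vqc0 (vqc0 (vqc1 1 7) (vqc0 (vqc1 7 8) (vqc0 (vqc1 8 3) (vqc0 (vqc1 4 5) (vqc0 (vqc1 5 6) (vqc0 (vqc1 6 9) vqc2)))))) vqy4)))))));
      (vqc0 (vqc0 (vqc1 0 6) (vqc0 (vqc1 6 10) (vqc0 (vqc1 1 4) (vqc0 (vqc1 4 8) (vqc0 (vqc1 2 9) (vqc0 (vqc1 9 3) vqc2))))))
      (vqc0 (vqc0 (vqc1 2 7) (vqc0 (vqc1 7 5) (vqc0 (vqc1 5 8) (vqc0 (vqc1 3 9) (vqc0 (vqc1 9 10) (vqc0 (vqc1 10 4) vqc2)))))) (vqc0 (vqc0 (vqc1 0 4) (vqc0 (vqc1 4 9) (vqc0 (vqc1 9 5) (vqc0 (vqc1 1 10) (vqc0 (vqc1 10 3) (vqc0 (vqc1 3 8) vqc2))))))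
      (vqc0 (vqc0 (vqc1 0 10) (vqc0 (vqc1 10 1) (vqc0 (vqc1 1 3) (vqc0 (vqc1 4 9) (vqc0 (vqc1 9 7) (vqc0 (vqc1 7 8) vqc2)))))) (vqc0 (vqc0 (vqc1 0 6) (vqc0 (vqc1 6 3) (vqc0 (vqc1 3 2) (vqc0 (vqc1 5 10) (vqc0 (vqc1 10 7) (vqc0 (vqc1 7 9) vqc2))))))
      (vqc0 (vqc0 (vqc1 0 1) (vqc0 (vqc1 2 6) (vqc0 (vqc1 3 4) (vqc0 (vqc1 7 10) vqc2)))) (vqc0 (vqc0 (vqc1 1 2) (vqc0 (vqc1 2 5) (vqc0 (vqc1 5 10) (vqc0 (vqc1 4 8) (vqc0 (vqc1 8 6) (vqc0 (vqc1 6 9) vqc2))))))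
      vqy14))))))));
      (let vqy15 : type_of% vqy13 := (vqc0 (vqc0 (vqc1 0 8) (vqc0 (vqc1 8 9) (vqc0 (vqc1 9 4) (vqc0 (vqc1 1 3) (vqc0 (vqc1 3 7) (vqc0 (vqc1 7 6) vqc2)))))) (vqc0 (vqc0 (vqc1 1 8) (vqc0 (vqc1 8 6) (vqc0 (vqc1 6 5) (vqc0 (vqc1 2 9) (vqc0 (vqc1 9 7) (vqc0 (vqc1 7 4) vqc2))))))
      (vqc0 (vqc0 (vqc1 0 7) (vqc0 (vqc1 7 4) (vqc0 (vqc1 3 5) (vqc0 (vqc1 5 8) (vqc0 (vqc1 6 9) (vqc0 (vqc1 9 10) vqc2)))))) (vqc0 (vqc0 (vqc1 1 8) (vqc0 (vqc1 8 3) (vqc0 (vqc1 2 6) (vqc0 (vqc1 6 10) (vqc0 (vqc1 5 9) (vqc0 (vqc1 9 7) vqc2))))))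
      (vqc0 (vqc0 (vqc1 0 10) (vqc0 (vqc1 10 9) (vqc0 (vqc1 1 4) (vqc0 (vqc1 4 2) (vqc0 (vqc1 3 5) (vqc0 (vqc1 5 7) vqc2)))))) (vqc0 (vqc0 (vqc1 0 4) (vqc0 (vqc1 4 8) (vqc0 (vqc1 1 5) (vqc0 (vqc1 5 2) (vqc0 (vqc1 3 6) (vqc0 (vqc1 6 9) vqc2))))))
      (vqc0 (vqc0 (vqc1 1 8) (vqc0 (vqc1 8 4) (vqc0 (vqc1 4 3) (vqc0 (vqc1 2 7) (vqc0 (vqc1 7 9) (vqc0 (vqc1 9 6) vqc2)))))) vqy13)))))));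
      (vqc0 (vqc0 (vqc1 0 9) (vqc0 (vqc1 9 5) (vqc0 (vqc1 5 8) (vqc0 (vqc1 2 7) (vqc0 (vqc1 7 3) (vqc0 (vqc1 3 6) vqc2))))))
      (vqc0 (vqc0 (vqc1 1 8) (vqc0 (vqc1 8 5) (vqc0 (vqc1 5 7) (vqc0 (vqc1 2 3) (vqc0 (vqc1 3 6) (vqc0 (vqc1 6 9) vqc2)))))) (vqc0 (vqc0 (vqc1 0 7) (vqc0 (vqc1 7 3) (vqc0 (vqc1 3 4) (vqc0 (vqc1 2 5) (vqc0 (vqc1 5 9) (vqc0 (vqc1 9 8) vqc2))))))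
      (vqc0 (vqc0 (vqc1 1 9) (vqc0 (vqc1 9 6) (vqc0 (vqc1 6 4) (vqc0 (vqc1 2 5) (vqc0 (vqc1 5 7) (vqc0 (vqc1 7 8) vqc2)))))) (vqc0 (vqc0 (vqc1 1 5) (vqc0 (vqc1 5 6) (vqc0 (vqc1 6 8) (vqc0 (vqc1 2 4) (vqc0 (vqc1 4 7) (vqc0 (vqc1 7 9) vqc2))))))
      (vqc0 (vqc0 (vqc1 2 9) (vqc0 (vqc1 9 6) (vqc0 (vqc1 6 8) (vqc0 (vqc1 3 4) (vqc0 (vqc1 4 7) (vqc0 (vqc1 7 10) vqc2)))))) (vqc0 (vqc0 (vqc1 0 1) (vqc0 (vqc1 2 10) (vqc0 (vqc1 3 5) (vqc0 (vqc1 4 9) vqc2))))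
      vqy15)))))))));
      (let vqy16 : type_of% vqy12 := (let vqy17 : type_of% vqy12 := (vqc0 (vqc0 (vqc1 0 10) (vqc0 (vqc1 10 9) (vqc0 (vqc1 9 7) (vqc0 (vqc1 2 5) (vqc0 (vqc1 5 8) (vqc0 (vqc1 8 3) vqc2)))))) (vqc0 (vqc0 (vqc1 0 10) (vqc0 (vqc1 10 6) (vqc0 (vqc1 1 8) (vqc0 (vqc1 8 4) (vqc0 (vqc1 2 3) (vqc0 (vqc1 3 9) vqc2))))))
      (vqc0 (vqc0 (vqc1 0 1) (vqc0 (vqc1 1 10) (vqc0 (vqc1 10 3) (vqc0 (vqc1 2 7) (vqc0 (vqc1 7 5) (vqc0 (vqc1 5 4) vqc2)))))) (vqc0 (vqc0 (vqc1 2 3) (vqc0 (vqc1 3 9) (vqc0 (vqc1 4 10) (vqc0 (vqc1 10 5) (vqc0 (vqc1 6 8) (vqc0 (vqc1 8 7) vqc2))))))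
      (vqc0 (vqc0 (vqc1 1 7) (vqc0 (vqc1 7 4) (vqc0 (vqc1 4 2) (vqc0 (vqc1 3 10) (vqc0 (vqc1 10 5) (vqc0 (vqc1 5 8) vqc2)))))) (vqc0 (vqc0 (vqc1 1 4) (vqc0 (vqc1 4 7) (vqc0 (vqc1 7 5) (vqc0 (vqc1 2 9) (vqc0 (vqc1 9 3) (vqc0 (vqc1 3 10) vqc2))))))
      (vqc0 (vqc0 (vqc1 0 8) (vqc0 (vqc1 8 2) (vqc0 (vqc1 3 9) (vqc0 (vqc1 9 5) (vqc0 (vqc1 4 7) (vqc0 (vqc1 7 6) vqc2)))))) vqy12)))))));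
      (vqc0 (vqc0 (vqc1 0 9) (vqc0 (vqc1 1 8) (vqc0 (vqc1 2 6) (vqc0 (vqc1 3 10) vqc2))))
      (vqc0 (vqc0 (vqc1 0 10) (vqc0 (vqc1 10 3) (vqc0 (vqc1 1 8) (vqc0 (vqc1 8 9) (vqc0 (vqc1 4 6) (vqc0 (vqc1 6 5) vqc2)))))) (vqc0 (vqc0 (vqc1 0 10) (vqc0 (vqc1 10 3) (vqc0 (vqc1 2 4) (vqc0 (vqc1 4 8) (vqc0 (vqc1 5 7) (vqc0 (vqc1 7 9) vqc2))))))
      (vqc0 (vqc0 (vqc1 0 9) (vqc0 (vqc1 9 8) (vqc0 (vqc1 8 6) (vqc0 (vqc1 3 7) (vqc0 (vqc1 7 4) (vqc0 (vqc1 4 5) vqc2)))))) (vqc0 (vqc0 (vqc1 0 9) (vqc0 (vqc1 9 7) (vqc0 (vqc1 7 4) (vqc0 (vqc1 1 2) (vqc0 (vqc1 2 8) (vqc0 (vqc1 8 3) vqc2))))))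
      (vqc0 (vqc0 (vqc1 0 8) (vqc0 (vqc1 8 6) (vqc0 (vqc1 6 3) (vqc0 (vqc1 4 7) (vqc0 (vqc1 7 9) (vqc0 (vqc1 9 10) vqc2)))))) (vqc0 (vqc0 (vqc1 0 7) (vqc0 (vqc1 1 5) (vqc0 (vqc1 2 9) (vqc0 (vqc1 8 10) vqc2))))
      vqy17))))))));
      (let vqy18 : type_of% vqy16 := (vqc0 (vqc0 (vqc1 0 2) (vqc0 (vqc1 3 7) (vqc0 (vqc1 4 9) (vqc0 (vqc1 5 6) vqc2)))) (vqc0 (vqc0 (vqc1 1 8) (vqc0 (vqc1 8 7) (vqc0 (vqc1 2 10) (vqc0 (vqc1 10 4) (vqc0 (vqc1 3 5) (vqc0 (vqc1 5 9) vqc2))))))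
      (vqc0 (vqc0 (vqc1 1 9) (vqc0 (vqc1 9 10) (vqc0 (vqc1 10 7) (vqc0 (vqc1 2 6) (vqc0 (vqc1 6 3) (vqc0 (vqc1 3 8) vqc2)))))) (vqc0 (vqc0 (vqc1 0 1) (vqc0 (vqc1 2 7) (vqc0 (vqc1 5 9) (vqc0 (vqc1 6 10) vqc2))))
      (vqc0 (vqc0 (vqc1 0 4) (vqc0 (vqc1 4 5) (vqc0 (vqc1 2 6) (vqc0 (vqc1 6 9) (vqc0 (vqc1 3 8) (vqc0 (vqc1 8 7) vqc2)))))) (vqc0 (vqc0 (vqc1 0 3) (vqc0 (vqc1 3 4) (vqc0 (vqc1 1 9) (vqc0 (vqc1 9 5) (vqc0 (vqc1 2 8) (vqc0 (vqc1 8 10) vqc2))))))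
      (vqc0 (vqc0 (vqc1 0 5) (vqc0 (vqc1 3 7) (vqc0 (vqc1 4 8) (vqc0 (vqc1 9 10) vqc2)))) vqy16)))))));
      (vqc0 (vqc0 (vqc1 0 9) (vqc0 (vqc1 9 2) (vqc0 (vqc1 1 10) (vqc0 (vqc1 10 4) (vqc0 (vqc1 3 5) (vqc0 (vqc1 5 8) vqc2)))))) (vqc0 (vqc0 (vqc1 0 1) (vqc0 (vqc1 1 10) (vqc0 (vqc1 3 7) (vqc0 (vqc1 7 4) (vqc0 (vqc1 5 6) (vqc0 (vqc1 6 9) vqc2))))))
      (vqc0 (vqc0 (vqc1 0 5) (vqc0 (vqc1 5 1) (vqc0 (vqc1 1 9) (vqc0 (vqc1 2 6) (vqc0 (vqc1 6 7) (vqc0 (vqc1 7 10) vqc2)))))) (vqc0 (vqc0 (vqc1 1 6) (vqc0 (vqc1 6 4) (vqc0 (vqc1 4 9) (vqc0 (vqc1 3 5) (vqc0 (vqc1 5 10) (vqc0 (vqc1 10 8) vqc2))))))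
      (vqc0 (vqc0 (vqc1 0 1) (vqc0 (vqc1 1 7) (vqc0 (vqc1 2 5) (vqc0 (vqc1 5 9) (vqc0 (vqc1 3 10) (vqc0 (vqc1 10 4) vqc2)))))) (vqc0 (vqc0 (vqc1 1 7) (vqc0 (vqc1 2 5) (vqc0 (vqc1 3 4) (vqc0 (vqc1 6 8) vqc2))))
      vqy18))))))))));
      (let vqy19 : type_of% vqy3 := (let vqy20 : type_of% vqy3 := (let vqy21 : type_of% vqy3 := (let vqy22 : type_of% vqy3 := (vqc0 (vqc0 (vqc1 0 6) (vqc0 (vqc1 6 4) (vqc0 (vqc1 1 3) (vqc0 (vqc1 3 2) (vqc0 (vqc1 7 10) (vqc0 (vqc1 10 9) vqc2))))))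
      (vqc0 (vqc0 (vqc1 0 5) (vqc0 (vqc1 5 9) (vqc0 (vqc1 9 10) (vqc0 (vqc1 1 7) (vqc0 (vqc1 7 6) (vqc0 (vqc1 6 3) vqc2)))))) (vqc0 (vqc0 (vqc1 2 9) (vqc0 (vqc1 9 3) (vqc0 (vqc1 4 5) (vqc0 (vqc1 5 10) (vqc0 (vqc1 6 7) (vqc0 (vqc1 7 8) vqc2))))))
      (vqc0 (vqc0 (vqc1 0 5) (vqc0 (vqc1 5 1) (vqc0 (vqc1 1 3) (vqc0 (vqc1 2 4) (vqc0 (vqc1 4 10) (vqc0 (vqc1 10 9) vqc2)))))) (vqc0 (vqc0 (vqc1 0 4) (vqc0 (vqc1 4 7) (vqc0 (vqc1 7 9) (vqc0 (vqc1 1 3) (vqc0 (vqc1 3 8) (vqc0 (vqc1 8 2) vqc2))))))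
      (vqc0 (vqc0 (vqc1 1 9) (vqc0 (vqc1 9 6) (vqc0 (vqc1 6 3) (vqc0 (vqc1 2 4) (vqc0 (vqc1 4 5) (vqc0 (vqc1 5 10) vqc2)))))) (vqc0 (vqc0 (vqc1 2 8) (vqc0 (vqc1 8 10) (vqc0 (vqc1 3 7) (vqc0 (vqc1 7 5) (vqc0 (vqc1 4 9) (vqc0 (vqc1 9 6) vqc2))))))
      vqy3)))))));
      (vqc0 (vqc0 (vqc1 1 8) (vqc0 (vqc1 8 10) (vqc0 (vqc1 10 6) (vqc0 (vqc1 2 9) (vqc0 (vqc1 9 3) (vqc0 (vqc1 3 7) vqc2)))))) (vqc0 (vqc0 (vqc1 0 1) (vqc0 (vqc1 1 5) (vqc0 (vqc1 5 4) (vqc0 (vqc1 2 3) (vqc0 (vqc1 3 8) (vqc0 (vqc1 8 9) vqc2))))))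
      (vqc0 (vqc0 (vqc1 1 5) (vqc0 (vqc1 5 4) (vqc0 (vqc1 4 10) (vqc0 (vqc1 2 9) (vqc0 (vqc1 9 6) (vqc0 (vqc1 6 7) vqc2)))))) (vqc0 (vqc0 (vqc1 2 6) (vqc0 (vqc1 6 4) (vqc0 (vqc1 4 8) (vqc0 (vqc1 3 10) (vqc0 (vqc1 10 5) (vqc0 (vqc1 5 9) vqc2))))))
      (vqc0 (vqc0 (vqc1 1 2) (vqc0 (vqc1 2 7) (vqc0 (vqc1 7 3) (vqc0 (vqc1 4 10) (vqc0 (vqc1 10 5) (vqc0 (vqc1 5 9) vqc2)))))) (vqc0 (vqc0 (vqc1 0 3) (vqc0 (vqc1 3 6) (vqc0 (vqc1 6 1) (vqc0 (vqc1 5 9) (vqc0 (vqc1 9 8) (vqc0 (vqc1 8 7) vqc2))))))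
      (vqc0 (vqc0 (vqc1 0 10) (vqc0 (vqc1 10 2) (vqc0 (vqc1 1 3) (vqc0 (vqc1 3 5) (vqc0 (vqc1 7 9) (vqc0 (vqc1 9 8) vqc2)))))) vqy22))))))));
      (let vqy23 : type_of% vqy21 := (vqc0 (vqc0 (vqc1 0 10) (vqc0 (vqc1 10 5) (vqc0 (vqc1 5 9) (vqc0 (vqc1 3 8) (vqc0 (vqc1 8 7) (vqc0 (vqc1 7 4) vqc2))))))
      (vqc0 (vqc0 (vqc1 0 2) (vqc0 (vqc1 1 4) (vqc0 (vqc1 3 6) (vqc0 (vqc1 9 10) vqc2)))) (vqc0 (vqc0 (vqc1 0 9) (vqc0 (vqc1 9 5) (vqc0 (vqc1 1 4) (vqc0 (vqc1 4 3) (vqc0 (vqc1 6 8) (vqc0 (vqc1 8 7) vqc2))))))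
      (vqc0 (vqc0 (vqc1 1 6) (vqc0 (vqc1 6 7) (vqc0 (vqc1 7 8) (vqc0 (vqc1 2 3) (vqc0 (vqc1 3 5) (vqc0 (vqc1 5 4) vqc2)))))) (vqc0 (vqc0 (vqc1 1 9) (vqc0 (vqc1 9 5) (vqc0 (vqc1 2 3) (vqc0 (vqc1 3 6) (vqc0 (vqc1 4 10) (vqc0 (vqc1 10 7) vqc2))))))
      (vqc0 (vqc0 (vqc1 2 4) (vqc0 (vqc1 4 5) (vqc0 (vqc1 5 9) (vqc0 (vqc1 3 7) (vqc0 (vqc1 7 10) (vqc0 (vqc1 10 8) vqc2)))))) (vqc0 (vqc0 (vqc1 1 7) (vqc0 (vqc1 7 3) (vqc0 (vqc1 2 9) (vqc0 (vqc1 9 10) (vqc0 (vqc1 4 8) (vqc0 (vqc1 8 6) vqc2))))))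
      vqy21)))))));
      (vqc0 (vqc0 (vqc1 0 8) (vqc0 (vqc1 2 3) (vqc0 (vqc1 4 10) (vqc0 (vqc1 5 9) vqc2)))) (vqc0 (vqc0 (vqc1 1 2) (vqc0 (vqc1 2 6) (vqc0 (vqc1 6 8) (vqc0 (vqc1 3 7) (vqc0 (vqc1 7 10) (vqc0 (vqc1 10 5) vqc2))))))
      (vqc0 (vqc0 (vqc1 1 5) (vqc0 (vqc1 5 3) (vqc0 (vqc1 3 6) (vqc0 (vqc1 2 7) (vqc0 (vqc1 7 9) (vqc0 (vqc1 9 10) vqc2)))))) (vqc0 (vqc0 (vqc1 1 5) (vqc0 (vqc1 5 2) (vqc0 (vqc1 2 9) (vqc0 (vqc1 3 8) (vqc0 (vqc1 8 6) (vqc0 (vqc1 6 10) vqc2))))))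
      (vqc0 (vqc0 (vqc1 0 10) (vqc0 (vqc1 10 9) (vqc0 (vqc1 9 8) (vqc0 (vqc1 1 5) (vqc0 (vqc1 5 3) (vqc0 (vqc1 3 4) vqc2)))))) (vqc0 (vqc0 (vqc1 0 6) (vqc0 (vqc1 6 7) (vqc0 (vqc1 1 3) (vqc0 (vqc1 3 9) (vqc0 (vqc1 2 8) (vqc0 (vqc1 8 4) vqc2))))))
      (vqc0 (vqc0 (vqc1 2 8) (vqc0 (vqc1 8 3) (vqc0 (vqc1 3 5) (vqc0 (vqc1 4 7) (vqc0 (vqc1 7 6) (vqc0 (vqc1 6 10) vqc2)))))) vqy23)))))))));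
      (let vqy24 : type_of% vqy20 := (let vqy25 : type_of% vqy20 := (vqc0 (vqc0 (vqc1 1 10) (vqc0 (vqc1 10 3) (vqc0 (vqc1 3 7) (vqc0 (vqc1 2 5) (vqc0 (vqc1 5 9) (vqc0 (vqc1 9 6) vqc2))))))
      (vqc0 (vqc0 (vqc1 0 6) (vqc0 (vqc1 6 1) (vqc0 (vqc1 1 9) (vqc0 (vqc1 2 7) (vqc0 (vqc1 7 8) (vqc0 (vqc1 8 3) vqc2)))))) (vqc0 (vqc0 (vqc1 0 9) (vqc0 (vqc1 9 8) (vqc0 (vqc1 8 10) (vqc0 (vqc1 1 7) (vqc0 (vqc1 7 3) (vqc0 (vqc1 3 2) vqc2))))))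
      (vqc0 (vqc0 (vqc1 1 2) (vqc0 (vqc1 2 8) (vqc0 (vqc1 8 10) (vqc0 (vqc1 3 4) (vqc0 (vqc1 4 6) (vqc0 (vqc1 6 7) vqc2)))))) (vqc0 (vqc0 (vqc1 0 5) (vqc0 (vqc1 5 7) (vqc0 (vqc1 1 9) (vqc0 (vqc1 9 2) (vqc0 (vqc1 3 4) (vqc0 (vqc1 4 8) vqc2))))))
      (vqc0 (vqc0 (vqc1 0 7) (vqc0 (vqc1 7 9) (vqc0 (vqc1 2 4) (vqc0 (vqc1 4 3) (vqc0 (vqc1 5 8) (vqc0 (vqc1 8 6) vqc2)))))) (vqc0 (vqc0 (vqc1 0 7) (vqc0 (vqc1 7 3) (vqc0 (vqc1 3 5) (vqc0 (vqc1 2 9) (vqc0 (vqc1 9 6) (vqc0 (vqc1 6 10) vqc2))))))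
      vqy20)))))));
      (vqc0 (vqc0 (vqc1 1 10) (vqc0 (vqc1 10 2) (vqc0 (vqc1 2 7) (vqc0 (vqc1 3 4) (vqc0 (vqc1 4 9) (vqc0 (vqc1 9 8) vqc2)))))) (vqc0 (vqc0 (vqc1 0 5) (vqc0 (vqc1 5 10) (vqc0 (vqc1 10 1) (vqc0 (vqc1 2 9) (vqc0 (vqc1 9 3) (vqc0 (vqc1 3 6) vqc2))))))
      (vqc0 (vqc0 (vqc1 0 5) (vqc0 (vqc1 5 4) (vqc0 (vqc1 2 9) (vqc0 (vqc1 9 6) (vqc0 (vqc1 3 7) (vqc0 (vqc1 7 8) vqc2)))))) (vqc0 (vqc0 (vqc1 0 3) (vqc0 (vqc1 3 1) (vqc0 (vqc1 1 9) (vqc0 (vqc1 4 6) (vqc0 (vqc1 6 5) (vqc0 (vqc1 5 7) vqc2))))))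
      (vqc0 (vqc0 (vqc1 0 4) (vqc0 (vqc1 4 9) (vqc0 (vqc1 9 3) (vqc0 (vqc1 1 2) (vqc0 (vqc1 2 5) (vqc0 (vqc1 5 7) vqc2)))))) (vqc0 (vqc0 (vqc1 1 2) (vqc0 (vqc1 2 9) (vqc0 (vqc1 9 3) (vqc0 (vqc1 4 6) (vqc0 (vqc1 6 8) (vqc0 (vqc1 8 5) vqc2))))))
      (vqc0 (vqc0 (vqc1 0 4) (vqc0 (vqc1 2 10) (vqc0 (vqc1 3 8) (vqc0 (vqc1 5 7) vqc2)))) vqy25))))))));
      (let vqy26 : type_of% vqy24 := (vqc0 (vqc0 (vqc1 0 2) (vqc0 (vqc1 2 7) (vqc0 (vqc1 3 5) (vqc0 (vqc1 5 6) (vqc0 (vqc1 8 9) (vqc0 (vqc1 9 10) vqc2))))))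
      (vqc0 (vqc0 (vqc1 1 2) (vqc0 (vqc1 3 6) (vqc0 (vqc1 5 9) (vqc0 (vqc1 8 10) vqc2)))) (vqc0 (vqc0 (vqc1 0 3) (vqc0 (vqc1 3 8) (vqc0 (vqc1 8 2) (vqc0 (vqc1 4 5) (vqc0 (vqc1 5 10) (vqc0 (vqc1 10 9) vqc2))))))
      (vqc0 (vqc0 (vqc1 0 3) (vqc0 (vqc1 3 4) (vqc0 (vqc1 2 9) (vqc0 (vqc1 9 7) (vqc0 (vqc1 5 10) (vqc0 (vqc1 10 6) vqc2)))))) (vqc0 (vqc0 (vqc1 0 8) (vqc0 (vqc1 8 9) (vqc0 (vqc1 9 2) (vqc0 (vqc1 3 10) (vqc0 (vqc1 10 5) (vqc0 (vqc1 5 7) vqc2))))))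
      (vqc0 (vqc0 (vqc1 1 10) (vqc0 (vqc1 10 5) (vqc0 (vqc1 5 4) (vqc0 (vqc1 3 7) (vqc0 (vqc1 7 8) (vqc0 (vqc1 8 9) vqc2)))))) (vqc0 (vqc0 (vqc1 1 7) (vqc0 (vqc1 7 3) (vqc0 (vqc1 3 10) (vqc0 (vqc1 2 6) (vqc0 (vqc1 6 9) (vqc0 (vqc1 9 5) vqc2))))))
      vqy24)))))));
      (vqc0 (vqc0 (vqc1 0 5) (vqc0 (vqc1 5 8) (vqc0 (vqc1 1 3) (vqc0 (vqc1 3 6) (vqc0 (vqc1 4 9) (vqc0 (vqc1 9 10) vqc2))))))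
      (vqc0 (vqc0 (vqc1 0 2) (vqc0 (vqc1 2 1) (vqc0 (vqc1 1 8) (vqc0 (vqc1 3 9) (vqc0 (vqc1 9 7) (vqc0 (vqc1 7 6) vqc2)))))) (vqc0 (vqc0 (vqc1 1 5) (vqc0 (vqc1 5 10) (vqc0 (vqc1 10 4) (vqc0 (vqc1 2 3) (vqc0 (vqc1 3 6) (vqc0 (vqc1 6 8) vqc2))))))
      (vqc0 (vqc0 (vqc1 0 7) (vqc0 (vqc1 7 4) (vqc0 (vqc1 1 5) (vqc0 (vqc1 5 6) (vqc0 (vqc1 2 9) (vqc0 (vqc1 9 3) vqc2)))))) (vqc0 (vqc0 (vqc1 0 10) (vqc0 (vqc1 2 7) (vqc0 (vqc1 4 5) (vqc0 (vqc1 8 9) vqc2))))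
      (vqc0 (vqc0 (vqc1 1 10) (vqc0 (vqc1 10 6) (vqc0 (vqc1 6 8) (vqc0 (vqc1 8 2) (vqc0 (vqc1 2 4) (vqc0 (vqc1 4 5) (vqc0 (vqc1 5 7) (vqc0 (vqc1 3 9) vqc2)))))))) vqy26)))))))));
      (let vqy27 : type_of% vqy19 := (let vqy28 : type_of% vqy19 := (let vqy29 : type_of% vqy19 := (vqc0 (vqc0 (vqc1 0 7) (vqc0 (vqc1 7 5) (vqc0 (vqc1 5 9) (vqc0 (vqc1 1 3) (vqc0 (vqc1 3 2) (vqc0 (vqc1 2 10) vqc2)))))) (vqc0 (vqc0 (vqc1 2 5) (vqc0 (vqc1 5 10) (vqc0 (vqc1 10 9) (vqc0 (vqc1 3 6) (vqc0 (vqc1 6 4) (vqc0 (vqc1 4 7) vqc2))))))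
      (vqc0 (vqc0 (vqc1 1 7) (vqc0 (vqc1 2 4) (vqc0 (vqc1 6 9) (vqc0 (vqc1 8 10) vqc2)))) (vqc0 (vqc0 (vqc1 0 8) (vqc0 (vqc1 8 5) (vqc0 (vqc1 1 6) (vqc0 (vqc1 6 3) (vqc0 (vqc1 4 10) (vqc0 (vqc1 10 9) vqc2))))))
      (vqc0 (vqc0 (vqc1 2 7) (vqc0 (vqc1 3 8) (vqc0 (vqc1 5 10) (vqc0 (vqc1 6 9) vqc2)))) (vqc0 (vqc0 (vqc1 0 7) (vqc0 (vqc1 1 4) (vqc0 (vqc1 5 6) (vqc0 (vqc1 8 9) vqc2))))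
      (vqc0 (vqc0 (vqc1 0 2) (vqc0 (vqc1 2 3) (vqc0 (vqc1 3 10) (vqc0 (vqc1 4 6) (vqc0 (vqc1 6 8) (vqc0 (vqc1 8 9) vqc2)))))) vqy19)))))));
      (vqc0 (vqc0 (vqc1 1 2) (vqc0 (vqc1 2 4) (vqc0 (vqc1 4 9) (vqc0 (vqc1 3 7) (vqc0 (vqc1 7 8) (vqc0 (vqc1 8 6) vqc2))))))
      (vqc0 (vqc0 (vqc1 0 3) (vqc0 (vqc1 3 9) (vqc0 (vqc1 1 6) (vqc0 (vqc1 6 7) (vqc0 (vqc1 2 5) (vqc0 (vqc1 5 8) vqc2)))))) (vqc0 (vqc0 (vqc1 0 7) (vqc0 (vqc1 7 6) (vqc0 (vqc1 6 9) (vqc0 (vqc1 1 5) (vqc0 (vqc1 5 3) (vqc0 (vqc1 3 8) vqc2))))))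
      (vqc0 (vqc0 (vqc1 0 8) (vqc0 (vqc1 8 4) (vqc0 (vqc1 1 7) (vqc0 (vqc1 7 9) (vqc0 (vqc1 2 3) (vqc0 (vqc1 3 10) vqc2)))))) (vqc0 (vqc0 (vqc1 0 9) (vqc0 (vqc1 9 10) (vqc0 (vqc1 1 2) (vqc0 (vqc1 2 4) (vqc0 (vqc1 3 7) (vqc0 (vqc1 7 5) vqc2))))))
      (vqc0 (vqc0 (vqc1 0 3) (vqc0 (vqc1 3 7) (vqc0 (vqc1 7 6) (vqc0 (vqc1 1 2) (vqc0 (vqc1 2 9) (vqc0 (vqc1 9 5) vqc2)))))) (vqc0 (vqc0 (vqc1 0 3) (vqc0 (vqc1 1 9) (vqc0 (vqc1 6 7) (vqc0 (vqc1 8 10) vqc2))))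
      vqy29))))))));
      (let vqy30 : type_of% vqy28 := (vqc0 (vqc0 (vqc1 1 8) (vqc0 (vqc1 2 5) (vqc0 (vqc1 6 7) (vqc0 (vqc1 9 10) vqc2)))) (vqc0 (vqc0 (vqc1 1 8) (vqc0 (vqc1 8 6) (vqc0 (vqc1 6 2) (vqc0 (vqc1 3 5) (vqc0 (vqc1 5 10) (vqc0 (vqc1 10 7) vqc2))))))
      (vqc0 (vqc0 (vqc1 0 7) (vqc0 (vqc1 1 2) (vqc0 (vqc1 3 8) (vqc0 (vqc1 6 10) vqc2)))) (vqc0 (vqc0 (vqc1 0 9) (vqc0 (vqc1 9 4) (vqc0 (vqc1 2 3) (vqc0 (vqc1 3 7) (vqc0 (vqc1 5 8) (vqc0 (vqc1 8 10) vqc2))))))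
      (vqc0 (vqc0 (vqc1 0 9) (vqc0 (vqc1 4 10) (vqc0 (vqc1 5 8) (vqc0 (vqc1 6 7) vqc2)))) (vqc0 (vqc0 (vqc1 0 1) (vqc0 (vqc1 1 9) (vqc0 (vqc1 9 6) (vqc0 (vqc1 3 10) (vqc0 (vqc1 10 7) (vqc0 (vqc1 7 5) vqc2))))))
      (vqc0 (vqc0 (vqc1 0 3) (vqc0 (vqc1 3 7) (vqc0 (vqc1 7 1) (vqc0 (vqc1 4 9) (vqc0 (vqc1 9 10) (vqc0 (vqc1 10 6) vqc2)))))) vqy28)))))));
      (vqc0 (vqc0 (vqc1 1 2) (vqc0 (vqc1 3 5) (vqc0 (vqc1 4 7) (vqc0 (vqc1 6 9) vqc2))))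
      (vqc0 (vqc0 (vqc1 1 5) (vqc0 (vqc1 5 4) (vqc0 (vqc1 4 8) (vqc0 (vqc1 3 9) (vqc0 (vqc1 9 10) (vqc0 (vqc1 10 6) vqc2)))))) (vqc0 (vqc0 (vqc1 0 3) (vqc0 (vqc1 3 5) (vqc0 (vqc1 5 9) (vqc0 (vqc1 1 2) (vqc0 (vqc1 2 4) (vqc0 (vqc1 4 8) vqc2))))))
      (vqc0 (vqc0 (vqc1 0 5) (vqc0 (vqc1 5 8) (vqc0 (vqc1 8 3) (vqc0 (vqc1 1 2) (vqc0 (vqc1 2 6) (vqc0 (vqc1 6 9) vqc2)))))) (vqc0 (vqc0 (vqc1 0 8) (vqc0 (vqc1 8 9) (vqc0 (vqc1 2 7) (vqc0 (vqc1 7 10) (vqc0 (vqc1 3 6) (vqc0 (vqc1 6 4) vqc2))))))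
      (vqc0 (vqc0 (vqc1 0 5) (vqc0 (vqc1 5 9) (vqc0 (vqc1 1 3) (vqc0 (vqc1 3 4) (vqc0 (vqc1 6 7) (vqc0 (vqc1 7 8) vqc2)))))) (vqc0 (vqc0 (vqc1 1 8) (vqc0 (vqc1 8 3) (vqc0 (vqc1 3 2) (vqc0 (vqc1 4 6) (vqc0 (vqc1 6 9) (vqc0 (vqc1 9 10) vqc2))))))
      vqy30)))))))));
      (let vqy31 : type_of% vqy27 := (let vqy32 : type_of% vqy27 := (vqc0 (vqc0 (vqc1 0 8) (vqc0 (vqc1 1 6) (vqc0 (vqc1 2 9) (vqc0 (vqc1 3 5) vqc2)))) (vqc0 (vqc0 (vqc1 0 5) (vqc0 (vqc1 5 10) (vqc0 (vqc1 1 2) (vqc0 (vqc1 2 3) (vqc0 (vqc1 4 9) (vqc0 (vqc1 9 8) vqc2))))))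
      (vqc0 (vqc0 (vqc1 0 3) (vqc0 (vqc1 3 6) (vqc0 (vqc1 6 9) (vqc0 (vqc1 1 10) (vqc0 (vqc1 10 7) (vqc0 (vqc1 7 2) vqc2)))))) (vqc0 (vqc0 (vqc1 0 3) (vqc0 (vqc1 1 4) (vqc0 (vqc1 5 9) (vqc0 (vqc1 7 10) vqc2))))
      (vqc0 (vqc0 (vqc1 0 9) (vqc0 (vqc1 9 2) (vqc0 (vqc1 2 10) (vqc0 (vqc1 1 6) (vqc0 (vqc1 6 4) (vqc0 (vqc1 4 3) vqc2)))))) (vqc0 (vqc0 (vqc1 0 1) (vqc0 (vqc1 1 8) (vqc0 (vqc1 3 6) (vqc0 (vqc1 6 5) (vqc0 (vqc1 4 7) (vqc0 (vqc1 7 9) vqc2))))))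
      (vqc0 (vqc0 (vqc1 0 3) (vqc0 (vqc1 3 4) (vqc0 (vqc1 1 7) (vqc0 (vqc1 7 10) (vqc0 (vqc1 6 9) (vqc0 (vqc1 9 8) vqc2)))))) vqy27)))))));
      (vqc0 (vqc0 (vqc1 1 7) (vqc0 (vqc1 7 4) (vqc0 (vqc1 4 6) (vqc0 (vqc1 2 3) (vqc0 (vqc1 3 9) (vqc0 (vqc1 9 8) vqc2))))))
      (vqc0 (vqc0 (vqc1 0 3) (vqc0 (vqc1 3 7) (vqc0 (vqc1 7 10) (vqc0 (vqc1 5 8) (vqc0 (vqc1 8 9) (vqc0 (vqc1 9 6) vqc2)))))) (vqc0 (vqc0 (vqc1 2 8) (vqc0 (vqc1 8 7) (vqc0 (vqc1 7 3) (vqc0 (vqc1 5 9) (vqc0 (vqc1 9 10) (vqc0 (vqc1 10 6) vqc2))))))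
      (vqc0 (vqc0 (vqc1 1 4) (vqc0 (vqc1 4 2) (vqc0 (vqc1 2 10) (vqc0 (vqc1 5 7) (vqc0 (vqc1 7 6) (vqc0 (vqc1 6 8) vqc2)))))) (vqc0 (vqc0 (vqc1 0 6) (vqc0 (vqc1 6 9) (vqc0 (vqc1 9 10) (vqc0 (vqc1 2 7) (vqc0 (vqc1 7 3) (vqc0 (vqc1 3 4) vqc2))))))
      (vqc0 (vqc0 (vqc1 0 3) (vqc0 (vqc1 3 4) (vqc0 (vqc1 4 7) (vqc0 (vqc1 1 2) (vqc0 (vqc1 2 10) (vqc0 (vqc1 10 9) vqc2)))))) (vqc0 (vqc0 (vqc1 1 2) (vqc0 (vqc1 3 9) (vqc0 (vqc1 4 8) (vqc0 (vqc1 7 10) vqc2))))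
      vqy32))))))));
      (let vqy33 : type_of% vqy31 := (vqc0 (vqc0 (vqc1 1 6) (vqc0 (vqc1 6 5) (vqc0 (vqc1 5 2) (vqc0 (vqc1 3 7) (vqc0 (vqc1 7 9) (vqc0 (vqc1 9 8) vqc2)))))) (vqc0 (vqc0 (vqc1 0 6) (vqc0 (vqc1 6 2) (vqc0 (vqc1 2 3) (vqc0 (vqc1 1 10) (vqc0 (vqc1 10 4) (vqc0 (vqc1 4 9) vqc2))))))
      (vqc0 (vqc0 (vqc1 0 1) (vqc0 (vqc1 1 9) (vqc0 (vqc1 9 5) (vqc0 (vqc1 2 4) (vqc0 (vqc1 4 7) (vqc0 (vqc1 7 3) vqc2)))))) (vqc0 (vqc0 (vqc1 2 5) (vqc0 (vqc1 5 4) (vqc0 (vqc1 4 3) (vqc0 (vqc1 6 10) (vqc0 (vqc1 10 8) (vqc0 (vqc1 8 9) vqc2))))))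
      (vqc0 (vqc0 (vqc1 0 7) (vqc0 (vqc1 1 10) (vqc0 (vqc1 3 4) (vqc0 (vqc1 5 8) vqc2)))) (vqc0 (vqc0 (vqc1 2 3) (vqc0 (vqc1 3 4) (vqc0 (vqc1 4 5) (vqc0 (vqc1 6 9) (vqc0 (vqc1 9 8) (vqc0 (vqc1 8 10) vqc2))))))
      (vqc0 (vqc0 (vqc1 0 8) (vqc0 (vqc1 8 1) (vqc0 (vqc1 1 3) (vqc0 (vqc1 5 9) (vqc0 (vqc1 9 6) (vqc0 (vqc1 6 10) vqc2)))))) vqy31)))))));
      (vqc0 (vqc0 (vqc1 2 10) (vqc0 (vqc1 10 8) (vqc0 (vqc1 3 5) (vqc0 (vqc1 5 7) (vqc0 (vqc1 4 6) (vqc0 (vqc1 6 9) vqc2)))))) (vqc0 (vqc0 (vqc1 0 6) (vqc0 (vqc1 2 4) (vqc0 (vqc1 5 9) (vqc0 (vqc1 7 8) vqc2))))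
      (vqc0 (vqc0 (vqc1 2 4) (vqc0 (vqc1 4 9) (vqc0 (vqc1 9 8) (vqc0 (vqc1 5 10) (vqc0 (vqc1 10 7) (vqc0 (vqc1 7 6) vqc2)))))) (vqc0 (vqc0 (vqc1 0 4) (vqc0 (vqc1 1 2) (vqc0 (vqc1 5 8) (vqc0 (vqc1 9 10) vqc2))))
      (vqc0 (vqc0 (vqc1 0 6) (vqc0 (vqc1 6 8) (vqc0 (vqc1 2 5) (vqc0 (vqc1 5 10) (vqc0 (vqc1 3 4) (vqc0 (vqc1 4 9) vqc2)))))) (vqc0 (vqc0 (vqc1 0 1) (vqc0 (vqc1 1 7) (vqc0 (vqc1 3 6) (vqc0 (vqc1 6 9) (vqc0 (vqc1 5 8) (vqc0 (vqc1 8 10) vqc2))))))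
      vqy33)))))))))));
      (let vqy34 : type_of% vqy2 := (let vqy35 : type_of% vqy2 := (let vqy36 : type_of% vqy2 := (let vqy37 : type_of% vqy2 := (let vqy38 : type_of% vqy2 := (vqc0 (vqc0 (vqc1 1 5) (vqc0 (vqc1 5 8) (vqc0 (vqc1 8 10) (vqc0 (vqc1 2 4) (vqc0 (vqc1 4 9) (vqc0 (vqc1 9 3) vqc2))))))
      (vqc0 (vqc0 (vqc1 2 6) (vqc0 (vqc1 6 8) (vqc0 (vqc1 8 3) (vqc0 (vqc1 4 9) (vqc0 (vqc1 9 5) (vqc0 (vqc1 5 7) vqc2)))))) (vqc0 (vqc0 (vqc1 1 5) (vqc0 (vqc1 5 4) (vqc0 (vqc1 2 7) (vqc0 (vqc1 7 3) (vqc0 (vqc1 6 9) (vqc0 (vqc1 9 8) vqc2))))))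
      (vqc0 (vqc0 (vqc1 1 10) (vqc0 (vqc1 10 6) (vqc0 (vqc1 6 3) (vqc0 (vqc1 2 7) (vqc0 (vqc1 7 8) (vqc0 (vqc1 8 5) vqc2)))))) (vqc0 (vqc0 (vqc1 1 5) (vqc0 (vqc1 5 9) (vqc0 (vqc1 2 6) (vqc0 (vqc1 6 3) (vqc0 (vqc1 4 7) (vqc0 (vqc1 7 10) vqc2))))))
      (vqc0 (vqc0 (vqc1 2 3) (vqc0 (vqc1 3 7) (vqc0 (vqc1 7 8) (vqc0 (vqc1 5 6) (vqc0 (vqc1 6 10) (vqc0 (vqc1 10 9) vqc2)))))) (vqc0 (vqc0 (vqc1 0 6) (vqc0 (vqc1 6 7) (vqc0 (vqc1 2 3) (vqc0 (vqc1 3 5) (vqc0 (vqc1 4 10) (vqc0 (vqc1 10 9) vqc2))))))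
      vqy2)))))));
      (vqc0 (vqc0 (vqc1 0 4) (vqc0 (vqc1 1 8) (vqc0 (vqc1 6 10) (vqc0 (vqc1 7 9) vqc2)))) (vqc0 (vqc0 (vqc1 1 6) (vqc0 (vqc1 6 10) (vqc0 (vqc1 10 8) (vqc0 (vqc1 2 7) (vqc0 (vqc1 7 3) (vqc0 (vqc1 3 9) vqc2))))))
      (vqc0 (vqc0 (vqc1 1 4) (vqc0 (vqc1 4 8) (vqc0 (vqc1 8 7) (vqc0 (vqc1 2 3) (vqc0 (vqc1 3 10) (vqc0 (vqc1 10 6) vqc2)))))) (vqc0 (vqc0 (vqc1 0 6) (vqc0 (vqc1 3 8) (vqc0 (vqc1 4 9) (vqc0 (vqc1 7 10) vqc2))))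
      (vqc0 (vqc0 (vqc1 0 9) (vqc0 (vqc1 9 4) (vqc0 (vqc1 4 8) (vqc0 (vqc1 3 5) (vqc0 (vqc1 5 6) (vqc0 (vqc1 6 10) vqc2)))))) (vqc0 (vqc0 (vqc1 0 3) (vqc0 (vqc1 3 5) (vqc0 (vqc1 1 4) (vqc0 (vqc1 4 9) (vqc0 (vqc1 2 6) (vqc0 (vqc1 6 7) vqc2))))))
      (vqc0 (vqc0 (vqc1 1 4) (vqc0 (vqc1 2 6) (vqc0 (vqc1 5 10) (vqc0 (vqc1 7 9) vqc2)))) vqy38))))))));
      (let vqy39 : type_of% vqy37 := (vqc0 (vqc0 (vqc1 1 5) (vqc0 (vqc1 5 7) (vqc0 (vqc1 7 4) (vqc0 (vqc1 2 10) (vqc0 (vqc1 10 3) (vqc0 (vqc1 3 9) vqc2))))))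
      (vqc0 (vqc0 (vqc1 0 10) (vqc0 (vqc1 1 4) (vqc0 (vqc1 3 7) (vqc0 (vqc1 6 8) vqc2)))) (vqc0 (vqc0 (vqc1 0 3) (vqc0 (vqc1 3 10) (vqc0 (vqc1 10 6) (vqc0 (vqc1 2 7) (vqc0 (vqc1 7 9) (vqc0 (vqc1 9 8) vqc2))))))
      (vqc0 (vqc0 (vqc1 0 9) (vqc0 (vqc1 9 1) (vqc0 (vqc1 1 6) (vqc0 (vqc1 2 3) (vqc0 (vqc1 3 8) (vqc0 (vqc1 8 7) vqc2)))))) (vqc0 (vqc0 (vqc1 0 1) (vqc0 (vqc1 1 2) (vqc0 (vqc1 2 7) (vqc0 (vqc1 3 9) (vqc0 (vqc1 9 8) (vqc0 (vqc1 8 5) vqc2))))))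
      (vqc0 (vqc0 (vqc1 0 6) (vqc0 (vqc1 6 10) (vqc0 (vqc1 1 9) (vqc0 (vqc1 9 5) (vqc0 (vqc1 3 8) (vqc0 (vqc1 8 7) vqc2)))))) (vqc0 (vqc0 (vqc1 0 5) (vqc0 (vqc1 5 3) (vqc0 (vqc1 1 9) (vqc0 (vqc1 9 4) (vqc0 (vqc1 2 7) (vqc0 (vqc1 7 6) vqc2))))))
      vqy37)))))));
      (vqc0 (vqc0 (vqc1 0 4) (vqc0 (vqc1 4 9) (vqc0 (vqc1 9 7) (vqc0 (vqc1 2 6) (vqc0 (vqc1 6 3) (vqc0 (vqc1 3 10) vqc2)))))) (vqc0 (vqc0 (vqc1 1 7) (vqc0 (vqc1 7 8) (vqc0 (vqc1 8 6) (vqc0 (vqc1 2 10) (vqc0 (vqc1 10 5) (vqc0 (vqc1 5 9) vqc2))))))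
      (vqc0 (vqc0 (vqc1 0 7) (vqc0 (vqc1 7 5) (vqc0 (vqc1 1 2) (vqc0 (vqc1 2 9) (vqc0 (vqc1 3 8) (vqc0 (vqc1 8 4) vqc2)))))) (vqc0 (vqc0 (vqc1 2 3) (vqc0 (vqc1 4 6) (vqc0 (vqc1 5 8) (vqc0 (vqc1 7 10) vqc2))))
      (vqc0 (vqc0 (vqc1 2 8) (vqc0 (vqc1 8 6) (vqc0 (vqc1 6 9) (vqc0 (vqc1 3 10) (vqc0 (vqc1 10 7) (vqc0 (vqc1 7 4) vqc2)))))) (vqc0 (vqc0 (vqc1 0 6) (vqc0 (vqc1 6 3) (vqc0 (vqc1 3 7) (vqc0 (vqc1 1 10) (vqc0 (vqc1 10 9) (vqc0 (vqc1 9 8) vqc2))))))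
      (vqc0 (vqc0 (vqc1 0 3) (vqc0 (vqc1 3 7) (vqc0 (vqc1 2 9) (vqc0 (vqc1 9 4) (vqc0 (vqc1 6 10) (vqc0 (vqc1 10 8) vqc2)))))) vqy39)))))))));
      (let vqy40 : type_of% vqy36 := (let vqy41 : type_of% vqy36 := (vqc0 (vqc0 (vqc1 0 3) (vqc0 (vqc1 3 10) (vqc0 (vqc1 2 8) (vqc0 (vqc1 8 4) (vqc0 (vqc1 5 9) (vqc0 (vqc1 9 7) vqc2))))))
      (vqc0 (vqc0 (vqc1 2 7) (vqc0 (vqc1 7 3) (vqc0 (vqc1 3 10) (vqc0 (vqc1 4 5) (vqc0 (vqc1 5 6) (vqc0 (vqc1 6 8) vqc2)))))) (vqc0 (vqc0 (vqc1 0 8) (vqc0 (vqc1 8 10) (vqc0 (vqc1 1 9) (vqc0 (vqc1 9 3) (vqc0 (vqc1 2 6) (vqc0 (vqc1 6 5) vqc2))))))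
      (vqc0 (vqc0 (vqc1 0 9) (vqc0 (vqc1 9 3) (vqc0 (vqc1 1 7) (vqc0 (vqc1 7 6) (vqc0 (vqc1 2 8) (vqc0 (vqc1 8 5) vqc2)))))) (vqc0 (vqc0 (vqc1 1 3) (vqc0 (vqc1 3 2) (vqc0 (vqc1 2 9) (vqc0 (vqc1 4 10) (vqc0 (vqc1 10 8) (vqc0 (vqc1 8 7) vqc2))))))
      (vqc0 (vqc0 (vqc1 0 7) (vqc0 (vqc1 1 3) (vqc0 (vqc1 4 10) (vqc0 (vqc1 6 9) vqc2)))) (vqc0 (vqc0 (vqc1 0 5) (vqc0 (vqc1 5 9) (vqc0 (vqc1 9 3) (vqc0 (vqc1 2 7) (vqc0 (vqc1 7 8) (vqc0 (vqc1 8 10) vqc2))))))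
      vqy36)))))));
      (vqc0 (vqc0 (vqc1 1 8) (vqc0 (vqc1 8 10) (vqc0 (vqc1 3 5) (vqc0 (vqc1 5 4) (vqc0 (vqc1 6 9) (vqc0 (vqc1 9 7) vqc2)))))) (vqc0 (vqc0 (vqc1 0 2) (vqc0 (vqc1 2 6) (vqc0 (vqc1 3 9) (vqc0 (vqc1 9 10) (vqc0 (vqc1 4 8) (vqc0 (vqc1 8 7) vqc2))))))
      (vqc0 (vqc0 (vqc1 0 7) (vqc0 (vqc1 7 2) (vqc0 (vqc1 2 9) (vqc0 (vqc1 3 10) (vqc0 (vqc1 10 4) (vqc0 (vqc1 4 8) vqc2)))))) (vqc0 (vqc0 (vqc1 0 5) (vqc0 (vqc1 5 9) (vqc0 (vqc1 9 4) (vqc0 (vqc1 1 8) (vqc0 (vqc1 8 3) (vqc0 (vqc1 3 10) vqc2))))))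
      (vqc0 (vqc0 (vqc1 2 8) (vqc0 (vqc1 3 6) (vqc0 (vqc1 4 5) (vqc0 (vqc1 7 9) vqc2)))) (vqc0 (vqc0 (vqc1 0 4) (vqc0 (vqc1 4 3) (vqc0 (vqc1 1 10) (vqc0 (vqc1 10 7) (vqc0 (vqc1 6 8) (vqc0 (vqc1 8 9) vqc2))))))
      (vqc0 (vqc0 (vqc1 1 9) (vqc0 (vqc1 9 7) (vqc0 (vqc1 7 8) (vqc0 (vqc1 3 6) (vqc0 (vqc1 6 5) (vqc0 (vqc1 5 10) vqc2)))))) vqy41))))))));
      (let vqy42 : type_of% vqy40 := (vqc0 (vqc0 (vqc1 0 2) (vqc0 (vqc1 2 7) (vqc0 (vqc1 1 10) (vqc0 (vqc1 10 6) (vqc0 (vqc1 3 9) (vqc0 (vqc1 9 4) vqc2))))))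
      (vqc0 (vqc0 (vqc1 0 8) (vqc0 (vqc1 1 7) (vqc0 (vqc1 4 9) (vqc0 (vqc1 5 10) vqc2)))) (vqc0 (vqc0 (vqc1 0 1) (vqc0 (vqc1 1 5) (vqc0 (vqc1 5 9) (vqc0 (vqc1 3 6) (vqc0 (vqc1 6 4) (vqc0 (vqc1 4 10) vqc2))))))
      (vqc0 (vqc0 (vqc1 0 8) (vqc0 (vqc1 1 5) (vqc0 (vqc1 3 6) (vqc0 (vqc1 7 10) vqc2)))) (vqc0 (vqc0 (vqc1 0 7) (vqc0 (vqc1 7 3) (vqc0 (vqc1 3 10) (vqc0 (vqc1 1 5) (vqc0 (vqc1 5 4) (vqc0 (vqc1 4 9) vqc2))))))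
      (vqc0 (vqc0 (vqc1 1 7) (vqc0 (vqc1 7 3) (vqc0 (vqc1 3 6) (vqc0 (vqc1 4 10) (vqc0 (vqc1 10 8) (vqc0 (vqc1 8 5) vqc2)))))) (vqc0 (vqc0 (vqc1 1 5) (vqc0 (vqc1 5 9) (vqc0 (vqc1 9 6) (vqc0 (vqc1 2 8) (vqc0 (vqc1 8 3) (vqc0 (vqc1 3 4) vqc2))))))
      vqy40)))))));
      (vqc0 (vqc0 (vqc1 0 7) (vqc0 (vqc1 1 8) (vqc0 (vqc1 2 3) (vqc0 (vqc1 4 9) vqc2))))
      (vqc0 (vqc0 (vqc1 1 10) (vqc0 (vqc1 10 9) (vqc0 (vqc1 2 5) (vqc0 (vqc1 5 8) (vqc0 (vqc1 3 4) (vqc0 (vqc1 4 6) vqc2)))))) (vqc0 (vqc0 (vqc1 0 4) (vqc0 (vqc1 2 5) (vqc0 (vqc1 6 9) (vqc0 (vqc1 7 10) vqc2))))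
      (vqc0 (vqc0 (vqc1 2 9) (vqc0 (vqc1 9 10) (vqc0 (vqc1 10 5) (vqc0 (vqc1 3 7) (vqc0 (vqc1 7 4) (vqc0 (vqc1 4 6) vqc2)))))) (vqc0 (vqc0 (vqc1 0 9) (vqc0 (vqc1 9 1) (vqc0 (vqc1 1 8) (vqc0 (vqc1 3 7) (vqc0 (vqc1 7 10) (vqc0 (vqc1 10 4) vqc2))))))
      (vqc0 (vqc0 (vqc1 1 10) (vqc0 (vqc1 10 9) (vqc0 (vqc1 9 7) (vqc0 (vqc1 4 8) (vqc0 (vqc1 8 5) (vqc0 (vqc1 5 6) vqc2)))))) vqy42)))))))));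
      (let vqy43 : type_of% vqy35 := (let vqy44 : type_of% vqy35 := (let vqy45 : type_of% vqy35 := (vqc0 (vqc0 (vqc1 1 9) (vqc0 (vqc1 9 8) (vqc0 (vqc1 8 10) (vqc0 (vqc1 2 7) (vqc0 (vqc1 7 5) (vqc0 (vqc1 5 6) vqc2)))))) (vqc0 (vqc0 (vqc1 0 10) (vqc0 (vqc1 10 2) (vqc0 (vqc1 3 6) (vqc0 (vqc1 6 9) (vqc0 (vqc1 4 5) (vqc0 (vqc1 5 7) vqc2))))))
      (vqc0 (vqc0 (vqc1 0 8) (vqc0 (vqc1 8 3) (vqc0 (vqc1 3 4) (vqc0 (vqc1 2 6) (vqc0 (vqc1 6 10) (vqc0 (vqc1 10 9) vqc2)))))) (vqc0 (vqc0 (vqc1 2 6) (vqc0 (vqc1 6 7) (vqc0 (vqc1 7 9) (vqc0 (vqc1 3 5) (vqc0 (vqc1 5 8) (vqc0 (vqc1 8 10) vqc2))))))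
      (vqc0 (vqc0 (vqc1 0 2) (vqc0 (vqc1 2 3) (vqc0 (vqc1 3 5) (vqc0 (vqc1 1 8) (vqc0 (vqc1 8 10) (vqc0 (vqc1 10 9) vqc2)))))) (vqc0 (vqc0 (vqc1 1 6) (vqc0 (vqc1 6 3) (vqc0 (vqc1 3 7) (vqc0 (vqc1 4 5) (vqc0 (vqc1 5 8) (vqc0 (vqc1 8 10) vqc2))))))
      (vqc0 (vqc0 (vqc1 3 9) (vqc0 (vqc1 4 7) (vqc0 (vqc1 5 6) (vqc0 (vqc1 8 10) vqc2)))) vqy35)))))));
      (vqc0 (vqc0 (vqc1 0 3) (vqc0 (vqc1 1 2) (vqc0 (vqc1 4 6) (vqc0 (vqc1 5 10) vqc2))))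
      (vqc0 (vqc0 (vqc1 0 5) (vqc0 (vqc1 5 8) (vqc0 (vqc1 8 9) (vqc0 (vqc1 2 10) (vqc0 (vqc1 10 3) (vqc0 (vqc1 3 4) vqc2)))))) (vqc0 (vqc0 (vqc1 0 7) (vqc0 (vqc1 7 2) (vqc0 (vqc1 2 3) (vqc0 (vqc1 4 6) (vqc0 (vqc1 6 9) (vqc0 (vqc1 9 5) vqc2))))))
      (vqc0 (vqc0 (vqc1 0 3) (vqc0 (vqc1 3 9) (vqc0 (vqc1 1 4) (vqc0 (vqc1 4 5) (vqc0 (vqc1 2 10) (vqc0 (vqc1 10 6) vqc2)))))) (vqc0 (vqc0 (vqc1 1 3) (vqc0 (vqc1 2 9) (vqc0 (vqc1 5 6) (vqc0 (vqc1 7 10) vqc2))))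
      (vqc0 (vqc0 (vqc1 0 10) (vqc0 (vqc1 1 9) (vqc0 (vqc1 2 4) (vqc0 (vqc1 3 8) vqc2)))) (vqc0 (vqc0 (vqc1 0 10) (vqc0 (vqc1 10 8) (vqc0 (vqc1 1 3) (vqc0 (vqc1 3 9) (vqc0 (vqc1 2 5) (vqc0 (vqc1 5 6) vqc2))))))
      vqy45))))))));
      (let vqy46 : type_of% vqy44 := (vqc0 (vqc0 (vqc1 0 7) (vqc0 (vqc1 7 9) (vqc0 (vqc1 9 1) (vqc0 (vqc1 3 4) (vqc0 (vqc1 4 6) (vqc0 (vqc1 6 8) vqc2)))))) (vqc0 (vqc0 (vqc1 0 1) (vqc0 (vqc1 1 3) (vqc0 (vqc1 3 4) (vqc0 (vqc1 5 7) (vqc0 (vqc1 7 9) (vqc0 (vqc1 9 10) vqc2))))))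
      (vqc0 (vqc0 (vqc1 1 9) (vqc0 (vqc1 9 4) (vqc0 (vqc1 4 2) (vqc0 (vqc1 3 6) (vqc0 (vqc1 6 8) (vqc0 (vqc1 8 7) vqc2)))))) (vqc0 (vqc0 (vqc1 0 4) (vqc0 (vqc1 4 5) (vqc0 (vqc1 1 3) (vqc0 (vqc1 3 9) (vqc0 (vqc1 2 7) (vqc0 (vqc1 7 10) vqc2))))))
      (vqc0 (vqc0 (vqc1 1 4) (vqc0 (vqc1 4 6) (vqc0 (vqc1 6 9) (vqc0 (vqc1 2 8) (vqc0 (vqc1 8 7) (vqc0 (vqc1 7 5) vqc2)))))) (vqc0 (vqc0 (vqc1 0 5) (vqc0 (vqc1 5 3) (vqc0 (vqc1 3 7) (vqc0 (vqc1 2 10) (vqc0 (vqc1 10 6) (vqc0 (vqc1 6 9) vqc2))))))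
      (vqc0 (vqc0 (vqc1 0 1) (vqc0 (vqc1 1 6) (vqc0 (vqc1 6 7) (vqc0 (vqc1 2 9) (vqc0 (vqc1 9 10) (vqc0 (vqc1 10 3) vqc2)))))) vqy44)))))));
      (vqc0 (vqc0 (vqc1 0 6) (vqc0 (vqc1 6 4) (vqc0 (vqc1 4 3) (vqc0 (vqc1 5 8) (vqc0 (vqc1 8 10) (vqc0 (vqc1 10 9) vqc2))))))
      (vqc0 (vqc0 (vqc1 2 4) (vqc0 (vqc1 3 5) (vqc0 (vqc1 6 8) (vqc0 (vqc1 9 10) vqc2)))) (vqc0 (vqc0 (vqc1 0 8) (vqc0 (vqc1 8 3) (vqc0 (vqc1 3 6) (vqc0 (vqc1 1 9) (vqc0 (vqc1 9 5) (vqc0 (vqc1 5 4) vqc2))))))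
      (vqc0 (vqc0 (vqc1 1 3) (vqc0 (vqc1 3 6) (vqc0 (vqc1 6 9) (vqc0 (vqc1 2 10) (vqc0 (vqc1 10 5) (vqc0 (vqc1 5 4) vqc2)))))) (vqc0 (vqc0 (vqc1 0 6) (vqc0 (vqc1 6 10) (vqc0 (vqc1 10 3) (vqc0 (vqc1 2 8) (vqc0 (vqc1 8 9) (vqc0 (vqc1 9 7) vqc2))))))
      (vqc0 (vqc0 (vqc1 1 9) (vqc0 (vqc1 9 2) (vqc0 (vqc1 2 5) (vqc0 (vqc1 3 10) (vqc0 (vqc1 10 6) (vqc0 (vqc1 6 8) vqc2)))))) (vqc0 (vqc0 (vqc1 0 1) (vqc0 (vqc1 1 8) (vqc0 (vqc1 8 3) (vqc0 (vqc1 2 10) (vqc0 (vqc1 10 7) (vqc0 (vqc1 7 9) vqc2))))))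
      vqy46)))))))));
      (let vqy47 : type_of% vqy43 := (let vqy48 : type_of% vqy43 := (vqc0 (vqc0 (vqc1 0 10) (vqc0 (vqc1 10 3) (vqc0 (vqc1 3 1) (vqc0 (vqc1 2 8) (vqc0 (vqc1 8 5) (vqc0 (vqc1 5 9) vqc2)))))) (vqc0 (vqc0 (vqc1 1 9) (vqc0 (vqc1 2 7) (vqc0 (vqc1 3 10) (vqc0 (vqc1 4 6) vqc2))))
      (vqc0 (vqc0 (vqc1 1 3) (vqc0 (vqc1 3 7) (vqc0 (vqc1 7 5) (vqc0 (vqc1 6 9) (vqc0 (vqc1 9 10) (vqc0 (vqc1 10 8) vqc2)))))) (vqc0 (vqc0 (vqc1 0 1) (vqc0 (vqc1 1 9) (vqc0 (vqc1 9 7) (vqc0 (vqc1 3 8) (vqc0 (vqc1 8 6) (vqc0 (vqc1 6 4) vqc2))))))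
      (vqc0 (vqc0 (vqc1 1 8) (vqc0 (vqc1 8 9) (vqc0 (vqc1 9 4) (vqc0 (vqc1 2 6) (vqc0 (vqc1 6 3) (vqc0 (vqc1 3 5) vqc2)))))) (vqc0 (vqc0 (vqc1 0 6) (vqc0 (vqc1 1 2) (vqc0 (vqc1 3 4) (vqc0 (vqc1 8 9) vqc2))))
      (vqc0 (vqc0 (vqc1 1 8) (vqc0 (vqc1 8 6) (vqc0 (vqc1 6 7) (vqc0 (vqc1 3 9) (vqc0 (vqc1 9 4) (vqc0 (vqc1 4 10) vqc2)))))) vqy43)))))));
      (vqc0 (vqc0 (vqc1 0 4) (vqc0 (vqc1 1 7) (vqc0 (vqc1 3 10) (vqc0 (vqc1 5 6) vqc2))))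
      (vqc0 (vqc0 (vqc1 0 8) (vqc0 (vqc1 1 3) (vqc0 (vqc1 2 7) (vqc0 (vqc1 9 10) vqc2)))) (vqc0 (vqc0 (vqc1 1 3) (vqc0 (vqc1 3 4) (vqc0 (vqc1 4 8) (vqc0 (vqc1 2 6) (vqc0 (vqc1 6 9) (vqc0 (vqc1 9 7) vqc2))))))
      (vqc0 (vqc0 (vqc1 1 2) (vqc0 (vqc1 2 6) (vqc0 (vqc1 6 5) (vqc0 (vqc1 3 4) (vqc0 (vqc1 4 9) (vqc0 (vqc1 9 10) vqc2)))))) (vqc0 (vqc0 (vqc1 1 5) (vqc0 (vqc1 5 7) (vqc0 (vqc1 7 3) (vqc0 (vqc1 6 8) (vqc0 (vqc1 8 10) (vqc0 (vqc1 10 9) vqc2))))))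
      (vqc0 (vqc0 (vqc1 0 4) (vqc0 (vqc1 1 9) (vqc0 (vqc1 3 5) (vqc0 (vqc1 7 8) vqc2)))) (vqc0 (vqc0 (vqc1 0 3) (vqc0 (vqc1 1 7) (vqc0 (vqc1 2 8) (vqc0 (vqc1 4 10) vqc2))))
      vqy48))))))));
      (let vqy49 : type_of% vqy47 := (vqc0 (vqc0 (vqc1 0 4) (vqc0 (vqc1 4 8) (vqc0 (vqc1 8 3) (vqc0 (vqc1 5 9) (vqc0 (vqc1 9 7) (vqc0 (vqc1 7 6) vqc2)))))) (vqc0 (vqc0 (vqc1 1 2) (vqc0 (vqc1 2 9) (vqc0 (vqc1 9 10) (vqc0 (vqc1 3 5) (vqc0 (vqc1 5 7) (vqc0 (vqc1 7 8) vqc2))))))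
      (vqc0 (vqc0 (vqc1 1 3) (vqc0 (vqc1 3 7) (vqc0 (vqc1 7 2) (vqc0 (vqc1 4 9) (vqc0 (vqc1 9 5) (vqc0 (vqc1 5 10) vqc2)))))) (vqc0 (vqc0 (vqc1 0 8) (vqc0 (vqc1 8 3) (vqc0 (vqc1 2 9) (vqc0 (vqc1 9 5) (vqc0 (vqc1 6 7) (vqc0 (vqc1 7 10) vqc2))))))
      (vqc0 (vqc0 (vqc1 0 3) (vqc0 (vqc1 3 2) (vqc0 (vqc1 1 8) (vqc0 (vqc1 8 7) (vqc0 (vqc1 6 10) (vqc0 (vqc1 10 9) vqc2)))))) (vqc0 (vqc0 (vqc1 0 3) (vqc0 (vqc1 3 1) (vqc0 (vqc1 2 4) (vqc0 (vqc1 4 6) (vqc0 (vqc1 8 10) (vqc0 (vqc1 10 9) vqc2))))))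
      (vqc0 (vqc0 (vqc1 0 3) (vqc0 (vqc1 3 10) (vqc0 (vqc1 10 5) (vqc0 (vqc1 4 7) (vqc0 (vqc1 7 6) (vqc0 (vqc1 6 9) vqc2)))))) vqy47)))))));
      (vqc0 (vqc0 (vqc1 1 6) (vqc0 (vqc1 6 7) (vqc0 (vqc1 7 10) (vqc0 (vqc1 3 8) (vqc0 (vqc1 8 5) (vqc0 (vqc1 5 9) vqc2)))))) (vqc0 (vqc0 (vqc1 1 10) (vqc0 (vqc1 10 9) (vqc0 (vqc1 9 2) (vqc0 (vqc1 3 8) (vqc0 (vqc1 8 7) (vqc0 (vqc1 7 5) vqc2))))))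
      (vqc0 (vqc0 (vqc1 0 3) (vqc0 (vqc1 3 1) (vqc0 (vqc1 1 8) (vqc0 (vqc1 5 10) (vqc0 (vqc1 10 6) (vqc0 (vqc1 6 9) vqc2)))))) (vqc0 (vqc0 (vqc1 0 6) (vqc0 (vqc1 6 2) (vqc0 (vqc1 1 8) (vqc0 (vqc1 8 9) (vqc0 (vqc1 3 7) (vqc0 (vqc1 7 5) vqc2))))))
      (vqc0 (vqc0 (vqc1 0 5) (vqc0 (vqc1 5 3) (vqc0 (vqc1 3 1) (vqc0 (vqc1 4 8) (vqc0 (vqc1 8 9) (vqc0 (vqc1 9 6) vqc2)))))) (vqc0 (vqc0 (vqc1 1 6) (vqc0 (vqc1 6 2) (vqc0 (vqc1 2 9) (vqc0 (vqc1 3 4) (vqc0 (vqc1 4 5) (vqc0 (vqc1 5 7) vqc2))))))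
      vqy49))))))))));
      (let vqy50 : type_of% vqy34 := (let vqy51 : type_of% vqy34 := (let vqy52 : type_of% vqy34 := (let vqy53 : type_of% vqy34 := (vqc0 (vqc0 (vqc1 1 7) (vqc0 (vqc1 7 5) (vqc0 (vqc1 5 3) (vqc0 (vqc1 2 10) (vqc0 (vqc1 10 4) (vqc0 (vqc1 4 6) vqc2))))))
      (vqc0 (vqc0 (vqc1 0 7) (vqc0 (vqc1 7 9) (vqc0 (vqc1 9 10) (vqc0 (vqc1 2 3) (vqc0 (vqc1 3 8) (vqc0 (vqc1 8 5) vqc2)))))) (vqc0 (vqc0 (vqc1 0 1) (vqc0 (vqc1 1 4) (vqc0 (vqc1 2 6) (vqc0 (vqc1 6 3) (vqc0 (vqc1 7 9) (vqc0 (vqc1 9 8) vqc2))))))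
      (vqc0 (vqc0 (vqc1 0 9) (vqc0 (vqc1 9 4) (vqc0 (vqc1 1 10) (vqc0 (vqc1 10 2) (vqc0 (vqc1 3 8) (vqc0 (vqc1 8 6) vqc2)))))) (vqc0 (vqc0 (vqc1 0 4) (vqc0 (vqc1 4 7) (vqc0 (vqc1 3 8) (vqc0 (vqc1 8 5) (vqc0 (vqc1 6 10) (vqc0 (vqc1 10 9) vqc2))))))
      (vqc0 (vqc0 (vqc1 1 6) (vqc0 (vqc1 6 2) (vqc0 (vqc1 2 5) (vqc0 (vqc1 4 7) (vqc0 (vqc1 7 10) (vqc0 (vqc1 10 8) vqc2)))))) (vqc0 (vqc0 (vqc1 0 9) (vqc0 (vqc1 1 2) (vqc0 (vqc1 5 7) (vqc0 (vqc1 6 8) vqc2))))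
      vqy34)))))));
      (vqc0 (vqc0 (vqc1 1 5) (vqc0 (vqc1 2 10) (vqc0 (vqc1 4 6) (vqc0 (vqc1 8 9) vqc2)))) (vqc0 (vqc0 (vqc1 1 2) (vqc0 (vqc1 2 10) (vqc0 (vqc1 10 8) (vqc0 (vqc1 4 9) (vqc0 (vqc1 9 7) (vqc0 (vqc1 7 5) vqc2))))))
      (vqc0 (vqc0 (vqc1 0 3) (vqc0 (vqc1 3 1) (vqc0 (vqc1 2 10) (vqc0 (vqc1 10 5) (vqc0 (vqc1 6 7) (vqc0 (vqc1 7 9) vqc2)))))) (vqc0 (vqc0 (vqc1 1 8) (vqc0 (vqc1 8 6) (vqc0 (vqc1 2 3) (vqc0 (vqc1 3 10) (vqc0 (vqc1 4 9) (vqc0 (vqc1 9 5) vqc2))))))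
      (vqc0 (vqc0 (vqc1 0 5) (vqc0 (vqc1 5 3) (vqc0 (vqc1 3 8) (vqc0 (vqc1 2 4) (vqc0 (vqc1 4 9) (vqc0 (vqc1 9 7) vqc2)))))) (vqc0 (vqc0 (vqc1 1 4) (vqc0 (vqc1 4 6) (vqc0 (vqc1 6 10) (vqc0 (vqc1 2 3) (vqc0 (vqc1 3 5) (vqc0 (vqc1 5 9) vqc2))))))
      (vqc0 (vqc0 (vqc1 3 6) (vqc0 (vqc1 6 9) (vqc0 (vqc1 9 5) (vqc0 (vqc1 4 8) (vqc0 (vqc1 8 7) (vqc0 (vqc1 7 10) vqc2)))))) vqy53))))))));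
      (let vqy54 : type_of% vqy52 := (vqc0 (vqc0 (vqc1 0 1) (vqc0 (vqc1 2 3) (vqc0 (vqc1 5 10) (vqc0 (vqc1 7 8) vqc2))))
      (vqc0 (vqc0 (vqc1 1 4) (vqc0 (vqc1 4 10) (vqc0 (vqc1 10 7) (vqc0 (vqc1 2 5) (vqc0 (vqc1 5 8) (vqc0 (vqc1 8 9) vqc2)))))) (vqc0 (vqc0 (vqc1 0 3) (vqc0 (vqc1 3 5) (vqc0 (vqc1 5 10) (vqc0 (vqc1 1 9) (vqc0 (vqc1 9 2) (vqc0 (vqc1 2 7) vqc2))))))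
      (vqc0 (vqc0 (vqc1 0 2) (vqc0 (vqc1 2 3) (vqc0 (vqc1 3 6) (vqc0 (vqc1 5 9) (vqc0 (vqc1 9 7) (vqc0 (vqc1 7 10) vqc2)))))) (vqc0 (vqc0 (vqc1 0 2) (vqc0 (vqc1 2 9) (vqc0 (vqc1 1 5) (vqc0 (vqc1 5 7) (vqc0 (vqc1 3 10) (vqc0 (vqc1 10 6) vqc2))))))
      (vqc0 (vqc0 (vqc1 0 2) (vqc0 (vqc1 2 5) (vqc0 (vqc1 5 8) (vqc0 (vqc1 1 9) (vqc0 (vqc1 9 4) (vqc0 (vqc1 4 3) vqc2)))))) (vqc0 (vqc0 (vqc1 1 4) (vqc0 (vqc1 4 8) (vqc0 (vqc1 8 3) (vqc0 (vqc1 2 10) (vqc0 (vqc1 10 9) (vqc0 (vqc1 9 5) vqc2))))))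
      vqy52)))))));
      (vqc0 (vqc0 (vqc1 0 5) (vqc0 (vqc1 5 1) (vqc0 (vqc1 3 4) (vqc0 (vqc1 4 9) (vqc0 (vqc1 7 10) (vqc0 (vqc1 10 8) vqc2)))))) (vqc0 (vqc0 (vqc1 1 9) (vqc0 (vqc1 9 3) (vqc0 (vqc1 3 4) (vqc0 (vqc1 2 10) (vqc0 (vqc1 10 8) (vqc0 (vqc1 8 6) vqc2))))))
      (vqc0 (vqc0 (vqc1 1 8) (vqc0 (vqc1 8 3) (vqc0 (vqc1 3 4) (vqc0 (vqc1 5 7) (vqc0 (vqc1 7 10) (vqc0 (vqc1 10 6) vqc2)))))) (vqc0 (vqc0 (vqc1 1 3) (vqc0 (vqc1 3 2) (vqc0 (vqc1 2 5) (vqc0 (vqc1 4 6) (vqc0 (vqc1 6 7) (vqc0 (vqc1 7 9) vqc2))))))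
      (vqc0 (vqc0 (vqc1 2 9) (vqc0 (vqc1 9 7) (vqc0 (vqc1 7 6) (vqc0 (vqc1 3 10) (vqc0 (vqc1 10 8) (vqc0 (vqc1 8 5) vqc2)))))) (vqc0 (vqc0 (vqc1 0 3) (vqc0 (vqc1 3 2) (vqc0 (vqc1 1 10) (vqc0 (vqc1 10 5) (vqc0 (vqc1 4 9) (vqc0 (vqc1 9 7) vqc2))))))
      (vqc0 (vqc0 (vqc1 0 4) (vqc0 (vqc1 4 2) (vqc0 (vqc1 2 9) (vqc0 (vqc1 3 6) (vqc0 (vqc1 6 7) (vqc0 (vqc1 7 5) vqc2)))))) vqy54)))))))));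
      (let vqy55 : type_of% vqy51 := (let vqy56 : type_of% vqy51 := (vqc0 (vqc0 (vqc1 1 10) (vqc0 (vqc1 10 8) (vqc0 (vqc1 8 2) (vqc0 (vqc1 3 7) (vqc0 (vqc1 7 6) (vqc0 (vqc1 6 4) vqc2))))))
      (vqc0 (vqc0 (vqc1 0 4) (vqc0 (vqc1 4 8) (vqc0 (vqc1 1 9) (vqc0 (vqc1 9 7) (vqc0 (vqc1 2 10) (vqc0 (vqc1 10 3) vqc2)))))) (vqc0 (vqc0 (vqc1 1 5) (vqc0 (vqc1 5 2) (vqc0 (vqc1 2 3) (vqc0 (vqc1 4 9) (vqc0 (vqc1 9 7) (vqc0 (vqc1 7 6) vqc2))))))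
      (vqc0 (vqc0 (vqc1 0 4) (vqc0 (vqc1 4 3) (vqc0 (vqc1 2 7) (vqc0 (vqc1 7 9) (vqc0 (vqc1 5 6) (vqc0 (vqc1 6 10) vqc2)))))) (vqc0 (vqc0 (vqc1 0 4) (vqc0 (vqc1 4 2) (vqc0 (vqc1 2 3) (vqc0 (vqc1 7 10) (vqc0 (vqc1 10 9) (vqc0 (vqc1 9 8) vqc2))))))
      (vqc0 (vqc0 (vqc1 0 9) (vqc0 (vqc1 1 3) (vqc0 (vqc1 4 5) (vqc0 (vqc1 8 10) vqc2)))) (vqc0 (vqc0 (vqc1 0 3) (vqc0 (vqc1 3 6) (vqc0 (vqc1 2 5) (vqc0 (vqc1 5 7) (vqc0 (vqc1 4 8) (vqc0 (vqc1 8 9) vqc2))))))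
      vqy51)))))));
      (vqc0 (vqc0 (vqc1 0 5) (vqc0 (vqc1 5 9) (vqc0 (vqc1 1 10) (vqc0 (vqc1 10 6) (vqc0 (vqc1 2 3) (vqc0 (vqc1 3 8) vqc2)))))) (vqc0 (vqc0 (vqc1 0 1) (vqc0 (vqc1 1 9) (vqc0 (vqc1 2 6) (vqc0 (vqc1 6 8) (vqc0 (vqc1 3 4) (vqc0 (vqc1 4 5) vqc2))))))
      (vqc0 (vqc0 (vqc1 0 4) (vqc0 (vqc1 4 1) (vqc0 (vqc1 2 3) (vqc0 (vqc1 3 6) (vqc0 (vqc1 7 8) (vqc0 (vqc1 8 9) vqc2)))))) (vqc0 (vqc0 (vqc1 1 7) (vqc0 (vqc1 7 5) (vqc0 (vqc1 5 8) (vqc0 (vqc1 2 9) (vqc0 (vqc1 9 6) (vqc0 (vqc1 6 3) vqc2))))))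
      (vqc0 (vqc0 (vqc1 0 7) (vqc0 (vqc1 7 2) (vqc0 (vqc1 3 6) (vqc0 (vqc1 6 5) (vqc0 (vqc1 8 10) (vqc0 (vqc1 10 9) vqc2)))))) (vqc0 (vqc0 (vqc1 1 5) (vqc0 (vqc1 5 3) (vqc0 (vqc1 2 6) (vqc0 (vqc1 6 9) (vqc0 (vqc1 4 10) (vqc0 (vqc1 10 8) vqc2))))))
      (vqc0 (vqc0 (vqc1 0 5) (vqc0 (vqc1 5 2) (vqc0 (vqc1 1 10) (vqc0 (vqc1 10 3) (vqc0 (vqc1 4 6) (vqc0 (vqc1 6 9) vqc2)))))) vqy56))))))));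
      (let vqy57 : type_of% vqy55 := (vqc0 (vqc0 (vqc1 1 4) (vqc0 (vqc1 4 9) (vqc0 (vqc1 2 3) (vqc0 (vqc1 3 8) (vqc0 (vqc1 5 7) (vqc0 (vqc1 7 10) vqc2))))))
      (vqc0 (vqc0 (vqc1 0 5) (vqc0 (vqc1 5 2) (vqc0 (vqc1 3 9) (vqc0 (vqc1 9 8) (vqc0 (vqc1 4 10) (vqc0 (vqc1 10 7) vqc2)))))) (vqc0 (vqc0 (vqc1 0 7) (vqc0 (vqc1 2 6) (vqc0 (vqc1 3 5) (vqc0 (vqc1 4 8) vqc2))))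
      (vqc0 (vqc0 (vqc1 2 5) (vqc0 (vqc1 5 8) (vqc0 (vqc1 8 4) (vqc0 (vqc1 3 7) (vqc0 (vqc1 7 6) (vqc0 (vqc1 6 9) vqc2)))))) (vqc0 (vqc0 (vqc1 1 6) (vqc0 (vqc1 6 7) (vqc0 (vqc1 7 9) (vqc0 (vqc1 2 10) (vqc0 (vqc1 10 4) (vqc0 (vqc1 4 8) vqc2))))))
      (vqc0 (vqc0 (vqc1 2 8) (vqc0 (vqc1 8 5) (vqc0 (vqc1 5 7) (vqc0 (vqc1 3 4) (vqc0 (vqc1 4 10) (vqc0 (vqc1 10 9) vqc2)))))) (vqc0 (vqc0 (vqc1 0 3) (vqc0 (vqc1 1 6) (vqc0 (vqc1 2 4) (vqc0 (vqc1 7 9) vqc2))))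
      vqy55)))))));
      (vqc0 (vqc0 (vqc1 0 10) (vqc0 (vqc1 10 3) (vqc0 (vqc1 3 7) (vqc0 (vqc1 1 9) (vqc0 (vqc1 9 4) (vqc0 (vqc1 4 5) vqc2))))))
      (vqc0 (vqc0 (vqc1 1 7) (vqc0 (vqc1 7 6) (vqc0 (vqc1 6 8) (vqc0 (vqc1 3 10) (vqc0 (vqc1 10 4) (vqc0 (vqc1 4 9) vqc2)))))) (vqc0 (vqc0 (vqc1 0 9) (vqc0 (vqc1 9 10) (vqc0 (vqc1 10 7) (vqc0 (vqc1 3 6) (vqc0 (vqc1 6 5) (vqc0 (vqc1 5 4) vqc2))))))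
      (vqc0 (vqc0 (vqc1 1 4) (vqc0 (vqc1 4 9) (vqc0 (vqc1 9 6) (vqc0 (vqc1 2 10) (vqc0 (vqc1 10 7) (vqc0 (vqc1 7 3) vqc2)))))) (vqc0 (vqc0 (vqc1 0 10) (vqc0 (vqc1 2 8) (vqc0 (vqc1 3 4) (vqc0 (vqc1 5 6) vqc2))))
      (vqc0 (vqc0 (vqc1 0 7) (vqc0 (vqc1 7 5) (vqc0 (vqc1 5 3) (vqc0 (vqc1 4 10) (vqc0 (vqc1 10 8) (vqc0 (vqc1 8 9) vqc2)))))) vqy57)))))))));
      (let vqy58 : type_of% vqy50 := (let vqy59 : type_of% vqy50 := (let vqy60 : type_of% vqy50 := (vqc0 (vqc0 (vqc1 1 7) (vqc0 (vqc1 7 9) (vqc0 (vqc1 2 6) (vqc0 (vqc1 6 4) (vqc0 (vqc1 3 8) (vqc0 (vqc1 8 5) vqc2)))))) (vqc0 (vqc0 (vqc1 0 1) (vqc0 (vqc1 1 9) (vqc0 (vqc1 9 8) (vqc0 (vqc1 2 3) (vqc0 (vqc1 3 6) (vqc0 (vqc1 6 10) vqc2))))))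
      (vqc0 (vqc0 (vqc1 0 10) (vqc0 (vqc1 10 8) (vqc0 (vqc1 3 7) (vqc0 (vqc1 7 6) (vqc0 (vqc1 4 9) (vqc0 (vqc1 9 5) vqc2)))))) (vqc0 (vqc0 (vqc1 1 6) (vqc0 (vqc1 6 8) (vqc0 (vqc1 8 4) (vqc0 (vqc1 3 9) (vqc0 (vqc1 9 7) (vqc0 (vqc1 7 5) vqc2))))))
      (vqc0 (vqc0 (vqc1 0 1) (vqc0 (vqc1 1 9) (vqc0 (vqc1 2 10) (vqc0 (vqc1 10 4) (vqc0 (vqc1 3 7) (vqc0 (vqc1 7 6) vqc2)))))) (vqc0 (vqc0 (vqc1 0 9) (vqc0 (vqc1 9 2) (vqc0 (vqc1 1 8) (vqc0 (vqc1 8 6) (vqc0 (vqc1 3 4) (vqc0 (vqc1 4 7) vqc2))))))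
      (vqc0 (vqc0 (vqc1 2 6) (vqc0 (vqc1 6 5) (vqc0 (vqc1 3 8) (vqc0 (vqc1 8 4) (vqc0 (vqc1 7 10) (vqc0 (vqc1 10 9) vqc2)))))) vqy50)))))));
      (vqc0 (vqc0 (vqc1 1 2) (vqc0 (vqc1 2 5) (vqc0 (vqc1 3 7) (vqc0 (vqc1 7 4) (vqc0 (vqc1 8 10) (vqc0 (vqc1 10 9) vqc2))))))
      (vqc0 (vqc0 (vqc1 1 7) (vqc0 (vqc1 7 5) (vqc0 (vqc1 5 4) (vqc0 (vqc1 4 2) (vqc0 (vqc1 2 8) (vqc0 (vqc1 8 6) (vqc0 (vqc1 6 10) (vqc0 (vqc1 3 9) vqc2)))))))) (vqc0 (vqc0 (vqc1 0 2) (vqc0 (vqc1 2 4) (vqc0 (vqc1 4 6) (vqc0 (vqc1 1 5) (vqc0 (vqc1 5 3) (vqc0 (vqc1 3 9) vqc2))))))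
      (vqc0 (vqc0 (vqc1 0 1) (vqc0 (vqc1 1 5) (vqc0 (vqc1 2 9) (vqc0 (vqc1 9 7) (vqc0 (vqc1 3 6) (vqc0 (vqc1 6 8) vqc2)))))) (vqc0 (vqc0 (vqc1 0 2) (vqc0 (vqc1 2 8) (vqc0 (vqc1 3 5) (vqc0 (vqc1 5 9) (vqc0 (vqc1 4 6) (vqc0 (vqc1 6 7) vqc2))))))
      (vqc0 (vqc0 (vqc1 1 8) (vqc0 (vqc1 8 4) (vqc0 (vqc1 4 5) (vqc0 (vqc1 3 6) (vqc0 (vqc1 6 10) (vqc0 (vqc1 10 9) vqc2)))))) (vqc0 (vqc0 (vqc1 0 5) (vqc0 (vqc1 5 4) (vqc0 (vqc1 4 3) (vqc0 (vqc1 1 7) (vqc0 (vqc1 7 9) (vqc0 (vqc1 9 8) vqc2))))))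
      vqy60))))))));
      (let vqy61 : type_of% vqy59 := (vqc0 (vqc0 (vqc1 1 6) (vqc0 (vqc1 6 7) (vqc0 (vqc1 2 4) (vqc0 (vqc1 4 9) (vqc0 (vqc1 3 10) (vqc0 (vqc1 10 5) vqc2)))))) (vqc0 (vqc0 (vqc1 0 5) (vqc0 (vqc1 5 7) (vqc0 (vqc1 7 2) (vqc0 (vqc1 1 3) (vqc0 (vqc1 3 9) (vqc0 (vqc1 9 6) vqc2))))))
      (vqc0 (vqc0 (vqc1 0 5) (vqc0 (vqc1 5 10) (vqc0 (vqc1 2 6) (vqc0 (vqc1 6 8) (vqc0 (vqc1 3 9) (vqc0 (vqc1 9 7) vqc2)))))) (vqc0 (vqc0 (vqc1 0 3) (vqc0 (vqc1 3 2) (vqc0 (vqc1 2 8) (vqc0 (vqc1 1 5) (vqc0 (vqc1 5 7) (vqc0 (vqc1 7 9) vqc2))))))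
      (vqc0 (vqc0 (vqc1 0 1) (vqc0 (vqc1 1 4) (vqc0 (vqc1 4 9) (vqc0 (vqc1 3 7) (vqc0 (vqc1 7 5) (vqc0 (vqc1 5 8) vqc2)))))) (vqc0 (vqc0 (vqc1 0 10) (vqc0 (vqc1 10 8) (vqc0 (vqc1 8 9) (vqc0 (vqc1 1 2) (vqc0 (vqc1 2 3) (vqc0 (vqc1 3 7) vqc2))))))
      (vqc0 (vqc0 (vqc1 1 2) (vqc0 (vqc1 2 10) (vqc0 (vqc1 10 3) (vqc0 (vqc1 6 9) (vqc0 (vqc1 9 8) (vqc0 (vqc1 8 7) vqc2)))))) vqy59)))))));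
      (vqc0 (vqc0 (vqc1 0 9) (vqc0 (vqc1 9 2) (vqc0 (vqc1 2 3) (vqc0 (vqc1 5 10) (vqc0 (vqc1 10 8) (vqc0 (vqc1 8 6) vqc2))))))
      (vqc0 (vqc0 (vqc1 0 3) (vqc0 (vqc1 3 10) (vqc0 (vqc1 10 8) (vqc0 (vqc1 1 4) (vqc0 (vqc1 4 9) (vqc0 (vqc1 9 2) vqc2)))))) (vqc0 (vqc0 (vqc1 0 8) (vqc0 (vqc1 8 9) (vqc0 (vqc1 1 10) (vqc0 (vqc1 10 3) (vqc0 (vqc1 5 6) (vqc0 (vqc1 6 7) vqc2))))))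
      (vqc0 (vqc0 (vqc1 0 2) (vqc0 (vqc1 2 9) (vqc0 (vqc1 9 7) (vqc0 (vqc1 1 3) (vqc0 (vqc1 3 5) (vqc0 (vqc1 5 4) vqc2)))))) (vqc0 (vqc0 (vqc1 0 1) (vqc0 (vqc1 1 6) (vqc0 (vqc1 6 3) (vqc0 (vqc1 5 7) (vqc0 (vqc1 7 8) (vqc0 (vqc1 8 9) vqc2))))))
      (vqc0 (vqc0 (vqc1 0 3) (vqc0 (vqc1 3 1) (vqc0 (vqc1 2 7) (vqc0 (vqc1 7 8) (vqc0 (vqc1 4 9) (vqc0 (vqc1 9 5) vqc2)))))) (vqc0 (vqc0 (vqc1 0 4) (vqc0 (vqc1 4 6) (vqc0 (vqc1 1 7) (vqc0 (vqc1 7 5) (vqc0 (vqc1 3 8) (vqc0 (vqc1 8 9) vqc2))))))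
      vqy61)))))))));
      (let vqy62 : type_of% vqy58 := (let vqy63 : type_of% vqy58 := (vqc0 (vqc0 (vqc1 1 10) (vqc0 (vqc1 3 6) (vqc0 (vqc1 4 9) (vqc0 (vqc1 5 7) vqc2)))) (vqc0 (vqc0 (vqc1 1 9) (vqc0 (vqc1 9 6) (vqc0 (vqc1 2 3) (vqc0 (vqc1 3 5) (vqc0 (vqc1 7 10) (vqc0 (vqc1 10 8) vqc2))))))
      (vqc0 (vqc0 (vqc1 0 7) (vqc0 (vqc1 1 9) (vqc0 (vqc1 2 5) (vqc0 (vqc1 3 6) vqc2)))) (vqc0 (vqc0 (vqc1 1 7) (vqc0 (vqc1 7 10) (vqc0 (vqc1 10 5) (vqc0 (vqc1 3 9) (vqc0 (vqc1 9 6) (vqc0 (vqc1 6 4) vqc2))))))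
      (vqc0 (vqc0 (vqc1 1 7) (vqc0 (vqc1 7 10) (vqc0 (vqc1 10 4) (vqc0 (vqc1 2 9) (vqc0 (vqc1 9 8) (vqc0 (vqc1 8 5) vqc2)))))) (vqc0 (vqc0 (vqc1 0 10) (vqc0 (vqc1 10 1) (vqc0 (vqc1 2 6) (vqc0 (vqc1 6 7) (vqc0 (vqc1 3 9) (vqc0 (vqc1 9 8) vqc2))))))
      (vqc0 (vqc0 (vqc1 0 3) (vqc0 (vqc1 3 2) (vqc0 (vqc1 1 4) (vqc0 (vqc1 4 6) (vqc0 (vqc1 5 8) (vqc0 (vqc1 8 9) vqc2)))))) vqy58)))))));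
      (vqc0 (vqc0 (vqc1 0 10) (vqc0 (vqc1 10 5) (vqc0 (vqc1 2 8) (vqc0 (vqc1 8 6) (vqc0 (vqc1 3 7) (vqc0 (vqc1 7 9) vqc2))))))
      (vqc0 (vqc0 (vqc1 1 5) (vqc0 (vqc1 2 6) (vqc0 (vqc1 3 9) (vqc0 (vqc1 7 8) vqc2)))) (vqc0 (vqc0 (vqc1 0 5) (vqc0 (vqc1 5 1) (vqc0 (vqc1 1 4) (vqc0 (vqc1 3 6) (vqc0 (vqc1 6 9) (vqc0 (vqc1 9 7) vqc2))))))
      (vqc0 (vqc0 (vqc1 0 4) (vqc0 (vqc1 4 9) (vqc0 (vqc1 9 6) (vqc0 (vqc1 2 3) (vqc0 (vqc1 3 5) (vqc0 (vqc1 5 8) vqc2)))))) (vqc0 (vqc0 (vqc1 1 8) (vqc0 (vqc1 8 2) (vqc0 (vqc1 2 10) (vqc0 (vqc1 3 9) (vqc0 (vqc1 9 6) (vqc0 (vqc1 6 5) vqc2))))))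
      (vqc0 (vqc0 (vqc1 0 1) (vqc0 (vqc1 1 3) (vqc0 (vqc1 3 10) (vqc0 (vqc1 2 9) (vqc0 (vqc1 9 5) (vqc0 (vqc1 5 8) vqc2)))))) (vqc0 (vqc0 (vqc1 1 5) (vqc0 (vqc1 5 2) (vqc0 (vqc1 3 4) (vqc0 (vqc1 4 7) (vqc0 (vqc1 8 9) (vqc0 (vqc1 9 10) vqc2))))))
      vqy63))))))));
      (let vqy64 : type_of% vqy62 := (vqc0 (vqc0 (vqc1 0 3) (vqc0 (vqc1 3 9) (vqc0 (vqc1 1 8) (vqc0 (vqc1 8 10) (vqc0 (vqc1 2 7) (vqc0 (vqc1 7 4) vqc2)))))) (vqc0 (vqc0 (vqc1 0 6) (vqc0 (vqc1 6 2) (vqc0 (vqc1 2 10) (vqc0 (vqc1 3 5) (vqc0 (vqc1 5 9) (vqc0 (vqc1 9 8) vqc2))))))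
      (vqc0 (vqc0 (vqc1 1 6) (vqc0 (vqc1 6 8) (vqc0 (vqc1 8 7) (vqc0 (vqc1 2 9) (vqc0 (vqc1 9 5) (vqc0 (vqc1 5 10) vqc2)))))) (vqc0 (vqc0 (vqc1 0 2) (vqc0 (vqc1 2 3) (vqc0 (vqc1 3 4) (vqc0 (vqc1 1 9) (vqc0 (vqc1 9 6) (vqc0 (vqc1 6 7) vqc2))))))
      (vqc0 (vqc0 (vqc1 0 3) (vqc0 (vqc1 3 2) (vqc0 (vqc1 2 6) (vqc0 (vqc1 1 9) (vqc0 (vqc1 9 4) (vqc0 (vqc1 4 10) vqc2)))))) (vqc0 (vqc0 (vqc1 1 5) (vqc0 (vqc1 5 7) (vqc0 (vqc1 7 2) (vqc0 (vqc1 3 8) (vqc0 (vqc1 8 4) (vqc0 (vqc1 4 6) vqc2))))))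
      (vqc0 (vqc0 (vqc1 0 4) (vqc0 (vqc1 4 1) (vqc0 (vqc1 1 7) (vqc0 (vqc1 3 9) (vqc0 (vqc1 9 10) (vqc0 (vqc1 10 8) vqc2)))))) vqy62)))))));
      (vqc0 (vqc0 (vqc1 0 6) (vqc0 (vqc1 1 5) (vqc0 (vqc1 4 7) (vqc0 (vqc1 9 10) vqc2)))) (vqc0 (vqc0 (vqc1 0 6) (vqc0 (vqc1 6 5) (vqc0 (vqc1 5 7) (vqc0 (vqc1 2 9) (vqc0 (vqc1 9 3) (vqc0 (vqc1 3 8) vqc2))))))
      (vqc0 (vqc0 (vqc1 0 8) (vqc0 (vqc1 8 5) (vqc0 (vqc1 1 10) (vqc0 (vqc1 10 7) (vqc0 (vqc1 2 9) (vqc0 (vqc1 9 3) vqc2)))))) (vqc0 (vqc0 (vqc1 0 3) (vqc0 (vqc1 3 5) (vqc0 (vqc1 1 6) (vqc0 (vqc1 6 8) (vqc0 (vqc1 7 9) (vqc0 (vqc1 9 10) vqc2))))))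
      (vqc0 (vqc0 (vqc1 1 8) (vqc0 (vqc1 3 7) (vqc0 (vqc1 4 6) (vqc0 (vqc1 5 9) vqc2)))) (vqc0 (vqc0 (vqc1 0 2) (vqc0 (vqc1 2 6) (vqc0 (vqc1 1 9) (vqc0 (vqc1 9 8) (vqc0 (vqc1 3 5) (vqc0 (vqc1 5 7) vqc2))))))
      vqy64))))))))))));
      (let vqy65 : type_of% vqy1 := (let vqy66 : type_of% vqy1 := (let vqy67 : type_of% vqy1 := (let vqy68 : type_of% vqy1 := (let vqy69 : type_of% vqy1 := (let vqy70 : type_of% vqy1 := (vqc0 (vqc0 (vqc1 0 2) (vqc0 (vqc1 2 6) (vqc0 (vqc1 6 10) (vqc0 (vqc1 1 3) (vqc0 (vqc1 3 7) (vqc0 (vqc1 7 9) vqc2))))))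
      (vqc0 (vqc0 (vqc1 1 7) (vqc0 (vqc1 2 3) (vqc0 (vqc1 4 5) (vqc0 (vqc1 9 10) vqc2)))) (vqc0 (vqc0 (vqc1 0 9) (vqc0 (vqc1 9 5) (vqc0 (vqc1 1 6) (vqc0 (vqc1 6 10) (vqc0 (vqc1 2 8) (vqc0 (vqc1 8 3) vqc2))))))
      (vqc0 (vqc0 (vqc1 1 8) (vqc0 (vqc1 2 10) (vqc0 (vqc1 3 6) (vqc0 (vqc1 4 7) vqc2)))) (vqc0 (vqc0 (vqc1 2 3) (vqc0 (vqc1 3 10) (vqc0 (vqc1 10 4) (vqc0 (vqc1 5 7) (vqc0 (vqc1 7 9) (vqc0 (vqc1 9 6) vqc2))))))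
      (vqc0 (vqc0 (vqc1 0 4) (vqc0 (vqc1 4 9) (vqc0 (vqc1 1 2) (vqc0 (vqc1 2 10) (vqc0 (vqc1 3 6) (vqc0 (vqc1 6 8) vqc2)))))) (vqc0 (vqc0 (vqc1 0 9) (vqc0 (vqc1 9 6) (vqc0 (vqc1 2 10) (vqc0 (vqc1 10 3) (vqc0 (vqc1 5 7) (vqc0 (vqc1 7 8) vqc2))))))
      vqy1)))))));
      (vqc0 (vqc0 (vqc1 0 10) (vqc0 (vqc1 10 2) (vqc0 (vqc1 2 9) (vqc0 (vqc1 1 3) (vqc0 (vqc1 3 4) (vqc0 (vqc1 4 6) vqc2)))))) (vqc0 (vqc0 (vqc1 1 3) (vqc0 (vqc1 3 6) (vqc0 (vqc1 6 4) (vqc0 (vqc1 7 9) (vqc0 (vqc1 9 8) (vqc0 (vqc1 8 10) vqc2))))))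
      (vqc0 (vqc0 (vqc1 2 10) (vqc0 (vqc1 10 4) (vqc0 (vqc1 4 9) (vqc0 (vqc1 3 8) (vqc0 (vqc1 8 5) (vqc0 (vqc1 5 6) vqc2)))))) (vqc0 (vqc0 (vqc1 0 1) (vqc0 (vqc1 1 3) (vqc0 (vqc1 3 5) (vqc0 (vqc1 4 6) (vqc0 (vqc1 6 9) (vqc0 (vqc1 9 8) vqc2))))))
      (vqc0 (vqc0 (vqc1 1 10) (vqc0 (vqc1 10 5) (vqc0 (vqc1 5 2) (vqc0 (vqc1 4 9) (vqc0 (vqc1 9 6) (vqc0 (vqc1 6 8) vqc2)))))) (vqc0 (vqc0 (vqc1 0 2) (vqc0 (vqc1 2 7) (vqc0 (vqc1 7 5) (vqc0 (vqc1 1 6) (vqc0 (vqc1 6 9) (vqc0 (vqc1 9 3) vqc2))))))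
      (vqc0 (vqc0 (vqc1 0 9) (vqc0 (vqc1 1 4) (vqc0 (vqc1 2 10) (vqc0 (vqc1 7 8) vqc2)))) vqy70))))))));
      (let vqy71 : type_of% vqy69 := (vqc0 (vqc0 (vqc1 0 9) (vqc0 (vqc1 9 8) (vqc0 (vqc1 2 10) (vqc0 (vqc1 10 7) (vqc0 (vqc1 3 4) (vqc0 (vqc1 4 6) vqc2))))))
      (vqc0 (vqc0 (vqc1 0 10) (vqc0 (vqc1 1 3) (vqc0 (vqc1 2 5) (vqc0 (vqc1 4 7) vqc2)))) (vqc0 (vqc0 (vqc1 0 8) (vqc0 (vqc1 1 9) (vqc0 (vqc1 2 6) (vqc0 (vqc1 4 7) vqc2))))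
      (vqc0 (vqc0 (vqc1 0 4) (vqc0 (vqc1 1 3) (vqc0 (vqc1 2 6) (vqc0 (vqc1 5 9) vqc2)))) (vqc0 (vqc0 (vqc1 0 2) (vqc0 (vqc1 2 8) (vqc0 (vqc1 1 6) (vqc0 (vqc1 6 9) (vqc0 (vqc1 3 4) (vqc0 (vqc1 4 10) vqc2))))))
      (vqc0 (vqc0 (vqc1 0 9) (vqc0 (vqc1 9 3) (vqc0 (vqc1 1 5) (vqc0 (vqc1 5 4) (vqc0 (vqc1 2 6) (vqc0 (vqc1 6 10) vqc2)))))) (vqc0 (vqc0 (vqc1 0 6) (vqc0 (vqc1 6 3) (vqc0 (vqc1 1 9) (vqc0 (vqc1 9 7) (vqc0 (vqc1 4 10) (vqc0 (vqc1 10 5) vqc2))))))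
      vqy69)))))));
      (vqc0 (vqc0 (vqc1 1 2) (vqc0 (vqc1 2 6) (vqc0 (vqc1 3 10) (vqc0 (vqc1 10 8) (vqc0 (vqc1 4 7) (vqc0 (vqc1 7 9) vqc2)))))) (vqc0 (vqc0 (vqc1 0 3) (vqc0 (vqc1 3 8) (vqc0 (vqc1 1 9) (vqc0 (vqc1 9 10) (vqc0 (vqc1 4 7) (vqc0 (vqc1 7 5) vqc2))))))
      (vqc0 (vqc0 (vqc1 0 8) (vqc0 (vqc1 8 3) (vqc0 (vqc1 1 10) (vqc0 (vqc1 10 9) (vqc0 (vqc1 4 5) (vqc0 (vqc1 5 7) vqc2)))))) (vqc0 (vqc0 (vqc1 0 4) (vqc0 (vqc1 4 6) (vqc0 (vqc1 6 9) (vqc0 (vqc1 3 7) (vqc0 (vqc1 7 8) (vqc0 (vqc1 8 10) vqc2))))))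
      (vqc0 (vqc0 (vqc1 0 2) (vqc0 (vqc1 2 9) (vqc0 (vqc1 1 4) (vqc0 (vqc1 4 10) (vqc0 (vqc1 3 8) (vqc0 (vqc1 8 5) vqc2)))))) (vqc0 (vqc0 (vqc1 2 4) (vqc0 (vqc1 4 10) (vqc0 (vqc1 10 3) (vqc0 (vqc1 5 6) (vqc0 (vqc1 6 9) (vqc0 (vqc1 9 7) vqc2))))))
      (vqc0 (vqc0 (vqc1 0 3) (vqc0 (vqc1 3 5) (vqc0 (vqc1 2 8) (vqc0 (vqc1 8 9) (vqc0 (vqc1 4 10) (vqc0 (vqc1 10 6) vqc2)))))) vqy71)))))))));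
      (let vqy72 : type_of% vqy68 := (let vqy73 : type_of% vqy68 := (vqc0 (vqc0 (vqc1 1 10) (vqc0 (vqc1 10 4) (vqc0 (vqc1 4 3) (vqc0 (vqc1 5 9) (vqc0 (vqc1 9 8) (vqc0 (vqc1 8 6) vqc2))))))
      (vqc0 (vqc0 (vqc1 0 3) (vqc0 (vqc1 3 6) (vqc0 (vqc1 1 7) (vqc0 (vqc1 7 9) (vqc0 (vqc1 4 5) (vqc0 (vqc1 5 10) vqc2)))))) (vqc0 (vqc0 (vqc1 1 5) (vqc0 (vqc1 5 4) (vqc0 (vqc1 4 3) (vqc0 (vqc1 2 8) (vqc0 (vqc1 8 7) (vqc0 (vqc1 7 10) vqc2))))))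
      (vqc0 (vqc0 (vqc1 0 1) (vqc0 (vqc1 3 10) (vqc0 (vqc1 4 7) (vqc0 (vqc1 8 9) vqc2)))) (vqc0 (vqc0 (vqc1 0 7) (vqc0 (vqc1 2 8) (vqc0 (vqc1 4 6) (vqc0 (vqc1 9 10) vqc2))))
      (vqc0 (vqc0 (vqc1 0 3) (vqc0 (vqc1 3 10) (vqc0 (vqc1 1 7) (vqc0 (vqc1 7 4) (vqc0 (vqc1 2 9) (vqc0 (vqc1 9 6) vqc2)))))) (vqc0 (vqc0 (vqc1 1 4) (vqc0 (vqc1 4 8) (vqc0 (vqc1 8 6) (vqc0 (vqc1 3 5) (vqc0 (vqc1 5 7) (vqc0 (vqc1 7 9) vqc2))))))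
      vqy68)))))));
      (vqc0 (vqc0 (vqc1 0 1) (vqc0 (vqc1 1 6) (vqc0 (vqc1 6 9) (vqc0 (vqc1 2 10) (vqc0 (vqc1 10 8) (vqc0 (vqc1 8 5) vqc2)))))) (vqc0 (vqc0 (vqc1 1 4) (vqc0 (vqc1 4 2) (vqc0 (vqc1 3 8) (vqc0 (vqc1 8 9) (vqc0 (vqc1 5 10) (vqc0 (vqc1 10 6) vqc2))))))
      (vqc0 (vqc0 (vqc1 1 2) (vqc0 (vqc1 4 10) (vqc0 (vqc1 5 6) (vqc0 (vqc1 7 8) vqc2)))) (vqc0 (vqc0 (vqc1 1 10) (vqc0 (vqc1 10 2) (vqc0 (vqc1 2 8) (vqc0 (vqc1 3 5) (vqc0 (vqc1 5 6) (vqc0 (vqc1 6 9) vqc2))))))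
      (vqc0 (vqc0 (vqc1 0 1) (vqc0 (vqc1 1 7) (vqc0 (vqc1 7 3) (vqc0 (vqc1 4 6) (vqc0 (vqc1 6 10) (vqc0 (vqc1 10 9) vqc2)))))) (vqc0 (vqc0 (vqc1 0 9) (vqc0 (vqc1 2 5) (vqc0 (vqc1 3 8) (vqc0 (vqc1 4 6) vqc2))))
      (vqc0 (vqc0 (vqc1 0 5) (vqc0 (vqc1 5 4) (vqc0 (vqc1 4 9) (vqc0 (vqc1 1 6) (vqc0 (vqc1 6 3) (vqc0 (vqc1 3 2) vqc2)))))) vqy73))))))));
      (let vqy74 : type_of% vqy72 := (vqc0 (vqc0 (vqc1 0 1) (vqc0 (vqc1 1 7) (vqc0 (vqc1 7 9) (vqc0 (vqc1 2 3) (vqc0 (vqc1 3 5) (vqc0 (vqc1 5 6) vqc2))))))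
      (vqc0 (vqc0 (vqc1 1 2) (vqc0 (vqc1 2 9) (vqc0 (vqc1 9 7) (vqc0 (vqc1 3 6) (vqc0 (vqc1 6 10) (vqc0 (vqc1 10 4) vqc2)))))) (vqc0 (vqc0 (vqc1 0 5) (vqc0 (vqc1 5 10) (vqc0 (vqc1 10 3) (vqc0 (vqc1 4 9) (vqc0 (vqc1 9 6) (vqc0 (vqc1 6 7) vqc2))))))
      (vqc0 (vqc0 (vqc1 0 1) (vqc0 (vqc1 1 3) (vqc0 (vqc1 3 6) (vqc0 (vqc1 2 7) (vqc0 (vqc1 7 4) (vqc0 (vqc1 4 9) vqc2)))))) (vqc0 (vqc0 (vqc1 0 9) (vqc0 (vqc1 9 6) (vqc0 (vqc1 6 4) (vqc0 (vqc1 3 10) (vqc0 (vqc1 10 8) (vqc0 (vqc1 8 7) vqc2))))))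
      (vqc0 (vqc0 (vqc1 1 3) (vqc0 (vqc1 3 9) (vqc0 (vqc1 4 6) (vqc0 (vqc1 6 10) (vqc0 (vqc1 5 7) (vqc0 (vqc1 7 8) vqc2)))))) (vqc0 (vqc0 (vqc1 0 4) (vqc0 (vqc1 4 8) (vqc0 (vqc1 8 6) (vqc0 (vqc1 1 3) (vqc0 (vqc1 3 10) (vqc0 (vqc1 10 9) vqc2))))))
      vqy72)))))));
      (vqc0 (vqc0 (vqc1 0 1) (vqc0 (vqc1 1 10) (vqc0 (vqc1 2 7) (vqc0 (vqc1 7 6) (vqc0 (vqc1 3 8) (vqc0 (vqc1 8 9) vqc2))))))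
      (vqc0 (vqc0 (vqc1 2 5) (vqc0 (vqc1 3 10) (vqc0 (vqc1 4 9) (vqc0 (vqc1 7 8) vqc2)))) (vqc0 (vqc0 (vqc1 0 1) (vqc0 (vqc1 1 10) (vqc0 (vqc1 10 5) (vqc0 (vqc1 2 6) (vqc0 (vqc1 6 3) (vqc0 (vqc1 3 9) vqc2))))))
      (vqc0 (vqc0 (vqc1 1 3) (vqc0 (vqc1 3 4) (vqc0 (vqc1 4 5) (vqc0 (vqc1 2 10) (vqc0 (vqc1 10 7) (vqc0 (vqc1 7 8) vqc2)))))) (vqc0 (vqc0 (vqc1 1 6) (vqc0 (vqc1 2 8) (vqc0 (vqc1 3 10) (vqc0 (vqc1 5 7) vqc2))))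
      (vqc0 (vqc0 (vqc1 0 8) (vqc0 (vqc1 8 3) (vqc0 (vqc1 3 5) (vqc0 (vqc1 2 7) (vqc0 (vqc1 7 9) (vqc0 (vqc1 9 4) vqc2)))))) vqy74)))))))));
      (let vqy75 : type_of% vqy67 := (let vqy76 : type_of% vqy67 := (let vqy77 : type_of% vqy67 := (vqc0 (vqc0 (vqc1 0 3) (vqc0 (vqc1 3 9) (vqc0 (vqc1 4 8) (vqc0 (vqc1 8 6) (vqc0 (vqc1 5 10) (vqc0 (vqc1 10 7) vqc2)))))) (vqc0 (vqc0 (vqc1 0 3) (vqc0 (vqc1 2 6) (vqc0 (vqc1 5 7) (vqc0 (vqc1 9 10) vqc2))))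
      (vqc0 (vqc0 (vqc1 1 3) (vqc0 (vqc1 3 6) (vqc0 (vqc1 6 10) (vqc0 (vqc1 2 5) (vqc0 (vqc1 5 8) (vqc0 (vqc1 8 7) vqc2)))))) (vqc0 (vqc0 (vqc1 0 1) (vqc0 (vqc1 2 8) (vqc0 (vqc1 3 7) (vqc0 (vqc1 6 9) vqc2))))
      (vqc0 (vqc0 (vqc1 0 3) (vqc0 (vqc1 3 5) (vqc0 (vqc1 5 4) (vqc0 (vqc1 1 10) (vqc0 (vqc1 10 9) (vqc0 (vqc1 9 6) vqc2)))))) (vqc0 (vqc0 (vqc1 1 8) (vqc0 (vqc1 8 2) (vqc0 (vqc1 3 4) (vqc0 (vqc1 4 9) (vqc0 (vqc1 5 6) (vqc0 (vqc1 6 7) vqc2))))))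
      (vqc0 (vqc0 (vqc1 0 1) (vqc0 (vqc1 2 5) (vqc0 (vqc1 4 8) (vqc0 (vqc1 7 9) vqc2)))) vqy67)))))));
      (vqc0 (vqc0 (vqc1 1 8) (vqc0 (vqc1 8 2) (vqc0 (vqc1 2 7) (vqc0 (vqc1 4 6) (vqc0 (vqc1 6 10) (vqc0 (vqc1 10 5) vqc2))))))
      (vqc0 (vqc0 (vqc1 0 7) (vqc0 (vqc1 7 3) (vqc0 (vqc1 1 2) (vqc0 (vqc1 2 8) (vqc0 (vqc1 5 10) (vqc0 (vqc1 10 9) vqc2)))))) (vqc0 (vqc0 (vqc1 0 9) (vqc0 (vqc1 1 5) (vqc0 (vqc1 2 7) (vqc0 (vqc1 3 4) vqc2))))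
      (vqc0 (vqc0 (vqc1 0 2) (vqc0 (vqc1 2 7) (vqc0 (vqc1 7 3) (vqc0 (vqc1 1 4) (vqc0 (vqc1 4 8) (vqc0 (vqc1 8 9) vqc2)))))) (vqc0 (vqc0 (vqc1 0 1) (vqc0 (vqc1 1 10) (vqc0 (vqc1 10 9) (vqc0 (vqc1 2 8) (vqc0 (vqc1 8 4) (vqc0 (vqc1 4 3) vqc2))))))
      (vqc0 (vqc0 (vqc1 0 9) (vqc0 (vqc1 9 8) (vqc0 (vqc1 8 5) (vqc0 (vqc1 2 4) (vqc0 (vqc1 4 3) (vqc0 (vqc1 3 10) vqc2)))))) (vqc0 (vqc0 (vqc1 0 10) (vqc0 (vqc1 10 5) (vqc0 (vqc1 5 3) (vqc0 (vqc1 1 7) (vqc0 (vqc1 7 2) (vqc0 (vqc1 2 9) vqc2))))))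
      vqy77))))))));
      (let vqy78 : type_of% vqy76 := (vqc0 (vqc0 (vqc1 0 4) (vqc0 (vqc1 4 1) (vqc0 (vqc1 1 3) (vqc0 (vqc1 2 10) (vqc0 (vqc1 10 6) (vqc0 (vqc1 6 7) vqc2)))))) (vqc0 (vqc0 (vqc1 0 9) (vqc0 (vqc1 9 6) (vqc0 (vqc1 6 2) (vqc0 (vqc1 3 4) (vqc0 (vqc1 4 10) (vqc0 (vqc1 10 5) vqc2))))))
      (vqc0 (vqc0 (vqc1 1 7) (vqc0 (vqc1 7 9) (vqc0 (vqc1 9 2) (vqc0 (vqc1 3 4) (vqc0 (vqc1 4 10) (vqc0 (vqc1 10 6) vqc2)))))) (vqc0 (vqc0 (vqc1 0 10) (vqc0 (vqc1 1 6) (vqc0 (vqc1 4 8) (vqc0 (vqc1 5 9) vqc2))))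
      (vqc0 (vqc0 (vqc1 1 10) (vqc0 (vqc1 10 5) (vqc0 (vqc1 2 9) (vqc0 (vqc1 9 8) (vqc0 (vqc1 3 6) (vqc0 (vqc1 6 7) vqc2)))))) (vqc0 (vqc0 (vqc1 0 5) (vqc0 (vqc1 1 10) (vqc0 (vqc1 6 9) (vqc0 (vqc1 7 8) vqc2))))
      (vqc0 (vqc0 (vqc1 1 3) (vqc0 (vqc1 3 9) (vqc0 (vqc1 9 2) (vqc0 (vqc1 4 5) (vqc0 (vqc1 5 8) (vqc0 (vqc1 8 6) vqc2)))))) vqy76)))))));
      (vqc0 (vqc0 (vqc1 0 7) (vqc0 (vqc1 7 3) (vqc0 (vqc1 3 6) (vqc0 (vqc1 1 8) (vqc0 (vqc1 8 9) (vqc0 (vqc1 9 10) vqc2))))))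
      (vqc0 (vqc0 (vqc1 0 6) (vqc0 (vqc1 1 3) (vqc0 (vqc1 5 8) (vqc0 (vqc1 7 9) vqc2)))) (vqc0 (vqc0 (vqc1 0 3) (vqc0 (vqc1 3 6) (vqc0 (vqc1 6 4) (vqc0 (vqc1 1 8) (vqc0 (vqc1 8 2) (vqc0 (vqc1 2 9) vqc2))))))
      (vqc0 (vqc0 (vqc1 0 7) (vqc0 (vqc1 7 6) (vqc0 (vqc1 1 9) (vqc0 (vqc1 9 3) (vqc0 (vqc1 2 4) (vqc0 (vqc1 4 8) vqc2)))))) (vqc0 (vqc0 (vqc1 0 4) (vqc0 (vqc1 4 3) (vqc0 (vqc1 1 5) (vqc0 (vqc1 5 9) (vqc0 (vqc1 2 10) (vqc0 (vqc1 10 8) vqc2))))))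
      (vqc0 (vqc0 (vqc1 0 6) (vqc0 (vqc1 1 4) (vqc0 (vqc1 2 3) (vqc0 (vqc1 5 7) vqc2)))) (vqc0 (vqc0 (vqc1 1 2) (vqc0 (vqc1 2 4) (vqc0 (vqc1 3 9) (vqc0 (vqc1 9 8) (vqc0 (vqc1 5 6) (vqc0 (vqc1 6 10) vqc2))))))
      vqy78)))))))));
      (let vqy79 : type_of% vqy75 := (let vqy80 : type_of% vqy75 := (vqc0 (vqc0 (vqc1 1 5) (vqc0 (vqc1 5 6) (vqc0 (vqc1 3 7) (vqc0 (vqc1 7 10) (vqc0 (vqc1 4 9) (vqc0 (vqc1 9 8) vqc2)))))) (vqc0 (vqc0 (vqc1 0 10) (vqc0 (vqc1 10 3) (vqc0 (vqc1 3 8) (vqc0 (vqc1 1 7) (vqc0 (vqc1 7 9) (vqc0 (vqc1 9 6) vqc2))))))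
      (vqc0 (vqc0 (vqc1 1 6) (vqc0 (vqc1 2 7) (vqc0 (vqc1 4 9) (vqc0 (vqc1 5 8) vqc2)))) (vqc0 (vqc0 (vqc1 1 6) (vqc0 (vqc1 6 5) (vqc0 (vqc1 3 10) (vqc0 (vqc1 10 7) (vqc0 (vqc1 4 8) (vqc0 (vqc1 8 9) vqc2))))))
      (vqc0 (vqc0 (vqc1 0 5) (vqc0 (vqc1 5 2) (vqc0 (vqc1 2 9) (vqc0 (vqc1 1 8) (vqc0 (vqc1 8 7) (vqc0 (vqc1 7 3) vqc2)))))) (vqc0 (vqc0 (vqc1 0 9) (vqc0 (vqc1 9 3) (vqc0 (vqc1 4 6) (vqc0 (vqc1 6 8) (vqc0 (vqc1 5 7) (vqc0 (vqc1 7 10) vqc2))))))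
      (vqc0 (vqc0 (vqc1 0 4) (vqc0 (vqc1 4 3) (vqc0 (vqc1 3 9) (vqc0 (vqc1 1 8) (vqc0 (vqc1 8 5) (vqc0 (vqc1 5 6) vqc2)))))) vqy75)))))));
      (vqc0 (vqc0 (vqc1 1 5) (vqc0 (vqc1 5 10) (vqc0 (vqc1 2 8) (vqc0 (vqc1 8 9) (vqc0 (vqc1 3 7) (vqc0 (vqc1 7 6) vqc2))))))
      (vqc0 (vqc0 (vqc1 0 9) (vqc0 (vqc1 9 10) (vqc0 (vqc1 1 3) (vqc0 (vqc1 3 8) (vqc0 (vqc1 4 6) (vqc0 (vqc1 6 7) vqc2)))))) (vqc0 (vqc0 (vqc1 0 9) (vqc0 (vqc1 9 8) (vqc0 (vqc1 8 2) (vqc0 (vqc1 1 5) (vqc0 (vqc1 5 6) (vqc0 (vqc1 6 3) vqc2))))))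
      (vqc0 (vqc0 (vqc1 1 6) (vqc0 (vqc1 6 9) (vqc0 (vqc1 9 5) (vqc0 (vqc1 2 4) (vqc0 (vqc1 4 3) (vqc0 (vqc1 3 8) vqc2)))))) (vqc0 (vqc0 (vqc1 1 4) (vqc0 (vqc1 4 3) (vqc0 (vqc1 3 9) (vqc0 (vqc1 2 6) (vqc0 (vqc1 6 8) (vqc0 (vqc1 8 10) vqc2))))))
      (vqc0 (vqc0 (vqc1 0 5) (vqc0 (vqc1 2 7) (vqc0 (vqc1 3 6) (vqc0 (vqc1 4 10) vqc2)))) (vqc0 (vqc0 (vqc1 2 9) (vqc0 (vqc1 9 5) (vqc0 (vqc1 5 4) (vqc0 (vqc1 3 8) (vqc0 (vqc1 8 10) (vqc0 (vqc1 10 7) vqc2))))))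
      vqy80))))))));
      (let vqy81 : type_of% vqy79 := (vqc0 (vqc0 (vqc1 1 2) (vqc0 (vqc1 2 3) (vqc0 (vqc1 3 9) (vqc0 (vqc1 5 10) (vqc0 (vqc1 10 6) (vqc0 (vqc1 6 7) vqc2)))))) (vqc0 (vqc0 (vqc1 0 7) (vqc0 (vqc1 7 4) (vqc0 (vqc1 4 3) (vqc0 (vqc1 1 9) (vqc0 (vqc1 9 10) (vqc0 (vqc1 10 2) vqc2))))))
      (vqc0 (vqc0 (vqc1 0 10) (vqc0 (vqc1 10 7) (vqc0 (vqc1 7 3) (vqc0 (vqc1 5 6) (vqc0 (vqc1 6 9) (vqc0 (vqc1 9 8) vqc2)))))) (vqc0 (vqc0 (vqc1 0 8) (vqc0 (vqc1 3 4) (vqc0 (vqc1 5 7) (vqc0 (vqc1 6 9) vqc2))))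
      (vqc0 (vqc0 (vqc1 1 5) (vqc0 (vqc1 5 6) (vqc0 (vqc1 6 2) (vqc0 (vqc1 3 10) (vqc0 (vqc1 10 9) (vqc0 (vqc1 9 4) vqc2)))))) (vqc0 (vqc0 (vqc1 0 1) (vqc0 (vqc1 1 3) (vqc0 (vqc1 2 8) (vqc0 (vqc1 8 7) (vqc0 (vqc1 4 5) (vqc0 (vqc1 5 9) vqc2))))))
      (vqc0 (vqc0 (vqc1 2 3) (vqc0 (vqc1 3 5) (vqc0 (vqc1 5 10) (vqc0 (vqc1 4 8) (vqc0 (vqc1 8 9) (vqc0 (vqc1 9 7) vqc2)))))) vqy79)))))));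
      (vqc0 (vqc0 (vqc1 1 4) (vqc0 (vqc1 4 3) (vqc0 (vqc1 3 2) (vqc0 (vqc1 5 9) (vqc0 (vqc1 9 7) (vqc0 (vqc1 7 8) vqc2)))))) (vqc0 (vqc0 (vqc1 0 8) (vqc0 (vqc1 1 2) (vqc0 (vqc1 3 7) (vqc0 (vqc1 4 5) vqc2))))
      (vqc0 (vqc0 (vqc1 1 6) (vqc0 (vqc1 6 2) (vqc0 (vqc1 3 8) (vqc0 (vqc1 8 10) (vqc0 (vqc1 4 9) (vqc0 (vqc1 9 7) vqc2)))))) (vqc0 (vqc0 (vqc1 0 3) (vqc0 (vqc1 3 1) (vqc0 (vqc1 1 10) (vqc0 (vqc1 4 8) (vqc0 (vqc1 8 7) (vqc0 (vqc1 7 9) vqc2))))))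
      (vqc0 (vqc0 (vqc1 1 2) (vqc0 (vqc1 2 8) (vqc0 (vqc1 8 9) (vqc0 (vqc1 3 10) (vqc0 (vqc1 10 4) (vqc0 (vqc1 4 5) vqc2)))))) (vqc0 (vqc0 (vqc1 0 7) (vqc0 (vqc1 7 9) (vqc0 (vqc1 9 2) (vqc0 (vqc1 1 4) (vqc0 (vqc1 4 5) (vqc0 (vqc1 5 3) vqc2))))))
      vqy81))))))))));
      (let vqy82 : type_of% vqy66 := (let vqy83 : type_of% vqy66 := (let vqy84 : type_of% vqy66 := (let vqy85 : type_of% vqy66 := (vqc0 (vqc0 (vqc1 0 3) (vqc0 (vqc1 3 8) (vqc0 (vqc1 8 4) (vqc0 (vqc1 5 6) (vqc0 (vqc1 6 7) (vqc0 (vqc1 7 9) vqc2))))))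
      (vqc0 (vqc0 (vqc1 1 2) (vqc0 (vqc1 2 8) (vqc0 (vqc1 3 9) (vqc0 (vqc1 9 4) (vqc0 (vqc1 5 7) (vqc0 (vqc1 7 6) vqc2)))))) (vqc0 (vqc0 (vqc1 1 10) (vqc0 (vqc1 10 2) (vqc0 (vqc1 2 4) (vqc0 (vqc1 5 8) (vqc0 (vqc1 8 6) (vqc0 (vqc1 6 7) vqc2))))))
      (vqc0 (vqc0 (vqc1 0 4) (vqc0 (vqc1 4 1) (vqc0 (vqc1 3 5) (vqc0 (vqc1 5 9) (vqc0 (vqc1 6 8) (vqc0 (vqc1 8 10) vqc2)))))) (vqc0 (vqc0 (vqc1 0 7) (vqc0 (vqc1 7 1) (vqc0 (vqc1 2 9) (vqc0 (vqc1 9 5) (vqc0 (vqc1 3 4) (vqc0 (vqc1 4 10) vqc2))))))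
      (vqc0 (vqc0 (vqc1 0 10) (vqc0 (vqc1 10 1) (vqc0 (vqc1 1 9) (vqc0 (vqc1 3 5) (vqc0 (vqc1 5 8) (vqc0 (vqc1 8 6) vqc2)))))) (vqc0 (vqc0 (vqc1 0 2) (vqc0 (vqc1 1 7) (vqc0 (vqc1 3 8) (vqc0 (vqc1 5 9) vqc2))))
      vqy66)))))));
      (vqc0 (vqc0 (vqc1 1 2) (vqc0 (vqc1 2 3) (vqc0 (vqc1 3 8) (vqc0 (vqc1 4 10) (vqc0 (vqc1 10 9) (vqc0 (vqc1 9 6) vqc2)))))) (vqc0 (vqc0 (vqc1 0 2) (vqc0 (vqc1 2 9) (vqc0 (vqc1 9 8) (vqc0 (vqc1 3 7) (vqc0 (vqc1 7 5) (vqc0 (vqc1 5 10) vqc2))))))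
      (vqc0 (vqc0 (vqc1 1 2) (vqc0 (vqc1 2 4) (vqc0 (vqc1 4 7) (vqc0 (vqc1 3 8) (vqc0 (vqc1 8 5) (vqc0 (vqc1 5 10) vqc2)))))) (vqc0 (vqc0 (vqc1 0 3) (vqc0 (vqc1 3 6) (vqc0 (vqc1 1 5) (vqc0 (vqc1 5 8) (vqc0 (vqc1 2 10) (vqc0 (vqc1 10 9) vqc2))))))
      (vqc0 (vqc0 (vqc1 0 9) (vqc0 (vqc1 9 2) (vqc0 (vqc1 2 7) (vqc0 (vqc1 3 8) (vqc0 (vqc1 8 4) (vqc0 (vqc1 4 10) vqc2)))))) (vqc0 (vqc0 (vqc1 0 9) (vqc0 (vqc1 9 6) (vqc0 (vqc1 6 7) (vqc0 (vqc1 1 8) (vqc0 (vqc1 8 3) (vqc0 (vqc1 3 5) vqc2))))))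
      (vqc0 (vqc0 (vqc1 1 2) (vqc0 (vqc1 2 3) (vqc0 (vqc1 3 4) (vqc0 (vqc1 5 8) (vqc0 (vqc1 8 7) (vqc0 (vqc1 7 9) vqc2)))))) vqy85))))))));
      (let vqy86 : type_of% vqy84 := (vqc0 (vqc0 (vqc1 0 9) (vqc0 (vqc1 9 7) (vqc0 (vqc1 7 6) (vqc0 (vqc1 1 10) (vqc0 (vqc1 10 3) (vqc0 (vqc1 3 4) vqc2))))))
      (vqc0 (vqc0 (vqc1 0 4) (vqc0 (vqc1 4 3) (vqc0 (vqc1 3 8) (vqc0 (vqc1 2 9) (vqc0 (vqc1 9 10) (vqc0 (vqc1 10 6) vqc2)))))) (vqc0 (vqc0 (vqc1 1 9) (vqc0 (vqc1 9 7) (vqc0 (vqc1 7 10) (vqc0 (vqc1 2 5) (vqc0 (vqc1 5 3) (vqc0 (vqc1 3 4) vqc2))))))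
      (vqc0 (vqc0 (vqc1 2 7) (vqc0 (vqc1 7 6) (vqc0 (vqc1 6 3) (vqc0 (vqc1 4 8) (vqc0 (vqc1 8 10) (vqc0 (vqc1 10 9) vqc2)))))) (vqc0 (vqc0 (vqc1 1 9) (vqc0 (vqc1 9 5) (vqc0 (vqc1 5 8) (vqc0 (vqc1 2 6) (vqc0 (vqc1 6 10) (vqc0 (vqc1 10 4) vqc2))))))
      (vqc0 (vqc0 (vqc1 1 5) (vqc0 (vqc1 5 8) (vqc0 (vqc1 8 9) (vqc0 (vqc1 3 6) (vqc0 (vqc1 6 7) (vqc0 (vqc1 7 4) vqc2)))))) (vqc0 (vqc0 (vqc1 1 10) (vqc0 (vqc1 10 9) (vqc0 (vqc1 9 3) (vqc0 (vqc1 2 6) (vqc0 (vqc1 6 7) (vqc0 (vqc1 7 4) vqc2))))))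
      vqy84)))))));
      (vqc0 (vqc0 (vqc1 0 9) (vqc0 (vqc1 9 10) (vqc0 (vqc1 10 6) (vqc0 (vqc1 1 3) (vqc0 (vqc1 3 5) (vqc0 (vqc1 5 2) vqc2)))))) (vqc0 (vqc0 (vqc1 1 9) (vqc0 (vqc1 9 5) (vqc0 (vqc1 5 3) (vqc0 (vqc1 2 8) (vqc0 (vqc1 8 6) (vqc0 (vqc1 6 7) vqc2))))))
      (vqc0 (vqc0 (vqc1 1 6) (vqc0 (vqc1 6 5) (vqc0 (vqc1 5 10) (vqc0 (vqc1 2 7) (vqc0 (vqc1 7 4) (vqc0 (vqc1 4 3) vqc2)))))) (vqc0 (vqc0 (vqc1 0 4) (vqc0 (vqc1 1 10) (vqc0 (vqc1 2 9) (vqc0 (vqc1 3 7) vqc2))))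
      (vqc0 (vqc0 (vqc1 1 6) (vqc0 (vqc1 6 3) (vqc0 (vqc1 2 5) (vqc0 (vqc1 5 9) (vqc0 (vqc1 4 8) (vqc0 (vqc1 8 7) vqc2)))))) (vqc0 (vqc0 (vqc1 1 10) (vqc0 (vqc1 10 5) (vqc0 (vqc1 5 6) (vqc0 (vqc1 2 3) (vqc0 (vqc1 3 4) (vqc0 (vqc1 4 7) vqc2))))))
      (vqc0 (vqc0 (vqc1 0 7) (vqc0 (vqc1 7 9) (vqc0 (vqc1 9 4) (vqc0 (vqc1 2 10) (vqc0 (vqc1 10 3) (vqc0 (vqc1 3 6) vqc2)))))) vqy86)))))))));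
      (let vqy87 : type_of% vqy83 := (let vqy88 : type_of% vqy83 := (vqc0 (vqc0 (vqc1 0 7) (vqc0 (vqc1 7 6) (vqc0 (vqc1 2 5) (vqc0 (vqc1 5 3) (vqc0 (vqc1 4 9) (vqc0 (vqc1 9 10) vqc2))))))
      (vqc0 (vqc0 (vqc1 0 8) (vqc0 (vqc1 8 4) (vqc0 (vqc1 1 2) (vqc0 (vqc1 2 5) (vqc0 (vqc1 3 9) (vqc0 (vqc1 9 6) vqc2)))))) (vqc0 (vqc0 (vqc1 0 5) (vqc0 (vqc1 5 7) (vqc0 (vqc1 7 9) (vqc0 (vqc1 3 6) (vqc0 (vqc1 6 10) (vqc0 (vqc1 10 8) vqc2))))))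
      (vqc0 (vqc0 (vqc1 1 8) (vqc0 (vqc1 8 10) (vqc0 (vqc1 10 3) (vqc0 (vqc1 2 5) (vqc0 (vqc1 5 6) (vqc0 (vqc1 6 4) vqc2)))))) (vqc0 (vqc0 (vqc1 0 6) (vqc0 (vqc1 6 3) (vqc0 (vqc1 3 1) (vqc0 (vqc1 2 9) (vqc0 (vqc1 9 4) (vqc0 (vqc1 4 7) vqc2))))))
      (vqc0 (vqc0 (vqc1 0 3) (vqc0 (vqc1 3 5) (vqc0 (vqc1 5 7) (vqc0 (vqc1 4 9) (vqc0 (vqc1 9 8) (vqc0 (vqc1 8 10) vqc2)))))) (vqc0 (vqc0 (vqc1 0 7) (vqc0 (vqc1 7 10) (vqc0 (vqc1 1 6) (vqc0 (vqc1 6 2) (vqc0 (vqc1 3 9) (vqc0 (vqc1 9 5) vqc2))))))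
      vqy83)))))));
      (vqc0 (vqc0 (vqc1 1 6) (vqc0 (vqc1 6 4) (vqc0 (vqc1 4 2) (vqc0 (vqc1 5 9) (vqc0 (vqc1 9 10) (vqc0 (vqc1 10 7) vqc2)))))) (vqc0 (vqc0 (vqc1 0 2) (vqc0 (vqc1 2 4) (vqc0 (vqc1 1 8) (vqc0 (vqc1 8 5) (vqc0 (vqc1 3 7) (vqc0 (vqc1 7 9) vqc2))))))
      (vqc0 (vqc0 (vqc1 1 9) (vqc0 (vqc1 9 7) (vqc0 (vqc1 2 4) (vqc0 (vqc1 4 6) (vqc0 (vqc1 3 5) (vqc0 (vqc1 5 8) vqc2)))))) (vqc0 (vqc0 (vqc1 1 9) (vqc0 (vqc1 2 10) (vqc0 (vqc1 3 7) (vqc0 (vqc1 5 8) vqc2))))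
      (vqc0 (vqc0 (vqc1 0 2) (vqc0 (vqc1 3 4) (vqc0 (vqc1 7 9) (vqc0 (vqc1 8 10) vqc2)))) (vqc0 (vqc0 (vqc1 1 10) (vqc0 (vqc1 10 6) (vqc0 (vqc1 6 4) (vqc0 (vqc1 2 9) (vqc0 (vqc1 9 5) (vqc0 (vqc1 5 3) vqc2))))))
      (vqc0 (vqc0 (vqc1 0 4) (vqc0 (vqc1 4 6) (vqc0 (vqc1 6 3) (vqc0 (vqc1 1 9) (vqc0 (vqc1 9 2) (vqc0 (vqc1 2 8) vqc2)))))) vqy88))))))));
      (let vqy89 : type_of% vqy87 := (vqc0 (vqc0 (vqc1 1 9) (vqc0 (vqc1 9 7) (vqc0 (vqc1 7 6) (vqc0 (vqc1 2 8) (vqc0 (vqc1 8 4) (vqc0 (vqc1 4 10) vqc2))))))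
      (vqc0 (vqc0 (vqc1 0 3) (vqc0 (vqc1 1 10) (vqc0 (vqc1 2 5) (vqc0 (vqc1 8 9) vqc2)))) (vqc0 (vqc0 (vqc1 0 9) (vqc0 (vqc1 2 3) (vqc0 (vqc1 4 7) (vqc0 (vqc1 6 10) vqc2))))
      (vqc0 (vqc0 (vqc1 0 2) (vqc0 (vqc1 2 3) (vqc0 (vqc1 1 5) (vqc0 (vqc1 5 10) (vqc0 (vqc1 4 7) (vqc0 (vqc1 7 9) vqc2)))))) (vqc0 (vqc0 (vqc1 0 9) (vqc0 (vqc1 1 10) (vqc0 (vqc1 2 4) (vqc0 (vqc1 5 6) vqc2))))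
      (vqc0 (vqc0 (vqc1 0 6) (vqc0 (vqc1 2 9) (vqc0 (vqc1 3 10) (vqc0 (vqc1 4 5) vqc2)))) (vqc0 (vqc0 (vqc1 1 4) (vqc0 (vqc1 3 10) (vqc0 (vqc1 5 8) (vqc0 (vqc1 6 9) vqc2))))
      vqy87)))))));
      (vqc0 (vqc0 (vqc1 1 5) (vqc0 (vqc1 2 4) (vqc0 (vqc1 3 7) (vqc0 (vqc1 6 10) vqc2))))
      (vqc0 (vqc0 (vqc1 0 6) (vqc0 (vqc1 6 7) (vqc0 (vqc1 7 9) (vqc0 (vqc1 1 4) (vqc0 (vqc1 4 3) (vqc0 (vqc1 3 10) vqc2)))))) (vqc0 (vqc0 (vqc1 2 3) (vqc0 (vqc1 3 6) (vqc0 (vqc1 6 7) (vqc0 (vqc1 4 9) (vqc0 (vqc1 9 10) (vqc0 (vqc1 10 8) vqc2))))))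
      (vqc0 (vqc0 (vqc1 0 3) (vqc0 (vqc1 3 7) (vqc0 (vqc1 1 8) (vqc0 (vqc1 8 2) (vqc0 (vqc1 5 9) (vqc0 (vqc1 9 10) vqc2)))))) (vqc0 (vqc0 (vqc1 0 9) (vqc0 (vqc1 9 6) (vqc0 (vqc1 1 7) (vqc0 (vqc1 7 3) (vqc0 (vqc1 2 5) (vqc0 (vqc1 5 4) vqc2))))))
      (vqc0 (vqc0 (vqc1 1 7) (vqc0 (vqc1 7 5) (vqc0 (vqc1 5 9) (vqc0 (vqc1 3 4) (vqc0 (vqc1 4 8) (vqc0 (vqc1 8 10) vqc2)))))) vqy89)))))))));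
      (let vqy90 : type_of% vqy82 := (let vqy91 : type_of% vqy82 := (let vqy92 : type_of% vqy82 := (vqc0 (vqc0 (vqc1 1 10) (vqc0 (vqc1 10 2) (vqc0 (vqc1 3 9) (vqc0 (vqc1 9 7) (vqc0 (vqc1 4 6) (vqc0 (vqc1 6 5) vqc2)))))) (vqc0 (vqc0 (vqc1 1 7) (vqc0 (vqc1 7 8) (vqc0 (vqc1 8 4) (vqc0 (vqc1 2 6) (vqc0 (vqc1 6 10) (vqc0 (vqc1 10 3) vqc2))))))
      (vqc0 (vqc0 (vqc1 1 7) (vqc0 (vqc1 7 8) (vqc0 (vqc1 2 4) (vqc0 (vqc1 4 10) (vqc0 (vqc1 3 9) (vqc0 (vqc1 9 5) vqc2)))))) (vqc0 (vqc0 (vqc1 1 8) (vqc0 (vqc1 2 9) (vqc0 (vqc1 3 4) (vqc0 (vqc1 5 10) vqc2))))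
      (vqc0 (vqc0 (vqc1 1 5) (vqc0 (vqc1 5 9) (vqc0 (vqc1 9 4) (vqc0 (vqc1 6 10) (vqc0 (vqc1 10 8) (vqc0 (vqc1 8 7) vqc2)))))) (vqc0 (vqc0 (vqc1 0 4) (vqc0 (vqc1 4 10) (vqc0 (vqc1 10 6) (vqc0 (vqc1 3 9) (vqc0 (vqc1 9 5) (vqc0 (vqc1 5 7) vqc2))))))
      (vqc0 (vqc0 (vqc1 1 8) (vqc0 (vqc1 8 5) (vqc0 (vqc1 5 10) (vqc0 (vqc1 10 2) (vqc0 (vqc1 2 7) (vqc0 (vqc1 7 6) (vqc0 (vqc1 6 4) (vqc0 (vqc1 3 9) vqc2)))))))) vqy82)))))));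
      (vqc0 (vqc0 (vqc1 0 6) (vqc0 (vqc1 6 2) (vqc0 (vqc1 3 10) (vqc0 (vqc1 10 9) (vqc0 (vqc1 4 7) (vqc0 (vqc1 7 8) vqc2))))))
      (vqc0 (vqc0 (vqc1 1 4) (vqc0 (vqc1 4 2) (vqc0 (vqc1 2 8) (vqc0 (vqc1 3 7) (vqc0 (vqc1 7 9) (vqc0 (vqc1 9 10) vqc2)))))) (vqc0 (vqc0 (vqc1 1 4) (vqc0 (vqc1 4 3) (vqc0 (vqc1 2 5) (vqc0 (vqc1 5 7) (vqc0 (vqc1 6 9) (vqc0 (vqc1 9 10) vqc2))))))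
      (vqc0 (vqc0 (vqc1 0 5) (vqc0 (vqc1 5 3) (vqc0 (vqc1 1 8) (vqc0 (vqc1 8 6) (vqc0 (vqc1 7 10) (vqc0 (vqc1 10 9) vqc2)))))) (vqc0 (vqc0 (vqc1 0 6) (vqc0 (vqc1 6 8) (vqc0 (vqc1 8 9) (vqc0 (vqc1 3 5) (vqc0 (vqc1 5 4) (vqc0 (vqc1 4 7) vqc2))))))
      (vqc0 (vqc0 (vqc1 0 2) (vqc0 (vqc1 2 3) (vqc0 (vqc1 1 6) (vqc0 (vqc1 6 4) (vqc0 (vqc1 5 9) (vqc0 (vqc1 9 8) vqc2)))))) (vqc0 (vqc0 (vqc1 0 10) (vqc0 (vqc1 10 9) (vqc0 (vqc1 1 8) (vqc0 (vqc1 8 3) (vqc0 (vqc1 4 7) (vqc0 (vqc1 7 6) vqc2))))))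
      vqy92))))))));
      (let vqy93 : type_of% vqy91 := (vqc0 (vqc0 (vqc1 0 1) (vqc0 (vqc1 1 3) (vqc0 (vqc1 3 9) (vqc0 (vqc1 6 8) (vqc0 (vqc1 8 7) (vqc0 (vqc1 7 10) vqc2)))))) (vqc0 (vqc0 (vqc1 0 5) (vqc0 (vqc1 5 3) (vqc0 (vqc1 3 2) (vqc0 (vqc1 1 9) (vqc0 (vqc1 9 10) (vqc0 (vqc1 10 8) vqc2))))))
      (vqc0 (vqc0 (vqc1 0 8) (vqc0 (vqc1 8 6) (vqc0 (vqc1 1 9) (vqc0 (vqc1 9 2) (vqc0 (vqc1 3 7) (vqc0 (vqc1 7 10) vqc2)))))) (vqc0 (vqc0 (vqc1 0 10) (vqc0 (vqc1 10 3) (vqc0 (vqc1 3 2) (vqc0 (vqc1 4 9) (vqc0 (vqc1 9 8) (vqc0 (vqc1 8 6) vqc2))))))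
      (vqc0 (vqc0 (vqc1 0 3) (vqc0 (vqc1 3 4) (vqc0 (vqc1 4 1) (vqc0 (vqc1 2 5) (vqc0 (vqc1 5 6) (vqc0 (vqc1 6 9) vqc2)))))) (vqc0 (vqc0 (vqc1 1 4) (vqc0 (vqc1 4 6) (vqc0 (vqc1 6 3) (vqc0 (vqc1 7 10) (vqc0 (vqc1 10 8) (vqc0 (vqc1 8 9) vqc2))))))
      (vqc0 (vqc0 (vqc1 0 5) (vqc0 (vqc1 1 3) (vqc0 (vqc1 2 10) (vqc0 (vqc1 6 8) vqc2)))) vqy91)))))));
      (vqc0 (vqc0 (vqc1 1 6) (vqc0 (vqc1 3 4) (vqc0 (vqc1 7 8) (vqc0 (vqc1 9 10) vqc2))))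
      (vqc0 (vqc0 (vqc1 1 3) (vqc0 (vqc1 3 5) (vqc0 (vqc1 2 9) (vqc0 (vqc1 9 6) (vqc0 (vqc1 4 8) (vqc0 (vqc1 8 10) vqc2)))))) (vqc0 (vqc0 (vqc1 2 4) (vqc0 (vqc1 4 7) (vqc0 (vqc1 3 10) (vqc0 (vqc1 10 6) (vqc0 (vqc1 5 8) (vqc0 (vqc1 8 9) vqc2))))))
      (vqc0 (vqc0 (vqc1 0 6) (vqc0 (vqc1 6 9) (vqc0 (vqc1 9 1) (vqc0 (vqc1 3 5) (vqc0 (vqc1 5 7) (vqc0 (vqc1 7 10) vqc2)))))) (vqc0 (vqc0 (vqc1 2 8) (vqc0 (vqc1 8 4) (vqc0 (vqc1 4 6) (vqc0 (vqc1 3 9) (vqc0 (vqc1 9 5) (vqc0 (vqc1 5 10) vqc2))))))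
      (vqc0 (vqc0 (vqc1 0 1) (vqc0 (vqc1 1 3) (vqc0 (vqc1 2 6) (vqc0 (vqc1 6 4) (vqc0 (vqc1 8 9) (vqc0 (vqc1 9 10) vqc2)))))) (vqc0 (vqc0 (vqc1 0 2) (vqc0 (vqc1 2 10) (vqc0 (vqc1 10 9) (vqc0 (vqc1 3 8) (vqc0 (vqc1 8 6) (vqc0 (vqc1 6 7) vqc2))))))
      vqy93)))))))));
      (let vqy94 : type_of% vqy90 := (let vqy95 : type_of% vqy90 := (vqc0 (vqc0 (vqc1 0 4) (vqc0 (vqc1 4 7) (vqc0 (vqc1 7 3) (vqc0 (vqc1 1 8) (vqc0 (vqc1 8 10) (vqc0 (vqc1 10 5) vqc2)))))) (vqc0 (vqc0 (vqc1 0 6) (vqc0 (vqc1 6 5) (vqc0 (vqc1 5 10) (vqc0 (vqc1 1 3) (vqc0 (vqc1 3 9) (vqc0 (vqc1 9 4) vqc2))))))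
      (vqc0 (vqc0 (vqc1 0 6) (vqc0 (vqc1 6 3) (vqc0 (vqc1 3 8) (vqc0 (vqc1 1 4) (vqc0 (vqc1 4 5) (vqc0 (vqc1 5 9) vqc2)))))) (vqc0 (vqc0 (vqc1 1 4) (vqc0 (vqc1 4 7) (vqc0 (vqc1 7 2) (vqc0 (vqc1 6 10) (vqc0 (vqc1 10 9) (vqc0 (vqc1 9 8) vqc2))))))
      (vqc0 (vqc0 (vqc1 1 4) (vqc0 (vqc1 4 5) (vqc0 (vqc1 5 10) (vqc0 (vqc1 3 9) (vqc0 (vqc1 9 8) (vqc0 (vqc1 8 7) vqc2)))))) (vqc0 (vqc0 (vqc1 1 9) (vqc0 (vqc1 9 5) (vqc0 (vqc1 5 7) (vqc0 (vqc1 3 10) (vqc0 (vqc1 10 8) (vqc0 (vqc1 8 4) vqc2))))))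
      (vqc0 (vqc0 (vqc1 0 2) (vqc0 (vqc1 2 1) (vqc0 (vqc1 1 10) (vqc0 (vqc1 3 4) (vqc0 (vqc1 4 5) (vqc0 (vqc1 5 9) vqc2)))))) vqy90)))))));
      (vqc0 (vqc0 (vqc1 1 9) (vqc0 (vqc1 9 8) (vqc0 (vqc1 8 2) (vqc0 (vqc1 3 5) (vqc0 (vqc1 5 4) (vqc0 (vqc1 4 10) vqc2))))))
      (vqc0 (vqc0 (vqc1 0 3) (vqc0 (vqc1 3 6) (vqc0 (vqc1 6 10) (vqc0 (vqc1 2 4) (vqc0 (vqc1 4 9) (vqc0 (vqc1 9 5) vqc2)))))) (vqc0 (vqc0 (vqc1 0 9) (vqc0 (vqc1 9 5) (vqc0 (vqc1 5 10) (vqc0 (vqc1 3 4) (vqc0 (vqc1 4 7) (vqc0 (vqc1 7 8) vqc2))))))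
      (vqc0 (vqc0 (vqc1 1 10) (vqc0 (vqc1 10 4) (vqc0 (vqc1 4 5) (vqc0 (vqc1 2 7) (vqc0 (vqc1 7 6) (vqc0 (vqc1 6 9) vqc2)))))) (vqc0 (vqc0 (vqc1 0 3) (vqc0 (vqc1 3 2) (vqc0 (vqc1 2 7) (vqc0 (vqc1 4 5) (vqc0 (vqc1 5 9) (vqc0 (vqc1 9 6) vqc2))))))
      (vqc0 (vqc0 (vqc1 1 9) (vqc0 (vqc1 9 2) (vqc0 (vqc1 2 6) (vqc0 (vqc1 3 7) (vqc0 (vqc1 7 5) (vqc0 (vqc1 5 4) vqc2)))))) (vqc0 (vqc0 (vqc1 1 4) (vqc0 (vqc1 4 6) (vqc0 (vqc1 6 7) (vqc0 (vqc1 7 2) (vqc0 (vqc1 2 10) (vqc0 (vqc1 10 5) (vqc0 (vqc1 5 8) (vqc0 (vqc1 3 9) vqc2))))))))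
      vqy95))))))));
      (let vqy96 : type_of% vqy94 := (vqc0 (vqc0 (vqc1 1 2) (vqc0 (vqc1 2 7) (vqc0 (vqc1 7 4) (vqc0 (vqc1 6 8) (vqc0 (vqc1 8 9) (vqc0 (vqc1 9 10) vqc2)))))) (vqc0 (vqc0 (vqc1 0 6) (vqc0 (vqc1 6 9) (vqc0 (vqc1 2 3) (vqc0 (vqc1 3 10) (vqc0 (vqc1 5 8) (vqc0 (vqc1 8 7) vqc2))))))
      (vqc0 (vqc0 (vqc1 0 4) (vqc0 (vqc1 4 6) (vqc0 (vqc1 1 2) (vqc0 (vqc1 2 3) (vqc0 (vqc1 7 9) (vqc0 (vqc1 9 10) vqc2)))))) (vqc0 (vqc0 (vqc1 1 3) (vqc0 (vqc1 3 9) (vqc0 (vqc1 9 7) (vqc0 (vqc1 2 8) (vqc0 (vqc1 8 10) (vqc0 (vqc1 10 5) vqc2))))))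
      (vqc0 (vqc0 (vqc1 0 3) (vqc0 (vqc1 3 10) (vqc0 (vqc1 10 9) (vqc0 (vqc1 1 7) (vqc0 (vqc1 7 8) (vqc0 (vqc1 8 5) vqc2)))))) (vqc0 (vqc0 (vqc1 3 8) (vqc0 (vqc1 8 9) (vqc0 (vqc1 9 10) (vqc0 (vqc1 4 5) (vqc0 (vqc1 5 7) (vqc0 (vqc1 7 6) vqc2))))))
      (vqc0 (vqc0 (vqc1 0 8) (vqc0 (vqc1 2 4) (vqc0 (vqc1 3 10) (vqc0 (vqc1 6 7) vqc2)))) vqy94)))))));
      (vqc0 (vqc0 (vqc1 0 3) (vqc0 (vqc1 3 5) (vqc0 (vqc1 5 2) (vqc0 (vqc1 6 9) (vqc0 (vqc1 9 7) (vqc0 (vqc1 7 8) vqc2)))))) (vqc0 (vqc0 (vqc1 1 8) (vqc0 (vqc1 8 9) (vqc0 (vqc1 9 5) (vqc0 (vqc1 2 7) (vqc0 (vqc1 7 10) (vqc0 (vqc1 10 3) vqc2))))))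
      (vqc0 (vqc0 (vqc1 0 5) (vqc0 (vqc1 5 3) (vqc0 (vqc1 2 9) (vqc0 (vqc1 9 8) (vqc0 (vqc1 4 6) (vqc0 (vqc1 6 10) vqc2)))))) (vqc0 (vqc0 (vqc1 1 10) (vqc0 (vqc1 10 6) (vqc0 (vqc1 6 9) (vqc0 (vqc1 3 8) (vqc0 (vqc1 8 4) (vqc0 (vqc1 4 7) vqc2))))))
      (vqc0 (vqc0 (vqc1 0 5) (vqc0 (vqc1 2 3) (vqc0 (vqc1 6 7) (vqc0 (vqc1 8 9) vqc2)))) (vqc0 (vqc0 (vqc1 0 9) (vqc0 (vqc1 9 4) (vqc0 (vqc1 4 2) (vqc0 (vqc1 1 3) (vqc0 (vqc1 3 10) (vqc0 (vqc1 10 7) vqc2))))))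
      vqy96)))))))))));
      (let vqy97 : type_of% vqy65 := (let vqy98 : type_of% vqy65 := (let vqy99 : type_of% vqy65 := (let vqy100 : type_of% vqy65 := (let vqy101 : type_of% vqy65 := (vqc0 (vqc0 (vqc1 0 9) (vqc0 (vqc1 9 8) (vqc0 (vqc1 1 3) (vqc0 (vqc1 3 10) (vqc0 (vqc1 5 7) (vqc0 (vqc1 7 6) vqc2))))))
      (vqc0 (vqc0 (vqc1 1 10) (vqc0 (vqc1 2 8) (vqc0 (vqc1 4 7) (vqc0 (vqc1 5 9) vqc2)))) (vqc0 (vqc0 (vqc1 1 10) (vqc0 (vqc1 10 8) (vqc0 (vqc1 8 9) (vqc0 (vqc1 2 6) (vqc0 (vqc1 6 5) (vqc0 (vqc1 5 7) vqc2))))))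
      (vqc0 (vqc0 (vqc1 1 6) (vqc0 (vqc1 6 8) (vqc0 (vqc1 2 10) (vqc0 (vqc1 10 3) (vqc0 (vqc1 4 5) (vqc0 (vqc1 5 9) vqc2)))))) (vqc0 (vqc0 (vqc1 0 3) (vqc0 (vqc1 3 2) (vqc0 (vqc1 2 4) (vqc0 (vqc1 7 8) (vqc0 (vqc1 8 9) (vqc0 (vqc1 9 10) vqc2))))))
      (vqc0 (vqc0 (vqc1 1 4) (vqc0 (vqc1 2 7) (vqc0 (vqc1 3 5) (vqc0 (vqc1 8 10) vqc2)))) (vqc0 (vqc0 (vqc1 1 3) (vqc0 (vqc1 3 4) (vqc0 (vqc1 4 10) (vqc0 (vqc1 5 6) (vqc0 (vqc1 6 8) (vqc0 (vqc1 8 9) vqc2))))))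
      vqy65)))))));
      (vqc0 (vqc0 (vqc1 0 4) (vqc0 (vqc1 1 6) (vqc0 (vqc1 2 3) (vqc0 (vqc1 8 10) vqc2)))) (vqc0 (vqc0 (vqc1 0 2) (vqc0 (vqc1 2 5) (vqc0 (vqc1 5 3) (vqc0 (vqc1 6 8) (vqc0 (vqc1 8 7) (vqc0 (vqc1 7 9) vqc2))))))
      (vqc0 (vqc0 (vqc1 0 7) (vqc0 (vqc1 7 9) (vqc0 (vqc1 1 8) (vqc0 (vqc1 8 4) (vqc0 (vqc1 3 5) (vqc0 (vqc1 5 10) vqc2)))))) (vqc0 (vqc0 (vqc1 0 7) (vqc0 (vqc1 7 3) (vqc0 (vqc1 2 4) (vqc0 (vqc1 4 9) (vqc0 (vqc1 6 8) (vqc0 (vqc1 8 10) vqc2))))))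
      (vqc0 (vqc0 (vqc1 0 4) (vqc0 (vqc1 4 1) (vqc0 (vqc1 1 9) (vqc0 (vqc1 2 3) (vqc0 (vqc1 3 10) (vqc0 (vqc1 10 5) vqc2)))))) (vqc0 (vqc0 (vqc1 0 10) (vqc0 (vqc1 10 7) (vqc0 (vqc1 1 4) (vqc0 (vqc1 4 3) (vqc0 (vqc1 2 9) (vqc0 (vqc1 9 8) vqc2))))))
      (vqc0 (vqc0 (vqc1 1 2) (vqc0 (vqc1 2 5) (vqc0 (vqc1 5 6) (vqc0 (vqc1 3 8) (vqc0 (vqc1 8 9) (vqc0 (vqc1 9 7) vqc2)))))) vqy101))))))));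
      (let vqy102 : type_of% vqy100 := (vqc0 (vqc0 (vqc1 0 9) (vqc0 (vqc1 9 7) (vqc0 (vqc1 1 4) (vqc0 (vqc1 4 8) (vqc0 (vqc1 3 10) (vqc0 (vqc1 10 5) vqc2))))))
      (vqc0 (vqc0 (vqc1 0 3) (vqc0 (vqc1 3 1) (vqc0 (vqc1 1 5) (vqc0 (vqc1 2 9) (vqc0 (vqc1 9 10) (vqc0 (vqc1 10 4) vqc2)))))) (vqc0 (vqc0 (vqc1 0 8) (vqc0 (vqc1 8 1) (vqc0 (vqc1 2 5) (vqc0 (vqc1 5 4) (vqc0 (vqc1 3 10) (vqc0 (vqc1 10 9) vqc2))))))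
      (vqc0 (vqc0 (vqc1 0 6) (vqc0 (vqc1 6 1) (vqc0 (vqc1 2 4) (vqc0 (vqc1 4 3) (vqc0 (vqc1 5 9) (vqc0 (vqc1 9 10) vqc2)))))) (vqc0 (vqc0 (vqc1 1 8) (vqc0 (vqc1 8 3) (vqc0 (vqc1 3 9) (vqc0 (vqc1 2 5) (vqc0 (vqc1 5 4) (vqc0 (vqc1 4 7) vqc2))))))
      (vqc0 (vqc0 (vqc1 1 4) (vqc0 (vqc1 4 3) (vqc0 (vqc1 3 8) (vqc0 (vqc1 5 6) (vqc0 (vqc1 6 10) (vqc0 (vqc1 10 7) vqc2)))))) (vqc0 (vqc0 (vqc1 1 4) (vqc0 (vqc1 4 2) (vqc0 (vqc1 2 7) (vqc0 (vqc1 3 9) (vqc0 (vqc1 9 5) (vqc0 (vqc1 5 6) vqc2))))))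
      vqy100)))))));
      (vqc0 (vqc0 (vqc1 0 2) (vqc0 (vqc1 1 10) (vqc0 (vqc1 3 5) (vqc0 (vqc1 6 7) vqc2)))) (vqc0 (vqc0 (vqc1 1 2) (vqc0 (vqc1 2 7) (vqc0 (vqc1 7 5) (vqc0 (vqc1 3 6) (vqc0 (vqc1 6 4) (vqc0 (vqc1 4 8) vqc2))))))
      (vqc0 (vqc0 (vqc1 0 6) (vqc0 (vqc1 6 10) (vqc0 (vqc1 10 9) (vqc0 (vqc1 1 2) (vqc0 (vqc1 2 5) (vqc0 (vqc1 5 3) vqc2)))))) (vqc0 (vqc0 (vqc1 0 2) (vqc0 (vqc1 2 10) (vqc0 (vqc1 10 3) (vqc0 (vqc1 1 9) (vqc0 (vqc1 9 5) (vqc0 (vqc1 5 6) vqc2))))))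
      (vqc0 (vqc0 (vqc1 0 5) (vqc0 (vqc1 5 10) (vqc0 (vqc1 10 9) (vqc0 (vqc1 1 4) (vqc0 (vqc1 4 6) (vqc0 (vqc1 6 8) vqc2)))))) (vqc0 (vqc0 (vqc1 1 9) (vqc0 (vqc1 2 3) (vqc0 (vqc1 4 8) (vqc0 (vqc1 5 6) vqc2))))
      (vqc0 (vqc0 (vqc1 0 9) (vqc0 (vqc1 9 6) (vqc0 (vqc1 6 8) (vqc0 (vqc1 1 3) (vqc0 (vqc1 3 2) (vqc0 (vqc1 2 4) vqc2)))))) vqy102)))))))));
      (let vqy103 : type_of% vqy99 := (let vqy104 : type_of% vqy99 := (vqc0 (vqc0 (vqc1 1 9) (vqc0 (vqc1 4 5) (vqc0 (vqc1 6 8) (vqc0 (vqc1 7 10) vqc2))))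
      (vqc0 (vqc0 (vqc1 1 6) (vqc0 (vqc1 6 4) (vqc0 (vqc1 4 7) (vqc0 (vqc1 2 8) (vqc0 (vqc1 8 9) (vqc0 (vqc1 9 3) vqc2)))))) (vqc0 (vqc0 (vqc1 2 3) (vqc0 (vqc1 3 8) (vqc0 (vqc1 8 6) (vqc0 (vqc1 4 7) (vqc0 (vqc1 7 5) (vqc0 (vqc1 5 9) vqc2))))))
      (vqc0 (vqc0 (vqc1 0 3) (vqc0 (vqc1 3 10) (vqc0 (vqc1 1 9) (vqc0 (vqc1 9 8) (vqc0 (vqc1 4 5) (vqc0 (vqc1 5 6) vqc2)))))) (vqc0 (vqc0 (vqc1 1 4) (vqc0 (vqc1 2 9) (vqc0 (vqc1 3 8) (vqc0 (vqc1 6 7) vqc2))))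
      (vqc0 (vqc0 (vqc1 2 7) (vqc0 (vqc1 7 4) (vqc0 (vqc1 3 6) (vqc0 (vqc1 6 10) (vqc0 (vqc1 5 9) (vqc0 (vqc1 9 8) vqc2)))))) (vqc0 (vqc0 (vqc1 0 7) (vqc0 (vqc1 7 5) (vqc0 (vqc1 1 4) (vqc0 (vqc1 4 6) (vqc0 (vqc1 3 9) (vqc0 (vqc1 9 10) vqc2))))))
      vqy99)))))));
      (vqc0 (vqc0 (vqc1 0 2) (vqc0 (vqc1 2 5) (vqc0 (vqc1 1 3) (vqc0 (vqc1 3 10) (vqc0 (vqc1 4 9) (vqc0 (vqc1 9 6) vqc2)))))) (vqc0 (vqc0 (vqc1 2 5) (vqc0 (vqc1 5 6) (vqc0 (vqc1 3 4) (vqc0 (vqc1 4 8) (vqc0 (vqc1 7 9) (vqc0 (vqc1 9 10) vqc2))))))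
      (vqc0 (vqc0 (vqc1 0 5) (vqc0 (vqc1 1 2) (vqc0 (vqc1 3 10) (vqc0 (vqc1 7 9) vqc2)))) (vqc0 (vqc0 (vqc1 0 4) (vqc0 (vqc1 4 5) (vqc0 (vqc1 5 3) (vqc0 (vqc1 1 6) (vqc0 (vqc1 6 9) (vqc0 (vqc1 9 10) vqc2))))))
      (vqc0 (vqc0 (vqc1 0 2) (vqc0 (vqc1 2 4) (vqc0 (vqc1 3 8) (vqc0 (vqc1 8 10) (vqc0 (vqc1 5 9) (vqc0 (vqc1 9 6) vqc2)))))) (vqc0 (vqc0 (vqc1 1 3) (vqc0 (vqc1 2 4) (vqc0 (vqc1 5 7) (vqc0 (vqc1 8 9) vqc2))))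
      (vqc0 (vqc0 (vqc1 0 9) (vqc0 (vqc1 9 4) (vqc0 (vqc1 4 1) (vqc0 (vqc1 3 8) (vqc0 (vqc1 8 5) (vqc0 (vqc1 5 7) vqc2)))))) vqy104))))))));
      (let vqy105 : type_of% vqy103 := (vqc0 (vqc0 (vqc1 1 10) (vqc0 (vqc1 10 3) (vqc0 (vqc1 2 9) (vqc0 (vqc1 9 7) (vqc0 (vqc1 4 5) (vqc0 (vqc1 5 8) vqc2))))))
      (vqc0 (vqc0 (vqc1 0 6) (vqc0 (vqc1 1 9) (vqc0 (vqc1 2 8) (vqc0 (vqc1 5 10) vqc2)))) (vqc0 (vqc0 (vqc1 0 3) (vqc0 (vqc1 2 10) (vqc0 (vqc1 4 8) (vqc0 (vqc1 6 9) vqc2))))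
      (vqc0 (vqc0 (vqc1 0 6) (vqc0 (vqc1 6 3) (vqc0 (vqc1 2 7) (vqc0 (vqc1 7 5) (vqc0 (vqc1 4 9) (vqc0 (vqc1 9 8) vqc2)))))) (vqc0 (vqc0 (vqc1 0 4) (vqc0 (vqc1 4 7) (vqc0 (vqc1 1 6) (vqc0 (vqc1 6 5) (vqc0 (vqc1 2 3) (vqc0 (vqc1 3 9) vqc2))))))
      (vqc0 (vqc0 (vqc1 0 1) (vqc0 (vqc1 2 4) (vqc0 (vqc1 3 6) (vqc0 (vqc1 5 8) vqc2)))) (vqc0 (vqc0 (vqc1 0 1) (vqc0 (vqc1 1 5) (vqc0 (vqc1 5 3) (vqc0 (vqc1 2 8) (vqc0 (vqc1 8 10) (vqc0 (vqc1 10 6) vqc2))))))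
      vqy103)))))));
      (vqc0 (vqc0 (vqc1 0 2) (vqc0 (vqc1 1 5) (vqc0 (vqc1 3 10) (vqc0 (vqc1 4 8) vqc2))))
      (vqc0 (vqc0 (vqc1 0 9) (vqc0 (vqc1 9 10) (vqc0 (vqc1 10 2) (vqc0 (vqc1 3 7) (vqc0 (vqc1 7 6) (vqc0 (vqc1 6 8) vqc2)))))) (vqc0 (vqc0 (vqc1 0 5) (vqc0 (vqc1 5 7) (vqc0 (vqc1 1 6) (vqc0 (vqc1 6 4) (vqc0 (vqc1 3 10) (vqc0 (vqc1 10 9) vqc2))))))
      (vqc0 (vqc0 (vqc1 0 1) (vqc0 (vqc1 3 8) (vqc0 (vqc1 5 6) (vqc0 (vqc1 9 10) vqc2)))) (vqc0 (vqc0 (vqc1 0 2) (vqc0 (vqc1 1 3) (vqc0 (vqc1 4 6) (vqc0 (vqc1 7 8) vqc2))))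
      (vqc0 (vqc0 (vqc1 1 7) (vqc0 (vqc1 7 10) (vqc0 (vqc1 10 9) (vqc0 (vqc1 2 8) (vqc0 (vqc1 8 3) (vqc0 (vqc1 3 6) vqc2)))))) vqy105)))))))));
      (let vqy106 : type_of% vqy98 := (let vqy107 : type_of% vqy98 := (let vqy108 : type_of% vqy98 := (vqc0 (vqc0 (vqc1 2 9) (vqc0 (vqc1 4 8) (vqc0 (vqc1 5 7) (vqc0 (vqc1 6 10) vqc2)))) (vqc0 (vqc0 (vqc1 1 7) (vqc0 (vqc1 7 2) (vqc0 (vqc1 2 8) (vqc0 (vqc1 4 5) (vqc0 (vqc1 5 10) (vqc0 (vqc1 10 6) vqc2))))))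
      (vqc0 (vqc0 (vqc1 0 6) (vqc0 (vqc1 6 4) (vqc0 (vqc1 4 2) (vqc0 (vqc1 1 9) (vqc0 (vqc1 9 3) (vqc0 (vqc1 3 5) vqc2)))))) (vqc0 (vqc0 (vqc1 0 1) (vqc0 (vqc1 1 6) (vqc0 (vqc1 2 3) (vqc0 (vqc1 3 4) (vqc0 (vqc1 5 10) (vqc0 (vqc1 10 9) vqc2))))))
      (vqc0 (vqc0 (vqc1 0 1) (vqc0 (vqc1 1 5) (vqc0 (vqc1 3 9) (vqc0 (vqc1 9 4) (vqc0 (vqc1 7 8) (vqc0 (vqc1 8 10) vqc2)))))) (vqc0 (vqc0 (vqc1 0 8) (vqc0 (vqc1 8 1) (vqc0 (vqc1 1 9) (vqc0 (vqc1 3 4) (vqc0 (vqc1 4 10) (vqc0 (vqc1 10 7) vqc2))))))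
      (vqc0 (vqc0 (vqc1 1 7) (vqc0 (vqc1 7 2) (vqc0 (vqc1 2 10) (vqc0 (vqc1 3 8) (vqc0 (vqc1 8 9) (vqc0 (vqc1 9 4) vqc2)))))) vqy98)))))));
      (vqc0 (vqc0 (vqc1 0 2) (vqc0 (vqc1 2 9) (vqc0 (vqc1 1 6) (vqc0 (vqc1 6 8) (vqc0 (vqc1 3 7) (vqc0 (vqc1 7 4) vqc2))))))
      (vqc0 (vqc0 (vqc1 1 10) (vqc0 (vqc1 2 3) (vqc0 (vqc1 6 8) (vqc0 (vqc1 7 9) vqc2)))) (vqc0 (vqc0 (vqc1 1 4) (vqc0 (vqc1 4 5) (vqc0 (vqc1 2 3) (vqc0 (vqc1 3 7) (vqc0 (vqc1 6 8) (vqc0 (vqc1 8 9) vqc2))))))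
      (vqc0 (vqc0 (vqc1 1 5) (vqc0 (vqc1 3 8) (vqc0 (vqc1 4 10) (vqc0 (vqc1 7 9) vqc2)))) (vqc0 (vqc0 (vqc1 0 7) (vqc0 (vqc1 7 10) (vqc0 (vqc1 1 3) (vqc0 (vqc1 3 4) (vqc0 (vqc1 2 8) (vqc0 (vqc1 8 9) vqc2))))))
      (vqc0 (vqc0 (vqc1 0 8) (vqc0 (vqc1 8 6) (vqc0 (vqc1 2 10) (vqc0 (vqc1 10 5) (vqc0 (vqc1 3 9) (vqc0 (vqc1 9 4) vqc2)))))) (vqc0 (vqc0 (vqc1 1 9) (vqc0 (vqc1 9 4) (vqc0 (vqc1 4 6) (vqc0 (vqc1 3 8) (vqc0 (vqc1 8 10) (vqc0 (vqc1 10 5) vqc2))))))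
      vqy108))))))));
      (let vqy109 : type_of% vqy107 := (vqc0 (vqc0 (vqc1 2 8) (vqc0 (vqc1 8 9) (vqc0 (vqc1 9 4) (vqc0 (vqc1 5 6) (vqc0 (vqc1 6 7) (vqc0 (vqc1 7 10) vqc2)))))) (vqc0 (vqc0 (vqc1 0 4) (vqc0 (vqc1 4 3) (vqc0 (vqc1 3 2) (vqc0 (vqc1 1 7) (vqc0 (vqc1 7 6) (vqc0 (vqc1 6 9) vqc2))))))
      (vqc0 (vqc0 (vqc1 1 6) (vqc0 (vqc1 6 10) (vqc0 (vqc1 10 3) (vqc0 (vqc1 4 7) (vqc0 (vqc1 7 9) (vqc0 (vqc1 9 5) vqc2)))))) (vqc0 (vqc0 (vqc1 0 9) (vqc0 (vqc1 9 1) (vqc0 (vqc1 2 4) (vqc0 (vqc1 4 10) (vqc0 (vqc1 3 6) (vqc0 (vqc1 6 7) vqc2))))))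
      (vqc0 (vqc0 (vqc1 0 5) (vqc0 (vqc1 5 1) (vqc0 (vqc1 2 7) (vqc0 (vqc1 7 9) (vqc0 (vqc1 3 8) (vqc0 (vqc1 8 6) vqc2)))))) (vqc0 (vqc0 (vqc1 1 6) (vqc0 (vqc1 6 3) (vqc0 (vqc1 3 10) (vqc0 (vqc1 2 9) (vqc0 (vqc1 9 8) (vqc0 (vqc1 8 4) vqc2))))))
      (vqc0 (vqc0 (vqc1 0 2) (vqc0 (vqc1 2 5) (vqc0 (vqc1 3 8) (vqc0 (vqc1 8 9) (vqc0 (vqc1 4 7) (vqc0 (vqc1 7 10) vqc2)))))) vqy107)))))));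
      (vqc0 (vqc0 (vqc1 0 9) (vqc0 (vqc1 9 2) (vqc0 (vqc1 1 7) (vqc0 (vqc1 7 5) (vqc0 (vqc1 3 6) (vqc0 (vqc1 6 10) vqc2))))))
      (vqc0 (vqc0 (vqc1 0 3) (vqc0 (vqc1 3 8) (vqc0 (vqc1 8 5) (vqc0 (vqc1 1 9) (vqc0 (vqc1 9 6) (vqc0 (vqc1 6 2) vqc2)))))) (vqc0 (vqc0 (vqc1 1 3) (vqc0 (vqc1 3 9) (vqc0 (vqc1 9 10) (vqc0 (vqc1 2 4) (vqc0 (vqc1 4 7) (vqc0 (vqc1 7 6) vqc2))))))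
      (vqc0 (vqc0 (vqc1 2 10) (vqc0 (vqc1 10 3) (vqc0 (vqc1 3 7) (vqc0 (vqc1 4 8) (vqc0 (vqc1 8 6) (vqc0 (vqc1 6 5) vqc2)))))) (vqc0 (vqc0 (vqc1 0 6) (vqc0 (vqc1 6 4) (vqc0 (vqc1 1 5) (vqc0 (vqc1 5 7) (vqc0 (vqc1 3 9) (vqc0 (vqc1 9 8) vqc2))))))
      (vqc0 (vqc0 (vqc1 0 9) (vqc0 (vqc1 9 7) (vqc0 (vqc1 2 3) (vqc0 (vqc1 3 4) (vqc0 (vqc1 5 6) (vqc0 (vqc1 6 8) vqc2)))))) (vqc0 (vqc0 (vqc1 1 3) (vqc0 (vqc1 3 5) (vqc0 (vqc1 5 8) (vqc0 (vqc1 4 7) (vqc0 (vqc1 7 10) (vqc0 (vqc1 10 9) vqc2))))))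
      vqy109)))))))));
      (let vqy110 : type_of% vqy106 := (let vqy111 : type_of% vqy106 := (vqc0 (vqc0 (vqc1 1 8) (vqc0 (vqc1 8 2) (vqc0 (vqc1 2 4) (vqc0 (vqc1 3 10) (vqc0 (vqc1 10 9) (vqc0 (vqc1 9 7) vqc2)))))) (vqc0 (vqc0 (vqc1 0 6) (vqc0 (vqc1 6 9) (vqc0 (vqc1 1 3) (vqc0 (vqc1 3 7) (vqc0 (vqc1 2 4) (vqc0 (vqc1 4 5) vqc2))))))
      (vqc0 (vqc0 (vqc1 0 4) (vqc0 (vqc1 4 3) (vqc0 (vqc1 3 1) (vqc0 (vqc1 5 10) (vqc0 (vqc1 10 9) (vqc0 (vqc1 9 7) vqc2)))))) (vqc0 (vqc0 (vqc1 1 6) (vqc0 (vqc1 2 5) (vqc0 (vqc1 3 9) (vqc0 (vqc1 4 10) vqc2))))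
      (vqc0 (vqc0 (vqc1 1 8) (vqc0 (vqc1 8 7) (vqc0 (vqc1 7 6) (vqc0 (vqc1 2 4) (vqc0 (vqc1 4 5) (vqc0 (vqc1 5 3) vqc2)))))) (vqc0 (vqc0 (vqc1 0 1) (vqc0 (vqc1 1 8) (vqc0 (vqc1 2 4) (vqc0 (vqc1 4 5) (vqc0 (vqc1 3 9) (vqc0 (vqc1 9 10) vqc2))))))
      (vqc0 (vqc0 (vqc1 0 3) (vqc0 (vqc1 4 5) (vqc0 (vqc1 6 10) (vqc0 (vqc1 7 8) vqc2)))) vqy106)))))));
      (vqc0 (vqc0 (vqc1 0 5) (vqc0 (vqc1 5 4) (vqc0 (vqc1 1 9) (vqc0 (vqc1 9 3) (vqc0 (vqc1 2 10) (vqc0 (vqc1 10 7) vqc2))))))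
      (vqc0 (vqc0 (vqc1 1 3) (vqc0 (vqc1 4 8) (vqc0 (vqc1 5 10) (vqc0 (vqc1 6 7) vqc2)))) (vqc0 (vqc0 (vqc1 1 9) (vqc0 (vqc1 9 8) (vqc0 (vqc1 8 5) (vqc0 (vqc1 3 4) (vqc0 (vqc1 4 7) (vqc0 (vqc1 7 6) vqc2))))))
      (vqc0 (vqc0 (vqc1 0 10) (vqc0 (vqc1 1 2) (vqc0 (vqc1 4 9) (vqc0 (vqc1 6 7) vqc2)))) (vqc0 (vqc0 (vqc1 1 10) (vqc0 (vqc1 10 8) (vqc0 (vqc1 3 4) (vqc0 (vqc1 4 5) (vqc0 (vqc1 6 7) (vqc0 (vqc1 7 9) vqc2))))))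
      (vqc0 (vqc0 (vqc1 1 3) (vqc0 (vqc1 2 8) (vqc0 (vqc1 4 9) (vqc0 (vqc1 6 10) vqc2)))) (vqc0 (vqc0 (vqc1 1 2) (vqc0 (vqc1 2 10) (vqc0 (vqc1 3 7) (vqc0 (vqc1 7 9) (vqc0 (vqc1 4 5) (vqc0 (vqc1 5 6) vqc2))))))
      vqy111))))))));
      (let vqy112 : type_of% vqy110 := (vqc0 (vqc0 (vqc1 0 8) (vqc0 (vqc1 8 2) (vqc0 (vqc1 2 3) (vqc0 (vqc1 1 9) (vqc0 (vqc1 9 7) (vqc0 (vqc1 7 5) vqc2)))))) (vqc0 (vqc0 (vqc1 0 10) (vqc0 (vqc1 10 9) (vqc0 (vqc1 9 6) (vqc0 (vqc1 2 4) (vqc0 (vqc1 4 3) (vqc0 (vqc1 3 7) vqc2))))))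
      (vqc0 (vqc0 (vqc1 0 4) (vqc0 (vqc1 4 2) (vqc0 (vqc1 1 5) (vqc0 (vqc1 5 8) (vqc0 (vqc1 3 9) (vqc0 (vqc1 9 7) vqc2)))))) (vqc0 (vqc0 (vqc1 0 6) (vqc0 (vqc1 6 9) (vqc0 (vqc1 9 4) (vqc0 (vqc1 2 8) (vqc0 (vqc1 8 5) (vqc0 (vqc1 5 3) vqc2))))))
      (vqc0 (vqc0 (vqc1 0 1) (vqc0 (vqc1 2 9) (vqc0 (vqc1 4 10) (vqc0 (vqc1 6 8) vqc2)))) (vqc0 (vqc0 (vqc1 0 4) (vqc0 (vqc1 4 9) (vqc0 (vqc1 2 7) (vqc0 (vqc1 7 3) (vqc0 (vqc1 5 10) (vqc0 (vqc1 10 8) vqc2))))))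
      (vqc0 (vqc0 (vqc1 0 5) (vqc0 (vqc1 5 9) (vqc0 (vqc1 9 2) (vqc0 (vqc1 3 6) (vqc0 (vqc1 6 8) (vqc0 (vqc1 8 4) vqc2)))))) vqy110)))))));
      (vqc0 (vqc0 (vqc1 2 7) (vqc0 (vqc1 7 8) (vqc0 (vqc1 8 9) (vqc0 (vqc1 3 4) (vqc0 (vqc1 4 6) (vqc0 (vqc1 6 5) vqc2)))))) (vqc0 (vqc0 (vqc1 0 4) (vqc0 (vqc1 4 2) (vqc0 (vqc1 3 10) (vqc0 (vqc1 10 8) (vqc0 (vqc1 5 6) (vqc0 (vqc1 6 9) vqc2))))))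
      (vqc0 (vqc0 (vqc1 0 9) (vqc0 (vqc1 9 10) (vqc0 (vqc1 10 1) (vqc0 (vqc1 2 3) (vqc0 (vqc1 3 4) (vqc0 (vqc1 4 8) vqc2)))))) (vqc0 (vqc0 (vqc1 0 3) (vqc0 (vqc1 3 10) (vqc0 (vqc1 10 2) (vqc0 (vqc1 1 6) (vqc0 (vqc1 6 5) (vqc0 (vqc1 5 9) vqc2))))))
      (vqc0 (vqc0 (vqc1 1 7) (vqc0 (vqc1 7 2) (vqc0 (vqc1 3 9) (vqc0 (vqc1 9 10) (vqc0 (vqc1 5 6) (vqc0 (vqc1 6 8) vqc2)))))) (vqc0 (vqc0 (vqc1 1 6) (vqc0 (vqc1 6 9) (vqc0 (vqc1 9 4) (vqc0 (vqc1 2 3) (vqc0 (vqc1 3 7) (vqc0 (vqc1 7 10) vqc2))))))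
      vqy112))))))))));
      (let vqy113 : type_of% vqy97 := (let vqy114 : type_of% vqy97 := (let vqy115 : type_of% vqy97 := (let vqy116 : type_of% vqy97 := (vqc0 (vqc0 (vqc1 1 9) (vqc0 (vqc1 9 6) (vqc0 (vqc1 6 10) (vqc0 (vqc1 3 7) (vqc0 (vqc1 7 4) (vqc0 (vqc1 4 8) vqc2))))))
      (vqc0 (vqc0 (vqc1 1 8) (vqc0 (vqc1 8 5) (vqc0 (vqc1 5 9) (vqc0 (vqc1 2 4) (vqc0 (vqc1 4 10) (vqc0 (vqc1 10 6) vqc2)))))) (vqc0 (vqc0 (vqc1 1 9) (vqc0 (vqc1 9 3) (vqc0 (vqc1 3 8) (vqc0 (vqc1 2 7) (vqc0 (vqc1 7 4) (vqc0 (vqc1 4 5) vqc2))))))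
      (vqc0 (vqc0 (vqc1 0 5) (vqc0 (vqc1 2 6) (vqc0 (vqc1 4 9) (vqc0 (vqc1 8 10) vqc2)))) (vqc0 (vqc0 (vqc1 0 5) (vqc0 (vqc1 5 6) (vqc0 (vqc1 6 8) (vqc0 (vqc1 1 9) (vqc0 (vqc1 9 3) (vqc0 (vqc1 3 7) vqc2))))))
      (vqc0 (vqc0 (vqc1 0 9) (vqc0 (vqc1 9 1) (vqc0 (vqc1 1 4) (vqc0 (vqc1 2 5) (vqc0 (vqc1 5 10) (vqc0 (vqc1 10 3) vqc2)))))) (vqc0 (vqc0 (vqc1 1 9) (vqc0 (vqc1 9 8) (vqc0 (vqc1 2 4) (vqc0 (vqc1 4 3) (vqc0 (vqc1 6 7) (vqc0 (vqc1 7 10) vqc2))))))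
      vqy97)))))));
      (vqc0 (vqc0 (vqc1 0 2) (vqc0 (vqc1 2 6) (vqc0 (vqc1 6 9) (vqc0 (vqc1 3 5) (vqc0 (vqc1 5 10) (vqc0 (vqc1 10 4) vqc2)))))) (vqc0 (vqc0 (vqc1 0 5) (vqc0 (vqc1 5 9) (vqc0 (vqc1 9 1) (vqc0 (vqc1 2 3) (vqc0 (vqc1 3 7) (vqc0 (vqc1 7 4) vqc2))))))
      (vqc0 (vqc0 (vqc1 0 6) (vqc0 (vqc1 6 1) (vqc0 (vqc1 3 9) (vqc0 (vqc1 9 7) (vqc0 (vqc1 4 8) (vqc0 (vqc1 8 10) vqc2)))))) (vqc0 (vqc0 (vqc1 0 9) (vqc0 (vqc1 9 2) (vqc0 (vqc1 2 5) (vqc0 (vqc1 1 3) (vqc0 (vqc1 3 7) (vqc0 (vqc1 7 8) vqc2))))))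
      (vqc0 (vqc0 (vqc1 1 4) (vqc0 (vqc1 4 7) (vqc0 (vqc1 3 6) (vqc0 (vqc1 6 8) (vqc0 (vqc1 5 9) (vqc0 (vqc1 9 10) vqc2)))))) (vqc0 (vqc0 (vqc1 0 2) (vqc0 (vqc1 2 9) (vqc0 (vqc1 9 6) (vqc0 (vqc1 1 10) (vqc0 (vqc1 10 8) (vqc0 (vqc1 8 3) vqc2))))))
      (vqc0 (vqc0 (vqc1 0 10) (vqc0 (vqc1 10 9) (vqc0 (vqc1 9 5) (vqc0 (vqc1 1 3) (vqc0 (vqc1 3 6) (vqc0 (vqc1 6 7) vqc2)))))) vqy116))))))));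
      (let vqy117 : type_of% vqy115 := (vqc0 (vqc0 (vqc1 0 3) (vqc0 (vqc1 3 8) (vqc0 (vqc1 8 1) (vqc0 (vqc1 2 9) (vqc0 (vqc1 9 7) (vqc0 (vqc1 7 10) vqc2))))))
      (vqc0 (vqc0 (vqc1 2 10) (vqc0 (vqc1 10 5) (vqc0 (vqc1 5 3) (vqc0 (vqc1 4 7) (vqc0 (vqc1 7 9) (vqc0 (vqc1 9 8) vqc2)))))) (vqc0 (vqc0 (vqc1 0 2) (vqc0 (vqc1 1 8) (vqc0 (vqc1 4 5) (vqc0 (vqc1 6 9) vqc2))))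
      (vqc0 (vqc0 (vqc1 0 7) (vqc0 (vqc1 7 2) (vqc0 (vqc1 1 6) (vqc0 (vqc1 6 10) (vqc0 (vqc1 3 4) (vqc0 (vqc1 4 9) vqc2)))))) (vqc0 (vqc0 (vqc1 0 1) (vqc0 (vqc1 1 8) (vqc0 (vqc1 8 6) (vqc0 (vqc1 2 5) (vqc0 (vqc1 5 9) (vqc0 (vqc1 9 3) vqc2))))))
      (vqc0 (vqc0 (vqc1 0 2) (vqc0 (vqc1 2 4) (vqc0 (vqc1 4 9) (vqc0 (vqc1 1 7) (vqc0 (vqc1 7 10) (vqc0 (vqc1 10 3) vqc2)))))) (vqc0 (vqc0 (vqc1 0 8) (vqc0 (vqc1 8 10) (vqc0 (vqc1 10 3) (vqc0 (vqc1 1 2) (vqc0 (vqc1 2 9) (vqc0 (vqc1 9 4) vqc2))))))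
      vqy115)))))));
      (vqc0 (vqc0 (vqc1 0 4) (vqc0 (vqc1 4 9) (vqc0 (vqc1 9 8) (vqc0 (vqc1 1 6) (vqc0 (vqc1 6 7) (vqc0 (vqc1 7 3) vqc2)))))) (vqc0 (vqc0 (vqc1 0 5) (vqc0 (vqc1 1 6) (vqc0 (vqc1 3 8) (vqc0 (vqc1 4 7) vqc2))))
      (vqc0 (vqc0 (vqc1 3 10) (vqc0 (vqc1 10 9) (vqc0 (vqc1 9 8) (vqc0 (vqc1 4 6) (vqc0 (vqc1 6 7) (vqc0 (vqc1 7 5) vqc2)))))) (vqc0 (vqc0 (vqc1 1 3) (vqc0 (vqc1 3 5) (vqc0 (vqc1 5 9) (vqc0 (vqc1 2 7) (vqc0 (vqc1 7 6) (vqc0 (vqc1 6 8) vqc2))))))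
      (vqc0 (vqc0 (vqc1 0 8) (vqc0 (vqc1 8 10) (vqc0 (vqc1 10 1) (vqc0 (vqc1 3 7) (vqc0 (vqc1 7 9) (vqc0 (vqc1 9 5) vqc2)))))) (vqc0 (vqc0 (vqc1 2 5) (vqc0 (vqc1 5 3) (vqc0 (vqc1 3 8) (vqc0 (vqc1 4 10) (vqc0 (vqc1 10 6) (vqc0 (vqc1 6 7) vqc2))))))
      (vqc0 (vqc0 (vqc1 0 4) (vqc0 (vqc1 3 6) (vqc0 (vqc1 5 10) (vqc0 (vqc1 8 9) vqc2)))) vqy117)))))))));
      (let vqy118 : type_of% vqy114 := (let vqy119 : type_of% vqy114 := (vqc0 (vqc0 (vqc1 1 2) (vqc0 (vqc1 2 4) (vqc0 (vqc1 4 6) (vqc0 (vqc1 5 7) (vqc0 (vqc1 7 10) (vqc0 (vqc1 10 9) vqc2))))))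
      (vqc0 (vqc0 (vqc1 0 7) (vqc0 (vqc1 7 9) (vqc0 (vqc1 9 3) (vqc0 (vqc1 1 10) (vqc0 (vqc1 10 6) (vqc0 (vqc1 6 5) vqc2)))))) (vqc0 (vqc0 (vqc1 0 10) (vqc0 (vqc1 2 9) (vqc0 (vqc1 3 6) (vqc0 (vqc1 7 8) vqc2))))
      (vqc0 (vqc0 (vqc1 2 4) (vqc0 (vqc1 4 8) (vqc0 (vqc1 8 5) (vqc0 (vqc1 3 9) (vqc0 (vqc1 9 6) (vqc0 (vqc1 6 7) vqc2)))))) (vqc0 (vqc0 (vqc1 1 9) (vqc0 (vqc1 9 10) (vqc0 (vqc1 2 8) (vqc0 (vqc1 8 5) (vqc0 (vqc1 3 6) (vqc0 (vqc1 6 4) vqc2))))))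
      (vqc0 (vqc0 (vqc1 0 7) (vqc0 (vqc1 7 3) (vqc0 (vqc1 1 9) (vqc0 (vqc1 9 6) (vqc0 (vqc1 4 5) (vqc0 (vqc1 5 8) vqc2)))))) (vqc0 (vqc0 (vqc1 0 6) (vqc0 (vqc1 6 9) (vqc0 (vqc1 9 2) (vqc0 (vqc1 1 3) (vqc0 (vqc1 3 8) (vqc0 (vqc1 8 10) vqc2))))))
      vqy114)))))));
      (vqc0 (vqc0 (vqc1 0 8) (vqc0 (vqc1 8 9) (vqc0 (vqc1 9 1) (vqc0 (vqc1 2 10) (vqc0 (vqc1 10 6) (vqc0 (vqc1 6 3) vqc2)))))) (vqc0 (vqc0 (vqc1 1 6) (vqc0 (vqc1 6 2) (vqc0 (vqc1 2 3) (vqc0 (vqc1 5 8) (vqc0 (vqc1 8 9) (vqc0 (vqc1 9 10) vqc2))))))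
      (vqc0 (vqc0 (vqc1 1 10) (vqc0 (vqc1 10 7) (vqc0 (vqc1 7 9) (vqc0 (vqc1 2 4) (vqc0 (vqc1 4 3) (vqc0 (vqc1 3 5) vqc2)))))) (vqc0 (vqc0 (vqc1 0 6) (vqc0 (vqc1 6 7) (vqc0 (vqc1 7 3) (vqc0 (vqc1 1 5) (vqc0 (vqc1 5 9) (vqc0 (vqc1 9 2) vqc2))))))
      (vqc0 (vqc0 (vqc1 0 7) (vqc0 (vqc1 7 1) (vqc0 (vqc1 1 3) (vqc0 (vqc1 2 9) (vqc0 (vqc1 9 8) (vqc0 (vqc1 8 6) vqc2)))))) (vqc0 (vqc0 (vqc1 0 8) (vqc0 (vqc1 2 10) (vqc0 (vqc1 5 6) (vqc0 (vqc1 7 9) vqc2))))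
      (vqc0 (vqc0 (vqc1 1 9) (vqc0 (vqc1 9 3) (vqc0 (vqc1 3 2) (vqc0 (vqc1 5 7) (vqc0 (vqc1 7 6) (vqc0 (vqc1 6 10) vqc2)))))) vqy119))))))));
      (let vqy120 : type_of% vqy118 := (vqc0 (vqc0 (vqc1 0 5) (vqc0 (vqc1 5 3) (vqc0 (vqc1 3 9) (vqc0 (vqc1 1 10) (vqc0 (vqc1 10 4) (vqc0 (vqc1 4 7) vqc2))))))
      (vqc0 (vqc0 (vqc1 1 10) (vqc0 (vqc1 2 6) (vqc0 (vqc1 3 8) (vqc0 (vqc1 4 5) vqc2)))) (vqc0 (vqc0 (vqc1 1 7) (vqc0 (vqc1 7 2) (vqc0 (vqc1 2 4) (vqc0 (vqc1 3 6) (vqc0 (vqc1 6 5) (vqc0 (vqc1 5 9) vqc2))))))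
      (vqc0 (vqc0 (vqc1 1 3) (vqc0 (vqc1 3 10) (vqc0 (vqc1 10 2) (vqc0 (vqc1 6 7) (vqc0 (vqc1 7 8) (vqc0 (vqc1 8 9) vqc2)))))) (vqc0 (vqc0 (vqc1 1 3) (vqc0 (vqc1 3 6) (vqc0 (vqc1 2 9) (vqc0 (vqc1 9 5) (vqc0 (vqc1 4 7) (vqc0 (vqc1 7 8) vqc2))))))
      (vqc0 (vqc0 (vqc1 0 7) (vqc0 (vqc1 7 4) (vqc0 (vqc1 4 2) (vqc0 (vqc1 3 8) (vqc0 (vqc1 8 9) (vqc0 (vqc1 9 6) vqc2)))))) (vqc0 (vqc0 (vqc1 1 7) (vqc0 (vqc1 7 9) (vqc0 (vqc1 9 3) (vqc0 (vqc1 2 5) (vqc0 (vqc1 5 10) (vqc0 (vqc1 10 8) vqc2))))))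
      vqy118)))))));
      (vqc0 (vqc0 (vqc1 0 3) (vqc0 (vqc1 3 7) (vqc0 (vqc1 7 2) (vqc0 (vqc1 1 9) (vqc0 (vqc1 9 8) (vqc0 (vqc1 8 4) vqc2))))))
      (vqc0 (vqc0 (vqc1 2 10) (vqc0 (vqc1 10 6) (vqc0 (vqc1 6 4) (vqc0 (vqc1 3 9) (vqc0 (vqc1 9 7) (vqc0 (vqc1 7 8) vqc2)))))) (vqc0 (vqc0 (vqc1 0 3) (vqc0 (vqc1 3 4) (vqc0 (vqc1 4 9) (vqc0 (vqc1 2 8) (vqc0 (vqc1 8 7) (vqc0 (vqc1 7 6) vqc2))))))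
      (vqc0 (vqc0 (vqc1 0 9) (vqc0 (vqc1 9 4) (vqc0 (vqc1 4 5) (vqc0 (vqc1 1 2) (vqc0 (vqc1 2 3) (vqc0 (vqc1 3 6) vqc2)))))) (vqc0 (vqc0 (vqc1 1 10) (vqc0 (vqc1 10 8) (vqc0 (vqc1 8 5) (vqc0 (vqc1 2 3) (vqc0 (vqc1 3 9) (vqc0 (vqc1 9 4) vqc2))))))
      (vqc0 (vqc0 (vqc1 1 5) (vqc0 (vqc1 5 2) (vqc0 (vqc1 2 6) (vqc0 (vqc1 4 8) (vqc0 (vqc1 8 10) (vqc0 (vqc1 10 7) vqc2)))))) vqy120)))))))));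
      (let vqy121 : type_of% vqy113 := (let vqy122 : type_of% vqy113 := (let vqy123 : type_of% vqy113 := (vqc0 (vqc0 (vqc1 1 3) (vqc0 (vqc1 3 10) (vqc0 (vqc1 2 7) (vqc0 (vqc1 7 9) (vqc0 (vqc1 4 8) (vqc0 (vqc1 8 5) vqc2)))))) (vqc0 (vqc0 (vqc1 0 9) (vqc0 (vqc1 9 1) (vqc0 (vqc1 2 8) (vqc0 (vqc1 8 6) (vqc0 (vqc1 3 5) (vqc0 (vqc1 5 4) vqc2))))))
      (vqc0 (vqc0 (vqc1 1 3) (vqc0 (vqc1 3 8) (vqc0 (vqc1 2 10) (vqc0 (vqc1 10 6) (vqc0 (vqc1 5 7) (vqc0 (vqc1 7 9) vqc2)))))) (vqc0 (vqc0 (vqc1 1 3) (vqc0 (vqc1 3 5) (vqc0 (vqc1 5 7) (vqc0 (vqc1 2 6) (vqc0 (vqc1 6 4) (vqc0 (vqc1 4 10) vqc2))))))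
      (vqc0 (vqc0 (vqc1 0 9) (vqc0 (vqc1 9 5) (vqc0 (vqc1 5 1) (vqc0 (vqc1 3 10) (vqc0 (vqc1 10 4) (vqc0 (vqc1 4 6) vqc2)))))) (vqc0 (vqc0 (vqc1 0 10) (vqc0 (vqc1 10 6) (vqc0 (vqc1 1 5) (vqc0 (vqc1 5 9) (vqc0 (vqc1 3 7) (vqc0 (vqc1 7 8) vqc2))))))
      (vqc0 (vqc0 (vqc1 0 1) (vqc0 (vqc1 1 3) (vqc0 (vqc1 2 5) (vqc0 (vqc1 5 10) (vqc0 (vqc1 6 9) (vqc0 (vqc1 9 7) vqc2)))))) vqy113)))))));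
      (vqc0 (vqc0 (vqc1 0 7) (vqc0 (vqc1 7 10) (vqc0 (vqc1 10 9) (vqc0 (vqc1 3 4) (vqc0 (vqc1 4 5) (vqc0 (vqc1 5 6) vqc2))))))
      (vqc0 (vqc0 (vqc1 0 6) (vqc0 (vqc1 6 8) (vqc0 (vqc1 1 2) (vqc0 (vqc1 2 9) (vqc0 (vqc1 3 10) (vqc0 (vqc1 10 7) vqc2)))))) (vqc0 (vqc0 (vqc1 1 7) (vqc0 (vqc1 7 9) (vqc0 (vqc1 9 10) (vqc0 (vqc1 4 6) (vqc0 (vqc1 6 5) (vqc0 (vqc1 5 8) vqc2))))))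
      (vqc0 (vqc0 (vqc1 0 8) (vqc0 (vqc1 8 3) (vqc0 (vqc1 3 10) (vqc0 (vqc1 1 6) (vqc0 (vqc1 6 9) (vqc0 (vqc1 9 7) vqc2)))))) (vqc0 (vqc0 (vqc1 0 10) (vqc0 (vqc1 1 5) (vqc0 (vqc1 2 3) (vqc0 (vqc1 6 9) vqc2))))
      (vqc0 (vqc0 (vqc1 0 3) (vqc0 (vqc1 3 1) (vqc0 (vqc1 1 7) (vqc0 (vqc1 2 6) (vqc0 (vqc1 6 8) (vqc0 (vqc1 8 9) vqc2)))))) (vqc0 (vqc0 (vqc1 1 9) (vqc0 (vqc1 9 4) (vqc0 (vqc1 2 8) (vqc0 (vqc1 8 3) (vqc0 (vqc1 5 10) (vqc0 (vqc1 10 7) vqc2))))))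
      vqy123))))))));
      (let vqy124 : type_of% vqy122 := (vqc0 (vqc0 (vqc1 1 7) (vqc0 (vqc1 7 3) (vqc0 (vqc1 3 5) (vqc0 (vqc1 2 8) (vqc0 (vqc1 8 4) (vqc0 (vqc1 4 9) vqc2)))))) (vqc0 (vqc0 (vqc1 1 10) (vqc0 (vqc1 10 7) (vqc0 (vqc1 7 6) (vqc0 (vqc1 3 9) (vqc0 (vqc1 9 5) (vqc0 (vqc1 5 8) vqc2))))))
      (vqc0 (vqc0 (vqc1 1 7) (vqc0 (vqc1 7 6) (vqc0 (vqc1 2 9) (vqc0 (vqc1 9 4) (vqc0 (vqc1 3 5) (vqc0 (vqc1 5 10) vqc2)))))) (vqc0 (vqc0 (vqc1 0 4) (vqc0 (vqc1 4 3) (vqc0 (vqc1 3 7) (vqc0 (vqc1 2 8) (vqc0 (vqc1 8 9) (vqc0 (vqc1 9 5) vqc2))))))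
      (vqc0 (vqc0 (vqc1 0 3) (vqc0 (vqc1 2 9) (vqc0 (vqc1 4 7) (vqc0 (vqc1 5 8) vqc2)))) (vqc0 (vqc0 (vqc1 0 8) (vqc0 (vqc1 8 6) (vqc0 (vqc1 6 9) (vqc0 (vqc1 1 4) (vqc0 (vqc1 4 2) (vqc0 (vqc1 2 3) vqc2))))))
      (vqc0 (vqc0 (vqc1 0 3) (vqc0 (vqc1 1 8) (vqc0 (vqc1 2 7) (vqc0 (vqc1 5 6) vqc2)))) vqy122)))))));
      (vqc0 (vqc0 (vqc1 0 7) (vqc0 (vqc1 7 3) (vqc0 (vqc1 3 9) (vqc0 (vqc1 1 2) (vqc0 (vqc1 2 6) (vqc0 (vqc1 6 4) vqc2))))))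
      (vqc0 (vqc0 (vqc1 1 4) (vqc0 (vqc1 4 10) (vqc0 (vqc1 10 5) (vqc0 (vqc1 2 8) (vqc0 (vqc1 8 6) (vqc0 (vqc1 6 3) vqc2)))))) (vqc0 (vqc0 (vqc1 1 10) (vqc0 (vqc1 10 4) (vqc0 (vqc1 2 8) (vqc0 (vqc1 8 7) (vqc0 (vqc1 3 9) (vqc0 (vqc1 9 6) vqc2))))))
      (vqc0 (vqc0 (vqc1 2 4) (vqc0 (vqc1 4 6) (vqc0 (vqc1 6 10) (vqc0 (vqc1 3 8) (vqc0 (vqc1 8 7) (vqc0 (vqc1 7 9) vqc2)))))) (vqc0 (vqc0 (vqc1 1 3) (vqc0 (vqc1 3 2) (vqc0 (vqc1 2 6) (vqc0 (vqc1 5 10) (vqc0 (vqc1 10 9) (vqc0 (vqc1 9 8) vqc2))))))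
      (vqc0 (vqc0 (vqc1 1 3) (vqc0 (vqc1 3 8) (vqc0 (vqc1 8 4) (vqc0 (vqc1 2 5) (vqc0 (vqc1 5 9) (vqc0 (vqc1 9 10) vqc2)))))) (vqc0 (vqc0 (vqc1 2 6) (vqc0 (vqc1 3 7) (vqc0 (vqc1 4 10) (vqc0 (vqc1 8 9) vqc2))))
      vqy124)))))))));
      (let vqy125 : type_of% vqy121 := (let vqy126 : type_of% vqy121 := (vqc0 (vqc0 (vqc1 0 3) (vqc0 (vqc1 3 8) (vqc0 (vqc1 1 2) (vqc0 (vqc1 2 7) (vqc0 (vqc1 4 6) (vqc0 (vqc1 6 9) vqc2)))))) (vqc0 (vqc0 (vqc1 1 5) (vqc0 (vqc1 5 10) (vqc0 (vqc1 10 7) (vqc0 (vqc1 3 4) (vqc0 (vqc1 4 6) (vqc0 (vqc1 6 9) vqc2))))))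
      (vqc0 (vqc0 (vqc1 0 8) (vqc0 (vqc1 8 10) (vqc0 (vqc1 3 6) (vqc0 (vqc1 6 7) (vqc0 (vqc1 4 5) (vqc0 (vqc1 5 9) vqc2)))))) (vqc0 (vqc0 (vqc1 1 8) (vqc0 (vqc1 8 7) (vqc0 (vqc1 7 9) (vqc0 (vqc1 3 10) (vqc0 (vqc1 10 5) (vqc0 (vqc1 5 6) vqc2))))))
      (vqc0 (vqc0 (vqc1 0 2) (vqc0 (vqc1 2 3) (vqc0 (vqc1 1 7) (vqc0 (vqc1 7 8) (vqc0 (vqc1 6 9) (vqc0 (vqc1 9 10) vqc2)))))) (vqc0 (vqc0 (vqc1 1 5) (vqc0 (vqc1 5 9) (vqc0 (vqc1 9 8) (vqc0 (vqc1 2 3) (vqc0 (vqc1 3 10) (vqc0 (vqc1 10 7) vqc2))))))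
      (vqc0 (vqc0 (vqc1 2 6) (vqc0 (vqc1 6 9) (vqc0 (vqc1 9 10) (vqc0 (vqc1 4 7) (vqc0 (vqc1 7 8) (vqc0 (vqc1 8 5) vqc2)))))) vqy121)))))));
      (vqc0 (vqc0 (vqc1 0 5) (vqc0 (vqc1 1 7) (vqc0 (vqc1 2 9) (vqc0 (vqc1 4 6) vqc2))))
      (vqc0 (vqc0 (vqc1 2 7) (vqc0 (vqc1 7 10) (vqc0 (vqc1 10 6) (vqc0 (vqc1 3 5) (vqc0 (vqc1 5 4) (vqc0 (vqc1 4 9) vqc2)))))) (vqc0 (vqc0 (vqc1 1 3) (vqc0 (vqc1 3 7) (vqc0 (vqc1 2 10) (vqc0 (vqc1 10 9) (vqc0 (vqc1 4 6) (vqc0 (vqc1 6 8) vqc2))))))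
      (vqc0 (vqc0 (vqc1 0 2) (vqc0 (vqc1 2 10) (vqc0 (vqc1 1 5) (vqc0 (vqc1 5 3) (vqc0 (vqc1 7 8) (vqc0 (vqc1 8 9) vqc2)))))) (vqc0 (vqc0 (vqc1 0 6) (vqc0 (vqc1 2 5) (vqc0 (vqc1 3 7) (vqc0 (vqc1 8 10) vqc2))))
      (vqc0 (vqc0 (vqc1 0 3) (vqc0 (vqc1 3 6) (vqc0 (vqc1 6 8) (vqc0 (vqc1 4 10) (vqc0 (vqc1 10 9) (vqc0 (vqc1 9 7) vqc2)))))) (vqc0 (vqc0 (vqc1 1 8) (vqc0 (vqc1 8 9) (vqc0 (vqc1 2 3) (vqc0 (vqc1 3 4) (vqc0 (vqc1 6 10) (vqc0 (vqc1 10 7) vqc2))))))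
      vqy126))))))));
      (let vqy127 : type_of% vqy125 := (vqc0 (vqc0 (vqc1 2 10) (vqc0 (vqc1 3 4) (vqc0 (vqc1 5 9) (vqc0 (vqc1 6 7) vqc2)))) (vqc0 (vqc0 (vqc1 0 9) (vqc0 (vqc1 9 1) (vqc0 (vqc1 1 10) (vqc0 (vqc1 3 6) (vqc0 (vqc1 6 8) (vqc0 (vqc1 8 5) vqc2))))))
      (vqc0 (vqc0 (vqc1 0 1) (vqc0 (vqc1 1 4) (vqc0 (vqc1 4 3) (vqc0 (vqc1 2 9) (vqc0 (vqc1 9 6) (vqc0 (vqc1 6 5) vqc2)))))) (vqc0 (vqc0 (vqc1 1 4) (vqc0 (vqc1 4 9) (vqc0 (vqc1 9 8) (vqc0 (vqc1 2 5) (vqc0 (vqc1 5 3) (vqc0 (vqc1 3 6) vqc2))))))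
      (vqc0 (vqc0 (vqc1 3 5) (vqc0 (vqc1 5 9) (vqc0 (vqc1 9 6) (vqc0 (vqc1 4 10) (vqc0 (vqc1 10 7) (vqc0 (vqc1 7 8) vqc2)))))) (vqc0 (vqc0 (vqc1 0 1) (vqc0 (vqc1 1 8) (vqc0 (vqc1 8 9) (vqc0 (vqc1 2 4) (vqc0 (vqc1 4 6) (vqc0 (vqc1 6 7) vqc2))))))
      (vqc0 (vqc0 (vqc1 0 1) (vqc0 (vqc1 1 6) (vqc0 (vqc1 3 7) (vqc0 (vqc1 7 9) (vqc0 (vqc1 4 10) (vqc0 (vqc1 10 8) vqc2)))))) vqy125)))))));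
      (vqc0 vqc2 (vqc0 (vqc0 (vqc1 0 3) (vqc0 (vqc1 3 4) (vqc0 (vqc1 4 6) (vqc0 (vqc1 5 9) (vqc0 (vqc1 9 10) (vqc0 (vqc1 10 8) vqc2))))))
      (vqc0 (vqc0 (vqc1 2 6) (vqc0 (vqc1 6 10) (vqc0 (vqc1 10 7) (vqc0 (vqc1 3 9) (vqc0 (vqc1 9 4) (vqc0 (vqc1 4 5) vqc2)))))) (vqc0 (vqc0 (vqc1 0 9) (vqc0 (vqc1 2 8) (vqc0 (vqc1 3 5) (vqc0 (vqc1 7 10) vqc2))))
      (vqc0 (vqc0 (vqc1 0 7) (vqc0 (vqc1 3 10) (vqc0 (vqc1 5 9) (vqc0 (vqc1 6 8) vqc2)))) (vqc0 (vqc0 (vqc1 0 8) (vqc0 (vqc1 8 1) (vqc0 (vqc1 3 5) (vqc0 (vqc1 5 6) (vqc0 (vqc1 4 9) (vqc0 (vqc1 9 7) vqc2))))))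
      vqy127))))))))))))))
  tab := (beta% delta% lq2627b84c0cbb fun vqc0 vqc1 vqc2 _ vqc4 =>
      (vqc0 (let vqy1 : type_of% (vqc4 _) := (let vqy2 : type_of% (vqc4 _) := (let vqy3 : type_of% (vqc4 _) := (let vqy4 : type_of% (vqc4 _) := (let vqy5 : type_of% (vqc4 _) := (let vqy6 : type_of% (vqc4 _) := (let vqy7 : type_of% (vqc4 _) := (vqc0 (vqc1 553 8) (vqc0 (vqc1 861 2) (vqc0 (vqc1 507 7)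
      (vqc0 (vqc1 300 2) (vqc0 (vqc1 498 5) (vqc0 (vqc1 342 0) (vqc0 (vqc1 172 3) vqc2)))))));
      (vqc0 (vqc1 514 2) (vqc0 (vqc1 857 7) (vqc0 (vqc1 186 7) (vqc0 (vqc1 524 6) (vqc0 (vqc1 879 2) (vqc0 (vqc1 838 5) (vqc0 (vqc1 520 2) vqy7))))))));
      (let vqy8 : type_of% vqy6 := (vqc0 (vqc1 193 8) (vqc0 (vqc1 495 8) (vqc0 (vqc1 487 6) (vqc0 (vqc1 844 5) (vqc0 (vqc1 848 7)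
      (vqc0 (vqc1 491 3) (vqc0 (vqc1 289 8) vqy6)))))));
      (vqc0 (vqc1 761 2) (vqc0 (vqc1 707 2) (vqc0 (vqc1 835 2) (vqc0 (vqc1 719 0) (vqc0 (vqc1 203 7) (vqc0 (vqc1 834 3) (vqc0 (vqc1 860 3) vqy8)))))))));
      (let vqy9 : type_of% vqy5 := (let vqy10 : type_of% vqy5 := (vqc0 (vqc1 841 7) (vqc0 (vqc1 840 2) (vqc0 (vqc1 878 1) (vqc0 (vqc1 850 6) (vqc0 (vqc1 750 7) (vqc0 (vqc1 851 8) (vqc0 (vqc1 194 7)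
      vqy5)))))));
      (vqc0 (vqc1 303 3) (vqc0 (vqc1 859 3)
      (vqc0 (vqc1 323 2) (vqc0 (vqc1 199 3) (vqc0 (vqc1 490 2) (vqc0 (vqc1 832 8) (vqc0 (vqc1 847 0) vqy10))))))));
      (let vqy11 : type_of% vqy9 := (vqc0 (vqc1 745 4) (vqc0 (vqc1 190 2) (vqc0 (vqc1 877 7) (vqc0 (vqc1 757 0) (vqc0 (vqc1 741 7) (vqc0 (vqc1 341 0) (vqc0 (vqc1 858 7) vqy9)))))));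
      (vqc0 (vqc1 493 7) (vqc0 (vqc1 691 6) (vqc0 (vqc1 685 6)
      (vqc0 (vqc1 876 2) (vqc0 (vqc1 501 3) (vqc0 (vqc1 836 6) vqy11)))))))));
      (let vqy12 : type_of% vqy4 := (let vqy13 : type_of% vqy4 := (let vqy14 : type_of% vqy4 := (vqc0 (vqc1 875 6) (vqc0 (vqc1 717 3) (vqc0 (vqc1 299 7) (vqc0 (vqc1 517 3) (vqc0 (vqc1 845 3) (vqc0 (vqc1 530 7) (vqc0 (vqc1 293 3) vqy4)))))));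
      (vqc0 (vqc1 854 8) (vqc0 (vqc1 853 2) (vqc0 (vqc1 874 7) (vqc0 (vqc1 561 2) (vqc0 (vqc1 758 4)
      (vqc0 (vqc1 721 0) (vqc0 (vqc1 327 7) vqy14))))))));
      (let vqy15 : type_of% vqy13 := (vqc0 (vqc1 329 8) (vqc0 (vqc1 686 1) (vqc0 (vqc1 873 5) (vqc0 (vqc1 737 5) (vqc0 (vqc1 314 0) (vqc0 (vqc1 697 1) (vqc0 (vqc1 527 8) vqy13)))))));
      (vqc0 (vqc1 730 1) (vqc0 (vqc1 726 3) (vqc0 (vqc1 849 2) (vqc0 (vqc1 839 7) (vqc0 (vqc1 523 3) (vqc0 (vqc1 852 2) (vqc0 (vqc1 722 2)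
      vqy15)))))))));
      (let vqy16 : type_of% vqy12 := (let vqy17 : type_of% vqy12 := (vqc0 (vqc1 869 5) (vqc0 (vqc1 167 7)
      (vqc0 (vqc1 870 5) (vqc0 (vqc1 871 0) (vqc0 (vqc1 872 2) (vqc0 (vqc1 833 2) (vqc0 (vqc1 699 2) vqy12)))))));
      (vqc0 (vqc1 690 1) (vqc0 (vqc1 868 0) (vqc0 (vqc1 554 2) (vqc0 (vqc1 87 3) (vqc0 (vqc1 545 1) (vqc0 (vqc1 731 2) (vqc0 (vqc1 522 1) vqy17))))))));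
      (let vqy18 : type_of% vqy16 := (vqc0 (vqc1 346 3) (vqc0 (vqc1 842 2) (vqc0 (vqc1 702 7) (vqc0 (vqc1 843 8)
      (vqc0 (vqc1 720 3) (vqc0 (vqc1 687 7) (vqc0 (vqc1 856 4) vqy16)))))));
      (vqc0 (vqc1 846 5) (vqc0 (vqc1 864 5) (vqc0 (vqc1 837 1) (vqc0 (vqc1 865 4) (vqc0 (vqc1 866 7) (vqc0 (vqc1 867 3) vqy18))))))))));
      (let vqy19 : type_of% vqy3 := (let vqy20 : type_of% vqy3 := (let vqy21 : type_of% vqy3 := (let vqy22 : type_of% vqy3 := (vqc0 (vqc1 713 0) (vqc0 (vqc1 740 6) (vqc0 (vqc1 352 4) (vqc0 (vqc1 862 1) (vqc0 (vqc1 483 2)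
      (vqc0 (vqc1 855 7) (vqc0 (vqc1 863 2) vqy3)))))));
      (vqc0 (vqc1 546 5) (vqc0 (vqc1 482 3) (vqc0 (vqc1 311 1) (vqc0 (vqc1 500 2) (vqc0 (vqc1 742 2) (vqc0 (vqc1 743 3) (vqc0 (vqc1 176 2) vqy22))))))));
      (let vqy23 : type_of% vqy21 := (vqc0 (vqc1 336 0) (vqc0 (vqc1 831 7) (vqc0 (vqc1 45 0) (vqc0 (vqc1 715 4) (vqc0 (vqc1 103 1) (vqc0 (vqc1 105 6) (vqc0 (vqc1 736 4)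
      vqy21)))))));
      (vqc0 (vqc1 828 1) (vqc0 (vqc1 544 2)
      (vqc0 (vqc1 829 2) (vqc0 (vqc1 830 1) (vqc0 (vqc1 752 0) (vqc0 (vqc1 725 8) (vqc0 (vqc1 497 2) vqy23)))))))));
      (let vqy24 : type_of% vqy20 := (let vqy25 : type_of% vqy20 := (vqc0 (vqc1 332 5) (vqc0 (vqc1 825 8) (vqc0 (vqc1 548 7) (vqc0 (vqc1 826 8) (vqc0 (vqc1 827 5) (vqc0 (vqc1 505 3) (vqc0 (vqc1 484 4) vqy20)))))));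
      (vqc0 (vqc1 695 5) (vqc0 (vqc1 822 4) (vqc0 (vqc1 540 4) (vqc0 (vqc1 823 3)
      (vqc0 (vqc1 824 3) (vqc0 (vqc1 47 3) (vqc0 (vqc1 688 2) vqy25))))))));
      (let vqy26 : type_of% vqy24 := (vqc0 (vqc1 528 8) (vqc0 (vqc1 735 7) (vqc0 (vqc1 818 2) (vqc0 (vqc1 819 4) (vqc0 (vqc1 820 2) (vqc0 (vqc1 723 2) (vqc0 (vqc1 821 5) vqy24)))))));
      (vqc0 (vqc1 492 7) (vqc0 (vqc1 188 0) (vqc0 (vqc1 700 7) (vqc0 (vqc1 817 3) (vqc0 (vqc1 738 0)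
      (vqc0 (vqc1 340 5) vqy26)))))))));
      (let vqy27 : type_of% vqy19 := (let vqy28 : type_of% vqy19 := (let vqy29 : type_of% vqy19 := (vqc0 (vqc1 104 2) (vqc0 (vqc1 756 4) (vqc0 (vqc1 309 3) (vqc0 (vqc1 815 7) (vqc0 (vqc1 716 5) (vqc0 (vqc1 816 6) (vqc0 (vqc1 559 6) vqy19)))))));
      (vqc0 (vqc1 189 3) (vqc0 (vqc1 23 3) (vqc0 (vqc1 747 5) (vqc0 (vqc1 294 2) (vqc0 (vqc1 508 2) (vqc0 (vqc1 712 3) (vqc0 (vqc1 306 7)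
      vqy29))))))));
      (let vqy30 : type_of% vqy28 := (vqc0 (vqc1 509 0) (vqc0 (vqc1 744 4)
      (vqc0 (vqc1 812 8) (vqc0 (vqc1 813 2) (vqc0 (vqc1 555 1) (vqc0 (vqc1 814 5) (vqc0 (vqc1 703 3) vqy28)))))));
      (vqc0 (vqc1 532 2) (vqc0 (vqc1 533 7) (vqc0 (vqc1 170 3) (vqc0 (vqc1 46 5) (vqc0 (vqc1 97 8) (vqc0 (vqc1 49 6) (vqc0 (vqc1 549 5) vqy30)))))))));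
      (let vqy31 : type_of% vqy27 := (let vqy32 : type_of% vqy27 := (vqc0 (vqc1 809 4) (vqc0 (vqc1 206 2) (vqc0 (vqc1 701 5) (vqc0 (vqc1 810 6)
      (vqc0 (vqc1 811 4) (vqc0 (vqc1 706 2) (vqc0 (vqc1 192 3) vqy27)))))));
      (vqc0 (vqc1 165 8) (vqc0 (vqc1 494 6) (vqc0 (vqc1 698 2) (vqc0 (vqc1 179 2) (vqc0 (vqc1 808 8) (vqc0 (vqc1 541 2) (vqc0 (vqc1 714 2) vqy32))))))));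
      (let vqy33 : type_of% vqy31 := (vqc0 (vqc1 696 5) (vqc0 (vqc1 684 7) (vqc0 (vqc1 710 3) (vqc0 (vqc1 805 8) (vqc0 (vqc1 806 8) (vqc0 (vqc1 51 7)
      (vqc0 (vqc1 807 8) vqy31)))))));
      (vqc0 (vqc1 542 2) (vqc0 (vqc1 802 3) (vqc0 (vqc1 307 4) (vqc0 (vqc1 692 0) (vqc0 (vqc1 803 7) (vqc0 (vqc1 804 5) vqy33)))))))))));
      (let vqy34 : type_of% vqy2 := (let vqy35 : type_of% vqy2 := (let vqy36 : type_of% vqy2 := (let vqy37 : type_of% vqy2 := (let vqy38 : type_of% vqy2 := (vqc0 (vqc1 106 2) (vqc0 (vqc1 800 3) (vqc0 (vqc1 325 3) (vqc0 (vqc1 693 5) (vqc0 (vqc1 801 6) (vqc0 (vqc1 547 2) (vqc0 (vqc1 753 1)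
      vqy2)))))));
      (vqc0 (vqc1 728 8) (vqc0 (vqc1 795 8)
      (vqc0 (vqc1 24 6) (vqc0 (vqc1 796 3) (vqc0 (vqc1 797 1) (vqc0 (vqc1 798 3) (vqc0 (vqc1 799 2) vqy38))))))));
      (let vqy39 : type_of% vqy37 := (vqc0 (vqc1 759 2) (vqc0 (vqc1 310 6) (vqc0 (vqc1 792 8) (vqc0 (vqc1 793 3) (vqc0 (vqc1 794 3) (vqc0 (vqc1 296 7) (vqc0 (vqc1 751 7) vqy37)))))));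
      (vqc0 (vqc1 519 8) (vqc0 (vqc1 506 2) (vqc0 (vqc1 791 2) (vqc0 (vqc1 694 6)
      (vqc0 (vqc1 355 2) (vqc0 (vqc1 734 8) (vqc0 (vqc1 349 8) vqy39)))))))));
      (let vqy40 : type_of% vqy36 := (let vqy41 : type_of% vqy36 := (vqc0 (vqc1 174 6) (vqc0 (vqc1 788 2) (vqc0 (vqc1 525 7) (vqc0 (vqc1 760 3) (vqc0 (vqc1 789 8) (vqc0 (vqc1 790 8) (vqc0 (vqc1 711 2) vqy36)))))));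
      (vqc0 (vqc1 489 0) (vqc0 (vqc1 783 1) (vqc0 (vqc1 784 2) (vqc0 (vqc1 785 4) (vqc0 (vqc1 786 2) (vqc0 (vqc1 787 8)
      (vqc0 (vqc1 350 4) vqy41))))))));
      (let vqy42 : type_of% vqy40 := (vqc0 (vqc1 539 5)
      (vqc0 (vqc1 781 2) (vqc0 (vqc1 291 1) (vqc0 (vqc1 782 1) (vqc0 (vqc1 518 6) (vqc0 (vqc1 705 3) (vqc0 (vqc1 5 6) vqy40)))))));
      (vqc0 (vqc1 779 6) (vqc0 (vqc1 531 7) (vqc0 (vqc1 724 4) (vqc0 (vqc1 749 2) (vqc0 (vqc1 780 1) (vqc0 (vqc1 746 3) vqy42)))))))));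
      (let vqy43 : type_of% vqy35 := (let vqy44 : type_of% vqy35 := (let vqy45 : type_of% vqy35 := (vqc0 (vqc1 775 7) (vqc0 (vqc1 776 5)
      (vqc0 (vqc1 777 8) (vqc0 (vqc1 729 1) (vqc0 (vqc1 709 7) (vqc0 (vqc1 778 7) (vqc0 (vqc1 562 2) vqy35)))))));
      (vqc0 (vqc1 755 4) (vqc0 (vqc1 773 2) (vqc0 (vqc1 538 6) (vqc0 (vqc1 704 6) (vqc0 (vqc1 718 4) (vqc0 (vqc1 175 7) (vqc0 (vqc1 774 7) vqy45))))))));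
      (let vqy46 : type_of% vqy44 := (vqc0 (vqc1 770 8) (vqc0 (vqc1 689 2) (vqc0 (vqc1 771 0) (vqc0 (vqc1 48 6)
      (vqc0 (vqc1 739 5) (vqc0 (vqc1 550 2) (vqc0 (vqc1 772 1) vqy44)))))));
      (vqc0 (vqc1 768 7) (vqc0 (vqc1 297 2) (vqc0 (vqc1 769 3) (vqc0 (vqc1 754 2) (vqc0 (vqc1 183 8) (vqc0 (vqc1 732 7) (vqc0 (vqc1 733 2) vqy46)))))))));
      (let vqy47 : type_of% vqy43 := (let vqy48 : type_of% vqy43 := (vqc0 (vqc1 765 0) (vqc0 (vqc1 766 8) (vqc0 (vqc1 767 5) (vqc0 (vqc1 502 8) (vqc0 (vqc1 102 7) (vqc0 (vqc1 748 3)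
      (vqc0 (vqc1 727 1) vqy43)))))));
      (vqc0 (vqc1 181 3)
      (vqc0 (vqc1 708 8) (vqc0 (vqc1 762 8) (vqc0 (vqc1 328 1) (vqc0 (vqc1 763 5) (vqc0 (vqc1 319 2) (vqc0 (vqc1 764 3) vqy48))))))));
      (let vqy49 : type_of% vqy47 := (vqc0 (vqc1 681 0) (vqc0 (vqc1 682 5) (vqc0 (vqc1 182 2) (vqc0 (vqc1 101 5) (vqc0 (vqc1 537 8) (vqc0 (vqc1 304 7) (vqc0 (vqc1 683 2) vqy47)))))));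
      (vqc0 (vqc1 324 6) (vqc0 (vqc1 679 5)
      (vqc0 (vqc1 198 5) (vqc0 (vqc1 320 5) (vqc0 (vqc1 516 4) (vqc0 (vqc1 680 4) vqy49))))))))));
      (let vqy50 : type_of% vqy34 := (let vqy51 : type_of% vqy34 := (let vqy52 : type_of% vqy34 := (let vqy53 : type_of% vqy34 := (vqc0 (vqc1 675 2) (vqc0 (vqc1 356 2) (vqc0 (vqc1 676 3) (vqc0 (vqc1 301 7) (vqc0 (vqc1 56 8) (vqc0 (vqc1 677 2) (vqc0 (vqc1 678 5) vqy34)))))));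
      (vqc0 (vqc1 670 1) (vqc0 (vqc1 671 2) (vqc0 (vqc1 330 2) (vqc0 (vqc1 672 6)
      (vqc0 (vqc1 673 3) (vqc0 (vqc1 486 8) (vqc0 (vqc1 674 2) vqy53))))))));
      (let vqy54 : type_of% vqy52 := (vqc0 (vqc1 663 2) (vqc0 (vqc1 664 2) (vqc0 (vqc1 665 3) (vqc0 (vqc1 666 6) (vqc0 (vqc1 667 5) (vqc0 (vqc1 668 7) (vqc0 (vqc1 669 2) vqy52)))))));
      (vqc0 (vqc1 659 0) (vqc0 (vqc1 660 2) (vqc0 (vqc1 302 5) (vqc0 (vqc1 661 2) (vqc0 (vqc1 338 2) (vqc0 (vqc1 662 5)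
      (vqc0 (vqc1 53 2) vqy54)))))))));
      (let vqy55 : type_of% vqy51 := (let vqy56 : type_of% vqy51 := (vqc0 (vqc1 168 0)
      (vqc0 (vqc1 536 2) (vqc0 (vqc1 655 3) (vqc0 (vqc1 315 8) (vqc0 (vqc1 656 6) (vqc0 (vqc1 657 7) (vqc0 (vqc1 658 3) vqy51)))))));
      (vqc0 (vqc1 347 5) (vqc0 (vqc1 651 7) (vqc0 (vqc1 55 8) (vqc0 (vqc1 652 3) (vqc0 (vqc1 331 0) (vqc0 (vqc1 653 1) (vqc0 (vqc1 654 5) vqy56))))))));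
      (let vqy57 : type_of% vqy55 := (vqc0 (vqc1 647 6) (vqc0 (vqc1 648 1) (vqc0 (vqc1 357 2)
      (vqc0 (vqc1 649 2) (vqc0 (vqc1 110 2) (vqc0 (vqc1 650 2) (vqc0 (vqc1 480 3) vqy55)))))));
      (vqc0 (vqc1 644 1) (vqc0 (vqc1 645 3) (vqc0 (vqc1 479 0) (vqc0 (vqc1 646 6) (vqc0 (vqc1 557 0) (vqc0 (vqc1 552 2) vqy57)))))))));
      (let vqy58 : type_of% vqy50 := (let vqy59 : type_of% vqy50 := (let vqy60 : type_of% vqy50 := (vqc0 (vqc1 639 3) (vqc0 (vqc1 640 5) (vqc0 (vqc1 316 0) (vqc0 (vqc1 641 2)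
      (vqc0 (vqc1 642 7) (vqc0 (vqc1 326 6) (vqc0 (vqc1 643 0) vqy50)))))));
      (vqc0 (vqc1 318 7) (vqc0 (vqc1 353 8) (vqc0 (vqc1 636 3) (vqc0 (vqc1 637 5) (vqc0 (vqc1 308 1) (vqc0 (vqc1 638 2) (vqc0 (vqc1 543 3) vqy60))))))));
      (let vqy61 : type_of% vqy59 := (vqc0 (vqc1 631 2) (vqc0 (vqc1 632 5) (vqc0 (vqc1 25 4) (vqc0 (vqc1 633 3) (vqc0 (vqc1 488 3) (vqc0 (vqc1 634 8)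
      (vqc0 (vqc1 635 2) vqy59)))))));
      (vqc0 (vqc1 627 6)
      (vqc0 (vqc1 628 3) (vqc0 (vqc1 629 5) (vqc0 (vqc1 512 8) (vqc0 (vqc1 630 5) (vqc0 (vqc1 511 3) (vqc0 (vqc1 2 3) vqy61)))))))));
      (let vqy62 : type_of% vqy58 := (let vqy63 : type_of% vqy58 := (vqc0 (vqc1 558 5) (vqc0 (vqc1 624 6) (vqc0 (vqc1 99 7) (vqc0 (vqc1 625 2) (vqc0 (vqc1 499 2) (vqc0 (vqc1 626 0) (vqc0 (vqc1 91 8) vqy58)))))));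
      (vqc0 (vqc1 184 2) (vqc0 (vqc1 621 1) (vqc0 (vqc1 317 4)
      (vqc0 (vqc1 622 3) (vqc0 (vqc1 526 2) (vqc0 (vqc1 623 5) (vqc0 (vqc1 96 2) vqy63))))))));
      (let vqy64 : type_of% vqy62 := (vqc0 (vqc1 615 8) (vqc0 (vqc1 616 2) (vqc0 (vqc1 617 4) (vqc0 (vqc1 618 3) (vqc0 (vqc1 313 1) (vqc0 (vqc1 619 2) (vqc0 (vqc1 620 8) vqy62)))))));
      (vqc0 (vqc1 163 1) (vqc0 (vqc1 611 5) (vqc0 (vqc1 612 3) (vqc0 (vqc1 613 4)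
      (vqc0 (vqc1 351 4) (vqc0 (vqc1 614 4) vqy64))))))))))));
      (let vqy65 : type_of% vqy1 := (let vqy66 : type_of% vqy1 := (let vqy67 : type_of% vqy1 := (let vqy68 : type_of% vqy1 := (let vqy69 : type_of% vqy1 := (let vqy70 : type_of% vqy1 := (vqc0 (vqc1 551 8) (vqc0 (vqc1 11 0) (vqc0 (vqc1 607 7) (vqc0 (vqc1 608 2) (vqc0 (vqc1 556 2) (vqc0 (vqc1 609 8) (vqc0 (vqc1 610 2) vqy1)))))));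
      (vqc0 (vqc1 602 8) (vqc0 (vqc1 603 7) (vqc0 (vqc1 604 2) (vqc0 (vqc1 348 7) (vqc0 (vqc1 292 2) (vqc0 (vqc1 605 5)
      (vqc0 (vqc1 606 2) vqy70))))))));
      (let vqy71 : type_of% vqy69 := (vqc0 (vqc1 503 1)
      (vqc0 (vqc1 202 2) (vqc0 (vqc1 600 1) (vqc0 (vqc1 560 8) (vqc0 (vqc1 601 1) (vqc0 (vqc1 534 1) (vqc0 (vqc1 345 7) vqy69)))))));
      (vqc0 (vqc1 593 2) (vqc0 (vqc1 594 2) (vqc0 (vqc1 595 5) (vqc0 (vqc1 596 8) (vqc0 (vqc1 597 2) (vqc0 (vqc1 598 1) (vqc0 (vqc1 599 7) vqy71)))))))));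
      (let vqy72 : type_of% vqy68 := (let vqy73 : type_of% vqy68 := (vqc0 (vqc1 529 0) (vqc0 (vqc1 589 3) (vqc0 (vqc1 590 0)
      (vqc0 (vqc1 591 2) (vqc0 (vqc1 592 8) (vqc0 (vqc1 54 3) (vqc0 (vqc1 521 2) vqy68)))))));
      (vqc0 (vqc1 584 5) (vqc0 (vqc1 162 0) (vqc0 (vqc1 585 0) (vqc0 (vqc1 586 5) (vqc0 (vqc1 535 8) (vqc0 (vqc1 587 7) (vqc0 (vqc1 588 3) vqy73))))))));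
      (let vqy74 : type_of% vqy72 := (vqc0 (vqc1 580 3) (vqc0 (vqc1 481 8) (vqc0 (vqc1 171 4) (vqc0 (vqc1 504 3) (vqc0 (vqc1 581 4)
      (vqc0 (vqc1 582 8) (vqc0 (vqc1 583 8) vqy72)))))));
      (vqc0 (vqc1 576 5) (vqc0 (vqc1 577 2) (vqc0 (vqc1 496 5) (vqc0 (vqc1 578 2) (vqc0 (vqc1 337 5) (vqc0 (vqc1 579 2) vqy74)))))))));
      (let vqy75 : type_of% vqy67 := (let vqy76 : type_of% vqy67 := (let vqy77 : type_of% vqy67 := (vqc0 (vqc1 571 4) (vqc0 (vqc1 94 5) (vqc0 (vqc1 572 8) (vqc0 (vqc1 573 5) (vqc0 (vqc1 510 0) (vqc0 (vqc1 574 3)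
      (vqc0 (vqc1 575 2) vqy67)))))));
      (vqc0 (vqc1 566 8)
      (vqc0 (vqc1 567 4) (vqc0 (vqc1 568 1) (vqc0 (vqc1 335 8) (vqc0 (vqc1 185 5) (vqc0 (vqc1 569 3) (vqc0 (vqc1 570 2) vqy77))))))));
      (let vqy78 : type_of% vqy76 := (vqc0 (vqc1 564 8) (vqc0 (vqc1 290 1) (vqc0 (vqc1 485 2) (vqc0 (vqc1 339 6) (vqc0 (vqc1 515 5) (vqc0 (vqc1 565 5) (vqc0 (vqc1 201 6) vqy76)))))));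
      (vqc0 (vqc1 478 8) (vqc0 (vqc1 90 3) (vqc0 (vqc1 343 3)
      (vqc0 (vqc1 312 3) (vqc0 (vqc1 513 2) (vqc0 (vqc1 26 3) (vqc0 (vqc1 563 7) vqy78)))))))));
      (let vqy79 : type_of% vqy75 := (let vqy80 : type_of% vqy75 := (vqc0 (vqc1 204 6) (vqc0 (vqc1 476 1) (vqc0 (vqc1 322 3) (vqc0 (vqc1 195 4) (vqc0 (vqc1 477 4) (vqc0 (vqc1 333 2) (vqc0 (vqc1 334 3) vqy75)))))));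
      (vqc0 (vqc1 473 8) (vqc0 (vqc1 27 1) (vqc0 (vqc1 28 3) (vqc0 (vqc1 29 3) (vqc0 (vqc1 474 7)
      (vqc0 (vqc1 166 7) (vqc0 (vqc1 475 4) vqy80))))))));
      (let vqy81 : type_of% vqy79 := (vqc0 (vqc1 468 5) (vqc0 (vqc1 469 0) (vqc0 (vqc1 169 5) (vqc0 (vqc1 470 5) (vqc0 (vqc1 471 0) (vqc0 (vqc1 472 6) (vqc0 (vqc1 88 2) vqy79)))))));
      (vqc0 (vqc1 464 3) (vqc0 (vqc1 344 0) (vqc0 (vqc1 465 1) (vqc0 (vqc1 466 2) (vqc0 (vqc1 467 2) (vqc0 (vqc1 93 2)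
      vqy81))))))))));
      (let vqy82 : type_of% vqy66 := (let vqy83 : type_of% vqy66 := (let vqy84 : type_of% vqy66 := (let vqy85 : type_of% vqy66 := (vqc0 (vqc1 457 3)
      (vqc0 (vqc1 458 0) (vqc0 (vqc1 459 5) (vqc0 (vqc1 460 7) (vqc0 (vqc1 461 1) (vqc0 (vqc1 462 7) (vqc0 (vqc1 463 3) vqy66)))))));
      (vqc0 (vqc1 98 4) (vqc0 (vqc1 451 4) (vqc0 (vqc1 452 3) (vqc0 (vqc1 453 3) (vqc0 (vqc1 454 1) (vqc0 (vqc1 455 1) (vqc0 (vqc1 456 2) vqy85))))))));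
      (let vqy86 : type_of% vqy84 := (vqc0 (vqc1 445 1) (vqc0 (vqc1 446 8) (vqc0 (vqc1 447 2)
      (vqc0 (vqc1 448 7) (vqc0 (vqc1 449 7) (vqc0 (vqc1 305 1) (vqc0 (vqc1 450 1) vqy84)))))));
      (vqc0 (vqc1 438 5) (vqc0 (vqc1 439 2) (vqc0 (vqc1 440 8) (vqc0 (vqc1 441 4) (vqc0 (vqc1 442 7) (vqc0 (vqc1 443 6) (vqc0 (vqc1 444 2) vqy86)))))))));
      (let vqy87 : type_of% vqy83 := (let vqy88 : type_of% vqy83 := (vqc0 (vqc1 432 7) (vqc0 (vqc1 180 7) (vqc0 (vqc1 433 5) (vqc0 (vqc1 434 7) (vqc0 (vqc1 435 7)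
      (vqc0 (vqc1 436 7) (vqc0 (vqc1 437 6) vqy83)))))));
      (vqc0 (vqc1 426 4) (vqc0 (vqc1 164 3) (vqc0 (vqc1 427 3) (vqc0 (vqc1 428 2) (vqc0 (vqc1 429 2) (vqc0 (vqc1 430 5) (vqc0 (vqc1 431 7) vqy88))))))));
      (let vqy89 : type_of% vqy87 := (vqc0 (vqc1 419 2) (vqc0 (vqc1 420 7) (vqc0 (vqc1 421 1) (vqc0 (vqc1 422 2) (vqc0 (vqc1 423 3) (vqc0 (vqc1 424 7) (vqc0 (vqc1 425 7)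
      vqy87)))))));
      (vqc0 (vqc1 413 1)
      (vqc0 (vqc1 414 8) (vqc0 (vqc1 415 2) (vqc0 (vqc1 416 2) (vqc0 (vqc1 417 3) (vqc0 (vqc1 418 2) vqy89)))))))));
      (let vqy90 : type_of% vqy82 := (let vqy91 : type_of% vqy82 := (let vqy92 : type_of% vqy82 := (vqc0 (vqc1 408 0) (vqc0 (vqc1 409 2) (vqc0 (vqc1 410 3) (vqc0 (vqc1 411 4) (vqc0 (vqc1 161 0) (vqc0 (vqc1 178 5) (vqc0 (vqc1 412 4) vqy82)))))));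
      (vqc0 (vqc1 402 2) (vqc0 (vqc1 403 2) (vqc0 (vqc1 404 5)
      (vqc0 (vqc1 405 6) (vqc0 (vqc1 406 2) (vqc0 (vqc1 407 3) (vqc0 (vqc1 197 0) vqy92))))))));
      (let vqy93 : type_of% vqy91 := (vqc0 (vqc1 397 5) (vqc0 (vqc1 398 2) (vqc0 (vqc1 399 6) (vqc0 (vqc1 400 0) (vqc0 (vqc1 401 3) (vqc0 (vqc1 109 6) (vqc0 (vqc1 295 7) vqy91)))))));
      (vqc0 (vqc1 391 0) (vqc0 (vqc1 392 7) (vqc0 (vqc1 393 2) (vqc0 (vqc1 394 5) (vqc0 (vqc1 395 2)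
      (vqc0 (vqc1 354 8) (vqc0 (vqc1 396 2) vqy93)))))))));
      (let vqy94 : type_of% vqy90 := (let vqy95 : type_of% vqy90 := (vqc0 (vqc1 200 2) (vqc0 (vqc1 52 7) (vqc0 (vqc1 387 7) (vqc0 (vqc1 388 8) (vqc0 (vqc1 389 4) (vqc0 (vqc1 173 2) (vqc0 (vqc1 390 6) vqy90)))))));
      (vqc0 (vqc1 380 1) (vqc0 (vqc1 381 3) (vqc0 (vqc1 382 2) (vqc0 (vqc1 383 5) (vqc0 (vqc1 384 6) (vqc0 (vqc1 385 0) (vqc0 (vqc1 386 2)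
      vqy95))))))));
      (let vqy96 : type_of% vqy94 := (vqc0 (vqc1 373 8) (vqc0 (vqc1 374 5)
      (vqc0 (vqc1 375 8) (vqc0 (vqc1 376 2) (vqc0 (vqc1 377 3) (vqc0 (vqc1 378 2) (vqc0 (vqc1 379 1) vqy94)))))));
      (vqc0 (vqc1 368 3) (vqc0 (vqc1 369 1) (vqc0 (vqc1 298 8) (vqc0 (vqc1 370 5) (vqc0 (vqc1 371 3) (vqc0 (vqc1 372 8) vqy96)))))))))));
      (let vqy97 : type_of% vqy65 := (let vqy98 : type_of% vqy65 := (let vqy99 : type_of% vqy65 := (let vqy100 : type_of% vqy65 := (let vqy101 : type_of% vqy65 := (vqc0 (vqc1 364 5) (vqc0 (vqc1 365 2) (vqc0 (vqc1 366 5)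
      (vqc0 (vqc1 367 4) (vqc0 (vqc1 196 2) (vqc0 (vqc1 100 7) (vqc0 (vqc1 321 8) vqy65)))))));
      (vqc0 (vqc1 288 7) (vqc0 (vqc1 358 2) (vqc0 (vqc1 359 2) (vqc0 (vqc1 360 3) (vqc0 (vqc1 361 2) (vqc0 (vqc1 362 4) (vqc0 (vqc1 363 3) vqy101))))))));
      (let vqy102 : type_of% vqy100 := (vqc0 (vqc1 282 2) (vqc0 (vqc1 283 7) (vqc0 (vqc1 284 7) (vqc0 (vqc1 285 7) (vqc0 (vqc1 286 2)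
      (vqc0 (vqc1 191 4) (vqc0 (vqc1 287 3) vqy100)))))));
      (vqc0 (vqc1 277 5) (vqc0 (vqc1 278 5) (vqc0 (vqc1 108 7) (vqc0 (vqc1 279 7) (vqc0 (vqc1 280 4) (vqc0 (vqc1 13 7) (vqc0 (vqc1 281 3) vqy102)))))))));
      (let vqy103 : type_of% vqy99 := (let vqy104 : type_of% vqy99 := (vqc0 (vqc1 271 6) (vqc0 (vqc1 272 3) (vqc0 (vqc1 273 2) (vqc0 (vqc1 177 3) (vqc0 (vqc1 274 3) (vqc0 (vqc1 275 8) (vqc0 (vqc1 276 6)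
      vqy99)))))));
      (vqc0 (vqc1 264 8) (vqc0 (vqc1 265 2)
      (vqc0 (vqc1 266 2) (vqc0 (vqc1 267 8) (vqc0 (vqc1 268 7) (vqc0 (vqc1 269 3) (vqc0 (vqc1 270 3) vqy104))))))));
      (let vqy105 : type_of% vqy103 := (vqc0 (vqc1 257 2) (vqc0 (vqc1 258 7) (vqc0 (vqc1 259 2) (vqc0 (vqc1 260 7) (vqc0 (vqc1 261 8) (vqc0 (vqc1 262 3) (vqc0 (vqc1 263 7) vqy103)))))));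
      (vqc0 (vqc1 252 2) (vqc0 (vqc1 253 5) (vqc0 (vqc1 95 4)
      (vqc0 (vqc1 254 5) (vqc0 (vqc1 255 8) (vqc0 (vqc1 256 5) vqy105)))))))));
      (let vqy106 : type_of% vqy98 := (let vqy107 : type_of% vqy98 := (let vqy108 : type_of% vqy98 := (vqc0 (vqc1 246 5) (vqc0 (vqc1 247 4) (vqc0 (vqc1 58 7) (vqc0 (vqc1 248 4) (vqc0 (vqc1 249 7) (vqc0 (vqc1 250 4) (vqc0 (vqc1 251 2) vqy98)))))));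
      (vqc0 (vqc1 242 4) (vqc0 (vqc1 243 5) (vqc0 (vqc1 89 6) (vqc0 (vqc1 244 1) (vqc0 (vqc1 14 6)
      (vqc0 (vqc1 245 2) (vqc0 (vqc1 205 7) vqy108))))))));
      (let vqy109 : type_of% vqy107 := (vqc0 (vqc1 235 2) (vqc0 (vqc1 236 3) (vqc0 (vqc1 237 2) (vqc0 (vqc1 238 1) (vqc0 (vqc1 239 3) (vqc0 (vqc1 240 8) (vqc0 (vqc1 241 2) vqy107)))))));
      (vqc0 (vqc1 107 1) (vqc0 (vqc1 229 3) (vqc0 (vqc1 230 8) (vqc0 (vqc1 231 2) (vqc0 (vqc1 232 4) (vqc0 (vqc1 233 3) (vqc0 (vqc1 234 2)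
      vqy109)))))))));
      (let vqy110 : type_of% vqy106 := (let vqy111 : type_of% vqy106 := (vqc0 (vqc1 222 2) (vqc0 (vqc1 223 3)
      (vqc0 (vqc1 224 0) (vqc0 (vqc1 225 7) (vqc0 (vqc1 226 3) (vqc0 (vqc1 227 1) (vqc0 (vqc1 228 0) vqy106)))))));
      (vqc0 (vqc1 216 2) (vqc0 (vqc1 217 2) (vqc0 (vqc1 218 3) (vqc0 (vqc1 219 0) (vqc0 (vqc1 220 2) (vqc0 (vqc1 221 8) (vqc0 (vqc1 187 2) vqy111))))))));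
      (let vqy112 : type_of% vqy110 := (vqc0 (vqc1 211 5) (vqc0 (vqc1 212 0) (vqc0 (vqc1 213 4) (vqc0 (vqc1 214 3)
      (vqc0 (vqc1 92 7) (vqc0 (vqc1 215 4) (vqc0 (vqc1 12 2) vqy110)))))));
      (vqc0 (vqc1 160 8) (vqc0 (vqc1 207 5) (vqc0 (vqc1 208 8) (vqc0 (vqc1 209 5) (vqc0 (vqc1 210 3) (vqc0 (vqc1 50 6) vqy112))))))))));
      (let vqy113 : type_of% vqy97 := (let vqy114 : type_of% vqy97 := (let vqy115 : type_of% vqy97 := (let vqy116 : type_of% vqy97 := (vqc0 (vqc1 154 8) (vqc0 (vqc1 155 3) (vqc0 (vqc1 156 2) (vqc0 (vqc1 6 7) (vqc0 (vqc1 157 3)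
      (vqc0 (vqc1 158 4) (vqc0 (vqc1 159 6) vqy97)))))));
      (vqc0 (vqc1 147 7) (vqc0 (vqc1 148 6) (vqc0 (vqc1 149 7) (vqc0 (vqc1 150 7) (vqc0 (vqc1 151 6) (vqc0 (vqc1 152 5) (vqc0 (vqc1 153 0) vqy116))))))));
      (let vqy117 : type_of% vqy115 := (vqc0 (vqc1 141 4) (vqc0 (vqc1 0 2) (vqc0 (vqc1 142 5) (vqc0 (vqc1 143 8) (vqc0 (vqc1 144 3) (vqc0 (vqc1 145 3) (vqc0 (vqc1 146 7)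
      vqy115)))))));
      (vqc0 (vqc1 134 3) (vqc0 (vqc1 135 4)
      (vqc0 (vqc1 136 2) (vqc0 (vqc1 137 8) (vqc0 (vqc1 138 2) (vqc0 (vqc1 139 1) (vqc0 (vqc1 140 4) vqy117)))))))));
      (let vqy118 : type_of% vqy114 := (let vqy119 : type_of% vqy114 := (vqc0 (vqc1 127 6) (vqc0 (vqc1 128 5) (vqc0 (vqc1 129 0) (vqc0 (vqc1 130 3) (vqc0 (vqc1 131 7) (vqc0 (vqc1 132 6) (vqc0 (vqc1 133 7) vqy114)))))));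
      (vqc0 (vqc1 120 5) (vqc0 (vqc1 121 2) (vqc0 (vqc1 122 2) (vqc0 (vqc1 123 1)
      (vqc0 (vqc1 124 3) (vqc0 (vqc1 125 2) (vqc0 (vqc1 126 5) vqy119))))))));
      (let vqy120 : type_of% vqy118 := (vqc0 (vqc1 113 2) (vqc0 (vqc1 114 5) (vqc0 (vqc1 115 3) (vqc0 (vqc1 116 8) (vqc0 (vqc1 117 2) (vqc0 (vqc1 118 8) (vqc0 (vqc1 119 2) vqy118)))))));
      (vqc0 (vqc1 83 7) (vqc0 (vqc1 84 2) (vqc0 (vqc1 85 3) (vqc0 (vqc1 86 6) (vqc0 (vqc1 111 2)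
      (vqc0 (vqc1 112 1) vqy120)))))))));
      (let vqy121 : type_of% vqy113 := (let vqy122 : type_of% vqy113 := (let vqy123 : type_of% vqy113 := (vqc0 (vqc1 76 8) (vqc0 (vqc1 77 0) (vqc0 (vqc1 78 2) (vqc0 (vqc1 79 1) (vqc0 (vqc1 80 1) (vqc0 (vqc1 81 5) (vqc0 (vqc1 82 5) vqy113)))))));
      (vqc0 (vqc1 70 6) (vqc0 (vqc1 71 4) (vqc0 (vqc1 57 2) (vqc0 (vqc1 72 5) (vqc0 (vqc1 73 6) (vqc0 (vqc1 74 3) (vqc0 (vqc1 75 4)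
      vqy123))))))));
      (let vqy124 : type_of% vqy122 := (vqc0 (vqc1 63 3) (vqc0 (vqc1 64 5)
      (vqc0 (vqc1 65 4) (vqc0 (vqc1 66 8) (vqc0 (vqc1 67 3) (vqc0 (vqc1 68 6) (vqc0 (vqc1 69 3) vqy122)))))));
      (vqc0 (vqc1 42 4) (vqc0 (vqc1 43 1) (vqc0 (vqc1 44 7) (vqc0 (vqc1 59 8) (vqc0 (vqc1 60 4) (vqc0 (vqc1 61 7) (vqc0 (vqc1 62 1) vqy124)))))))));
      (let vqy125 : type_of% vqy121 := (let vqy126 : type_of% vqy121 := (vqc0 (vqc1 35 3) (vqc0 (vqc1 36 4) (vqc0 (vqc1 37 6) (vqc0 (vqc1 38 2)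
      (vqc0 (vqc1 39 5) (vqc0 (vqc1 40 6) (vqc0 (vqc1 41 2) vqy121)))))));
      (vqc0 (vqc1 21 3) (vqc0 (vqc1 22 2) (vqc0 (vqc1 30 2) (vqc0 (vqc1 31 2) (vqc0 (vqc1 32 7) (vqc0 (vqc1 33 1) (vqc0 (vqc1 34 8) vqy126))))))));
      (let vqy127 : type_of% vqy125 := (vqc0 (vqc1 10 2) (vqc0 (vqc1 15 5) (vqc0 (vqc1 16 0) (vqc0 (vqc1 17 2) (vqc0 (vqc1 18 2) (vqc0 (vqc1 19 3)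
      (vqc0 (vqc1 20 2) vqy125)))))));
      (vqc0 (vqc1 1 2) (vqc0 (vqc1 3 3) (vqc0 (vqc1 4 2) (vqc0 (vqc1 7 2) (vqc0 (vqc1 8 6) (vqc0 (vqc1 9 3) vqy127)))))))))))))
      (vqc0 (let vqy128 : type_of% (vqc4 _) := (let vqy129 : type_of% (vqc4 _) := (let vqy130 : type_of% (vqc4 _) := (let vqy131 : type_of% (vqc4 _) := (let vqy132 : type_of% (vqc4 _) := (let vqy133 : type_of% (vqc4 _) := (let vqy134 : type_of% (vqc4 _) := (vqc0 (vqc1 778 1) (vqc0 (vqc1 502 1) (vqc0 (vqc1 686 1)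
      (vqc0 (vqc1 559 7) (vqc0 (vqc1 709 1) (vqc0 (vqc1 222 1) (vqc0 (vqc1 262 1) vqc2)))))));
      (vqc0 (vqc1 167 1) (vqc0 (vqc1 119 1) (vqc0 (vqc1 455 1) (vqc0 (vqc1 185 1) (vqc0 (vqc1 58 1) (vqc0 (vqc1 246 4) (vqc0 (vqc1 225 1) vqy134))))))));
      (let vqy135 : type_of% vqy133 := (vqc0 (vqc1 197 1) (vqc0 (vqc1 473 1) (vqc0 (vqc1 835 1) (vqc0 (vqc1 809 1) (vqc0 (vqc1 535 1)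
      (vqc0 (vqc1 345 1) (vqc0 (vqc1 573 1) vqy133)))))));
      (vqc0 (vqc1 742 1) (vqc0 (vqc1 112 1) (vqc0 (vqc1 398 5) (vqc0 (vqc1 658 1) (vqc0 (vqc1 263 1) (vqc0 (vqc1 168 1) (vqc0 (vqc1 790 1) vqy135)))))))));
      (let vqy136 : type_of% vqy132 := (let vqy137 : type_of% vqy132 := (vqc0 (vqc1 868 6) (vqc0 (vqc1 105 1) (vqc0 (vqc1 633 5) (vqc0 (vqc1 203 1) (vqc0 (vqc1 206 1) (vqc0 (vqc1 307 2) (vqc0 (vqc1 412 1)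
      vqy132)))))));
      (vqc0 (vqc1 783 1) (vqc0 (vqc1 195 1)
      (vqc0 (vqc1 689 1) (vqc0 (vqc1 363 1) (vqc0 (vqc1 767 1) (vqc0 (vqc1 174 1) (vqc0 (vqc1 492 1) vqy137))))))));
      (let vqy138 : type_of% vqy136 := (vqc0 (vqc1 578 1) (vqc0 (vqc1 654 1) (vqc0 (vqc1 620 1) (vqc0 (vqc1 456 1) (vqc0 (vqc1 583 1) (vqc0 (vqc1 383 1) (vqc0 (vqc1 173 1) vqy136)))))));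
      (vqc0 (vqc1 607 1) (vqc0 (vqc1 450 1) (vqc0 (vqc1 765 1)
      (vqc0 (vqc1 598 6) (vqc0 (vqc1 557 1) (vqc0 (vqc1 268 1) vqy138)))))))));
      (let vqy139 : type_of% vqy131 := (let vqy140 : type_of% vqy131 := (let vqy141 : type_of% vqy131 := (vqc0 (vqc1 791 1) (vqc0 (vqc1 477 1) (vqc0 (vqc1 871 1) (vqc0 (vqc1 213 1) (vqc0 (vqc1 391 1) (vqc0 (vqc1 153 1) (vqc0 (vqc1 873 1) vqy131)))))));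
      (vqc0 (vqc1 12 1) (vqc0 (vqc1 576 3) (vqc0 (vqc1 684 1) (vqc0 (vqc1 52 1) (vqc0 (vqc1 754 1)
      (vqc0 (vqc1 136 1) (vqc0 (vqc1 11 1) vqy141))))))));
      (let vqy142 : type_of% vqy140 := (vqc0 (vqc1 328 1) (vqc0 (vqc1 847 6) (vqc0 (vqc1 844 1) (vqc0 (vqc1 65 1) (vqc0 (vqc1 295 1) (vqc0 (vqc1 385 1) (vqc0 (vqc1 761 1) vqy140)))))));
      (vqc0 (vqc1 551 1) (vqc0 (vqc1 212 1) (vqc0 (vqc1 377 1) (vqc0 (vqc1 662 8) (vqc0 (vqc1 610 2) (vqc0 (vqc1 487 1) (vqc0 (vqc1 283 1)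
      vqy142)))))))));
      (let vqy143 : type_of% vqy139 := (let vqy144 : type_of% vqy139 := (vqc0 (vqc1 558 1) (vqc0 (vqc1 98 1)
      (vqc0 (vqc1 794 4) (vqc0 (vqc1 118 1) (vqc0 (vqc1 738 6) (vqc0 (vqc1 523 5) (vqc0 (vqc1 830 1) vqy139)))))));
      (vqc0 (vqc1 247 1) (vqc0 (vqc1 875 1) (vqc0 (vqc1 774 1) (vqc0 (vqc1 602 1) (vqc0 (vqc1 102 1) (vqc0 (vqc1 621 1) (vqc0 (vqc1 652 1) vqy144))))))));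
      (let vqy145 : type_of% vqy143 := (vqc0 (vqc1 3 1) (vqc0 (vqc1 718 1) (vqc0 (vqc1 824 1) (vqc0 (vqc1 158 1)
      (vqc0 (vqc1 16 1) (vqc0 (vqc1 467 5) (vqc0 (vqc1 803 1) vqy143)))))));
      (vqc0 (vqc1 763 1) (vqc0 (vqc1 418 1) (vqc0 (vqc1 26 1) (vqc0 (vqc1 198 1) (vqc0 (vqc1 724 1) (vqc0 (vqc1 40 1) vqy145))))))))));
      (let vqy146 : type_of% vqy130 := (let vqy147 : type_of% vqy130 := (let vqy148 : type_of% vqy130 := (let vqy149 : type_of% vqy130 := (vqc0 (vqc1 490 1) (vqc0 (vqc1 842 1) (vqc0 (vqc1 289 1) (vqc0 (vqc1 632 1) (vqc0 (vqc1 764 1)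
      (vqc0 (vqc1 368 2) (vqc0 (vqc1 447 5) vqy130)))))));
      (vqc0 (vqc1 411 1) (vqc0 (vqc1 171 4) (vqc0 (vqc1 243 4) (vqc0 (vqc1 21 8) (vqc0 (vqc1 528 1) (vqc0 (vqc1 745 1) (vqc0 (vqc1 657 1) vqy149))))))));
      (let vqy150 : type_of% vqy148 := (vqc0 (vqc1 200 1) (vqc0 (vqc1 649 1) (vqc0 (vqc1 319 1) (vqc0 (vqc1 269 4) (vqc0 (vqc1 780 1) (vqc0 (vqc1 470 1) (vqc0 (vqc1 685 1)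
      vqy148)))))));
      (vqc0 (vqc1 305 1) (vqc0 (vqc1 752 1)
      (vqc0 (vqc1 187 1) (vqc0 (vqc1 810 1) (vqc0 (vqc1 667 1) (vqc0 (vqc1 841 1) (vqc0 (vqc1 28 3) vqy150)))))))));
      (let vqy151 : type_of% vqy147 := (let vqy152 : type_of% vqy147 := (vqc0 (vqc1 819 1) (vqc0 (vqc1 572 1) (vqc0 (vqc1 834 1) (vqc0 (vqc1 792 2) (vqc0 (vqc1 54 1) (vqc0 (vqc1 278 1) (vqc0 (vqc1 90 1) vqy147)))))));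
      (vqc0 (vqc1 361 5) (vqc0 (vqc1 30 1) (vqc0 (vqc1 762 1) (vqc0 (vqc1 100 6)
      (vqc0 (vqc1 496 0) (vqc0 (vqc1 486 4) (vqc0 (vqc1 420 1) vqy152))))))));
      (let vqy153 : type_of% vqy151 := (vqc0 (vqc1 47 1) (vqc0 (vqc1 189 1) (vqc0 (vqc1 94 1) (vqc0 (vqc1 785 1) (vqc0 (vqc1 311 1) (vqc0 (vqc1 160 1) (vqc0 (vqc1 110 1) vqy151)))))));
      (vqc0 (vqc1 546 1) (vqc0 (vqc1 35 1) (vqc0 (vqc1 87 3) (vqc0 (vqc1 453 1) (vqc0 (vqc1 825 1)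
      (vqc0 (vqc1 720 2) vqy153)))))))));
      (let vqy154 : type_of% vqy146 := (let vqy155 : type_of% vqy146 := (let vqy156 : type_of% vqy146 := (vqc0 (vqc1 608 1) (vqc0 (vqc1 540 1) (vqc0 (vqc1 713 1) (vqc0 (vqc1 438 1) (vqc0 (vqc1 183 1) (vqc0 (vqc1 172 1) (vqc0 (vqc1 163 1) vqy146)))))));
      (vqc0 (vqc1 321 1) (vqc0 (vqc1 114 1) (vqc0 (vqc1 69 1) (vqc0 (vqc1 878 1) (vqc0 (vqc1 659 1) (vqc0 (vqc1 601 1) (vqc0 (vqc1 287 1)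
      vqy156))))))));
      (let vqy157 : type_of% vqy155 := (vqc0 (vqc1 352 1) (vqc0 (vqc1 134 1)
      (vqc0 (vqc1 124 1) (vqc0 (vqc1 808 1) (vqc0 (vqc1 663 1) (vqc0 (vqc1 671 1) (vqc0 (vqc1 650 1) vqy155)))))));
      (vqc0 (vqc1 224 1) (vqc0 (vqc1 2 4) (vqc0 (vqc1 590 1) (vqc0 (vqc1 64 1) (vqc0 (vqc1 413 1) (vqc0 (vqc1 851 1) (vqc0 (vqc1 804 1) vqy157)))))))));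
      (let vqy158 : type_of% vqy154 := (let vqy159 : type_of% vqy154 := (vqc0 (vqc1 152 1) (vqc0 (vqc1 147 1) (vqc0 (vqc1 231 1) (vqc0 (vqc1 286 1)
      (vqc0 (vqc1 18 1) (vqc0 (vqc1 508 1) (vqc0 (vqc1 784 1) vqy154)))))));
      (vqc0 (vqc1 347 6) (vqc0 (vqc1 233 1) (vqc0 (vqc1 822 1) (vqc0 (vqc1 676 5) (vqc0 (vqc1 500 1) (vqc0 (vqc1 393 1) (vqc0 (vqc1 679 7) vqy159))))))));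
      (let vqy160 : type_of% vqy158 := (vqc0 (vqc1 85 1) (vqc0 (vqc1 395 1) (vqc0 (vqc1 589 1) (vqc0 (vqc1 55 1) (vqc0 (vqc1 591 1) (vqc0 (vqc1 374 1)
      (vqc0 (vqc1 149 1) vqy158)))))));
      (vqc0 (vqc1 879 6) (vqc0 (vqc1 789 1) (vqc0 (vqc1 215 2) (vqc0 (vqc1 126 1) (vqc0 (vqc1 866 1) (vqc0 (vqc1 399 1) vqy160)))))))))));
      (let vqy161 : type_of% vqy129 := (let vqy162 : type_of% vqy129 := (let vqy163 : type_of% vqy129 := (let vqy164 : type_of% vqy129 := (let vqy165 : type_of% vqy129 := (vqc0 (vqc1 726 2) (vqc0 (vqc1 99 1) (vqc0 (vqc1 553 1) (vqc0 (vqc1 193 1) (vqc0 (vqc1 730 1) (vqc0 (vqc1 34 1) (vqc0 (vqc1 121 1)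
      vqy129)))))));
      (vqc0 (vqc1 367 1) (vqc0 (vqc1 491 1)
      (vqc0 (vqc1 388 5) (vqc0 (vqc1 520 1) (vqc0 (vqc1 375 1) (vqc0 (vqc1 439 1) (vqc0 (vqc1 661 1) vqy165))))))));
      (let vqy166 : type_of% vqy164 := (vqc0 (vqc1 229 6) (vqc0 (vqc1 849 1) (vqc0 (vqc1 280 1) (vqc0 (vqc1 567 1) (vqc0 (vqc1 336 1) (vqc0 (vqc1 513 1) (vqc0 (vqc1 227 1) vqy164)))))));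
      (vqc0 (vqc1 235 1) (vqc0 (vqc1 805 1) (vqc0 (vqc1 538 1) (vqc0 (vqc1 331 1)
      (vqc0 (vqc1 839 1) (vqc0 (vqc1 773 1) (vqc0 (vqc1 208 1) vqy166)))))))));
      (let vqy167 : type_of% vqy163 := (let vqy168 : type_of% vqy163 := (vqc0 (vqc1 327 1) (vqc0 (vqc1 524 7) (vqc0 (vqc1 860 1) (vqc0 (vqc1 836 1) (vqc0 (vqc1 769 6) (vqc0 (vqc1 88 1) (vqc0 (vqc1 795 1) vqy163)))))));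
      (vqc0 (vqc1 466 1) (vqc0 (vqc1 162 1) (vqc0 (vqc1 585 1) (vqc0 (vqc1 426 1) (vqc0 (vqc1 329 1) (vqc0 (vqc1 188 1)
      (vqc0 (vqc1 346 1) vqy168))))))));
      (let vqy169 : type_of% vqy167 := (vqc0 (vqc1 378 1)
      (vqc0 (vqc1 285 1) (vqc0 (vqc1 310 1) (vqc0 (vqc1 62 1) (vqc0 (vqc1 365 1) (vqc0 (vqc1 204 4) (vqc0 (vqc1 72 1) vqy167)))))));
      (vqc0 (vqc1 831 1) (vqc0 (vqc1 821 1) (vqc0 (vqc1 719 1) (vqc0 (vqc1 390 1) (vqc0 (vqc1 382 1) (vqc0 (vqc1 448 8) vqy169)))))))));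
      (let vqy170 : type_of% vqy162 := (let vqy171 : type_of% vqy162 := (let vqy172 : type_of% vqy162 := (vqc0 (vqc1 588 1) (vqc0 (vqc1 150 1)
      (vqc0 (vqc1 814 1) (vqc0 (vqc1 330 1) (vqc0 (vqc1 498 1) (vqc0 (vqc1 51 3) (vqc0 (vqc1 604 6) vqy162)))))));
      (vqc0 (vqc1 232 1) (vqc0 (vqc1 337 1) (vqc0 (vqc1 725 1) (vqc0 (vqc1 619 1) (vqc0 (vqc1 622 1) (vqc0 (vqc1 630 1) (vqc0 (vqc1 29 1) vqy172))))))));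
      (let vqy173 : type_of% vqy171 := (vqc0 (vqc1 672 1) (vqc0 (vqc1 833 1) (vqc0 (vqc1 703 1) (vqc0 (vqc1 874 1)
      (vqc0 (vqc1 828 5) (vqc0 (vqc1 342 1) (vqc0 (vqc1 840 1) vqy171)))))));
      (vqc0 (vqc1 468 1) (vqc0 (vqc1 605 1) (vqc0 (vqc1 81 1) (vqc0 (vqc1 66 1) (vqc0 (vqc1 245 1) (vqc0 (vqc1 565 1) (vqc0 (vqc1 861 1) vqy173)))))))));
      (let vqy174 : type_of% vqy170 := (let vqy175 : type_of% vqy170 := (vqc0 (vqc1 392 1) (vqc0 (vqc1 339 1) (vqc0 (vqc1 574 1) (vqc0 (vqc1 552 1) (vqc0 (vqc1 736 1) (vqc0 (vqc1 707 1)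
      (vqc0 (vqc1 356 1) vqy170)))))));
      (vqc0 (vqc1 499 1)
      (vqc0 (vqc1 460 1) (vqc0 (vqc1 471 1) (vqc0 (vqc1 284 8) (vqc0 (vqc1 9 1) (vqc0 (vqc1 45 1) (vqc0 (vqc1 563 1) vqy175))))))));
      (let vqy176 : type_of% vqy174 := (vqc0 (vqc1 458 1) (vqc0 (vqc1 525 1) (vqc0 (vqc1 858 1) (vqc0 (vqc1 48 1) (vqc0 (vqc1 350 1) (vqc0 (vqc1 580 2) (vqc0 (vqc1 592 1) vqy174)))))));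
      (vqc0 (vqc1 733 1) (vqc0 (vqc1 517 1)
      (vqc0 (vqc1 865 1) (vqc0 (vqc1 461 1) (vqc0 (vqc1 489 1) (vqc0 (vqc1 207 1) vqy176))))))))));
      (let vqy177 : type_of% vqy161 := (let vqy178 : type_of% vqy161 := (let vqy179 : type_of% vqy161 := (let vqy180 : type_of% vqy161 := (vqc0 (vqc1 616 3) (vqc0 (vqc1 760 1) (vqc0 (vqc1 53 1) (vqc0 (vqc1 267 1) (vqc0 (vqc1 681 1) (vqc0 (vqc1 548 7) (vqc0 (vqc1 694 1) vqy161)))))));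
      (vqc0 (vqc1 421 1) (vqc0 (vqc1 313 4) (vqc0 (vqc1 190 1) (vqc0 (vqc1 493 1)
      (vqc0 (vqc1 877 1) (vqc0 (vqc1 527 2) (vqc0 (vqc1 757 1) vqy180))))))));
      (let vqy181 : type_of% vqy179 := (vqc0 (vqc1 275 1) (vqc0 (vqc1 537 5) (vqc0 (vqc1 417 1) (vqc0 (vqc1 349 1) (vqc0 (vqc1 179 1) (vqc0 (vqc1 682 1) (vqc0 (vqc1 394 1) vqy179)))))));
      (vqc0 (vqc1 424 1) (vqc0 (vqc1 631 6) (vqc0 (vqc1 240 6) (vqc0 (vqc1 829 1) (vqc0 (vqc1 322 1) (vqc0 (vqc1 86 8)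
      (vqc0 (vqc1 544 1) vqy181)))))))));
      (let vqy182 : type_of% vqy178 := (let vqy183 : type_of% vqy178 := (vqc0 (vqc1 695 8)
      (vqc0 (vqc1 771 1) (vqc0 (vqc1 797 1) (vqc0 (vqc1 625 1) (vqc0 (vqc1 615 1) (vqc0 (vqc1 750 1) (vqc0 (vqc1 856 1) vqy178)))))));
      (vqc0 (vqc1 755 1) (vqc0 (vqc1 24 1) (vqc0 (vqc1 644 1) (vqc0 (vqc1 666 1) (vqc0 (vqc1 501 1) (vqc0 (vqc1 510 1) (vqc0 (vqc1 691 1) vqy183))))))));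
      (let vqy184 : type_of% vqy182 := (vqc0 (vqc1 279 1) (vqc0 (vqc1 587 1) (vqc0 (vqc1 529 1)
      (vqc0 (vqc1 14 7) (vqc0 (vqc1 758 3) (vqc0 (vqc1 732 1) (vqc0 (vqc1 4 1) vqy182)))))));
      (vqc0 (vqc1 96 1) (vqc0 (vqc1 506 3) (vqc0 (vqc1 723 1) (vqc0 (vqc1 786 1) (vqc0 (vqc1 569 1) (vqc0 (vqc1 210 1) vqy184)))))))));
      (let vqy185 : type_of% vqy177 := (let vqy186 : type_of% vqy177 := (let vqy187 : type_of% vqy177 := (vqc0 (vqc1 768 8) (vqc0 (vqc1 223 1) (vqc0 (vqc1 770 1) (vqc0 (vqc1 273 3)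
      (vqc0 (vqc1 806 1) (vqc0 (vqc1 264 1) (vqc0 (vqc1 472 1) vqy177)))))));
      (vqc0 (vqc1 651 1) (vqc0 (vqc1 482 4) (vqc0 (vqc1 463 2) (vqc0 (vqc1 50 1) (vqc0 (vqc1 442 1) (vqc0 (vqc1 550 7) (vqc0 (vqc1 113 1) vqy187))))))));
      (let vqy188 : type_of% vqy186 := (vqc0 (vqc1 142 1) (vqc0 (vqc1 848 1) (vqc0 (vqc1 270 1) (vqc0 (vqc1 735 1) (vqc0 (vqc1 302 1) (vqc0 (vqc1 867 1)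
      (vqc0 (vqc1 314 1) vqy186)))))));
      (vqc0 (vqc1 130 1)
      (vqc0 (vqc1 309 1) (vqc0 (vqc1 79 1) (vqc0 (vqc1 815 1) (vqc0 (vqc1 582 1) (vqc0 (vqc1 137 1) (vqc0 (vqc1 627 1) vqy188)))))))));
      (let vqy189 : type_of% vqy185 := (let vqy190 : type_of% vqy185 := (vqc0 (vqc1 403 1) (vqc0 (vqc1 655 1) (vqc0 (vqc1 712 1) (vqc0 (vqc1 244 8) (vqc0 (vqc1 104 3) (vqc0 (vqc1 396 1) (vqc0 (vqc1 256 1) vqy185)))))));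
      (vqc0 (vqc1 777 1) (vqc0 (vqc1 454 1) (vqc0 (vqc1 845 5)
      (vqc0 (vqc1 737 1) (vqc0 (vqc1 673 1) (vqc0 (vqc1 366 1) (vqc0 (vqc1 645 1) vqy190))))))));
      (let vqy191 : type_of% vqy189 := (vqc0 (vqc1 191 1) (vqc0 (vqc1 629 1) (vqc0 (vqc1 801 1) (vqc0 (vqc1 338 1) (vqc0 (vqc1 415 1) (vqc0 (vqc1 407 7) (vqc0 (vqc1 241 1) vqy189)))))));
      (vqc0 (vqc1 106 1) (vqc0 (vqc1 67 1) (vqc0 (vqc1 129 1) (vqc0 (vqc1 216 1)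
      (vqc0 (vqc1 680 1) (vqc0 (vqc1 823 1) vqy191))))))))))));
      (let vqy192 : type_of% vqy128 := (let vqy193 : type_of% vqy128 := (let vqy194 : type_of% vqy128 := (let vqy195 : type_of% vqy128 := (let vqy196 : type_of% vqy128 := (let vqy197 : type_of% vqy128 := (vqc0 (vqc1 10 1) (vqc0 (vqc1 776 1) (vqc0 (vqc1 15 1) (vqc0 (vqc1 83 1) (vqc0 (vqc1 799 1) (vqc0 (vqc1 344 1) (vqc0 (vqc1 481 1) vqy128)))))));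
      (vqc0 (vqc1 788 1) (vqc0 (vqc1 242 1) (vqc0 (vqc1 787 1) (vqc0 (vqc1 68 1) (vqc0 (vqc1 464 7) (vqc0 (vqc1 846 1)
      (vqc0 (vqc1 440 1) vqy197))))))));
      (let vqy198 : type_of% vqy196 := (vqc0 (vqc1 414 1)
      (vqc0 (vqc1 348 1) (vqc0 (vqc1 369 1) (vqc0 (vqc1 77 1) (vqc0 (vqc1 623 1) (vqc0 (vqc1 261 1) (vqc0 (vqc1 111 1) vqy196)))))));
      (vqc0 (vqc1 692 1) (vqc0 (vqc1 514 1) (vqc0 (vqc1 178 1) (vqc0 (vqc1 826 1) (vqc0 (vqc1 228 1) (vqc0 (vqc1 37 1) (vqc0 (vqc1 516 1) vqy198)))))))));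
      (let vqy199 : type_of% vqy195 := (let vqy200 : type_of% vqy195 := (vqc0 (vqc1 359 1) (vqc0 (vqc1 182 1) (vqc0 (vqc1 380 4)
      (vqc0 (vqc1 837 1) (vqc0 (vqc1 612 1) (vqc0 (vqc1 728 6) (vqc0 (vqc1 93 1) vqy195)))))));
      (vqc0 (vqc1 226 1) (vqc0 (vqc1 360 1) (vqc0 (vqc1 400 3) (vqc0 (vqc1 186 1) (vqc0 (vqc1 853 1) (vqc0 (vqc1 564 1) (vqc0 (vqc1 166 1) vqy200))))))));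
      (let vqy201 : type_of% vqy199 := (vqc0 (vqc1 675 1) (vqc0 (vqc1 323 1) (vqc0 (vqc1 376 1) (vqc0 (vqc1 863 1) (vqc0 (vqc1 746 1)
      (vqc0 (vqc1 296 1) (vqc0 (vqc1 843 0) vqy199)))))));
      (vqc0 (vqc1 862 1) (vqc0 (vqc1 373 1) (vqc0 (vqc1 56 1) (vqc0 (vqc1 177 6) (vqc0 (vqc1 775 1) (vqc0 (vqc1 708 1) vqy201)))))))));
      (let vqy202 : type_of% vqy194 := (let vqy203 : type_of% vqy194 := (let vqy204 : type_of% vqy194 := (vqc0 (vqc1 135 1) (vqc0 (vqc1 386 1) (vqc0 (vqc1 451 1) (vqc0 (vqc1 859 1) (vqc0 (vqc1 257 1) (vqc0 (vqc1 628 1)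
      (vqc0 (vqc1 779 1) vqy194)))))));
      (vqc0 (vqc1 371 4)
      (vqc0 (vqc1 474 1) (vqc0 (vqc1 379 1) (vqc0 (vqc1 699 1) (vqc0 (vqc1 700 1) (vqc0 (vqc1 678 1) (vqc0 (vqc1 437 1) vqy204))))))));
      (let vqy205 : type_of% vqy203 := (vqc0 (vqc1 850 0) (vqc0 (vqc1 519 1) (vqc0 (vqc1 556 1) (vqc0 (vqc1 120 1) (vqc0 (vqc1 488 1) (vqc0 (vqc1 536 1) (vqc0 (vqc1 716 1) vqy203)))))));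
      (vqc0 (vqc1 157 1) (vqc0 (vqc1 722 1) (vqc0 (vqc1 351 1)
      (vqc0 (vqc1 665 1) (vqc0 (vqc1 410 1) (vqc0 (vqc1 17 1) (vqc0 (vqc1 747 1) vqy205)))))))));
      (let vqy206 : type_of% vqy202 := (let vqy207 : type_of% vqy202 := (vqc0 (vqc1 49 1) (vqc0 (vqc1 405 1) (vqc0 (vqc1 549 1) (vqc0 (vqc1 509 1) (vqc0 (vqc1 744 1) (vqc0 (vqc1 201 1) (vqc0 (vqc1 812 0) vqy202)))))));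
      (vqc0 (vqc1 290 1) (vqc0 (vqc1 711 1) (vqc0 (vqc1 170 1) (vqc0 (vqc1 46 1) (vqc0 (vqc1 457 5)
      (vqc0 (vqc1 734 1) (vqc0 (vqc1 335 1) vqy207))))))));
      (let vqy208 : type_of% vqy206 := (vqc0 (vqc1 78 1) (vqc0 (vqc1 562 1) (vqc0 (vqc1 334 1) (vqc0 (vqc1 282 1) (vqc0 (vqc1 57 1) (vqc0 (vqc1 533 1) (vqc0 (vqc1 668 1) vqy206)))))));
      (vqc0 (vqc1 706 1) (vqc0 (vqc1 192 1) (vqc0 (vqc1 751 1) (vqc0 (vqc1 613 1) (vqc0 (vqc1 449 1) (vqc0 (vqc1 532 1)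
      vqy208))))))))));
      (let vqy209 : type_of% vqy193 := (let vqy210 : type_of% vqy193 := (let vqy211 : type_of% vqy193 := (let vqy212 : type_of% vqy193 := (vqc0 (vqc1 570 1)
      (vqc0 (vqc1 702 1) (vqc0 (vqc1 325 2) (vqc0 (vqc1 811 1) (vqc0 (vqc1 518 1) (vqc0 (vqc1 693 1) (vqc0 (vqc1 595 1) vqy193)))))));
      (vqc0 (vqc1 82 1) (vqc0 (vqc1 70 1) (vqc0 (vqc1 656 2) (vqc0 (vqc1 332 1) (vqc0 (vqc1 132 1) (vqc0 (vqc1 31 1) (vqc0 (vqc1 71 1) vqy212))))))));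
      (let vqy213 : type_of% vqy211 := (vqc0 (vqc1 577 1) (vqc0 (vqc1 333 1) (vqc0 (vqc1 593 1)
      (vqc0 (vqc1 478 1) (vqc0 (vqc1 530 3) (vqc0 (vqc1 138 1) (vqc0 (vqc1 729 8) vqy211)))))));
      (vqc0 (vqc1 312 1) (vqc0 (vqc1 798 1) (vqc0 (vqc1 603 6) (vqc0 (vqc1 852 1) (vqc0 (vqc1 484 1) (vqc0 (vqc1 364 5) (vqc0 (vqc1 749 1) vqy213)))))))));
      (let vqy214 : type_of% vqy210 := (let vqy215 : type_of% vqy210 := (vqc0 (vqc1 697 1) (vqc0 (vqc1 465 1) (vqc0 (vqc1 32 1) (vqc0 (vqc1 717 8) (vqc0 (vqc1 297 1)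
      (vqc0 (vqc1 108 1) (vqc0 (vqc1 793 1) vqy210)))))));
      (vqc0 (vqc1 817 8) (vqc0 (vqc1 827 1) (vqc0 (vqc1 293 2) (vqc0 (vqc1 687 1) (vqc0 (vqc1 683 1) (vqc0 (vqc1 343 8) (vqc0 (vqc1 44 1) vqy215))))))));
      (let vqy216 : type_of% vqy214 := (vqc0 (vqc1 75 7) (vqc0 (vqc1 571 1) (vqc0 (vqc1 782 1) (vqc0 (vqc1 230 2) (vqc0 (vqc1 409 1) (vqc0 (vqc1 292 1) (vqc0 (vqc1 575 1)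
      vqy214)))))));
      (vqc0 (vqc1 503 1)
      (vqc0 (vqc1 1 1) (vqc0 (vqc1 184 1) (vqc0 (vqc1 36 1) (vqc0 (vqc1 512 1) (vqc0 (vqc1 8 1) vqy216)))))))));
      (let vqy217 : type_of% vqy209 := (let vqy218 : type_of% vqy209 := (let vqy219 : type_of% vqy209 := (vqc0 (vqc1 796 1) (vqc0 (vqc1 743 7) (vqc0 (vqc1 175 1) (vqc0 (vqc1 507 1) (vqc0 (vqc1 772 7) (vqc0 (vqc1 647 0) (vqc0 (vqc1 274 8) vqy209)))))));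
      (vqc0 (vqc1 522 1) (vqc0 (vqc1 660 5) (vqc0 (vqc1 521 1)
      (vqc0 (vqc1 539 1) (vqc0 (vqc1 255 1) (vqc0 (vqc1 42 1) (vqc0 (vqc1 715 1) vqy219))))))));
      (let vqy220 : type_of% vqy218 := (vqc0 (vqc1 688 1) (vqc0 (vqc1 115 1) (vqc0 (vqc1 618 1) (vqc0 (vqc1 609 1) (vqc0 (vqc1 581 1) (vqc0 (vqc1 579 1) (vqc0 (vqc1 436 1) vqy218)))))));
      (vqc0 (vqc1 838 1) (vqc0 (vqc1 545 1) (vqc0 (vqc1 739 1) (vqc0 (vqc1 669 1) (vqc0 (vqc1 387 2)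
      (vqc0 (vqc1 340 8) (vqc0 (vqc1 870 1) vqy220)))))))));
      (let vqy221 : type_of% vqy217 := (let vqy222 : type_of% vqy217 := (vqc0 (vqc1 626 0) (vqc0 (vqc1 61 6) (vqc0 (vqc1 101 1) (vqc0 (vqc1 505 5) (vqc0 (vqc1 483 1) (vqc0 (vqc1 258 1) (vqc0 (vqc1 820 7) vqy217)))))));
      (vqc0 (vqc1 145 1) (vqc0 (vqc1 320 1) (vqc0 (vqc1 766 1) (vqc0 (vqc1 281 3) (vqc0 (vqc1 317 1) (vqc0 (vqc1 220 1) (vqc0 (vqc1 239 5)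
      vqy222))))))));
      (let vqy223 : type_of% vqy221 := (vqc0 (vqc1 854 6) (vqc0 (vqc1 459 1)
      (vqc0 (vqc1 22 1) (vqc0 (vqc1 205 1) (vqc0 (vqc1 566 1) (vqc0 (vqc1 534 1) (vqc0 (vqc1 670 1) vqy221)))))));
      (vqc0 (vqc1 221 1) (vqc0 (vqc1 238 1) (vqc0 (vqc1 704 1) (vqc0 (vqc1 554 1) (vqc0 (vqc1 291 1) (vqc0 (vqc1 41 1) vqy223)))))))))));
      (let vqy224 : type_of% vqy192 := (let vqy225 : type_of% vqy192 := (let vqy226 : type_of% vqy192 := (let vqy227 : type_of% vqy192 := (let vqy228 : type_of% vqy192 := (vqc0 (vqc1 606 1) (vqc0 (vqc1 13 1) (vqc0 (vqc1 800 1)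
      (vqc0 (vqc1 151 1) (vqc0 (vqc1 495 1) (vqc0 (vqc1 362 1) (vqc0 (vqc1 294 1) vqy192)))))));
      (vqc0 (vqc1 640 1) (vqc0 (vqc1 25 1) (vqc0 (vqc1 202 1) (vqc0 (vqc1 199 1) (vqc0 (vqc1 677 1) (vqc0 (vqc1 406 1) (vqc0 (vqc1 303 1) vqy228))))))));
      (let vqy229 : type_of% vqy227 := (vqc0 (vqc1 161 1) (vqc0 (vqc1 308 1) (vqc0 (vqc1 92 1) (vqc0 (vqc1 638 1) (vqc0 (vqc1 475 1)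
      (vqc0 (vqc1 543 5) (vqc0 (vqc1 639 5) vqy227)))))));
      (vqc0 (vqc1 635 1) (vqc0 (vqc1 318 8) (vqc0 (vqc1 277 1) (vqc0 (vqc1 636 1) (vqc0 (vqc1 43 5) (vqc0 (vqc1 381 1) (vqc0 (vqc1 637 1) vqy229)))))))));
      (let vqy230 : type_of% vqy226 := (let vqy231 : type_of% vqy226 := (vqc0 (vqc1 91 1) (vqc0 (vqc1 107 1) (vqc0 (vqc1 354 1) (vqc0 (vqc1 423 1) (vqc0 (vqc1 358 1) (vqc0 (vqc1 634 1) (vqc0 (vqc1 156 1)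
      vqy226)))))));
      (vqc0 (vqc1 419 1) (vqc0 (vqc1 341 1)
      (vqc0 (vqc1 6 1) (vqc0 (vqc1 714 1) (vqc0 (vqc1 211 1) (vqc0 (vqc1 462 1) (vqc0 (vqc1 194 1) vqy231))))))));
      (let vqy232 : type_of% vqy230 := (vqc0 (vqc1 542 7) (vqc0 (vqc1 710 1) (vqc0 (vqc1 408 1) (vqc0 (vqc1 397 3) (vqc0 (vqc1 476 1) (vqc0 (vqc1 696 1) (vqc0 (vqc1 648 1) vqy230)))))));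
      (vqc0 (vqc1 816 1) (vqc0 (vqc1 143 1) (vqc0 (vqc1 664 1)
      (vqc0 (vqc1 128 1) (vqc0 (vqc1 614 1) (vqc0 (vqc1 864 1) vqy232)))))))));
      (let vqy233 : type_of% vqy225 := (let vqy234 : type_of% vqy225 := (let vqy235 : type_of% vqy225 := (vqc0 (vqc1 384 1) (vqc0 (vqc1 159 8) (vqc0 (vqc1 653 8) (vqc0 (vqc1 209 1) (vqc0 (vqc1 594 1) (vqc0 (vqc1 181 1) (vqc0 (vqc1 731 1) vqy225)))))));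
      (vqc0 (vqc1 443 1) (vqc0 (vqc1 444 1) (vqc0 (vqc1 445 1) (vqc0 (vqc1 422 1) (vqc0 (vqc1 425 1)
      (vqc0 (vqc1 446 1) (vqc0 (vqc1 39 1) vqy235))))))));
      (let vqy236 : type_of% vqy234 := (vqc0 (vqc1 196 8) (vqc0 (vqc1 674 1) (vqc0 (vqc1 122 1) (vqc0 (vqc1 547 1) (vqc0 (vqc1 807 1) (vqc0 (vqc1 584 1) (vqc0 (vqc1 123 1) vqy234)))))));
      (vqc0 (vqc1 494 1) (vqc0 (vqc1 480 1) (vqc0 (vqc1 59 2) (vqc0 (vqc1 748 4) (vqc0 (vqc1 597 1) (vqc0 (vqc1 372 1) (vqc0 (vqc1 404 1)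
      vqy236)))))))));
      (let vqy237 : type_of% vqy233 := (let vqy238 : type_of% vqy233 := (vqc0 (vqc1 781 6) (vqc0 (vqc1 721 1)
      (vqc0 (vqc1 234 1) (vqc0 (vqc1 133 3) (vqc0 (vqc1 515 2) (vqc0 (vqc1 611 1) (vqc0 (vqc1 165 1) vqy233)))))));
      (vqc0 (vqc1 599 1) (vqc0 (vqc1 176 1) (vqc0 (vqc1 690 1) (vqc0 (vqc1 698 1) (vqc0 (vqc1 266 1) (vqc0 (vqc1 857 1) (vqc0 (vqc1 485 1) vqy238))))))));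
      (let vqy239 : type_of% vqy237 := (vqc0 (vqc1 727 1) (vqc0 (vqc1 300 1) (vqc0 (vqc1 301 1) (vqc0 (vqc1 479 1)
      (vqc0 (vqc1 646 1) (vqc0 (vqc1 705 1) (vqc0 (vqc1 89 1) vqy237)))))));
      (vqc0 (vqc1 116 1) (vqc0 (vqc1 155 1) (vqc0 (vqc1 402 1) (vqc0 (vqc1 802 1) (vqc0 (vqc1 324 1) (vqc0 (vqc1 265 1) vqy239))))))))));
      (let vqy240 : type_of% vqy224 := (let vqy241 : type_of% vqy224 := (let vqy242 : type_of% vqy224 := (let vqy243 : type_of% vqy224 := (vqc0 (vqc1 429 1) (vqc0 (vqc1 430 2) (vqc0 (vqc1 431 1) (vqc0 (vqc1 432 1) (vqc0 (vqc1 401 1)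
      (vqc0 (vqc1 117 1) (vqc0 (vqc1 433 4) vqy224)))))));
      (vqc0 (vqc1 217 1) (vqc0 (vqc1 741 1) (vqc0 (vqc1 818 1) (vqc0 (vqc1 832 1) (vqc0 (vqc1 164 5) (vqc0 (vqc1 427 1) (vqc0 (vqc1 428 1) vqy243))))))));
      (let vqy244 : type_of% vqy242 := (vqc0 (vqc1 146 1) (vqc0 (vqc1 97 1) (vqc0 (vqc1 869 1) (vqc0 (vqc1 355 1) (vqc0 (vqc1 756 1) (vqc0 (vqc1 497 1) (vqc0 (vqc1 276 1)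
      vqy242)))))));
      (vqc0 (vqc1 7 1) (vqc0 (vqc1 260 1)
      (vqc0 (vqc1 19 4) (vqc0 (vqc1 511 1) (vqc0 (vqc1 541 1) (vqc0 (vqc1 298 6) (vqc0 (vqc1 596 1) vqy244)))))))));
      (let vqy245 : type_of% vqy241 := (let vqy246 : type_of% vqy241 := (vqc0 (vqc1 236 2) (vqc0 (vqc1 759 1) (vqc0 (vqc1 154 1) (vqc0 (vqc1 643 1) (vqc0 (vqc1 20 1) (vqc0 (vqc1 84 7) (vqc0 (vqc1 259 1) vqy241)))))));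
      (vqc0 (vqc1 103 1) (vqc0 (vqc1 586 1) (vqc0 (vqc1 237 1) (vqc0 (vqc1 526 1)
      (vqc0 (vqc1 23 1) (vqc0 (vqc1 214 1) (vqc0 (vqc1 504 1) vqy246))))))));
      (let vqy247 : type_of% vqy245 := (vqc0 (vqc1 452 5) (vqc0 (vqc1 169 1) (vqc0 (vqc1 441 1) (vqc0 (vqc1 125 1) (vqc0 (vqc1 148 1) (vqc0 (vqc1 561 8) (vqc0 (vqc1 63 1) vqy245)))))));
      (vqc0 (vqc1 250 1) (vqc0 (vqc1 251 8) (vqc0 (vqc1 252 2) (vqc0 (vqc1 253 1) (vqc0 (vqc1 27 1)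
      (vqc0 (vqc1 60 6) vqy247)))))))));
      (let vqy248 : type_of% vqy240 := (let vqy249 : type_of% vqy240 := (let vqy250 : type_of% vqy240 := (vqc0 (vqc1 876 4) (vqc0 (vqc1 560 1) (vqc0 (vqc1 306 1) (vqc0 (vqc1 304 8) (vqc0 (vqc1 600 1) (vqc0 (vqc1 248 1) (vqc0 (vqc1 249 1) vqy240)))))));
      (vqc0 (vqc1 872 1) (vqc0 (vqc1 127 1) (vqc0 (vqc1 144 7) (vqc0 (vqc1 219 1) (vqc0 (vqc1 33 1) (vqc0 (vqc1 624 1) (vqc0 (vqc1 131 1)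
      vqy250))))))));
      (let vqy251 : type_of% vqy249 := (vqc0 (vqc1 855 1) (vqc0 (vqc1 370 1)
      (vqc0 (vqc1 740 1) (vqc0 (vqc1 531 1) (vqc0 (vqc1 180 1) (vqc0 (vqc1 357 1) (vqc0 (vqc1 389 1) vqy249)))))));
      (vqc0 (vqc1 139 8) (vqc0 (vqc1 140 5) (vqc0 (vqc1 141 1) (vqc0 (vqc1 315 2) (vqc0 (vqc1 701 1) (vqc0 (vqc1 299 1) (vqc0 (vqc1 568 1) vqy251)))))))));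
      (let vqy252 : type_of% vqy248 := (let vqy253 : type_of% vqy248 := (vqc0 (vqc1 469 1) (vqc0 (vqc1 76 2) (vqc0 (vqc1 416 1) (vqc0 (vqc1 617 1)
      (vqc0 (vqc1 353 1) (vqc0 (vqc1 555 1) (vqc0 (vqc1 272 4) vqy248)))))));
      (vqc0 (vqc1 73 1) (vqc0 (vqc1 74 4) (vqc0 (vqc1 5 1) (vqc0 (vqc1 753 1) (vqc0 (vqc1 218 1) (vqc0 (vqc1 813 1) (vqc0 (vqc1 80 1) vqy253))))))));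
      (let vqy254 : type_of% vqy252 := (vqc0 (vqc1 38 1) (vqc0 (vqc1 316 1) (vqc0 (vqc1 641 1) (vqc0 (vqc1 642 1) (vqc0 (vqc1 109 7) (vqc0 (vqc1 288 2)
      (vqc0 (vqc1 326 1) vqy252)))))));
      (vqc0 (vqc1 0 1) (vqc0 (vqc1 95 1) (vqc0 (vqc1 254 7) (vqc0 (vqc1 434 1) (vqc0 (vqc1 271 1) (vqc0 (vqc1 435 1) vqy254))))))))))))) vqc2)))

theorem cA11 : A11.chk 11 g11 = true := Dt.chk_of_q (by decide +kernel)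

end Cfsg.Agent.E8A.Two.Mk
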