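import Cfsg.Agent.E8A.Two.I7_m3
import Cfsg.Agent.Prune
set_option linter.all false
prune_inst 0x7f00000000000000000000000000000000000000000000000000000000000000000000000000000000000000000000000000000000000000000000000000000000000000000000000000000000000000003fffffffffffffffffffffffffffbeffbdffffffff

/-!
# The certificate in `A₆ × 5`: `f(5 × 5) ≤ f(3² · 5)` (helper44, generated by notes/E8A/two)
-/

set_option autoImplicit false
set_option maxRecDepth 100000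

namespace Cfsg.Agent.E8A.Two.Mk

open Cfsg.Agent.R2.T1.Odd Cfsg.Agent.R2.T1.Msk

/-- generators -/
def g6 : List SW := [[(0, 1), (1, 2), (2, 3), (3, 4)], [(0, 1), (1, 2), (3, 4), (4, 5)], [(6, 7), (7, 8), (8, 9), (9, 10)]]

/-- cosets -/
def A6 : Dt where
  gT := [[(0, 1), (1, 2), (2, 3), (3, 4)], [(6, 7), (7, 8), (8, 9), (9, 10)]]
  zw := [[], [0], [1], [0, 0], [0, 1], [1, 1], [0, 0, 0], [0, 0, 1], [0, 1, 1], [1, 1, 1], [0, 0, 0, 0], [0, 0, 0, 1], [0, 0, 1, 1], [0, 1, 1, 1], [1, 1, 1, 1], [0, 0, 0, 0, 1], [0, 0, 0, 1, 1], [0, 0, 1, 1, 1], [0, 1, 1, 1, 1], [0, 0, 0, 0, 1, 1], [0, 0, 0, 1, 1, 1], [0, 0, 1, 1, 1, 1], [0, 0, 0, 0, 1, 1, 1], [0, 0, 0, 1, 1, 1, 1], [0, 0, 0, 0, 1, 1, 1, 1]]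
  reps := [
    [], [(0, 5), (5, 3)],
    [(1, 5), (5, 4)], [(2, 5), (5, 4)],
    [(0, 2), (2, 5)], [(0, 3), (3, 5)],
    [(1, 4), (4, 3)], [(1, 3), (3, 5)],
    [(1, 4), (4, 5)], [(1, 3), (3, 4)],
    [(0, 5), (5, 1)], [(1, 3), (3, 4), (4, 2), (2, 5)],
    [(1, 2), (2, 4), (4, 5), (5, 3)], [(2, 4), (4, 5)],
    [(0, 5), (5, 2)], [(1, 2), (3, 4)],
    [(1, 5), (5, 2)], [(1, 3), (3, 4), (4, 5), (5, 2)],
    [(1, 2), (2, 5), (5, 4), (4, 3)], [(1, 3), (2, 5)],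
    [(0, 3), (2, 5)], [(1, 5), (5, 3)],
    [(1, 4), (2, 5)], [(1, 4), (4, 2)],
    [(2, 5), (5, 3)], [(1, 5), (5, 3), (3, 4), (4, 2)],
    [(0, 1), (1, 3), (3, 2), (2, 5)], [(2, 4), (3, 5)],
    [(1, 4), (3, 5)], [(0, 2), (3, 5)],
    [(0, 5), (1, 3)], [(0, 1), (3, 5)],
    [(0, 5), (2, 3)], [(0, 1), (1, 4), (4, 3), (3, 5)],
    [(0, 5), (2, 4)], [(0, 5), (1, 4)],
    [(1, 2), (2, 4)], [(3, 5), (5, 4)],
    [(1, 3), (3, 5), (5, 4), (4, 2)], [(1, 2), (2, 4), (4, 3), (3, 5)],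
    [(0, 3), (4, 5)], [(0, 2), (4, 5)],
    [(1, 3), (4, 5)], [(1, 5), (2, 4)],
    [(1, 2), (4, 5)], [(1, 5), (3, 4)],
    [(0, 3), (1, 5)], [(0, 2), (1, 5)],
    [(0, 5), (5, 4)], [(2, 3), (4, 5)],
    [(1, 2), (2, 5)], [(1, 5), (2, 3)],
    [(0, 4), (4, 5)], [(1, 5), (5, 2), (2, 4), (4, 3)],
    [(0, 4), (2, 5)], [(0, 1), (1, 5)],
    [(0, 5), (3, 4)], [(2, 3), (3, 5)],
    [(2, 5), (3, 4)], [(1, 3), (2, 4)],
    [(2, 4), (4, 3)], [(0, 1), (2, 5)],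
    [(2, 3), (3, 4)], [(1, 2), (2, 3)],
    [(1, 3), (3, 2)], [(0, 4), (1, 5)],
    [(3, 4), (4, 5)], [(0, 4), (3, 5)],
    [(1, 2), (3, 5)], [(0, 5), (1, 2)],
    [(0, 1), (4, 5)], [(1, 4), (2, 3)]]
  tab := [
    [(0, 1), (2, 1), (4, 1), (5, 1), (7, 1), (8, 1), (9, 10), (13, 1), (14, 1), (15, 3), (16, 1), (17, 3),
     (18, 6), (1, 1), (21, 1), (23, 3), (24, 1), (25, 3), (26, 0), (27, 1), (28, 1), (3, 1), (29, 1), (36, 10),
     (37, 1), (38, 3), (39, 1), (40, 1), (41, 1), (42, 1), (43, 1), (44, 1), (45, 1), (11, 10), (46, 1), (47, 1),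
     (6, 6), (52, 1), (33, 0), (53, 6), (35, 1), (30, 1), (34, 1), (20, 1), (32, 1), (54, 1), (22, 1), (19, 1),
     (55, 1), (56, 1), (57, 1), (58, 1), (10, 1), (12, 6), (31, 1), (50, 1), (65, 1), (66, 1), (67, 1), (63, 6),
     (59, 6), (68, 1), (64, 3), (62, 1), (60, 1), (61, 1), (48, 1), (70, 1), (49, 1), (51, 1), (69, 1), (71, 10)],
    [(1, 1), (3, 6), (6, 6), (0, 1), (10, 1), (11, 6), (12, 6), (19, 6), (20, 1), (21, 6), (22, 6), (13, 1),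
     (2, 10), (5, 1), (30, 1), (31, 0), (32, 1), (33, 0), (9, 10), (34, 1), (35, 1), (18, 6), (4, 1), (24, 1),
     (48, 1), (49, 1), (45, 3), (37, 1), (42, 6), (44, 0), (50, 6), (41, 0), (51, 3), (47, 0), (7, 1), (8, 6),
     (29, 1), (59, 6), (60, 1), (61, 0), (62, 6), (15, 0), (63, 6), (57, 1), (36, 10), (53, 6), (58, 6), (17, 0),
     (23, 6), (64, 3), (14, 1), (16, 3), (46, 1), (26, 0), (55, 1), (65, 3), (43, 6), (56, 1), (52, 1), (27, 1),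
     (67, 1), (69, 1), (66, 1), (28, 10), (25, 3), (54, 3), (40, 1), (38, 6), (70, 0), (39, 10), (71, 6), (68, 3)],
    [(0, 2), (1, 2), (2, 2), (3, 2), (4, 2), (5, 2), (6, 2), (7, 2), (8, 2), (9, 2), (10, 2), (11, 2),
     (12, 2), (13, 2), (14, 2), (15, 2), (16, 2), (17, 2), (18, 2), (19, 2), (20, 2), (21, 2), (22, 2), (23, 2),
     (24, 2), (25, 2), (26, 2), (27, 2), (28, 2), (29, 2), (30, 2), (31, 2), (32, 2), (33, 2), (34, 2), (35, 2),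
     (36, 2), (37, 2), (38, 2), (39, 2), (40, 2), (41, 2), (42, 2), (43, 2), (44, 2), (45, 2), (46, 2), (47, 2),
     (48, 2), (49, 2), (50, 2), (51, 2), (52, 2), (53, 2), (54, 2), (55, 2), (56, 2), (57, 2), (58, 2), (59, 2),
     (60, 2), (61, 2), (62, 2), (63, 2), (64, 2), (65, 2), (66, 2), (67, 2), (68, 2), (69, 2), (70, 2), (71, 2)]]

/-- a mask -/
def mA6 : ℕ := 2359808

/-- a sum of words -/
def tA6 : Tr :=
  (.ap 0 (.ap 0 (.ap 0 (.ap 0 (.ap 1 (.ap 0 (.one .nil) .nil) .nil) (.ap 1 (.ap 0 (.one .nil) .nil) .nil)) (.ap 1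
    (.ap 0 (.one .nil) .nil) .nil)) (.ap 1 (.ap 0 (.one .nil) .nil) .nil)) (.ap 1 (.ap 0 (.one .nil) .nil) .nil))

theorem cA6 : A6.chk 11 g6 = true := Dt.chk_of_q (by decide +kernel)

theorem cC6 : okC 11 g6 A6.tab [g6.getD 1 [], g6.getD 2 []] [[1], [2]] mA6 = true := by decide +kernel

theorem h16 : tA6.ev A6.tab mA6 = 1 := by decide +kernel

end Cfsg.Agent.E8A.Two.Mk
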